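import Mathlib
import Groth.Agent.Lib.Helper6.RigidSec

set_option autoImplicit false

universe u

noncomputable section

open TensorProduct

namespace Groth.Agent.H6.RigidTheta

open Groth.Agent.H6.RigidSec

variable {k A B B₀ : Type u} [CommRing k] [CommRing A] [CommRing B] [CommRing B₀]
  [Algebra k A] [Algebra A B] [Algebra k B] [IsScalarTower k A B] [Algebra k B₀]

variable (k B) in
/-- the map `A/t^(n+1) → B/t^(n+1)` -/
def fΛ (t : A) (n : ℕ) :
    (A ⧸ Ideal.span {t ^ (n + 1)}) →ₐ[k] (B ⧸ Ideal.span {(algebraMap A B t) ^ (n + 1)}) :=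
  Ideal.quotientMapₐ _ (IsScalarTower.toAlgHom k A B) (by
    rw [Ideal.span_le, Set.singleton_subset_iff, SetLike.mem_coe, Ideal.mem_comap]
    show (algebraMap A B) (t ^ (n + 1)) ∈ Ideal.span {(algebraMap A B t) ^ (n + 1)}
    rw [map_pow]
    exact Ideal.mem_span_singleton_self _)

lemma fΛ_mk (t : A) (n : ℕ) (a : A) :
    fΛ k B t n (Ideal.Quotient.mk _ a) = Ideal.Quotient.mk _ (algebraMap A B a) := rfl

variable (t : A) (n : ℕ)
  (σ : B₀ →ₐ[k] B ⧸ Ideal.span {(algebraMap A B t) ^ (n + 1)})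

/-- the comparison map `A/t^(n+1) ⊗ B₀ → B/t^(n+1)` -/
def θ : ((A ⧸ Ideal.span {t ^ (n + 1)}) ⊗[k] B₀) →ₐ[k] (B ⧸ Ideal.span {(algebraMap A B t) ^ (n + 1)}) :=
  Algebra.TensorProduct.productMap (fΛ k B t n) σ

lemma θ_tmul (a : A ⧸ Ideal.span {t ^ (n + 1)}) (b : B₀) :
    θ t n σ (a ⊗ₜ b) = fΛ k B t n a * σ b := by
  rw [θ, Algebra.TensorProduct.productMap_apply_tmul]

variable {t n σ}
variable {e : (B ⧸ Ideal.span {algebraMap A B t}) ≃ₐ[k] B₀}

theorem θ_surjective (hσ : Compat (algebraMap A B t) e n σ) : Function.Surjective (θ t n σ) := by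
  have key : ∀ j : ℕ, ∀ q : B ⧸ Ideal.span {(algebraMap A B t) ^ (n + 1)},
      ∃ p q', q = θ t n σ p + Ideal.Quotient.mk _ ((algebraMap A B t) ^ j) * q' := by
    intro j
    induction j with
    | zero => exact fun q => ⟨0, q, by rw [map_zero, zero_add, pow_zero, map_one, one_mul]⟩
    | succ j ih =>
      intro q
      obtain ⟨p, q', hq⟩ := ih q
      obtain ⟨b', rfl⟩ := Ideal.Quotient.mk_surjective q'
      obtain ⟨c, hc⟩ := hσ b'
      refine ⟨p + (Ideal.Quotient.mk _ (t ^ j)) ⊗ₜ e (Ideal.Quotient.mk _ b'), - Ideal.Quotient.mk _ c, ?_⟩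
      have h1 : fΛ k B t n (Ideal.Quotient.mk _ (t ^ j)) =
          Ideal.Quotient.mk _ ((algebraMap A B t) ^ j) := by rw [fΛ_mk, map_pow]
      have h2 : (Ideal.Quotient.mk (Ideal.span {(algebraMap A B t) ^ (n + 1)}) ((algebraMap A B t) ^ j) *
            Ideal.Quotient.mk _ b') =
          Ideal.Quotient.mk _ ((algebraMap A B t) ^ j) * Ideal.Quotient.mk _ (b' + algebraMap A B t * c) +
            Ideal.Quotient.mk _ ((algebraMap A B t) ^ (j + 1)) * (- Ideal.Quotient.mk _ c) := by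
        rw [← map_neg, ← map_mul, ← map_mul, ← map_mul, ← map_add]
        congr 1
        ring
      rw [hq, map_add, θ_tmul, hc, h1, h2, add_assoc]
  intro q
  obtain ⟨p, q', hq⟩ := key (n + 1) q
  refine ⟨p, ?_⟩
  rw [hq]
  have : (Ideal.Quotient.mk (Ideal.span {(algebraMap A B t) ^ (n + 1)})) ((algebraMap A B t) ^ (n + 1)) = 0 := by
    rw [Ideal.Quotient.eq_zero_iff_mem]
    exact Ideal.mem_span_singleton_self _
  rw [this, zero_mul, add_zero]

variable (k B₀ t n) in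
/-- the element `t ⊗ 1` -/
def tbar : (A ⧸ Ideal.span {t ^ (n + 1)}) ⊗[k] B₀ := (Ideal.Quotient.mk _ t) ⊗ₜ 1

lemma θ_tbar : θ t n σ (tbar k B₀ t n) = Ideal.Quotient.mk _ (algebraMap A B t) := by
  rw [tbar, θ_tmul, map_one, mul_one, fΛ_mk]

lemma tbar_pow (j : ℕ) : (tbar k B₀ t n) ^ j = (Ideal.Quotient.mk _ (t ^ j)) ⊗ₜ 1 := by
  rw [tbar, Algebra.TensorProduct.tmul_pow, one_pow, map_pow]

lemma tbar_pow_eq_zero : (tbar k B₀ t n) ^ (n + 1) = 0 := by
  rw [tbar_pow]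
  have : (Ideal.Quotient.mk (Ideal.span {t ^ (n + 1)})) (t ^ (n + 1)) = 0 := by
    rw [Ideal.Quotient.eq_zero_iff_mem]
    exact Ideal.mem_span_singleton_self _
  rw [this, TensorProduct.zero_tmul]

/-- decomposition `p = 1 ⊗ b + t p'` -/
theorem exists_decomp (hk : ∀ a : A, ∃ (c : k) (a' : A), a = algebraMap k A c + t * a')
    (p : (A ⧸ Ideal.span {t ^ (n + 1)}) ⊗[k] B₀) :
    ∃ (b : B₀) (p' : (A ⧸ Ideal.span {t ^ (n + 1)}) ⊗[k] B₀), p = 1 ⊗ₜ b + tbar k B₀ t n * p' := by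
  induction p using TensorProduct.induction_on with
  | zero => exact ⟨0, 0, by rw [TensorProduct.tmul_zero, mul_zero, add_zero]⟩
  | tmul a b =>
    obtain ⟨a, rfl⟩ := Ideal.Quotient.mk_surjective a
    obtain ⟨c, a', rfl⟩ := hk a
    refine ⟨c • b, (Ideal.Quotient.mk _ a') ⊗ₜ b, ?_⟩
    rw [tbar, Algebra.TensorProduct.tmul_mul_tmul, one_mul, map_add, TensorProduct.add_tmul, map_mul,
      TensorProduct.tmul_smul]
    congr 1
    rw [TensorProduct.smul_tmul', Algebra.smul_def, mul_one]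
    rfl
  | add p₁ p₂ h₁ h₂ =>
    obtain ⟨b₁, p₁', rfl⟩ := h₁
    obtain ⟨b₂, p₂', rfl⟩ := h₂
    refine ⟨b₁ + b₂, p₁' + p₂', ?_⟩
    rw [TensorProduct.tmul_add, mul_add]
    abel

theorem exists_of_θ_mem (hk : ∀ a : A, ∃ (c : k) (a' : A), a = algebraMap k A c + t * a')
    (hσ : Compat (algebraMap A B t) e n σ)
    (p : (A ⧸ Ideal.span {t ^ (n + 1)}) ⊗[k] B₀)
    (q : B ⧸ Ideal.span {(algebraMap A B t) ^ (n + 1)})
    (hp : θ t n σ p = Ideal.Quotient.mk _ (algebraMap A B t) * q) :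
    ∃ p', p = tbar k B₀ t n * p' := by
  obtain ⟨b₀, p', rfl⟩ := exists_decomp hk p
  refine ⟨p', ?_⟩
  suffices h : b₀ = 0 by rw [h, TensorProduct.tmul_zero, zero_add]
  rw [map_add, map_mul, θ_tbar, θ_tmul, map_one, one_mul] at hp
  obtain ⟨b, rfl⟩ := exists_rep (e := e) b₀
  obtain ⟨c, hc⟩ := hσ b
  obtain ⟨d, hd⟩ := Ideal.Quotient.mk_surjective (q - θ t n σ p')
  have h1 : (Ideal.Quotient.mk (Ideal.span {(algebraMap A B t) ^ (n + 1)})) (b + algebraMap A B t * c) =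
      Ideal.Quotient.mk _ (algebraMap A B t * d) := by
    rw [← hc, map_mul, hd, mul_sub, ← hp]
    ring
  rw [Ideal.Quotient.eq, Ideal.mem_span_singleton'] at h1
  obtain ⟨d', hd'⟩ := h1
  have h2 : (Ideal.Quotient.mk (Ideal.span {algebraMap A B t})) b = 0 := by
    rw [Ideal.Quotient.eq_zero_iff_mem, Ideal.mem_span_singleton']
    refine ⟨d' * (algebraMap A B t) ^ n + d - c, ?_⟩
    have : b = d' * (algebraMap A B t) ^ (n + 1) + algebraMap A B t * d - algebraMap A B t * c := by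
      rw [hd']; ring
    rw [this]
    ring
  rw [h2, map_zero]

theorem mem_of_pow_mul_mem (hreg : ∀ b : B, algebraMap A B t * b = 0 → b = 0) (j : ℕ) (hj : j ≤ n)
    (x y : B ⧸ Ideal.span {(algebraMap A B t) ^ (n + 1)})
    (h : Ideal.Quotient.mk _ ((algebraMap A B t) ^ j) * x =
      Ideal.Quotient.mk _ ((algebraMap A B t) ^ (j + 1)) * y) :
    ∃ z, x = Ideal.Quotient.mk _ (algebraMap A B t) * z := by
  obtain ⟨x, rfl⟩ := Ideal.Quotient.mk_surjective x
  obtain ⟨y, rfl⟩ := Ideal.Quotient.mk_surjective y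
  rw [← map_mul, ← map_mul, Ideal.Quotient.eq, Ideal.mem_span_singleton'] at h
  obtain ⟨z, hz⟩ := h
  obtain ⟨m, rfl⟩ := Nat.exists_eq_add_of_le hj
  have h1 : (algebraMap A B t) ^ j * (x - algebraMap A B t * (y + z * (algebraMap A B t) ^ m)) = 0 := by
    have : (algebraMap A B t) ^ j * x =
        z * (algebraMap A B t) ^ (j + m + 1) + (algebraMap A B t) ^ (j + 1) * y := by
      rw [hz]; ring
    rw [mul_sub, this]
    ring
  have h2 := sub_eq_zero.mp (pow_regular hreg _ _ h1)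
  refine ⟨Ideal.Quotient.mk _ (y + z * (algebraMap A B t) ^ m), ?_⟩
  rw [← map_mul, ← h2]

theorem θ_injective (hk : ∀ a : A, ∃ (c : k) (a' : A), a = algebraMap k A c + t * a')
    (hreg : ∀ b : B, algebraMap A B t * b = 0 → b = 0)
    (hσ : Compat (algebraMap A B t) e n σ) : Function.Injective (θ t n σ) := by
  rw [injective_iff_map_eq_zero]
  intro p hp
  have key : ∀ j : ℕ, j ≤ n + 1 → ∃ p', p = (tbar k B₀ t n) ^ j * p' := by
    intro j
    induction j with
    | zero => exact fun _ => ⟨p, by rw [pow_zero, one_mul]⟩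
    | succ j ih =>
      intro hj
      obtain ⟨p', hp'⟩ := ih (by omega)
      have h0 : θ t n σ ((tbar k B₀ t n) ^ j) = Ideal.Quotient.mk _ ((algebraMap A B t) ^ j) := by
        rw [map_pow (θ t n σ), θ_tbar]
        exact (map_pow _ _ _).symm
      have h1 : Ideal.Quotient.mk _ ((algebraMap A B t) ^ j) * θ t n σ p' =
          Ideal.Quotient.mk _ ((algebraMap A B t) ^ (j + 1)) * 0 := by
        rw [mul_zero, ← hp, hp', map_mul, h0]
      obtain ⟨z, hz⟩ := mem_of_pow_mul_mem hreg j (by omega) _ _ h1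
      obtain ⟨p'', rfl⟩ := exists_of_θ_mem hk hσ p' z hz
      exact ⟨p'', by rw [hp', pow_succ (tbar k B₀ t n) j, mul_assoc]⟩
  obtain ⟨p', hp'⟩ := key (n + 1) le_rfl
  rw [hp', tbar_pow_eq_zero, zero_mul]

theorem θ_bijective (hk : ∀ a : A, ∃ (c : k) (a' : A), a = algebraMap k A c + t * a')
    (hreg : ∀ b : B, algebraMap A B t * b = 0 → b = 0)
    (hσ : Compat (algebraMap A B t) e n σ) : Function.Bijective (θ t n σ) :=
  ⟨θ_injective hk hreg hσ, θ_surjective hσ⟩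

end Groth.Agent.H6.RigidTheta
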