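import Mathlib
import Groth.Agent.Lib.Helper6.RigidInst2
import Groth.Agent.Lib.Helper6.RigidTheta
import Groth.Agent.Lib.Helper6.RigidFacts

set_option autoImplicit false

noncomputable section

open TensorProduct Algebra Algebra.Extension

universe u

namespace Groth.Agent.H6.RigidMain

open Groth.Agent.H6.RigidChase Groth.Agent.H6.RigidTheta Groth.Agent.H6.RigidSec

attribute [local instance] Algebra.TensorProduct.rightAlgebra

theorem main_aux {k : Type u} [Field k] (B₀ : Type u) [CommRing B₀] [Algebra k B₀]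
    (A B : Type u) [CommRing A] [CommRing B] [Algebra k A] [Algebra A B] [Algebra k B]
    [IsScalarTower k A B] (t : A)
    (hk : ∀ a : A, ∃ (c : k) (a' : A), a = algebraMap k A c + t * a')
    (hreg : ∀ b : B, algebraMap A B t * b = 0 → b = 0)
    (e : (B ⧸ Ideal.span {algebraMap A B t}) ≃ₐ[k] B₀)
    (hrigid : Subsingleton (CotT.T1 (CotT.canon k B₀) B₀))
    (n : ℕ) (ℓ : (A ⧸ Ideal.span {t ^ (n + 1)}) →ₗ[k] k) (hℓ : ℓ (algebraMap A _ (t ^ n)) = 1)
    (M₀ : Type u) [AddCommGroup M₀] [Module B₀ M₀] [Module.Finite B₀ M₀]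
    (φ₀ : (Generators.self k B₀).toExtension.Cotangent →ₗ[B₀] M₀)
    (H : ∀ (M : Type u) [AddCommGroup M] [Module B M] [Module.Finite B M]
      (φ : (Generators.self A B).toExtension.Cotangent →ₗ[B] M),
      ∃ ψ : (Generators.self A B).toExtension.CotangentSpace →ₗ[B] M,
        (algebraMap A B (t ^ n)) • φ = ψ ∘ₗ (Generators.self A B).toExtension.cotangentComplex) :
    ∃ ψ₀ : (Generators.self k B₀).toExtension.CotangentSpace →ₗ[B₀] M₀,
      φ₀ = ψ₀ ∘ₗ (Generators.self k B₀).toExtension.cotangentComplex := by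
  obtain ⟨σ, hσ⟩ := exists_section (e := e) hreg hrigid n
  have hbij := θ_bijective hk hreg hσ
  let Θ : ((A ⧸ Ideal.span {t ^ (n + 1)}) ⊗[k] B₀) ≃+* (B ⧸ Ideal.span {(algebraMap A B t) ^ (n + 1)}) :=
    RingEquiv.ofBijective (θ t n σ) hbij
  have hΘ : ∀ x, Θ x = θ t n σ x := fun x => rfl
  let ρ : B →+* ((A ⧸ Ideal.span {t ^ (n + 1)}) ⊗[k] B₀) :=
    Θ.symm.toRingHom.comp (Ideal.Quotient.mk _)
  have hρ : ∀ b : B, Θ (ρ b) = Ideal.Quotient.mk _ b := fun b => Θ.apply_symm_apply _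
  letI : Algebra B ((A ⧸ Ideal.span {t ^ (n + 1)}) ⊗[k] B₀) := ρ.toAlgebra
  have hρ' : ∀ b : B, algebraMap B ((A ⧸ Ideal.span {t ^ (n + 1)}) ⊗[k] B₀) b = ρ b := fun b => rfl
  haveI : IsScalarTower A B ((A ⧸ Ideal.span {t ^ (n + 1)}) ⊗[k] B₀) := by
    refine IsScalarTower.of_algebraMap_eq fun a => ?_
    rw [hρ']
    apply Θ.injective
    rw [hρ, Algebra.TensorProduct.algebraMap_apply]
    rw [hΘ, θ_tmul, map_one, mul_one]
    rfl
  refine chase_inst (Λ := A ⧸ Ideal.span {t ^ (n + 1)}) ?_ ?_ ?_ (t ^ n) ℓ hℓ M₀ φ₀ H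
  · intro y
    obtain ⟨b, hb⟩ := Ideal.Quotient.mk_surjective (Θ y)
    refine ⟨b, ?_⟩
    rw [hρ']
    apply Θ.injective
    rw [hρ, hb]
  · exact Ideal.Quotient.mk_surjective
  · intro b hb
    rw [hρ'] at hb
    have h1 : Ideal.Quotient.mk (Ideal.span {(algebraMap A B t) ^ (n + 1)}) b = 0 := by
      rw [← hρ, hb, map_zero]
    rw [Ideal.Quotient.eq_zero_iff_mem, Ideal.mem_span_singleton'] at h1
    obtain ⟨c, hc⟩ := h1
    refine ⟨t ^ (n + 1), c, ?_, ?_⟩
    · rw [Ideal.Quotient.algebraMap_eq, Ideal.Quotient.eq_zero_iff_mem]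
      exact Ideal.mem_span_singleton_self _
    · rw [← hc, map_pow, mul_comm]

end Groth.Agent.H6.RigidMain
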