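import Mathlib
import Groth.Prelude.Def_CotT
import Groth.Agent.Lib.Helper6.RigidMain
import Groth.Agent.Lib.Helper6.CotTFam3

set_option autoImplicit false

noncomputable section

open TensorProduct Algebra Algebra.Extension

universe u

namespace Groth.Agent.H6.RigidMain

open Groth.Agent.H6.CotTHom

theorem main {k : Type u} [Field k] [IsAlgClosed k] (B₀ : Type u) [CommRing B₀] [Algebra k B₀]
    [Algebra.FiniteType k B₀]
    (hsing : ¬ Algebra.Smooth k B₀) (hrigid : Subsingleton (CotT.T1 (CotT.canon k B₀) B₀))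
    (A B : Type u) [CommRing A] [CommRing B] [IsDomain A] [Algebra k A] [Algebra.FiniteType k A]
    (hdim : ringKrullDim A = 1) (t : A) (ht : (Ideal.span {t}).IsMaximal)
    [Algebra A B] [Algebra.FiniteType A B] [Module.Flat A B] [Algebra k B] [IsScalarTower k A B]
    (e : (B ⧸ Ideal.span {algebraMap A B t}) ≃ₐ[k] B₀) :
    ∃ q : PrimeSpectrum B, algebraMap A B t ∉ q.asIdeal ∧ q ∉ Algebra.smoothLocus A B := by
  by_contra hcon
  push Not at hcon
  haveI : IsNoetherianRing A := Algebra.FiniteType.isNoetherianRing k A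
  haveI : IsNoetherianRing B := Algebra.FiniteType.isNoetherianRing A B
  haveI : Algebra.FinitePresentation A B := Algebra.FinitePresentation.of_finiteType.mp inferInstance
  haveI : IsNoetherianRing B₀ := Algebra.FiniteType.isNoetherianRing k B₀
  haveI : Algebra.FinitePresentation k B₀ := Algebra.FinitePresentation.of_finiteType.mp inferInstance
  -- the uniform exponent
  obtain ⟨n, hn⟩ := (CotTFam.main A B (algebraMap A B t)).mp (fun q hq => hcon q hq)
  -- a module with nonvanishing `T¹`
  have h1 : ¬ ∃ n₀ : ℕ, ∀ (M : Type u) [AddCommGroup M] [Module B₀ M] [Module.Finite B₀ M],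
      ∀ x : CotT.T1 (CotT.canon k B₀) M, (1 : B₀) ^ n₀ • x = 0 := by
    intro h
    have h2 := (CotTFam.main k B₀ (1 : B₀)).mpr h
    apply hsing
    have h3 : Algebra.smoothLocus k B₀ = Set.univ := by
      rw [Set.eq_univ_iff_forall]
      intro q
      apply h2
      rw [PrimeSpectrum.basicOpen_one]
      trivial
    exact ⟨Algebra.smoothLocus_eq_univ_iff.mp h3, inferInstance⟩
  push Not at h1
  obtain ⟨M₀, _, _, _, x₀, hx₀⟩ := h1 0
  rw [pow_zero, one_smul] at hx₀
  -- facts on `t`
  have htu : ¬ IsUnit t := by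
    intro h
    exact ht.ne_top (Ideal.span_singleton_eq_top.mpr h)
  have ht0 : t ≠ 0 := by
    rintro rfl
    have h2 : (⊥ : Ideal A).IsMaximal := by
      have : Ideal.span {(0 : A)} = ⊥ := by simp
      rwa [this] at ht
    have h3 := ringKrullDim_eq_zero_of_isField (Ring.isField_iff_maximal_bot.mpr h2)
    rw [hdim] at h3
    exact one_ne_zero h3
  have hreg : ∀ b : B, algebraMap A B t * b = 0 → b = 0 := by
    intro b hb
    have h2 : IsSMulRegular B t :=
      Module.Flat.isSMulRegular_of_nonZeroDivisors (mem_nonZeroDivisors_of_ne_zero ht0)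
    apply h2
    show t • b = t • (0 : B)
    rw [smul_zero, Algebra.smul_def]
    exact hb
  obtain ⟨ℓ, hℓ⟩ := RigidFacts.exists_functional (k := k) t ht0 htu n
  -- the cocycle
  let E₀ := (CotT.canon k B₀).toExtension
  let e₀ := T1equivT1E (CotT.canon k B₀) M₀
  obtain ⟨φ₀, hφ₀⟩ := Submodule.Quotient.mk_surjective _ (e₀ x₀)
  have key := main_aux B₀ A B t (RigidFacts.exists_decomp t ht) hreg e hrigid n ℓ hℓ M₀ φ₀ ?_
  · obtain ⟨ψ₀, hψ₀⟩ := key
    apply hx₀
    apply e₀.injective
    rw [map_zero, ← hφ₀, Submodule.Quotient.mk_eq_zero]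
    exact ⟨ψ₀, hψ₀.symm⟩
  · intro M _ _ _ φ
    let eM := T1equivT1E (CotT.canon A B) M
    have h2 := hn M (eM.symm (Submodule.Quotient.mk φ))
    rw [← map_smul, LinearEquiv.map_eq_zero_iff, ← Submodule.Quotient.mk_smul,
      Submodule.Quotient.mk_eq_zero] at h2
    obtain ⟨ψ, hψ⟩ := h2
    refine ⟨ψ, ?_⟩
    rw [map_pow]
    exact hψ.symm

end Groth.Agent.H6.RigidMain
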