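import Mathlib.Algebra.Group.Hom.Defs
import Mathlib.Algebra.Group.Pi.Basic
import Mathlib.Algebra.Group.Subgroup.Basic
import Mathlib.Tactic.Abel

/-! # Lifting compatible families of cocycles in towers of abelian groups -/

set_option autoImplicit false

namespace Groth.Agent.H6.Rl

universe u

section T2

variable {P Q S : ℕ → Type u} [∀ n, AddCommGroup (P n)] [∀ n, AddCommGroup (Q n)]
  [∀ n, AddCommGroup (S n)]
  (d₁ : ∀ n, P n →+ Q n) (d₂ : ∀ n, Q n →+ S n)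
  (tP : ∀ n, P (n + 1) →+ P n) (tQ : ∀ n, Q (n + 1) →+ Q n) (tS : ∀ n, S (n + 1) →+ S n)
  (c₁ : ∀ n x, d₁ n (tP n x) = tQ n (d₁ (n + 1) x))
  (c₂ : ∀ n x, d₂ n (tQ n x) = tS n (d₂ (n + 1) x))
  (dd : ∀ n x, d₂ n (d₁ n x) = 0)

include c₁ c₂ dd in
/-- towers with surjective transitions two steps below and exactness one step below -/
theorem exists_compatible_lift_two (β : ∀ n, S n) (hβ : ∀ n, tS n (β (n + 1)) = β n)
    (h1 : ∀ n, ∃ y : Q n, d₂ n y = β n)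
    (h2 : ∀ n (γ : Q n), d₂ n γ = 0 → ∃ w : P n, d₁ n w = γ)
    (h3 : ∀ n, Function.Surjective (tP n)) :
    ∃ α : ∀ n, Q n, (∀ n, d₂ n (α n) = β n) ∧ ∀ n, tQ n (α (n + 1)) = α n := by
  have step : ∀ n (a : {a : Q n // d₂ n a = β n}),
      ∃ a' : {a' : Q (n + 1) // d₂ (n + 1) a' = β (n + 1)}, tQ n a'.1 = a.1 := by
    rintro n ⟨a, ha⟩
    obtain ⟨y', hy'⟩ := h1 (n + 1)
    have hγ : d₂ n (tQ n y' - a) = 0 := by
      rw [map_sub, c₂, hy', hβ, ha, sub_self]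
    obtain ⟨w, hw⟩ := h2 n _ hγ
    obtain ⟨w', hw'⟩ := h3 n w
    refine ⟨⟨y' - d₁ (n + 1) w', ?_⟩, ?_⟩
    · rw [map_sub, dd, sub_zero, hy']
    · change tQ n (y' - d₁ (n + 1) w') = a
      rw [map_sub, ← c₁, hw', hw, sub_sub_cancel]
  choose next hnext using step
  obtain ⟨a0, ha0⟩ := h1 0
  let u : ∀ n, {a : Q n // d₂ n a = β n} := fun n =>
    Nat.rec (motive := fun n => {a : Q n // d₂ n a = β n}) ⟨a0, ha0⟩ (fun n z => next n z) n
  exact ⟨fun n => (u n).1, fun n => (u n).2, fun n => hnext n (u n)⟩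

end T2

section T1

variable {K Q S : ℕ → Type u} [∀ n, AddCommGroup (K n)] [∀ n, AddCommGroup (Q n)]
  [∀ n, AddCommGroup (S n)]
  (ε : ∀ n, K n →+ Q n) (d₂ : ∀ n, Q n →+ S n)
  (tK : ∀ n, K (n + 1) →+ K n) (tQ : ∀ n, Q (n + 1) →+ Q n) (tS : ∀ n, S (n + 1) →+ S n)
  (c₁ : ∀ n x, ε n (tK n x) = tQ n (ε (n + 1) x))
  (c₂ : ∀ n x, d₂ n (tQ n x) = tS n (d₂ (n + 1) x))
  (dd : ∀ n x, d₂ n (ε n x) = 0)

include c₁ c₂ dd in
/-- towers whose kernel tower has vanishing `lim¹` -/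
theorem exists_compatible_lift_one (β : ∀ n, S n) (hβ : ∀ n, tS n (β (n + 1)) = β n)
    (h1 : ∀ n, ∃ y : Q n, d₂ n y = β n)
    (h2 : ∀ n (γ : Q n), d₂ n γ = 0 → ∃ k : K n, ε n k = γ)
    (h3 : Function.Surjective (fun (b : ∀ n, K n) (n : ℕ) => b n - tK n (b (n + 1)))) :
    ∃ α : ∀ n, Q n, (∀ n, d₂ n (α n) = β n) ∧ ∀ n, tQ n (α (n + 1)) = α n := by
  choose y hy using h1
  have hκ : ∀ n, ∃ k : K n, ε n k = y n - tQ n (y (n + 1)) := by
    intro n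
    apply h2
    rw [map_sub, c₂, hy, hy, hβ, sub_self]
  choose κ hκ using hκ
  obtain ⟨b, hb⟩ := h3 κ
  have hb' : ∀ n, b n - tK n (b (n + 1)) = κ n := fun n => congrFun hb n
  refine ⟨fun n => y n - ε n (b n), fun n => ?_, fun n => ?_⟩
  · rw [map_sub, dd, sub_zero, hy]
  · change tQ n (y (n + 1) - ε (n + 1) (b (n + 1))) = y n - ε n (b n)
    rw [map_sub, ← c₁]
    have e1 : ε n (b n) - ε n (tK n (b (n + 1))) = y n - tQ n (y (n + 1)) := by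
      rw [← map_sub, hb', hκ]
    have e2 : tQ n (y (n + 1)) - ε n (tK n (b (n + 1))) -
        (y n - ε n (b n)) = (ε n (b n) - ε n (tK n (b (n + 1)))) - (y n - tQ n (y (n + 1))) := by
      abel
    rw [← sub_eq_zero, e2, e1, sub_self]

end T1

end Groth.Agent.H6.Rl
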