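import Groth.Agent.Lib.Helper6.CL2

/-! # Resolutions by acyclic objects: exactness of `Hom(A, -)` by dimension shifting -/

set_option autoImplicit false

open CategoryTheory CategoryTheory.Limits Abelian

namespace Groth.Agent.H6.Rl

open Groth.Agent.H6.CL

universe w v u

variable {𝒜 : Type u} [Category.{v} 𝒜] [Abelian 𝒜] [HasExt.{w} 𝒜] (A : 𝒜)
  (X : ℕ → 𝒜) (d : ∀ k, X k ⟶ X (k + 1)) (hd : ∀ k, d k ≫ d (k + 1) = 0)
  (hex : ∀ k, (ShortComplex.mk (d k) (d (k + 1)) (hd k)).Exact)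

/-- the short complex `Z k ⟶ X k ⟶ Z (k+1)` of cycles -/
noncomputable abbrev cycSC (k : ℕ) : ShortComplex 𝒜 :=
  ShortComplex.mk (kernel.ι (d k)) (kernel.lift (d (k + 1)) (d k) (hd k)) (by
    rw [← cancel_mono (kernel.ι (d (k + 1))), Category.assoc, kernel.lift_ι, kernel.condition,
      zero_comp])

include hex in
lemma cycSC_shortExact (k : ℕ) : (cycSC X d hd k).ShortExact := by
  haveI : Epi (cycSC X d hd k).g := by
    have h := (ShortComplex.exact_iff_epi_kernel_lift _).mp (hex k)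
    exact h
  refine ShortComplex.ShortExact.mk' ?_ inferInstance inferInstance
  apply ShortComplex.exact_of_f_is_kernel
  refine KernelFork.IsLimit.ofι _ _ (fun {T} a ha => kernel.lift (d k) a ?_) ?_ ?_
  · have h1 := congrArg (fun m => m ≫ kernel.ι (d (k + 1))) ha
    simp only [Category.assoc, kernel.lift_ι, zero_comp] at h1
    exact h1
  · intro T a ha
    exact kernel.lift_ι _ _ _
  · intro T a ha m hm
    rw [← cancel_mono (kernel.ι (d k)), kernel.lift_ι]
    exact hm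

variable {M : 𝒜} (ε : M ⟶ X 0) [Mono ε] (hε : ε ≫ d 0 = 0)
  (hex0 : (ShortComplex.mk ε (d 0) hε).Exact)
  (hX : ∀ k p, Subsingleton (Ext A (X k) (p + 1)))
  (hM : ∀ p, Subsingleton (Ext A M (p + 1)))

include hex0 in
lemma exists_lift_zero (γ : A ⟶ X 0) (hγ : γ ≫ d 0 = 0) : ∃ κ : A ⟶ M, κ ≫ ε = γ :=
  ⟨hex0.lift γ hγ, hex0.lift_f γ hγ⟩

include hex hex0 hX hM in
lemma subsingleton_ext_cycles (k : ℕ) : ∀ p, Subsingleton (Ext A (kernel (d k)) (p + 1)) := by
  induction k with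
  | zero =>
    intro p
    let e : M ≅ kernel (d 0) :=
      IsLimit.conePointUniqueUpToIso hex0.fIsKernel (limit.isLimit (parallelPair (d 0) 0))
    haveI := hM p
    refine subsingleton_of_forall_eq 0 (fun x => ?_)
    have h1 : (x.comp (Ext.mk₀ e.inv) (add_zero (p + 1))).comp (Ext.mk₀ e.hom)
        (add_zero (p + 1)) = x := by
      rw [Ext.comp_assoc_of_third_deg_zero, Ext.mk₀_comp_mk₀, e.inv_hom_id, Ext.comp_mk₀_id]
    rw [← h1, Subsingleton.elim (x.comp (Ext.mk₀ e.inv) (add_zero (p + 1))) 0, Ext.zero_comp]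
  | succ k ih =>
    intro p
    haveI := ih (p + 1)
    refine subsingleton_of_forall_eq 0 (fun x => ?_)
    exact δ_injective_of_subsingleton A (cycSC_shortExact X d hd hex k) (hX k p) x
      (Subsingleton.elim _ _)

include hex hex0 hX hM in
/-- exactness of `Hom(A, -)` on the resolution in positive degrees -/
theorem exists_lift_succ (k : ℕ) (β : A ⟶ X (k + 1)) (hβ : β ≫ d (k + 1) = 0) :
    ∃ α : A ⟶ X k, α ≫ d k = β := by
  haveI := subsingleton_ext_cycles A X d hd hex ε hε hex0 hX hM k 0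
  obtain ⟨y, hy⟩ := Ext.covariant_sequence_exact₃ A (cycSC_shortExact X d hd hex k)
    (Ext.mk₀ (kernel.lift (d (k + 1)) β hβ)) (rfl : 0 + 1 = 1) (Subsingleton.elim _ _)
  obtain ⟨α, rfl⟩ := (Ext.mk₀_bijective _ _).2 y
  rw [Ext.mk₀_comp_mk₀] at hy
  have h1 : α ≫ kernel.lift (d (k + 1)) (d k) (hd k) = kernel.lift (d (k + 1)) β hβ :=
    (Ext.mk₀_bijective _ _).1 hy
  refine ⟨α, ?_⟩
  have h2 := congrArg (fun m => m ≫ kernel.ι (d (k + 1))) h1
  simp only [Category.assoc, kernel.lift_ι] at h2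
  exact h2

end Groth.Agent.H6.Rl
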