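import Mathlib.CategoryTheory.Adjunction.Evaluation
import Mathlib.CategoryTheory.Preadditive.Injective.Preserves
import Mathlib.CategoryTheory.Abelian.Basic
import Mathlib.CategoryTheory.Limits.FunctorCategory.EpiMono

/-! # Injective objects of a functor category on a thin category -/

set_option autoImplicit false

open CategoryTheory CategoryTheory.Limits

namespace Groth.Agent.H6.Rl

universe v₁ u₁ v₂ u₂

variable {C : Type u₁} [Category.{v₁} C]
  {D : Type u₂} [Category.{v₂} D] [Abelian D] [∀ a b : C, HasCoproductsOfShape (a ⟶ b) D]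

section Api

variable (c : C) (A : D)

/-- the values of the left adjoint of evaluation -/
noncomputable abbrev LA (t : C) : D := ((evaluationLeftAdjoint D c).obj A).obj t

/-- the coprojections -/
noncomputable def inj {t : C} (h : c ⟶ t) : A ⟶ LA c A t := Sigma.ι (fun _ : c ⟶ t => A) h

variable {c A}

lemma inj_map {t t' : C} (h : c ⟶ t) (f : t ⟶ t') :
    inj c A h ≫ ((evaluationLeftAdjoint D c).obj A).map f = inj c A (h ≫ f) := by
  change Sigma.ι (fun _ : c ⟶ t => A) h ≫ Sigma.desc _ = _
  rw [Sigma.ι_desc]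
  rfl

lemma inj_mapA {A' : D} (f : A ⟶ A') {t : C} (h : c ⟶ t) :
    inj c A h ≫ ((evaluationLeftAdjoint D c).map f).app t = f ≫ inj c A' h := by
  change Sigma.ι (fun _ : c ⟶ t => A) h ≫ Sigma.desc _ = _
  rw [Sigma.ι_desc]
  rfl

lemma LA_hom_ext {t : C} {T : D} (g₁ g₂ : LA c A t ⟶ T)
    (h : ∀ k : c ⟶ t, inj c A k ≫ g₁ = inj c A k ≫ g₂) : g₁ = g₂ :=
  Sigma.hom_ext _ _ h

/-- the map out of `LA` determined by its components -/
noncomputable def LAdesc {t : C} {T : D} (g : (c ⟶ t) → (A ⟶ T)) : LA c A t ⟶ T := Sigma.desc g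

lemma inj_LAdesc {t : C} {T : D} (g : (c ⟶ t) → (A ⟶ T)) (k : c ⟶ t) :
    inj c A k ≫ LAdesc g = g k := by
  change Sigma.ι (fun _ : c ⟶ t => A) k ≫ Sigma.desc g = _
  rw [Sigma.ι_desc]

variable [∀ a b : C, Subsingleton (a ⟶ b)]

lemma isZero_LA_of_isEmpty {t : C} [IsEmpty (c ⟶ t)] : IsZero (LA c A t) := by
  rw [IsZero.iff_id_eq_zero]
  apply LA_hom_ext
  intro h
  exact isEmptyElim h

lemma isIso_inj {t : C} (h : c ⟶ t) : IsIso (inj c A h) := by
  refine ⟨LAdesc (fun _ => 𝟙 A), ?_, ?_⟩
  · rw [inj_LAdesc]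
  · apply LA_hom_ext
    intro h'
    rw [← Category.assoc, inj_LAdesc, Category.id_comp, Category.comp_id,
      Subsingleton.elim h' h]

end Api

variable [∀ a b : C, Subsingleton (a ⟶ b)]

/-- the left adjoint of evaluation preserves monomorphisms when the index category is thin -/
instance preservesMono_evaluationLeftAdjoint (c : C) :
    (evaluationLeftAdjoint D c).PreservesMonomorphisms where
  preserves {A A'} f hf := by
    haveI : ∀ t, Mono (((evaluationLeftAdjoint D c).map f).app t) := by
      intro t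
      by_cases hne : Nonempty (c ⟶ t)
      · obtain ⟨h⟩ := hne
        haveI := isIso_inj (D := D) (A := A) h
        haveI := isIso_inj (D := D) (A := A') h
        have e : ((evaluationLeftAdjoint D c).map f).app t =
            inv (inj c A h) ≫ f ≫ inj c A' h :=
          (IsIso.eq_inv_comp _).mpr (inj_mapA f h)
        rw [e]
        infer_instance
      · haveI : IsEmpty (c ⟶ t) := not_nonempty_iff.mp hne
        have hz : IsZero (LA c A t) := isZero_LA_of_isEmpty
        constructor
        intro T g₁ g₂ _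
        exact hz.eq_of_tgt _ _
    exact NatTrans.mono_of_mono_app _

/-- evaluation preserves injective objects -/
instance preservesInjective_evaluation (c : C) :
    ((evaluation C D).obj c).PreservesInjectiveObjects :=
  Functor.preservesInjectiveObjects_of_adjunction_of_preservesMonomorphisms
    (evaluationAdjunctionRight D c)

/-- the comparison of the left adjoints of evaluation along a morphism -/
noncomputable def leftAdjMap {c' c : C} (u : c' ⟶ c) (A : D) :
    (evaluationLeftAdjoint D c).obj A ⟶ (evaluationLeftAdjoint D c').obj A where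
  app t := LAdesc fun h : c ⟶ t => inj c' A (u ≫ h)
  naturality t t' f := by
    apply LA_hom_ext
    intro h
    have e1 : inj c A h ≫ ((evaluationLeftAdjoint D c).obj A).map f ≫
        LAdesc (fun h : c ⟶ t' => inj c' A (u ≫ h)) = inj c' A (u ≫ h ≫ f) := by
      rw [← Category.assoc, inj_map, inj_LAdesc]
    have e2 : inj c A h ≫ LAdesc (fun h : c ⟶ t => inj c' A (u ≫ h)) ≫
        ((evaluationLeftAdjoint D c').obj A).map f = inj c' A (u ≫ h ≫ f) := by
      rw [← Category.assoc, inj_LAdesc, inj_map, Category.assoc]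
    exact e1.trans e2.symm

lemma inj_leftAdjMap {c' c : C} (u : c' ⟶ c) (A : D) {t : C} (h : c ⟶ t) :
    inj c A h ≫ (leftAdjMap u A).app t = inj c' A (u ≫ h) :=
  inj_LAdesc _ _

instance mono_leftAdjMap {c' c : C} (u : c' ⟶ c) (A : D) : Mono (leftAdjMap u A) := by
  haveI : ∀ t, Mono ((leftAdjMap u A).app t) := by
    intro t
    by_cases hne : Nonempty (c ⟶ t)
    · obtain ⟨h⟩ := hne
      haveI := isIso_inj (D := D) (A := A) h
      haveI := isIso_inj (D := D) (A := A) (u ≫ h)
      have e : (leftAdjMap u A).app t = inv (inj c A h) ≫ inj c' A (u ≫ h) :=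
        (IsIso.eq_inv_comp _).mpr (inj_leftAdjMap u A h)
      rw [e]
      infer_instance
    · haveI : IsEmpty (c ⟶ t) := not_nonempty_iff.mp hne
      have hz : IsZero (LA c A t) := isZero_LA_of_isEmpty
      constructor
      intro T g₁ g₂ _
      exact hz.eq_of_tgt _ _
  exact NatTrans.mono_of_mono_app _

/-- morphisms into the values of an injective diagram lift along the transition maps -/
theorem exists_lift_of_injective (J : C ⥤ D) [Injective J] {c' c : C} (u : c' ⟶ c) {A : D}
    (a : A ⟶ J.obj c) : ∃ a' : A ⟶ J.obj c', a' ≫ J.map u = a := by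
  let φ : (evaluationLeftAdjoint D c).obj A ⟶ J :=
    ((evaluationAdjunctionRight D c).homEquiv A J).symm a
  let ψ : (evaluationLeftAdjoint D c').obj A ⟶ J := Injective.factorThru φ (leftAdjMap u A)
  have hψ : leftAdjMap u A ≫ ψ = φ := Injective.comp_factorThru φ (leftAdjMap u A)
  refine ⟨inj c' A (𝟙 c') ≫ ψ.app c', ?_⟩
  have h1 : inj c A (𝟙 c) ≫ φ.app c = a := by
    have h0 := ((evaluationAdjunctionRight D c).homEquiv A J).apply_symm_apply a
    rw [Adjunction.homEquiv_unit, evaluationAdjunctionRight_unit_app] at h0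
    exact h0
  have h2 : inj c A (𝟙 c) ≫ (leftAdjMap u A).app c ≫ ψ.app c = a := by
    rw [← NatTrans.comp_app, hψ]
    exact h1
  rw [← Category.assoc, inj_leftAdjMap] at h2
  rw [Category.assoc, ← ψ.naturality, ← Category.assoc, inj_map]
  have h3 : 𝟙 c' ≫ u = u ≫ 𝟙 c := Subsingleton.elim _ _
  rw [h3]
  exact h2

end Groth.Agent.H6.Rl
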