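import Groth.Agent.Lib.Helper6.Rl2
import Groth.Agent.Lib.Helper6.Rl3
import Groth.Agent.Lib.Helper6.Rl4
import Groth.Agent.Lib.Helper3.ModSiteAux
import Groth.Agent.Lib.Lead.KT.Core
import Groth.Prelude.Def_CohTop

/-! # Evaluating an injective resolution of a tower of sheaves of modules -/

set_option autoImplicit false

open CategoryTheory CategoryTheory.Limits Abelian TopologicalSpace Opposite

namespace Groth.Agent.H6.Rl

open Groth.Agent.LD.SC Groth.Agent.H6.Ml Groth.Agent.H6.CL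

universe u

variable {X : TopCat.{u}} (R : Sheaf (Opens.grothendieckTopology X) RingCat.{u})

/-- towers of sheaves of modules -/
abbrev Tow : Type (u + 1) := ℕᵒᵖ ⥤ SheafOfModules.{u} R

instance : PreservesFiniteColimits (SheafOfModules.toSheaf.{u} R) := by
  haveI := Groth.Agent.H3.ModSiteAux.toSheaf_preservesColimitsOfSize R
  exact PreservesColimitsOfSize.preservesFiniteColimits _

/-- evaluation at `n` followed by the forgetful functor to abelian sheaves -/
noncomputable abbrev Gn (n : ℕ) : Tow R ⥤ AbX X :=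
  (evaluation ℕᵒᵖ (SheafOfModules.{u} R)).obj (op n) ⋙ SheafOfModules.toSheaf.{u} R

variable {R} {E : Tow R} (I : InjectiveResolution E)

/-- the terms of the evaluated resolution -/
noncomputable abbrev Jobj (k n : ℕ) : AbX X := (Gn R n).obj (I.cocomplex.X k)

/-- the differentials of the evaluated resolution -/
noncomputable abbrev Jd (k n : ℕ) : Jobj I k n ⟶ Jobj I (k + 1) n :=
  (Gn R n).map (I.cocomplex.d k (k + 1))

/-- the transition maps of the evaluated resolution -/
noncomputable abbrev Jt (k n : ℕ) : Jobj I k (n + 1) ⟶ Jobj I k n :=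
  (SheafOfModules.toSheaf.{u} R).map ((I.cocomplex.X k).map (homOfLE (Nat.le_succ n)).op)

lemma Jd_Jd (k n : ℕ) : Jd I k n ≫ Jd I (k + 1) n = 0 := by
  unfold Jd
  rw [← Functor.map_comp, I.cocomplex.d_comp_d, Functor.map_zero]

lemma Jt_Jd (k n : ℕ) : Jt I k n ≫ Jd I k n = Jd I k (n + 1) ≫ Jt I (k + 1) n := by
  change (SheafOfModules.toSheaf.{u} R).map _ ≫ (SheafOfModules.toSheaf.{u} R).map _ =
    (SheafOfModules.toSheaf.{u} R).map _ ≫ (SheafOfModules.toSheaf.{u} R).map _
  rw [← Functor.map_comp, ← Functor.map_comp]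
  congr 1
  exact (I.cocomplex.d k (k + 1)).naturality _

lemma Jd_exact (k n : ℕ) :
    (ShortComplex.mk (Jd I k n) (Jd I (k + 1) n) (Jd_Jd I k n)).Exact :=
  (I.exact_succ k).map (Gn R n)

/-- the augmentation of the resolution -/
noncomputable def ι0 : E ⟶ I.cocomplex.X 0 := I.ι.f 0

lemma ι0_d : ι0 I ≫ I.cocomplex.d 0 1 = 0 := I.ι_f_zero_comp_complex_d

instance mono_ι0 : Mono (ι0 I) := inferInstanceAs (Mono (I.ι.f 0))

lemma ι0_exact : (ShortComplex.mk (ι0 I) (I.cocomplex.d 0 1) (ι0_d I)).Exact :=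
  ShortComplex.exact_of_f_is_kernel _ I.isLimitKernelFork

/-- the augmentation of the evaluated resolution -/
noncomputable abbrev Jε (n : ℕ) : (Gn R n).obj E ⟶ Jobj I 0 n := (Gn R n).map (ι0 I)

lemma Jε_Jd (n : ℕ) : Jε I n ≫ Jd I 0 n = 0 := by
  unfold Jε Jd
  rw [← Functor.map_comp, ι0_d, Functor.map_zero]

instance mono_Jε (n : ℕ) : Mono (Jε I n) := by
  unfold Jε
  infer_instance

lemma Jε_exact (n : ℕ) : (ShortComplex.mk (Jε I n) (Jd I 0 n) (Jε_Jd I n)).Exact :=
  (ι0_exact I).map (Gn R n)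

lemma Jt_split (k n : ℕ) : ∃ s : Jobj I k n ⟶ Jobj I k (n + 1), s ≫ Jt I k n = 𝟙 _ := by
  obtain ⟨s, hs⟩ := exists_lift_of_injective (I.cocomplex.X k) (homOfLE (Nat.le_succ n)).op
    (𝟙 ((I.cocomplex.X k).obj (op n)))
  refine ⟨(SheafOfModules.toSheaf.{u} R).map s, ?_⟩
  change (SheafOfModules.toSheaf.{u} R).map s ≫ (SheafOfModules.toSheaf.{u} R).map _ = _
  rw [← Functor.map_comp, hs, CategoryTheory.Functor.map_id]
  rfl

lemma subsingleton_ext_Jobj (V : Opens X) (k n p : ℕ) :
    Subsingleton (Ext (ZU (Opens.grothendieckTopology X) V) (Jobj I k n) (p + 1)) := by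
  haveI : Injective ((I.cocomplex.X k).obj (op n)) :=
    @Functor.injective_obj _ _ _ _ ((evaluation ℕᵒᵖ (SheafOfModules.{u} R)).obj (op n))
      (preservesInjective_evaluation (C := ℕᵒᵖ) (D := SheafOfModules.{u} R) (op n))
      (I.cocomplex.X k) (I.injective k)
  exact Groth.Agent.LD.KT.subsingleton_ext_toSheaf_of_injective R ((I.cocomplex.X k).obj (op n))
    _ (Groth.Agent.LD.KT.isTF_ZR (yoneda.obj V)) p

end Groth.Agent.H6.Rl
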