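import Groth.Agent.Lib.Helper6.Rl1
import Groth.Agent.Lib.Helper6.Rl5

/-! # Compatible lifts of cocycles in the evaluated resolution -/

set_option autoImplicit false

open CategoryTheory CategoryTheory.Limits Abelian TopologicalSpace Opposite

namespace Groth.Agent.H6.Rl

open Groth.Agent.LD.SC Groth.Agent.H6.Ml Groth.Agent.H6.CL

universe u

variable {X : TopCat.{u}} {R : Sheaf (Opens.grothendieckTopology X) RingCat.{u}}
  {E : Tow R} (I : InjectiveResolution E) (V : Opens X)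
  (hE : ∀ n p, Subsingleton (Ext (ZU (Opens.grothendieckTopology X) V) ((Gn R n).obj E) (p + 1)))

include hE in
lemma exists_lift_Jd (k n : ℕ) (β : ZU (Opens.grothendieckTopology X) V ⟶ Jobj I (k + 1) n)
    (hβ : β ≫ Jd I (k + 1) n = 0) :
    ∃ α : ZU (Opens.grothendieckTopology X) V ⟶ Jobj I k n, α ≫ Jd I k n = β :=
  exists_lift_succ (ZU (Opens.grothendieckTopology X) V) (fun j => Jobj I j n)
    (fun j => Jd I j n) (fun j => Jd_Jd I j n) (fun j => Jd_exact I j n) (Jε I n) (Jε_Jd I n)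
    (Jε_exact I n) (fun j p => subsingleton_ext_Jobj I V j n p) (hE n) k β hβ

lemma exists_lift_Jε (n : ℕ) (γ : ZU (Opens.grothendieckTopology X) V ⟶ Jobj I 0 n)
    (hγ : γ ≫ Jd I 0 n = 0) :
    ∃ κ : ZU (Opens.grothendieckTopology X) V ⟶ (Gn R n).obj E, κ ≫ Jε I n = γ :=
  ⟨(Jε_exact I n).lift γ hγ, (Jε_exact I n).lift_f γ hγ⟩

include hE in
/-- compatible cocycles in degree `≥ 2` are compatible coboundaries -/
theorem exists_compatible_two (k : ℕ)
    (β : ∀ n, ZU (Opens.grothendieckTopology X) V ⟶ Jobj I (k + 2) n)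
    (hβt : ∀ n, β (n + 1) ≫ Jt I (k + 2) n = β n) (hβd : ∀ n, β n ≫ Jd I (k + 2) n = 0) :
    ∃ α : ∀ n, ZU (Opens.grothendieckTopology X) V ⟶ Jobj I (k + 1) n,
      (∀ n, α n ≫ Jd I (k + 1) n = β n) ∧ ∀ n, α (n + 1) ≫ Jt I (k + 1) n = α n := by
  let A := ZU (Opens.grothendieckTopology X) V
  refine exists_compatible_lift_two
    (P := fun n => A ⟶ Jobj I k n) (Q := fun n => A ⟶ Jobj I (k + 1) n)
    (S := fun n => A ⟶ Jobj I (k + 2) n)
    (fun n => Preadditive.rightComp A (Jd I k n)) (fun n => Preadditive.rightComp A (Jd I (k + 1) n))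
    (fun n => Preadditive.rightComp A (Jt I k n)) (fun n => Preadditive.rightComp A (Jt I (k + 1) n))
    (fun n => Preadditive.rightComp A (Jt I (k + 2) n)) ?_ ?_ ?_ β hβt ?_ ?_ ?_
  · intro n x
    change (x ≫ Jt I k n) ≫ Jd I k n = (x ≫ Jd I k (n + 1)) ≫ Jt I (k + 1) n
    rw [Category.assoc, Category.assoc, Jt_Jd]
  · intro n x
    change (x ≫ Jt I (k + 1) n) ≫ Jd I (k + 1) n = (x ≫ Jd I (k + 1) (n + 1)) ≫ Jt I (k + 2) n
    rw [Category.assoc, Category.assoc, Jt_Jd]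
  · intro n x
    change (x ≫ Jd I k n) ≫ Jd I (k + 1) n = 0
    rw [Category.assoc, Jd_Jd, comp_zero]
  · intro n
    exact exists_lift_Jd I V hE (k + 1) n (β n) (hβd n)
  · intro n γ hγ
    exact exists_lift_Jd I V hE k n γ hγ
  · intro n w
    obtain ⟨s, hs⟩ := Jt_split I k n
    refine ⟨w ≫ s, ?_⟩
    change (w ≫ s) ≫ Jt I k n = w
    rw [Category.assoc, hs, Category.comp_id]

/-- the transition maps of the tower of `E` -/
noncomputable abbrev Et (n : ℕ) : (Gn R (n + 1)).obj E ⟶ (Gn R n).obj E :=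
  (SheafOfModules.toSheaf.{u} R).map (E.map (homOfLE (Nat.le_succ n)).op)

lemma Et_Jε (n : ℕ) : Et (E := E) n ≫ Jε I n = Jε I (n + 1) ≫ Jt I 0 n := by
  change (SheafOfModules.toSheaf.{u} R).map _ ≫ (SheafOfModules.toSheaf.{u} R).map _ =
    (SheafOfModules.toSheaf.{u} R).map _ ≫ (SheafOfModules.toSheaf.{u} R).map _
  rw [← Functor.map_comp, ← Functor.map_comp]
  congr 1
  exact (ι0 I).naturality _

include hE in
/-- compatible cocycles in degree `1` are compatible coboundaries when `lim¹` of the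
sections of `E` vanishes -/
theorem exists_compatible_one
    (hML : Function.Surjective (fun (b : ∀ n, ZU (Opens.grothendieckTopology X) V ⟶ (Gn R n).obj E)
      (n : ℕ) => b n - b (n + 1) ≫ Et (E := E) n))
    (β : ∀ n, ZU (Opens.grothendieckTopology X) V ⟶ Jobj I 1 n)
    (hβt : ∀ n, β (n + 1) ≫ Jt I 1 n = β n) (hβd : ∀ n, β n ≫ Jd I 1 n = 0) :
    ∃ α : ∀ n, ZU (Opens.grothendieckTopology X) V ⟶ Jobj I 0 n,
      (∀ n, α n ≫ Jd I 0 n = β n) ∧ ∀ n, α (n + 1) ≫ Jt I 0 n = α n := by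
  let A := ZU (Opens.grothendieckTopology X) V
  refine exists_compatible_lift_one
    (K := fun n => A ⟶ (Gn R n).obj E) (Q := fun n => A ⟶ Jobj I 0 n)
    (S := fun n => A ⟶ Jobj I 1 n)
    (fun n => Preadditive.rightComp A (Jε I n)) (fun n => Preadditive.rightComp A (Jd I 0 n))
    (fun n => Preadditive.rightComp A (Et (E := E) n))
    (fun n => Preadditive.rightComp A (Jt I 0 n))
    (fun n => Preadditive.rightComp A (Jt I 1 n)) ?_ ?_ ?_ β hβt ?_ ?_ hML
  · intro n x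
    change (x ≫ Et (E := E) n) ≫ Jε I n = (x ≫ Jε I (n + 1)) ≫ Jt I 0 n
    rw [Category.assoc, Category.assoc, Et_Jε]
  · intro n x
    change (x ≫ Jt I 0 n) ≫ Jd I 0 n = (x ≫ Jd I 0 (n + 1)) ≫ Jt I 1 n
    rw [Category.assoc, Category.assoc, Jt_Jd]
  · intro n x
    change (x ≫ Jε I n) ≫ Jd I 0 n = 0
    rw [Category.assoc, Jε_Jd, comp_zero]
  · intro n
    exact exists_lift_Jd I V hE 0 n (β n) (hβd n)
  · intro n γ hγ
    exact exists_lift_Jε I V n γ hγ

end Groth.Agent.H6.Rl
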