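import Groth.Agent.Lib.Helper6.Rl6
import Groth.Agent.Lib.Helper6.Ml5

/-! # Vanishing of the derived functors of `lim` on towers of sheaves of modules -/

set_option autoImplicit false

open CategoryTheory CategoryTheory.Limits Abelian TopologicalSpace Opposite

namespace Groth.Agent.H6.Rl

open Groth.Agent.LD.SC Groth.Agent.H6.Ml Groth.Agent.H6.CL

universe u

variable {X : TopCat.{u}} (R : Sheaf (Opens.grothendieckTopology X) RingCat.{u})

lemma preservesLimit_toSheaf' (T : ℕᵒᵖ ⥤ SheafOfModules.{u} R) :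
    PreservesLimit T (SheafOfModules.toSheaf.{u} R) := by
  have h1 : PreservesLimitsOfSize.{u, u} (SheafOfModules.toSheaf.{u} R) :=
    Groth.Agent.H3.ModSiteAux.toSheaf_preservesLimitsOfSize R
  have h0 : PreservesLimitsOfSize.{0, 0} (SheafOfModules.toSheaf.{u} R) :=
    @preservesLimitsOfSize_shrink.{0, u, 0, u} _ _ _ _ _ h1
  exact (h0.preservesLimitsOfShape (J := ℕᵒᵖ)).preservesLimit

variable {R}

/-- the image of the limit cone in abelian sheaves -/
noncomputable def limCone (T : ℕᵒᵖ ⥤ SheafOfModules.{u} R) :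
    Cone (T ⋙ SheafOfModules.toSheaf.{u} R) :=
  (SheafOfModules.toSheaf.{u} R).mapCone (limit.cone T)

/-- it is a limit cone -/
noncomputable def limConeIsLimit (T : ℕᵒᵖ ⥤ SheafOfModules.{u} R) : IsLimit (limCone T) :=
  ((preservesLimit_toSheaf' R T).preserves (limit.isLimit T)).some

variable {E : Tow R} (I : InjectiveResolution E) (B : Set (Opens X)) (hB : Opens.IsBasis B)

/-- lifting sections of the limit complex over a member of the basis -/
theorem exact_lim_aux (k : ℕ) (V : Opens X)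
    (hstep : ∀ β : ∀ n, ZU (Opens.grothendieckTopology X) V ⟶ Jobj I (k + 1) n,
      (∀ n, β (n + 1) ≫ Jt I (k + 1) n = β n) → (∀ n, β n ≫ Jd I (k + 1) n = 0) →
      ∃ α : ∀ n, ZU (Opens.grothendieckTopology X) V ⟶ Jobj I k n,
        (∀ n, α n ≫ Jd I k n = β n) ∧ ∀ n, α (n + 1) ≫ Jt I k n = α n)
    (b : ZU (Opens.grothendieckTopology X) V ⟶
      (SheafOfModules.toSheaf.{u} R).obj (limit (I.cocomplex.X (k + 1))))
    (hb : b ≫ (SheafOfModules.toSheaf.{u} R).map (limMap (I.cocomplex.d (k + 1) (k + 2))) = 0) :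
    ∃ a : ZU (Opens.grothendieckTopology X) V ⟶
        (SheafOfModules.toSheaf.{u} R).obj (limit (I.cocomplex.X k)),
      a ≫ (SheafOfModules.toSheaf.{u} R).map (limMap (I.cocomplex.d k (k + 1))) = b := by
  let β : ∀ n, ZU (Opens.grothendieckTopology X) V ⟶ Jobj I (k + 1) n := fun n =>
    b ≫ (SheafOfModules.toSheaf.{u} R).map (limit.π (I.cocomplex.X (k + 1)) (op n))
  have hβt : ∀ n, β (n + 1) ≫ Jt I (k + 1) n = β n := by
    intro n
    change (b ≫ (SheafOfModules.toSheaf.{u} R).map _) ≫ (SheafOfModules.toSheaf.{u} R).map _ =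
      b ≫ (SheafOfModules.toSheaf.{u} R).map _
    rw [Category.assoc, ← Functor.map_comp, limit.w]
  have hβd : ∀ n, β n ≫ Jd I (k + 1) n = 0 := by
    intro n
    change (b ≫ (SheafOfModules.toSheaf.{u} R).map _) ≫ (SheafOfModules.toSheaf.{u} R).map
      ((I.cocomplex.d (k + 1) (k + 2)).app (op n)) = 0
    rw [Category.assoc, ← Functor.map_comp]
    have e : limit.π (I.cocomplex.X (k + 1)) (op n) ≫ (I.cocomplex.d (k + 1) (k + 2)).app (op n) =
        limMap (I.cocomplex.d (k + 1) (k + 2)) ≫ limit.π (I.cocomplex.X (k + 2)) (op n) :=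
      (limMap_π _ _).symm
    rw [e, Functor.map_comp, ← Category.assoc, hb, zero_comp]
  obtain ⟨α, hαd, hαt⟩ := hstep β hβt hβd
  obtain ⟨a, ha⟩ : ∃ a : ZU (Opens.grothendieckTopology X) V ⟶
      (SheafOfModules.toSheaf.{u} R).obj (limit (I.cocomplex.X k)),
      ∀ n, a ≫ (SheafOfModules.toSheaf.{u} R).map (limit.π (I.cocomplex.X k) (op n)) = α n :=
    exists_lift_of_compatible _ _ (limConeIsLimit (I.cocomplex.X k)) α hαt
  refine ⟨a, ?_⟩
  have key : ∀ (x x' : ZU (Opens.grothendieckTopology X) V ⟶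
      (SheafOfModules.toSheaf.{u} R).obj (limit (I.cocomplex.X (k + 1)))),
      (∀ n, x ≫ (SheafOfModules.toSheaf.{u} R).map (limit.π (I.cocomplex.X (k + 1)) (op n)) =
        x' ≫ (SheafOfModules.toSheaf.{u} R).map (limit.π (I.cocomplex.X (k + 1)) (op n))) →
      x = x' := fun x x' h =>
    hom_ext_of_tower _ _ (limConeIsLimit (I.cocomplex.X (k + 1))) x x' h
  apply key
  intro n
  change (a ≫ (SheafOfModules.toSheaf.{u} R).map (limMap (I.cocomplex.d k (k + 1)))) ≫
    (SheafOfModules.toSheaf.{u} R).map (limit.π (I.cocomplex.X (k + 1)) (op n)) = β n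
  have e : limMap (I.cocomplex.d k (k + 1)) ≫ limit.π (I.cocomplex.X (k + 1)) (op n) =
      limit.π (I.cocomplex.X k) (op n) ≫ (I.cocomplex.d k (k + 1)).app (op n) := limMap_π _ _
  rw [Category.assoc, ← Functor.map_comp, e, Functor.map_comp, ← Category.assoc]
  rw [ha n]
  exact hαd n

include hB in
/-- exactness of the limit complex from compatible lifting over the basis -/
theorem exact_lim (k : ℕ)
    (hstep : ∀ V ∈ B, ∀ β : ∀ n, ZU (Opens.grothendieckTopology X) V ⟶ Jobj I (k + 1) n,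
      (∀ n, β (n + 1) ≫ Jt I (k + 1) n = β n) → (∀ n, β n ≫ Jd I (k + 1) n = 0) →
      ∃ α : ∀ n, ZU (Opens.grothendieckTopology X) V ⟶ Jobj I k n,
        (∀ n, α n ≫ Jd I k n = β n) ∧ ∀ n, α (n + 1) ≫ Jt I k n = α n) :
    (ShortComplex.mk (lim.map (I.cocomplex.d k (k + 1))) (lim.map (I.cocomplex.d (k + 1) (k + 2)))
      (by rw [← Functor.map_comp, I.cocomplex.d_comp_d, Functor.map_zero])).Exact := by
  rw [← ShortComplex.exact_map_iff_of_faithful _ (SheafOfModules.toSheaf.{u} R)]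
  apply exact_of_basis B hB
  intro V hV b hb
  exact exact_lim_aux I k V (hstep V hV) b hb

end Groth.Agent.H6.Rl
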