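import Groth.Agent.Lib.Helper6.Rl7

/-! # `R^i lim` of a tower of sheaves of modules acyclic on a basis -/

set_option autoImplicit false

open CategoryTheory CategoryTheory.Limits Abelian TopologicalSpace Opposite

namespace Groth.Agent.H6.Rl

open Groth.Agent.LD.SC Groth.Agent.H6.Ml Groth.Agent.H6.CL

universe u

variable {X : TopCat.{u}} {R : Sheaf (Opens.grothendieckTopology X) RingCat.{u}}
  [(lim : (ℕᵒᵖ ⥤ SheafOfModules.{u} R) ⥤ SheafOfModules.{u} R).Additive]
  [HasInjectiveResolutions (ℕᵒᵖ ⥤ SheafOfModules.{u} R)]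
  {E : Tow R} (I : InjectiveResolution E)

/-- vanishing of a derived functor of `lim` from exactness of the limit complex -/
theorem isZero_rightDerived_of_exact (k : ℕ)
    (hex : (ShortComplex.mk (lim.map (I.cocomplex.d k (k + 1)))
      (lim.map (I.cocomplex.d (k + 1) (k + 2)))
      (by rw [← Functor.map_comp, I.cocomplex.d_comp_d, Functor.map_zero])).Exact) :
    IsZero (((lim : (ℕᵒᵖ ⥤ SheafOfModules.{u} R) ⥤ SheafOfModules.{u} R).rightDerived
      (k + 1)).obj E) := by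
  refine IsZero.of_iso ?_ (I.isoRightDerivedObj lim (k + 1))
  erw [← HomologicalComplex.exactAt_iff_isZero_homology]
  rw [HomologicalComplex.exactAt_iff' _ k (k + 1) (k + 2) (by simp)
    (by simp only [CochainComplex.next]; rfl)]
  exact hex

/-- the Mittag-Leffler condition on sections gives vanishing of `lim¹` of `Hom(ℤ_V, E_n)` -/
theorem surjective_of_ML (V : Opens X)
    (hML : (E ⋙ SheafOfModules.toSheaf R ⋙
      (sheafSections (Opens.grothendieckTopology X) AddCommGrpCat.{u}).obj (op V) ⋙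
        forget AddCommGrpCat.{u}).IsMittagLeffler) :
    Function.Surjective (fun (b : ∀ n, ZU (Opens.grothendieckTopology X) V ⟶ (Gn R n).obj E)
      (n : ℕ) => b n - b (n + 1) ≫ Et (E := E) n) := by
  let Φ : ℕᵒᵖ ⥤ AddCommGrpCat.{u} := E ⋙ SheafOfModules.toSheaf R ⋙
    (sheafSections (Opens.grothendieckTopology X) AddCommGrpCat.{u}).obj (op V)
  have hs := surjective_towerDiff_of_ML Φ hML
  intro κ
  obtain ⟨s₀, hs'⟩ := hs (fun n => homEquiv V ((Gn R n).obj E) (κ n))
  let s : ∀ n, ((Gn R n).obj E).obj.obj (op V) := s₀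
  refine ⟨fun n => (homEquiv V ((Gn R n).obj E)).symm (s n), ?_⟩
  funext n
  apply (homAddEquiv V ((Gn R n).obj E)).injective
  have h1 : s n - (Et (E := E) n).hom.app (op V) (s (n + 1)) =
      homEquiv V ((Gn R n).obj E) (κ n) := congrFun hs' n
  rw [map_sub]
  change homEquiv V _ ((homEquiv V ((Gn R n).obj E)).symm (s n)) -
    homEquiv V _ ((homEquiv V ((Gn R (n + 1)).obj E)).symm (s (n + 1)) ≫ Et (E := E) n) =
      homEquiv V _ (κ n)
  rw [homEquiv_comp, Equiv.apply_symm_apply, Equiv.apply_symm_apply]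
  exact h1


theorem s19243 (X : TopCat.{u}) (R : Sheaf (Opens.grothendieckTopology X) RingCat.{u})
    [(lim : (ℕᵒᵖ ⥤ SheafOfModules.{u} R) ⥤ SheafOfModules.{u} R).Additive]
    [HasInjectiveResolutions (ℕᵒᵖ ⥤ SheafOfModules.{u} R)]
    (E : ℕᵒᵖ ⥤ SheafOfModules.{u} R) (B : Set (Opens X)) (hB : Opens.IsBasis B)
    (ha : ∀ U ∈ B, ∀ (n i : ℕ), 1 ≤ i →
      Subsingleton (CohTop.HU ((SheafOfModules.toSheaf R).obj (E.obj (op n))) i U)) :
    (∀ i : ℕ, 2 ≤ i →
      IsZero (((lim : (ℕᵒᵖ ⥤ SheafOfModules.{u} R) ⥤ SheafOfModules.{u} R).rightDerived i).obj E)) ∧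
    ((∀ U ∈ B, (E ⋙ SheafOfModules.toSheaf R ⋙
        (sheafSections (Opens.grothendieckTopology X) AddCommGrpCat.{u}).obj (op U) ⋙
          forget AddCommGrpCat.{u}).IsMittagLeffler) →
      ∀ i : ℕ, 1 ≤ i →
        IsZero (((lim : (ℕᵒᵖ ⥤ SheafOfModules.{u} R) ⥤ SheafOfModules.{u} R).rightDerived i).obj E)) := by
  obtain ⟨I⟩ := (HasInjectiveResolutions.out E : HasInjectiveResolution E).out
  have hE : ∀ V ∈ B, ∀ n p, Subsingleton
      (Ext (ZU (Opens.grothendieckTopology X) V) ((Gn R n).obj E) (p + 1)) :=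
    fun V hV n p => ha V hV n (p + 1) (Nat.succ_pos p)
  have part1 : ∀ i : ℕ, 2 ≤ i →
      IsZero (((lim : (ℕᵒᵖ ⥤ SheafOfModules.{u} R) ⥤ SheafOfModules.{u} R).rightDerived i).obj E) := by
    intro i hi
    obtain ⟨k, rfl⟩ : ∃ k, i = k + 1 + 1 := ⟨i - 2, by omega⟩
    exact isZero_rightDerived_of_exact I (k + 1) (exact_lim I B hB (k + 1)
      (fun V hV β hβt hβd => exists_compatible_two I V (hE V hV) k β hβt hβd))
  refine ⟨part1, fun hML i hi => ?_⟩
  rcases Nat.lt_or_ge i 2 with h2 | h2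
  · obtain rfl : i = 0 + 1 := by omega
    exact isZero_rightDerived_of_exact I 0 (exact_lim I B hB 0
      (fun V hV β hβt hβd => exists_compatible_one I V (hE V hV)
        (surjective_of_ML V (hML V hV)) β hβt hβd))
  · exact part1 i h2

end Groth.Agent.H6.Rl
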