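import Mathlib

set_option autoImplicit false
set_option backward.isDefEq.respectTransparency.types false

universe w v u

open CategoryTheory Category Limits

namespace Groth.Agent.H6.Roofs

variable {A : Type u} [Category.{v} A] [Abelian A] [HasDerivedCategory.{w} A]

open DerivedCategory

/-- part 1 of S12227 -/
theorem exists_right_roof (K L : HomotopyCategory A (ComplexShape.up ℤ)) (a : ℤ)
    [CochainComplex.IsStrictlyLE K.as a]
    (φ : DerivedCategory.Qh.obj K ⟶ DerivedCategory.Qh.obj L) :
    ∃ (K' : HomotopyCategory A (ComplexShape.up ℤ)) (n : ℤ) (_ : CochainComplex.IsStrictlyLE K'.as n)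
      (s : K' ⟶ K) (f : K' ⟶ L),
      HomotopyCategory.quasiIso A (ComplexShape.up ℤ) s ∧
        DerivedCategory.Qh.map s ≫ φ = DerivedCategory.Qh.map f := by
  obtain ⟨X', hX', s, hs, g, hfac⟩ :=
    DerivedCategory.right_fac_of_isStrictlyLE (X := K.as) (Y := L.as) φ a
  refine ⟨(HomotopyCategory.quotient A _).obj X', a, hX', (HomotopyCategory.quotient A _).map s,
    (HomotopyCategory.quotient A _).map g, ?_, ?_⟩
  · rw [isIso_Q_map_iff_quasiIso] at hs
    exact (HomotopyCategory.quotient_map_mem_quasiIso_iff s).2 hs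
  · rw [hfac]
    change Q.map s ≫ inv (Q.map s) ≫ Q.map g = Q.map g
    simp

/-- part 2 of S12227 -/
theorem exists_precomp_eq (K L : HomotopyCategory A (ComplexShape.up ℤ)) (a : ℤ)
    [CochainComplex.IsStrictlyLE K.as a] (f₁ f₂ : K ⟶ L)
    (h : DerivedCategory.Qh.map f₁ = DerivedCategory.Qh.map f₂) :
    ∃ (K' : HomotopyCategory A (ComplexShape.up ℤ)) (n : ℤ) (_ : CochainComplex.IsStrictlyLE K'.as n)
      (s : K' ⟶ K),
      HomotopyCategory.quasiIso A (ComplexShape.up ℤ) s ∧ s ≫ f₁ = s ≫ f₂ := by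
  rw [MorphismProperty.map_eq_iff_precomp Qh (HomotopyCategory.quasiIso A (ComplexShape.up ℤ))] at h
  obtain ⟨Z, s, hs, hfac⟩ := h
  obtain ⟨M, rfl⟩ := HomotopyCategory.quotient_obj_surjective Z
  obtain ⟨s, rfl⟩ := (HomotopyCategory.quotient _ _).map_surjective s
  have hs' : QuasiIso s := (HomotopyCategory.quotient_map_mem_quasiIso_iff s).1 hs
  have hM : CochainComplex.IsLE M a := by
    have : CochainComplex.IsLE K.as a := inferInstance
    exact (HomologicalComplex.isSupported_iff_of_quasiIso (φ := s) (e := ComplexShape.embeddingUpIntLE a)).2 this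
  refine ⟨(HomotopyCategory.quotient A _).obj (CochainComplex.truncLE M a), a,
    inferInstanceAs (CochainComplex.IsStrictlyLE (CochainComplex.truncLE M a) a),
    (HomotopyCategory.quotient A _).map (CochainComplex.ιTruncLE M a) ≫ (HomotopyCategory.quotient A _).map s, ?_, ?_⟩
  · have hq : QuasiIso (CochainComplex.ιTruncLE M a ≫ s) := inferInstance
    have h := (HomotopyCategory.quotient_map_mem_quasiIso_iff (CochainComplex.ιTruncLE M a ≫ s)).2 hq
    rwa [Functor.map_comp] at h
  · rw [assoc, assoc, hfac]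

end Groth.Agent.H6.Roofs
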