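import Groth.Agent.Lib.Helper6.RoofsA

set_option autoImplicit false
set_option backward.isDefEq.respectTransparency.types false

universe w v u

open CategoryTheory Category Limits

namespace Groth.Agent.H6.Roofs

variable {A : Type u} [Category.{v} A] [Abelian A] [HasDerivedCategory.{w} A]

open DerivedCategory

/-- part 1 of S12228 at the level of complexes. -/
theorem exists_left_roof' (X Y : CochainComplex A ℤ) (b a' b' : ℤ)
    [X.IsStrictlyLE b] [Y.IsStrictlyGE a'] [Y.IsStrictlyLE b']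
    (φ : Q.obj X ⟶ Q.obj Y) :
    ∃ (Y' : CochainComplex A ℤ) (m n : ℤ) (_ : Y'.IsStrictlyGE m)
      (_ : Y'.IsStrictlyLE n) (f : X ⟶ Y') (t : Y ⟶ Y'),
      QuasiIso t ∧ φ ≫ Q.map t = Q.map f := by
  have h1 : X.IsStrictlyLE (max b b') :=
    CochainComplex.isStrictlyLE_of_le X b _ (le_max_left _ _)
  have h2 : Y.IsStrictlyLE (max b b') :=
    CochainComplex.isStrictlyLE_of_le Y b' _ (le_max_right _ _)
  obtain ⟨Y', hY'1, hY'2, g, s, hs, hfac⟩ :=
    DerivedCategory.left_fac_of_isStrictlyLE_of_isStrictlyGE (X := X) (Y := Y) a' (max b b') φ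
  refine ⟨Y', a', max b b', hY'1, hY'2, g, s, ?_, ?_⟩
  · rwa [isIso_Q_map_iff_quasiIso] at hs
  · rw [hfac]
    simp

omit [HasDerivedCategory A] in
theorem isStrictlyLE_mappingCone {K L : CochainComplex A ℤ} (f : K ⟶ L)
    (n₁ n₂ n : ℤ) [K.IsStrictlyLE n₁] [L.IsStrictlyLE n₂] (hn₁ : n₁ ≤ n + 1)
    (hn₂ : n₂ ≤ n) :
    (CochainComplex.mappingCone f).IsStrictlyLE n := by
  rw [CochainComplex.isStrictlyLE_iff]
  intro i hi
  simp only [CochainComplex.mappingCone.isZero_X_iff]
  exact ⟨K.isZero_of_isStrictlyLE n₁ _ (by omega), L.isZero_of_isStrictlyLE n₂ _ (by omega)⟩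

/-- part 2 of S12228 at the level of complexes. -/
theorem exists_postcomp_eq' (X Y : CochainComplex A ℤ) (b a' b' : ℤ)
    [X.IsStrictlyLE b] [Y.IsStrictlyGE a'] [Y.IsStrictlyLE b']
    (g : X ⟶ Y) (h : Q.map g = 0) :
    ∃ (Y' : CochainComplex A ℤ) (m n : ℤ) (_ : Y'.IsStrictlyGE m)
      (_ : Y'.IsStrictlyLE n) (t : Y ⟶ Y'),
      QuasiIso t ∧ (HomotopyCategory.quotient A (ComplexShape.up ℤ)).map (g ≫ t) = 0 := by
  have hT := mappingCone_triangle_distinguished g
  obtain ⟨r, hr⟩ := Pretriangulated.Triangle.yoneda_exact₂ _ hT (𝟙 _) (by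
    change Q.map g ≫ 𝟙 _ = 0
    rw [comp_id]
    exact h)
  change Q.obj (CochainComplex.mappingCone g) ⟶ Q.obj Y at r
  change 𝟙 _ = Q.map (CochainComplex.mappingCone.inr g) ≫ r at hr
  have hN : (CochainComplex.mappingCone g).IsStrictlyLE (max b b') :=
    isStrictlyLE_mappingCone g b b' _ (by have := le_max_left b b'; omega) (le_max_right _ _)
  obtain ⟨Y', m, n, hm, hn, f, t, ht, hft⟩ :=
    exists_left_roof' (CochainComplex.mappingCone g) Y (max b b') a' b' r
  refine ⟨Y', m, n, hm, hn, CochainComplex.mappingCone.inr g ≫ f, ?_, ?_⟩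
  · have e1 : Q.map (CochainComplex.mappingCone.inr g ≫ f) = Q.map t := by
      rw [Functor.map_comp, ← hft, ← assoc, ← hr, id_comp]
    have : IsIso (Q.map t) := (isIso_Q_map_iff_quasiIso (φ := t)).2 ht
    rw [← isIso_Q_map_iff_quasiIso, e1]
    exact this
  · have hz : (HomotopyCategory.quotient A (ComplexShape.up ℤ)).map g ≫
        (HomotopyCategory.quotient A _).map (CochainComplex.mappingCone.inr g) = 0 :=
      Pretriangulated.comp_distTriang_mor_zero₁₂ _
        (HomotopyCategory.mappingCone_triangleh_distinguished g)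
    rw [← assoc, Functor.map_comp, Functor.map_comp, hz, zero_comp]

end Groth.Agent.H6.Roofs
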