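import Groth.Agent.Lib.Helper6.RoofsB

set_option autoImplicit false
set_option backward.isDefEq.respectTransparency.types false

universe w v u

open CategoryTheory Category Limits

namespace Groth.Agent.H6.Roofs

variable {A : Type u} [Category.{v} A] [Abelian A] [HasDerivedCategory.{w} A]

open DerivedCategory

theorem main12228 (K L : HomotopyCategory A (ComplexShape.up ℤ)) (a b a' b' : ℤ)
    [CochainComplex.IsStrictlyGE K.as a] [CochainComplex.IsStrictlyLE K.as b]
    [CochainComplex.IsStrictlyGE L.as a'] [CochainComplex.IsStrictlyLE L.as b'] :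
    (∀ φ : DerivedCategory.Qh.obj K ⟶ DerivedCategory.Qh.obj L,
      ∃ (L' : HomotopyCategory A (ComplexShape.up ℤ)) (m n : ℤ) (_ : CochainComplex.IsStrictlyGE L'.as m) (_ : CochainComplex.IsStrictlyLE L'.as n) (f : K ⟶ L') (t : L ⟶ L'),
        HomotopyCategory.quasiIso A (ComplexShape.up ℤ) t ∧ φ ≫ DerivedCategory.Qh.map t = DerivedCategory.Qh.map f) ∧
    (∀ f₁ f₂ : K ⟶ L, DerivedCategory.Qh.map f₁ = DerivedCategory.Qh.map f₂ →
      ∃ (L' : HomotopyCategory A (ComplexShape.up ℤ)) (m n : ℤ) (_ : CochainComplex.IsStrictlyGE L'.as m) (_ : CochainComplex.IsStrictlyLE L'.as n) (t : L ⟶ L'),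
        HomotopyCategory.quasiIso A (ComplexShape.up ℤ) t ∧ f₁ ≫ t = f₂ ≫ t) := by
  obtain ⟨X, rfl⟩ := HomotopyCategory.quotient_obj_surjective K
  obtain ⟨Y, rfl⟩ := HomotopyCategory.quotient_obj_surjective L
  have hX : CochainComplex.IsStrictlyLE X b :=
    ‹CochainComplex.IsStrictlyLE ((HomotopyCategory.quotient A (ComplexShape.up ℤ)).obj X).as b›
  have hY1 : CochainComplex.IsStrictlyGE Y a' :=
    ‹CochainComplex.IsStrictlyGE ((HomotopyCategory.quotient A (ComplexShape.up ℤ)).obj Y).as a'›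
  have hY2 : CochainComplex.IsStrictlyLE Y b' :=
    ‹CochainComplex.IsStrictlyLE ((HomotopyCategory.quotient A (ComplexShape.up ℤ)).obj Y).as b'›
  constructor
  · intro φ
    obtain ⟨Y', m, n, hm, hn, f, t, ht, hft⟩ := exists_left_roof' X Y b a' b' φ
    exact ⟨(HomotopyCategory.quotient A _).obj Y', m, n, hm, hn,
      (HomotopyCategory.quotient A _).map f, (HomotopyCategory.quotient A _).map t,
      (HomotopyCategory.quotient_map_mem_quasiIso_iff t).2 ht, hft⟩
  · intro f₁ f₂ h
    obtain ⟨g₁, rfl⟩ := (HomotopyCategory.quotient A (ComplexShape.up ℤ)).map_surjective f₁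
    obtain ⟨g₂, rfl⟩ := (HomotopyCategory.quotient A (ComplexShape.up ℤ)).map_surjective f₂
    have h0 : Q.map (g₁ - g₂) = 0 := by
      rw [Functor.map_sub]
      exact sub_eq_zero.2 h
    obtain ⟨Y', m, n, hm, hn, t, ht, hgt⟩ := exists_postcomp_eq' X Y b a' b' (g₁ - g₂) h0
    refine ⟨(HomotopyCategory.quotient A _).obj Y', m, n, hm, hn,
      (HomotopyCategory.quotient A _).map t,
      (HomotopyCategory.quotient_map_mem_quasiIso_iff t).2 ht, ?_⟩
    rw [Preadditive.sub_comp, Functor.map_sub, sub_eq_zero, Functor.map_comp, Functor.map_comp] at hgt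
    exact hgt

end Groth.Agent.H6.Roofs
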