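import Mathlib
import Groth.Prelude.Def_CAlg
import Groth.Prelude.Def_FEt
import Groth.Agent.Lib.Helper6.S2ExtDepthGeo
import Groth.Agent.Lib.Helper1.Depth2Ext2

/-! S0292: the finite `S₂`-extension of a finite locally free cover of an open whose complement has
depth at least two. -/

universe u
set_option linter.style.haveILetI false
set_option autoImplicit false
open CategoryTheory CategoryTheory.Limits AlgebraicGeometry TopologicalSpace

namespace Groth.Agent.H6.S2ExtMain

variable {X : Scheme.{u}} [IsLocallyNoetherian X] (U : X.Opens)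
  (hU : ∀ x : X, x ∉ U → (2 : ℕ∞) ≤ LocCoh.depth (X.presheaf.stalk x) (X.presheaf.stalk x))

include hU in
theorem exists_S2_extension {W : Scheme.{u}} (w : W ⟶ (U : Scheme.{u})) [IsFinite w] [Flat w] :
    ∃ (Y : Scheme.{u}) (π : Y ⟶ X) (e : pullback π U.ι ≅ W), IsFinite π ∧
      e.hom ≫ w = pullback.snd π U.ι ∧
      ∀ y : Y, π y ∉ U →
        (2 : ℕ∞) ≤ LocCoh.depth (Y.presheaf.stalk y) (Y.presheaf.stalk y) := by
  obtain ⟨g, hg⟩ : ∃ g : W ⟶ X, g = w ≫ U.ι := ⟨_, rfl⟩
  haveI : QuasiCompact g := hg ▸ inferInstance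
  haveI : QuasiSeparated g := hg ▸ inferInstance
  have hfinapp : ∀ O : X.Opens, IsAffineOpen O → (g.app O).hom.Finite := by
    intro O hO
    rw [hg]
    exact S2ExtGeo.app_finite U hU w O hO
  -- the comparison of sections
  have key : ∀ (O : X.Opens) (hO : IsAffineOpen O),
      ∃ σ : Γ(g.normalization, g.fromNormalization ⁻¹ᵁ O) →+* Γ(W, g ⁻¹ᵁ O),
        Function.Bijective σ ∧ σ.comp (g.fromNormalization.app O).hom = (g.app O).hom := by
    intro O hO
    letI alg : Algebra Γ(X, O) Γ(W, g ⁻¹ᵁ O) := (g.app O).hom.toAlgebra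
    haveI : Module.Finite Γ(X, O) Γ(W, g ⁻¹ᵁ O) := hfinapp O hO
    have htop : integralClosure Γ(X, O) Γ(W, g ⁻¹ᵁ O) = ⊤ :=
      integralClosure_eq_top_iff.mpr inferInstance
    refine ⟨(integralClosure Γ(X, O) Γ(W, g ⁻¹ᵁ O)).val.toRingHom.comp
      (g.normalizationObjIso hO).hom.hom, ?_, ?_⟩
    · have hb : Function.Bijective (g.normalizationObjIso hO).hom.hom :=
        ConcreteCategory.bijective_of_isIso (g.normalizationObjIso hO).hom
      constructor
      · intro a b hab
        apply hb.1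
        exact Subtype.val_injective hab
      · intro b
        obtain ⟨a, ha⟩ := hb.2 ⟨b, by rw [htop]; exact Algebra.mem_top⟩
        refine ⟨a, ?_⟩
        show ((g.normalizationObjIso hO).hom.hom a).1 = b
        rw [ha]
    · rw [g.fromNormalization_app hO]
      apply RingHom.ext
      intro a
      have h1 : ∀ z, (g.normalizationObjIso hO).hom.hom ((g.normalizationObjIso hO).inv.hom z) = z := by
        intro z
        rw [← RingHom.comp_apply, ← CommRingCat.hom_comp, Iso.inv_hom_id]
        rfl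
      show (integralClosure Γ(X, O) Γ(W, g ⁻¹ᵁ O)).val ((g.normalizationObjIso hO).hom.hom
        ((g.normalizationObjIso hO).inv.hom (algebraMap _ _ a))) = _
      rw [h1]
      rfl
  haveI hπfin : IsFinite g.fromNormalization := by
    refine ⟨fun O hO => ?_⟩
    obtain ⟨σ, hσ, hσψ⟩ := key O hO
    have h1 : (σ.comp (g.fromNormalization.app O).hom).Finite := hσψ ▸ hfinapp O hO
    let e := RingEquiv.ofBijective σ hσ
    have h2 : (g.fromNormalization.app O).hom =
        (e.symm : _ →+* _).comp (σ.comp (g.fromNormalization.app O).hom) := by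
      apply RingHom.ext
      intro a
      show _ = e.symm (σ ((g.fromNormalization.app O).hom a))
      exact (e.symm_apply_apply _).symm
    rw [h2]
    exact RingHom.Finite.comp (RingHom.Finite.of_surjective _ e.symm.surjective) h1
  have hs : pullback.fst g U.ι ≫ w = pullback.snd g U.ι := by
    rw [← cancel_mono U.ι, Category.assoc, ← hg]; exact pullback.condition
  haveI : IsIso (pullback.fst g U.ι) := by
    refine ⟨⟨pullback.lift (𝟙 W) w (by rw [Category.id_comp, hg]), ?_, pullback.lift_fst _ _ _⟩⟩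
    apply pullback.hom_ext
    · rw [Category.assoc, pullback.lift_fst, Category.comp_id, Category.id_comp]
    · rw [Category.assoc, pullback.lift_snd, Category.id_comp]; exact hs
  haveI : IsIntegralHom (pullback.snd g U.ι) := by
    rw [← hs]; infer_instance
  let e : pullback g.fromNormalization U.ι ≅ W :=
    (asIso (g.normalizationPullback U.ι)).symm ≪≫
      (asIso (pullback.snd g U.ι).toNormalization).symm ≪≫ asIso (pullback.fst g U.ι)
  have he : e.hom ≫ w = pullback.snd g.fromNormalization U.ι := by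
    change (inv (g.normalizationPullback U.ι) ≫ inv (pullback.snd g U.ι).toNormalization ≫
      pullback.fst g U.ι) ≫ w = _
    rw [Category.assoc, Category.assoc, hs, IsIso.inv_comp_eq, IsIso.inv_comp_eq,
      Scheme.Hom.normalizationPullback_snd, Scheme.Hom.toNormalization_fromNormalization]
  refine ⟨g.normalization, g.fromNormalization, e, hπfin, he, ?_⟩
  intro y hyU
  haveI : IsLocallyNoetherian g.normalization :=
    LocallyOfFiniteType.isLocallyNoetherian g.fromNormalization
  obtain ⟨_, ⟨O, hO, rfl⟩, hyO, -⟩ := X.isBasis_affineOpens.exists_subset_of_mem_open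
    (Set.mem_univ (g.fromNormalization y)) isOpen_univ
  have hO : IsAffineOpen O := hO
  have hOY : IsAffineOpen (g.fromNormalization ⁻¹ᵁ O) := hO.preimage g.fromNormalization
  have hyOY : y ∈ g.fromNormalization ⁻¹ᵁ O := hyO
  obtain ⟨q, hq⟩ : ∃ q, hOY.fromSpec q = y := ⟨_, hOY.fromSpec_primeIdealOf ⟨y, hyOY⟩⟩
  subst hq
  rw [Groth.Agent.H1.Depth2Ext.depth_stalk_eq hOY q hyOY]
  haveI : IsNoetherianRing Γ(g.normalization, g.fromNormalization ⁻¹ᵁ O) :=
    IsLocallyNoetherian.component_noetherian ⟨_, hOY⟩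
  obtain ⟨T, f, hfV, x, hx, y', hy', hreg, hpair⟩ := S2ExtDepthGeo.exists_pair U hU w O hO
  rw [← hg] at hreg hpair
  obtain ⟨σ, hσ, hσψ⟩ := key O hO
  refine S2ExtDepthAlg.two_le_depth_of_pair_ringHom (g.app O).hom (g.fromNormalization.app O).hom
    σ hσ hσψ (Ideal.span (Set.range fun i : T => f i.1)) x y' hx hy' hreg hpair q ?_
  rw [Ideal.map_span, Ideal.span_le]
  rintro _ ⟨_, ⟨i, rfl⟩, rfl⟩
  by_contra hnot
  apply hyU
  have h1 : q ∈ hOY.fromSpec ⁻¹ᵁ
      (g.normalization.basicOpen ((g.fromNormalization.app O).hom (f i.1))) := by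
    rw [hOY.fromSpec_preimage_basicOpen]
    exact hnot
  have h2 : hOY.fromSpec q ∈ g.fromNormalization ⁻¹ᵁ X.basicOpen (f i.1) := by
    rw [Scheme.preimage_basicOpen]
    exact h1
  exact (hfV i.1 h2).1

include hU in
/-- **S0292**. -/
theorem s0292 (V : FEt.Cat (U : Scheme.{u})) :
    ∃ (Y : Scheme.{u}) (π : Y ⟶ X) (e : pullback π U.ι ≅ V.left), IsFinite π ∧
      e.hom ≫ V.hom = pullback.snd π U.ι ∧
      ∀ y : Y, π.base y ∉ U →
        (2 : ℕ∞) ≤ LocCoh.depth (Y.presheaf.stalk y) (Y.presheaf.stalk y) := by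
  haveI : IsFinite V.hom := V.prop.1
  haveI : Etale V.hom := V.prop.2
  exact exists_S2_extension U hU V.hom

end Groth.Agent.H6.S2ExtMain
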