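import Mathlib
import Groth.Agent.Lib.Helper6.HEAb

set_option autoImplicit false
universe u
open CategoryTheory CategoryTheory.Limits Opposite AlgebraicTopology
  AlgebraicTopology.DoldKan

namespace Groth.Agent.H6.SAbHtpy

open HEAb

/-- all faces vanish -/
def NC (Y : SimplicialObject AddCommGrpCat.{u}) :
    (n : ℕ) → (Y.obj (op (SimplexCategory.mk n))) → Prop
  | 0, _ => True
  | (m + 1), x => ∀ i : Fin (m + 2), Y.δ i x = 0

/-- higher faces vanish -/
def HV (Y : SimplicialObject AddCommGrpCat.{u}) :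
    (n : ℕ) → (Y.obj (op (SimplexCategory.mk n))) → Prop
  | 0, _ => True
  | (m + 1), x => ∀ i : Fin (m + 1), Y.δ i.succ x = 0

open Simplicial

/-! ### generalities on `AddCommGrpCat` -/

theorem sum_apply {M N : AddCommGrpCat.{u}} {α : Type*} (s : Finset α) (f : α → (M ⟶ N)) (z : M) :
    (∑ i ∈ s, f i) z = ∑ i ∈ s, f i z := by
  classical
  induction s using Finset.induction_on with
  | empty => simp
  | insert a s ha ih =>
    rw [Finset.sum_insert ha, Finset.sum_insert ha, AddCommGrpCat.hom_add_apply, ih]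

theorem zsmul_apply {M N : AddCommGrpCat.{u}} (k : ℤ) (f : M ⟶ N) (z : M) :
    (k • f) z = k • f z := rfl

variable (Y : SimplicialObject AddCommGrpCat.{u})

theorem d_apply (m : ℕ) (z : Y _⦋m + 1⦌) :
    (AlternatingFaceMapComplex.obj Y).d (m + 1) m z =
      ∑ i : Fin (m + 2), (-1 : ℤ) ^ (i : ℕ) • Y.δ i z := by
  rw [AlternatingFaceMapComplex.obj_d_eq, sum_apply]
  rfl

theorem d_of_HV (m : ℕ) (z : Y _⦋m + 1⦌) (hz : HV Y (m + 1) z) :
    (AlternatingFaceMapComplex.obj Y).d (m + 1) m z = Y.δ 0 z := by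
  rw [d_apply, Fin.sum_univ_succ]
  have : ∀ i : Fin (m + 1), (-1 : ℤ) ^ ((i.succ : Fin (m + 2)) : ℕ) • Y.δ i.succ z = 0 := by
    intro i
    rw [hz i, smul_zero]
  rw [Finset.sum_eq_zero (fun i _ => this i), add_zero]
  simp

theorem NC_of_HV_of_d (m : ℕ) (z : Y _⦋m + 1⦌) (hz : HV Y (m + 1) z)
    (hd : (AlternatingFaceMapComplex.obj Y).d (m + 1) m z = 0) : NC Y (m + 1) z := by
  intro i
  cases i using Fin.cases with
  | zero => rw [← d_of_HV Y m z hz, hd]
  | succ i => exact hz i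

theorem isCyc_of_NC (n : ℕ) (x : Y _⦋n⦌) (hx : NC Y n x) :
    IsCyc (AlternatingFaceMapComplex.obj Y) n x := by
  cases n with
  | zero => trivial
  | succ m =>
    show (AlternatingFaceMapComplex.obj Y).d (m + 1) m x = 0
    rw [d_apply]
    apply Finset.sum_eq_zero
    intro i _
    rw [hx i, smul_zero]

theorem HV_of_NC (n : ℕ) (x : Y _⦋n⦌) (hx : NC Y n x) : HV Y n x := by
  cases n with
  | zero => trivial
  | succ m => exact fun i => hx i.succ

/-! ### the projector `PInfty` on elements -/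

/-- the projector on elements -/
noncomputable def PI (n : ℕ) (z : Y _⦋n⦌) : Y _⦋n⦌ := (PInfty.f n : Y _⦋n⦌ ⟶ Y _⦋n⦌) z

theorem PInfty_HV (n : ℕ) (z : Y _⦋n⦌) : HV Y n (PI Y n z) := by
  unfold PI
  cases n with
  | zero => trivial
  | succ m =>
    intro i
    have h := HigherFacesVanish.of_P (X := Y) (m + 1) m i (by omega)
    have h2 := ConcreteCategory.congr_hom h z
    rw [PInfty_f]
    exact h2

theorem PInfty_fix (n : ℕ) (x : Y _⦋n⦌) (hx : HV Y n x) :
    PI Y n x = x := by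
  unfold PI
  cases n with
  | zero => rfl
  | succ m =>
    let φ : AddCommGrpCat.of (ULift.{u} ℤ) ⟶ Y _⦋m + 1⦌ :=
      AddCommGrpCat.ofHom ((zmultiplesHom _ x).comp AddEquiv.ulift.toAddMonoidHom)
    have hφ : φ ⟨1⟩ = x := by
      show (zmultiplesHom _ x) 1 = x
      simp
    have hv : HigherFacesVanish (m + 1) φ := by
      intro j _
      ext t
      show Y.δ j.succ (φ t) = 0
      have : φ t = t.down • x := by
        show (zmultiplesHom _ x) t.down = _
        simp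
      rw [this, map_zsmul, hx j, smul_zero]
    have h := ConcreteCategory.congr_hom (HigherFacesVanish.comp_P_eq_self hv) ⟨1⟩
    rw [PInfty_f]
    rw [← hφ]
    exact h

theorem PInfty_d (m : ℕ) (z : Y _⦋m + 1⦌) :
    (AlternatingFaceMapComplex.obj Y).d (m + 1) m (PI Y (m + 1) z) =
      PI Y m ((AlternatingFaceMapComplex.obj Y).d (m + 1) m z) :=
  (ConcreteCategory.congr_hom ((PInfty (X := Y)).comm (m + 1) m) z)

theorem PInfty_htpy (n : ℕ) (z : Y _⦋n⦌) (hz : IsCyc (AlternatingFaceMapComplex.obj Y) n z) :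
    ∃ b : Y _⦋n + 1⦌, (AlternatingFaceMapComplex.obj Y).d (n + 1) n b = PI Y n z - z := by
  have hc := (homotopyPInftyToId Y).comm n
  have h1 := ConcreteCategory.congr_hom hc z
  rw [AddCommGrpCat.hom_add_apply, AddCommGrpCat.hom_add_apply,
    prevD_eq _ (show (ComplexShape.down ℕ).Rel (n + 1) n from rfl)] at h1
  have h2 : (dNext n (homotopyPInftyToId Y).hom) z = 0 := by
    show ((homotopyPInftyToId Y).hom _ _) ((AlternatingFaceMapComplex.obj Y).d n _ z) = 0
    have h3 := (isCyc_iff (AlternatingFaceMapComplex.obj Y) n z).1 hz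
    exact (congrArg _ h3).trans (map_zero _)
  rw [h2, zero_add] at h1
  refine ⟨(homotopyPInftyToId Y).hom n (n + 1) z, ?_⟩
  unfold PI
  rw [h1]
  show _ = _ + z - z
  rw [add_sub_cancel_right]
  rfl

/-- every cycle is homologous to a normalized cycle -/
theorem normalize (n : ℕ) (z : Y _⦋n⦌) (hz : IsCyc (AlternatingFaceMapComplex.obj Y) n z) :
    ∃ y : Y _⦋n⦌, NC Y n y ∧
      ∃ b : Y _⦋n + 1⦌, (AlternatingFaceMapComplex.obj Y).d (n + 1) n b = y - z := by
  refine ⟨PI Y n z, ?_, PInfty_htpy Y n z hz⟩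
  cases n with
  | zero => trivial
  | succ m =>
    apply NC_of_HV_of_d Y m _ (PInfty_HV Y (m + 1) z)
    rw [PInfty_d]
    have : (AlternatingFaceMapComplex.obj Y).d (m + 1) m z = 0 := hz
    rw [this]
    exact map_zero (PInfty.f m : Y _⦋m⦌ ⟶ Y _⦋m⦌).hom

/-- a normalized cycle which is a boundary is a `d₀`-boundary of a normalized chain -/
theorem boundary_normal (n : ℕ) (x : Y _⦋n⦌) (hx : NC Y n x) (w : Y _⦋n + 1⦌)
    (hw : (AlternatingFaceMapComplex.obj Y).d (n + 1) n w = x) :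
    ∃ w' : Y _⦋n + 1⦌, Y.δ 0 w' = x ∧ HV Y (n + 1) w' := by
  refine ⟨PI Y (n + 1) w, ?_, PInfty_HV Y (n + 1) w⟩
  rw [← d_of_HV Y n _ (PInfty_HV Y (n + 1) w), PInfty_d, hw]
  exact PInfty_fix Y n x (HV_of_NC Y n x hx)

/-! ### homotopies of underlying simplicial sets -/

section lemmaA

variable (X : SimplicialObject AddCommGrpCat.{u})

/-- underlying simplicial set -/
abbrev U (X : SimplicialObject AddCommGrpCat.{u}) : SSet.{u} := X ⋙ forget AddCommGrpCat.{u}

/-- free simplicial abelian group on the underlying simplicial set -/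
abbrev ZU (X : SimplicialObject AddCommGrpCat.{u}) : SimplicialObject AddCommGrpCat.{u} :=
  ((SimplicialObject.whiskering (Type u) AddCommGrpCat.{u}).obj AddCommGrpCat.free).obj (U X)

/-- generator -/
def gen {Δ : SimplexCategoryᵒᵖ} (x : X.obj Δ) : (ZU X).obj Δ :=
  FreeAbelianGroup.of (α := (U X).obj Δ) x

/-- evaluation -/
def ev : ZU Y ⟶ Y where
  app Δ := AddCommGrpCat.ofHom (FreeAbelianGroup.lift (fun y : (U Y).obj Δ => (y : Y.obj Δ)))
  naturality Δ Δ' θ := by
    ext : 1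
    apply FreeAbelianGroup.lift_ext
    intro y
    show FreeAbelianGroup.lift _ (FreeAbelianGroup.map _ (FreeAbelianGroup.of y)) =
      Y.map θ (FreeAbelianGroup.lift _ (FreeAbelianGroup.of y))
    rw [FreeAbelianGroup.map_of_apply, FreeAbelianGroup.lift_apply_of,
      FreeAbelianGroup.lift_apply_of]
    rfl

theorem ev_gen {Δ : SimplexCategoryᵒᵖ} (y : Y.obj Δ) : (ev Y).app Δ (gen Y y) = y :=
  FreeAbelianGroup.lift_apply_of _ _

variable {X Y}

/-- application of a map of underlying simplicial sets -/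
def ap (a : U X ⟶ U Y) {Δ : SimplexCategoryᵒᵖ} (x : X.obj Δ) : Y.obj Δ :=
  a.app Δ (show (U X).obj Δ from x)

theorem whisker_gen (a : U X ⟶ U Y) {Δ : SimplexCategoryᵒᵖ} (x : X.obj Δ) :
    (((SimplicialObject.whiskering (Type u) AddCommGrpCat.{u}).obj AddCommGrpCat.free).map a).app Δ
      (gen X x) = gen Y (ap a x) :=
  FreeAbelianGroup.map_of_apply _

theorem δ_gen (m : ℕ) (i : Fin (m + 2)) (x : X _⦋m + 1⦌) :
    (ZU X).δ i (gen X x) = gen X (X.δ i x) :=
  FreeAbelianGroup.map_of_apply _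

theorem isCyc_gen (n : ℕ) (x : X _⦋n⦌) (hx : NC X n x) :
    IsCyc (AlternatingFaceMapComplex.obj (ZU X)) n (gen X x - gen X (0 : X _⦋n⦌)) := by
  cases n with
  | zero => trivial
  | succ m =>
    show (AlternatingFaceMapComplex.obj (ZU X)).d (m + 1) m _ = 0
    rw [d_apply]
    apply Finset.sum_eq_zero
    intro i _
    rw [map_sub, δ_gen, δ_gen, hx i, map_zero, sub_self, smul_zero]

theorem htpy_boundary {a b : U X ⟶ U Y} (H : SimplicialObject.Homotopy a b) (n : ℕ)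
    (x : X _⦋n⦌) (hx : NC X n x) :
    ∃ w : Y _⦋n + 1⦌, (AlternatingFaceMapComplex.obj Y).d (n + 1) n w =
      (ap a x - ap a (0 : X _⦋n⦌)) - (ap b x - ap b (0 : X _⦋n⦌)) := by
  let s := (H.whiskerRight AddCommGrpCat.free).toChainHomotopy
  let E := (alternatingFaceMapComplex AddCommGrpCat.{u}).map (ev Y)
  let c : (ZU X) _⦋n⦌ := gen X x - gen X (0 : X _⦋n⦌)
  have hc : IsCyc (AlternatingFaceMapComplex.obj (ZU X)) n c := isCyc_gen n x hx
  have h1 := ConcreteCategory.congr_hom (s.comm n) c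
  rw [AddCommGrpCat.hom_add_apply, AddCommGrpCat.hom_add_apply,
    prevD_eq _ (show (ComplexShape.down ℕ).Rel (n + 1) n from rfl)] at h1
  have h2 : (dNext n s.hom) c = 0 := by
    show (s.hom _ _) ((AlternatingFaceMapComplex.obj (ZU X)).d n _ c) = 0
    have h3 := (isCyc_iff (AlternatingFaceMapComplex.obj (ZU X)) n c).1 hc
    exact (congrArg _ h3).trans (map_zero _)
  rw [h2, zero_add] at h1
  -- apply `E`
  have h4 := congrArg (fun t => (ev Y).app (op ⦋n⦌) t) h1
  refine ⟨E.f (n + 1) (s.hom n (n + 1) c), ?_⟩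
  have hE := ConcreteCategory.congr_hom (E.comm (n + 1) n) (s.hom n (n + 1) c)
  have e1 : (ev Y).app (op ⦋n⦌)
      ((((SimplicialObject.whiskering (Type u) AddCommGrpCat.{u}).obj
        AddCommGrpCat.free).map a).app (op ⦋n⦌) c) = ap a x - ap a (0 : X _⦋n⦌) := by
    show (ev Y).app (op ⦋n⦌) ((((SimplicialObject.whiskering (Type u) AddCommGrpCat.{u}).obj
        AddCommGrpCat.free).map a).app (op ⦋n⦌) (gen X x - gen X (0 : X _⦋n⦌))) = _
    rw [map_sub, whisker_gen, whisker_gen, map_sub, ev_gen, ev_gen]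
  have e2 : (ev Y).app (op ⦋n⦌)
      ((((SimplicialObject.whiskering (Type u) AddCommGrpCat.{u}).obj
        AddCommGrpCat.free).map b).app (op ⦋n⦌) c) = ap b x - ap b (0 : X _⦋n⦌) := by
    show (ev Y).app (op ⦋n⦌) ((((SimplicialObject.whiskering (Type u) AddCommGrpCat.{u}).obj
        AddCommGrpCat.free).map b).app (op ⦋n⦌) (gen X x - gen X (0 : X _⦋n⦌))) = _
    rw [map_sub, whisker_gen, whisker_gen, map_sub, ev_gen, ev_gen]
  obtain ⟨dw, hdw⟩ : ∃ dw : Y _⦋n⦌, dw =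
      (AlternatingFaceMapComplex.obj Y).d (n + 1) n (E.f (n + 1) (s.hom n (n + 1) c)) := ⟨_, rfl⟩
  have h5 : ap a x - ap a (0 : X _⦋n⦌) = dw + (ap b x - ap b (0 : X _⦋n⦌)) := by
    rw [← e1, ← e2, hdw]
    refine h4.trans ?_
    show (ev Y).app (op ⦋n⦌) (_ + _) = _
    rw [map_add]
    congr 1
    exact hE.symm
  rw [h5, add_sub_cancel_right]
  exact hdw.symm

end lemmaA

/-! ### the main theorem -/

section main

variable {X Y : SimplicialObject AddCommGrpCat.{u}}

theorem ap_whisker (f : X ⟶ Y) {Δ : SimplexCategoryᵒᵖ} (x : X.obj Δ) :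
    ap (Functor.whiskerRight f (forget AddCommGrpCat.{u})) x = f.app Δ x := rfl

theorem ap_comp {Z : SimplicialObject AddCommGrpCat.{u}} (a : U X ⟶ U Y) (b : U Y ⟶ U Z)
    {Δ : SimplexCategoryᵒᵖ} (x : X.obj Δ) : ap (a ≫ b) x = ap b (ap a x) := rfl

theorem ap_id {Δ : SimplexCategoryᵒᵖ} (x : X.obj Δ) : ap (𝟙 (U X)) x = x := rfl

theorem ap_map (g : U Y ⟶ U X) {Δ Δ' : SimplexCategoryᵒᵖ} (θ : Δ ⟶ Δ') (y : Y.obj Δ) :
    X.map θ (ap g y) = ap g (Y.map θ y) := by
  have h := ConcreteCategory.congr_hom (g.naturality θ) (id y : (U Y).obj Δ)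
  exact h.symm

/-- the pointed correction of `g` -/
def g' (g : U Y ⟶ U X) {Δ : SimplexCategoryᵒᵖ} (y : Y.obj Δ) : X.obj Δ :=
  ap g y - ap g (0 : Y.obj Δ)

theorem g'_zero (g : U Y ⟶ U X) {Δ : SimplexCategoryᵒᵖ} : g' g (0 : Y.obj Δ) = 0 := sub_self _

theorem g'_map (g : U Y ⟶ U X) {Δ Δ' : SimplexCategoryᵒᵖ} (θ : Δ ⟶ Δ') (y : Y.obj Δ) :
    X.map θ (g' g y) = g' g (Y.map θ y) := by
  unfold g'
  rw [map_sub, ap_map, ap_map, map_zero]

theorem f_map (f : X ⟶ Y) {Δ Δ' : SimplexCategoryᵒᵖ} (θ : Δ ⟶ Δ') (x : X.obj Δ) :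
    Y.map θ (f.app Δ x) = f.app Δ' (X.map θ x) :=
  (ConcreteCategory.congr_hom (f.naturality θ) x).symm

theorem NC_g' (g : U Y ⟶ U X) (n : ℕ) (y : Y _⦋n⦌) (hy : NC Y n y) : NC X n (g' g y) := by
  cases n with
  | zero => trivial
  | succ m =>
    intro i
    have h := g'_map g (SimplexCategory.δ i).op y
    have h2 : Y.map (SimplexCategory.δ i).op y = 0 := hy i
    rw [h2, g'_zero] at h
    exact h

theorem NC_f (f : X ⟶ Y) (n : ℕ) (x : X _⦋n⦌) (hx : NC X n x) :
    NC Y n (f.app (op ⦋n⦌) x) := by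
  cases n with
  | zero => trivial
  | succ m =>
    intro i
    have h := f_map f (SimplexCategory.δ i).op x
    have h2 : X.map (SimplexCategory.δ i).op x = 0 := hx i
    rw [h2, map_zero] at h
    exact h

theorem main (f : X ⟶ Y) (g : U Y ⟶ U X)
    (hX : Nonempty (SSet.Homotopy (Functor.whiskerRight f (forget AddCommGrpCat.{u}) ≫ g) (𝟙 _)) ∨
      Nonempty (SSet.Homotopy (𝟙 _) (Functor.whiskerRight f (forget AddCommGrpCat.{u}) ≫ g)))
    (hY : Nonempty (SSet.Homotopy (g ≫ Functor.whiskerRight f (forget AddCommGrpCat.{u})) (𝟙 _)) ∨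
      Nonempty (SSet.Homotopy (𝟙 _) (g ≫ Functor.whiskerRight f (forget AddCommGrpCat.{u})))) :
    QuasiIso ((AlgebraicTopology.alternatingFaceMapComplex AddCommGrpCat.{u}).map f) := by
  -- consequences of the homotopies
  have hX' : ∀ (n : ℕ) (x : X _⦋n⦌), NC X n x → ∃ w : X _⦋n + 1⦌,
      (AlternatingFaceMapComplex.obj X).d (n + 1) n w = g' g (f.app (op ⦋n⦌) x) - x := by
    intro n x hx
    have key : ∀ (a b : U X ⟶ U X), a = Functor.whiskerRight f (forget AddCommGrpCat.{u}) ≫ g →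
        b = 𝟙 _ → (ap a x - ap a (0 : X _⦋n⦌)) - (ap b x - ap b (0 : X _⦋n⦌)) =
          g' g (f.app (op ⦋n⦌) x) - x := by
      rintro a b rfl rfl
      rw [ap_comp, ap_comp, ap_whisker, ap_whisker, ap_id, ap_id, map_zero, sub_zero]
      rfl
    rcases hX with ⟨⟨H⟩⟩ | ⟨⟨H⟩⟩
    · obtain ⟨w, hw⟩ := htpy_boundary H.toSimplicialObjectHomotopy n x hx
      exact ⟨w, hw.trans (key _ _ rfl rfl)⟩
    · obtain ⟨w, hw⟩ := htpy_boundary H.toSimplicialObjectHomotopy n x hx
      refine ⟨-w, ?_⟩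
      rw [map_neg, hw, neg_sub]
      exact key _ _ rfl rfl
  have hY' : ∀ (n : ℕ) (y : Y _⦋n⦌), NC Y n y → ∃ w : Y _⦋n + 1⦌,
      (AlternatingFaceMapComplex.obj Y).d (n + 1) n w = f.app (op ⦋n⦌) (g' g y) - y := by
    intro n y hy
    have key : ∀ (a b : U Y ⟶ U Y), a = g ≫ Functor.whiskerRight f (forget AddCommGrpCat.{u}) →
        b = 𝟙 _ → (ap a y - ap a (0 : Y _⦋n⦌)) - (ap b y - ap b (0 : Y _⦋n⦌)) =
          f.app (op ⦋n⦌) (g' g y) - y := by
      rintro a b rfl rfl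
      rw [ap_comp, ap_comp, ap_whisker, ap_whisker, ap_id, ap_id, sub_zero, ← map_sub]
      rfl
    rcases hY with ⟨⟨H⟩⟩ | ⟨⟨H⟩⟩
    · obtain ⟨w, hw⟩ := htpy_boundary H.toSimplicialObjectHomotopy n y hy
      exact ⟨w, hw.trans (key _ _ rfl rfl)⟩
    · obtain ⟨w, hw⟩ := htpy_boundary H.toSimplicialObjectHomotopy n y hy
      refine ⟨-w, ?_⟩
      rw [map_neg, hw, neg_sub]
      exact key _ _ rfl rfl
  show QuasiIso (AlternatingFaceMapComplex.map f)
  apply quasiIso_of_elts_nat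
  · -- surjectivity
    intro n (z' : Y _⦋n⦌) hz'
    obtain ⟨y, hy, b, hb⟩ := normalize Y n z' hz'
    obtain ⟨w, hw⟩ := hY' n y hy
    refine ⟨g' g y, isCyc_of_NC X n _ (NC_g' g n y hy), w + b, ?_⟩
    rw [map_add, hw, hb, AlternatingFaceMapComplex.map_f]
    exact sub_add_sub_cancel _ _ _
  · -- injectivity
    rintro n (z : X _⦋n⦌) hz ⟨(b' : Y _⦋n + 1⦌), hb'⟩
    obtain ⟨x, hx, b0, hb0⟩ := normalize X n z hz
    have hfx : (AlternatingFaceMapComplex.obj Y).d (n + 1) n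
        ((b' : Y _⦋n + 1⦌) + (f.app (op ⦋n + 1⦌) b0 : Y _⦋n + 1⦌)) = f.app (op ⦋n⦌) x := by
      have hcomm := ConcreteCategory.congr_hom
        ((AlternatingFaceMapComplex.map f).comm (n + 1) n) b0
      rw [AlternatingFaceMapComplex.map_f, AlternatingFaceMapComplex.map_f] at hcomm
      have hcomm' : (AlternatingFaceMapComplex.obj Y).d (n + 1) n (f.app (op ⦋n + 1⦌) b0) =
          f.app (op ⦋n⦌) ((AlternatingFaceMapComplex.obj X).d (n + 1) n b0) := hcomm
      rw [AlternatingFaceMapComplex.map_f] at hb'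
      rw [map_add, hb', hcomm', hb0, map_sub]
      exact add_sub_cancel _ _
    obtain ⟨w', hw'0, hw'⟩ := boundary_normal Y n _ (NC_f f n x hx) _ hfx
    have hv : HV X (n + 1) (g' g w') := by
      intro i
      have h := g'_map g (SimplexCategory.δ i.succ).op w'
      have h2 : Y.map (SimplexCategory.δ i.succ).op w' = 0 := hw' i
      rw [h2, g'_zero] at h
      exact h
    have hdv : (AlternatingFaceMapComplex.obj X).d (n + 1) n (g' g w') =
        g' g (f.app (op ⦋n⦌) x) := by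
      rw [d_of_HV X n _ hv]
      have h := g'_map g (SimplexCategory.δ (0 : Fin (n + 2))).op w'
      have h2 : Y.map (SimplexCategory.δ (0 : Fin (n + 2))).op w' = f.app (op ⦋n⦌) x := hw'0
      rw [h2] at h
      exact h
    obtain ⟨w, hw⟩ := hX' n x hx
    refine ⟨g' g w' - w - b0, ?_⟩
    rw [map_sub, map_sub, hdv, hw, hb0, sub_sub_cancel, sub_sub_cancel]

end main

end Groth.Agent.H6.SAbHtpy
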