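import Mathlib

/-! # `D(A) ⥤ D(A/P)` is essentially surjective -/

set_option autoImplicit false
universe w w' v v' u u'
open CategoryTheory Limits

namespace Groth.Agent.H6.SQEss

variable {A : Type u} [Category.{v} A] [Abelian A] (P : ObjectProperty A) [P.IsSerreClass]
  {Q : Type u'} [Category.{v'} Q] [Abelian Q] (L : A ⥤ Q) [L.IsLocalization P.isoModSerre]

section Stage1

variable (Y : CochainComplex Q ℤ)

/-- lifts of the terms -/
abbrev Lift (i : ℤ) := Σ X : A, (L.obj X ≅ Y.X i)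

include P in
lemma nonempty_lift (i : ℤ) : Nonempty (Lift L Y i) := by
  have := Localization.essSurj L P.isoModSerre
  exact ⟨⟨L.objPreimage (Y.X i), L.objObjPreimageIso (Y.X i)⟩⟩

include P in
lemma exists_up (i : ℤ) (s : Lift L Y i) :
    ∃ (s' : Lift L Y (i + 1)) (δ : s.1 ⟶ s'.1),
      L.map δ ≫ s'.2.hom = s.2.hom ≫ Y.d i (i + 1) := by
  obtain ⟨⟨X₁, e₁⟩⟩ := nonempty_lift P L Y (i + 1)
  obtain ⟨ψ, hψ⟩ := Localization.exists_leftFraction L P.isoModSerre
    (s.2.hom ≫ Y.d i (i + 1) ≫ e₁.inv)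
  haveI : IsIso (L.map ψ.s) := Localization.inverts L P.isoModSerre _ ψ.hs
  refine ⟨⟨ψ.Y', (asIso (L.map ψ.s)).symm ≪≫ e₁⟩, ψ.f, ?_⟩
  have h1 := ψ.map_comp_map_s L (Localization.inverts L P.isoModSerre)
  dsimp
  rw [← h1, ← hψ]
  simp

include P in
lemma exists_down (i : ℤ) (s : Lift L Y i) :
    ∃ (s' : Lift L Y (i - 1)) (δ : s'.1 ⟶ s.1),
      L.map δ ≫ s.2.hom = s'.2.hom ≫ Y.d (i - 1) i := by
  obtain ⟨⟨X₁, e₁⟩⟩ := nonempty_lift P L Y (i - 1)
  obtain ⟨ψ, hψ⟩ := Localization.exists_rightFraction L P.isoModSerre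
    (e₁.hom ≫ Y.d (i - 1) i ≫ s.2.inv)
  haveI : IsIso (L.map ψ.s) := Localization.inverts L P.isoModSerre _ ψ.hs
  refine ⟨⟨ψ.X', asIso (L.map ψ.s) ≪≫ e₁⟩, ψ.f, ?_⟩
  have h1 := ψ.map_s_comp_map L (Localization.inverts L P.isoModSerre)
  dsimp
  rw [← h1, ← hψ]
  simp

/-- the chosen lifts -/
noncomputable def lifts : ∀ i : ℤ, Lift L Y i := fun i =>
  Int.inductionOn' i 0 (nonempty_lift P L Y 0).some
    (fun k _ s => (exists_up P L Y k s).choose)
    (fun k _ s => (exists_down P L Y k s).choose)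

lemma exists_δ (i j : ℤ) (h : i + 1 = j) :
    ∃ δ : (lifts P L Y i).1 ⟶ (lifts P L Y j).1,
      L.map δ ≫ (lifts P L Y j).2.hom = (lifts P L Y i).2.hom ≫ Y.d i j := by
  by_cases hi : 0 ≤ i
  · subst h
    have e : lifts P L Y (i + 1) = (exists_up P L Y i (lifts P L Y i)).choose :=
      Int.inductionOn'_add_one hi
    rw [e]
    exact (exists_up P L Y i (lifts P L Y i)).choose_spec
  · have hj : j ≤ 0 := by omega
    obtain rfl : i = j - 1 := by omega
    have e : lifts P L Y (j - 1) = (exists_down P L Y j (lifts P L Y j)).choose :=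
      Int.inductionOn'_sub_one hj
    rw [e]
    exact (exists_down P L Y j (lifts P L Y j)).choose_spec

end Stage1

section Stage2

variable [L.Additive] (Y : CochainComplex Q ℤ)

/-- the lifted objects -/
noncomputable def X' (i : ℤ) : A := (lifts P L Y i).1

/-- the comparison isomorphisms -/
noncomputable def e' (i : ℤ) : L.obj (X' P L Y i) ≅ Y.X i := (lifts P L Y i).2

open Classical in
/-- the lifted differentials -/
noncomputable def δ (i j : ℤ) : X' P L Y i ⟶ X' P L Y j :=
  if h : i + 1 = j then (exists_δ P L Y i j h).choose else 0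

lemma δ_comm (i j : ℤ) (h : i + 1 = j) :
    L.map (δ P L Y i j) ≫ (e' P L Y j).hom = (e' P L Y i).hom ≫ Y.d i j := by
  rw [δ, dif_pos h]
  exact (exists_δ P L Y i j h).choose_spec

lemma δ_zero (i j : ℤ) (h : ¬ i + 1 = j) : δ P L Y i j = 0 := by
  rw [δ, dif_neg h]

lemma map_δ (i j : ℤ) (h : i + 1 = j) :
    L.map (δ P L Y i j) = (e' P L Y i).hom ≫ Y.d i j ≫ (e' P L Y j).inv := by
  rw [← Category.assoc, ← δ_comm P L Y i j h, Category.assoc, Iso.hom_inv_id, Category.comp_id]

/-- the defect of being a complex -/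
noncomputable def wmap (j : ℤ) : X' P L Y (j - 1 - 1) ⟶ X' P L Y j :=
  δ P L Y (j - 1 - 1) (j - 1) ≫ δ P L Y (j - 1) j

lemma map_wmap (j : ℤ) : L.map (wmap P L Y j) = 0 := by
  rw [wmap, L.map_comp, map_δ P L Y _ _ (by omega), map_δ P L Y _ _ (by omega)]
  simp

/-- the corrected objects -/
noncomputable def C (j : ℤ) : A := cokernel (wmap P L Y j)

/-- the projections -/
noncomputable def π (j : ℤ) : X' P L Y j ⟶ C P L Y j := cokernel.π (wmap P L Y j)

instance (j : ℤ) : Epi (π P L Y j) :=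
  inferInstanceAs (Epi (cokernel.π (wmap P L Y j)))

lemma isoModSerre_π (j : ℤ) : P.isoModSerre (π P L Y j) := by
  apply P.isoModSerre_of_epi
  exact (ObjectProperty.SerreClassLocalization.map_eq_zero_iff L P (wmap P L Y j)).1
    (map_wmap P L Y j)

instance (j : ℤ) : IsIso (L.map (π P L Y j)) :=
  Localization.inverts L P.isoModSerre _ (isoModSerre_π P L Y j)

lemma fac (i k j : ℤ) (h₁ : i + 1 = k) (h₂ : k + 1 = j) :
    δ P L Y i k ≫ δ P L Y k j ≫ π P L Y j = 0 := by
  obtain rfl : k = j - 1 := by omega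
  obtain rfl : i = j - 1 - 1 := by omega
  rw [← Category.assoc]
  exact cokernel.condition (wmap P L Y j)

lemma wmap_δ_π (i j : ℤ) : wmap P L Y i ≫ δ P L Y i j ≫ π P L Y j = 0 := by
  by_cases h : i + 1 = j
  · rw [wmap, Category.assoc, fac P L Y (i - 1) i j (by omega) h, comp_zero]
  · rw [δ_zero P L Y i j h, zero_comp, comp_zero]

/-- the corrected differentials -/
noncomputable def dC (i j : ℤ) : C P L Y i ⟶ C P L Y j :=
  cokernel.desc (wmap P L Y i) (δ P L Y i j ≫ π P L Y j) (wmap_δ_π P L Y i j)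

lemma π_dC (i j : ℤ) : π P L Y i ≫ dC P L Y i j = δ P L Y i j ≫ π P L Y j :=
  cokernel.π_desc _ _ _

/-- the corrected complex -/
noncomputable def cx : CochainComplex A ℤ where
  X := C P L Y
  d := dC P L Y
  shape i j h := by
    rw [← cancel_epi (π P L Y i), π_dC, δ_zero P L Y i j h, zero_comp, comp_zero]
  d_comp_d' i j k hij hjk := by
    rw [← cancel_epi (π P L Y i), ← Category.assoc, π_dC, Category.assoc, π_dC,
      fac P L Y i j k hij hjk, comp_zero]

/-- the comparison isomorphisms for the corrected complex -/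
noncomputable def θ (j : ℤ) : L.obj (C P L Y j) ≅ Y.X j :=
  (asIso (L.map (π P L Y j))).symm ≪≫ e' P L Y j

/-- the image of the corrected complex is isomorphic to the given complex -/
noncomputable def cxIso : (L.mapHomologicalComplex (ComplexShape.up ℤ)).obj (cx P L Y) ≅ Y :=
  HomologicalComplex.Hom.isoOfComponents (fun j => θ P L Y j) (by
    intro i j hij
    have hij' : i + 1 = j := hij
    change (θ P L Y i).hom ≫ Y.d i j = L.map (dC P L Y i j) ≫ (θ P L Y j).hom
    rw [← cancel_epi (L.map (π P L Y i))]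
    have h1 : L.map (π P L Y i) ≫ (θ P L Y i).hom = (e' P L Y i).hom := by
      simp [θ]
    have h2 : L.map (π P L Y j) ≫ (θ P L Y j).hom = (e' P L Y j).hom := by
      simp [θ]
    rw [← Category.assoc, h1, ← Category.assoc, ← L.map_comp, π_dC, L.map_comp, Category.assoc,
      h2, δ_comm P L Y i j hij'])

end Stage2

section Final

variable [L.Additive] [PreservesFiniteLimits L] [PreservesFiniteColimits L]
  [HasDerivedCategory.{w} A] [HasDerivedCategory.{w'} Q]

include P in
theorem main : L.mapDerivedCategory.EssSurj where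
  mem_essImage Y' := by
    let Y := DerivedCategory.Q.objPreimage Y'
    let e : DerivedCategory.Q.obj Y ≅ Y' := DerivedCategory.Q.objObjPreimageIso Y'
    exact ⟨DerivedCategory.Q.obj (cx P L Y),
      ⟨L.mapDerivedCategoryFactors.app (cx P L Y) ≪≫
        DerivedCategory.Q.mapIso (cxIso P L Y) ≪≫ e⟩⟩

end Final

end Groth.Agent.H6.SQEss
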