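import Mathlib
import Groth.Agent.Lib.Lead.DAdj.MapHC

/-! # `D(A) ⥤ D(A/P)` is a localization when `A ⥤ A/P` has a fully faithful left adjoint -/

set_option autoImplicit false
universe w w' v v' u u'
open CategoryTheory Limits Pretriangulated ZeroObject

namespace Groth.Agent.H6.SQLoc

section General

variable {A : Type u} [Category.{v} A] [Abelian A] [HasDerivedCategory.{w} A]

lemma isZero_iff_homology (X : DerivedCategory A) :
    IsZero X ↔ ∀ n : ℤ, IsZero ((DerivedCategory.homologyFunctor A n).obj X) := by
  constructor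
  · intro h n
    exact (DerivedCategory.homologyFunctor A n).map_isZero h
  · intro h
    have : IsIso (0 : X ⟶ 0) := by
      rw [DerivedCategory.isIso_iff]
      intro n
      exact ⟨⟨0, (h n).eq_of_src _ _,
        ((DerivedCategory.homologyFunctor A n).map_isZero (isZero_zero _)).eq_of_src _ _⟩⟩
    exact (isZero_zero _).of_iso (asIso (0 : X ⟶ 0))

instance : (DerivedCategory.Q (C := A)).mapArrow.EssSurj where
  mem_essImage f := by
    let g := DerivedCategory.Qh.mapArrow.objPreimage f
    let e : DerivedCategory.Qh.mapArrow.obj g ≅ f := DerivedCategory.Qh.mapArrow.objObjPreimageIso f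
    obtain ⟨f', hf'⟩ := (HomotopyCategory.quotient A (ComplexShape.up ℤ)).map_surjective
      (X := g.left.as) (Y := g.right.as) g.hom
    refine ⟨Arrow.mk f', ⟨?_ ≪≫ e⟩⟩
    refine Arrow.isoMk (Iso.refl _) (Iso.refl _) ?_
    have h : DerivedCategory.Q.map f' = DerivedCategory.Qh.map g.hom := by
      change DerivedCategory.Qh.map ((HomotopyCategory.quotient A (ComplexShape.up ℤ)).map f') = _
      rw [hf']
      rfl
    change 𝟙 _ ≫ DerivedCategory.Qh.map g.hom = DerivedCategory.Q.map f' ≫ 𝟙 _
    rw [h, Category.id_comp, Category.comp_id]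

end General

section Main

variable {A : Type u} [Category.{v} A] [Abelian A] [HasDerivedCategory.{w} A]
  (P : ObjectProperty A) [P.IsSerreClass]
  {Q : Type u'} [Category.{v'} Q] [Abelian Q] [HasDerivedCategory.{w'} Q]
  (v : A ⥤ Q) [v.Additive] [PreservesFiniteLimits v] [PreservesFiniteColimits v]

/-- Cohomology objects in the derived category commute with exact functors. -/
lemma nonempty_homology_iso (K : DerivedCategory A) (i : ℤ) :
    Nonempty ((DerivedCategory.homologyFunctor Q i).obj (v.mapDerivedCategory.obj K) ≅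
      v.obj ((DerivedCategory.homologyFunctor A i).obj K)) := by
  let X := DerivedCategory.Q.objPreimage K
  let e : DerivedCategory.Q.obj X ≅ K := DerivedCategory.Q.objObjPreimageIso K
  exact ⟨(DerivedCategory.homologyFunctor Q i).mapIso (v.mapDerivedCategory.mapIso e.symm) ≪≫
    (DerivedCategory.homologyFunctor Q i).mapIso (v.mapDerivedCategoryFactors.app X) ≪≫
    (DerivedCategory.homologyFunctorFactors Q i).app _ ≪≫
    (X.sc i).mapHomologyIso v ≪≫
    v.mapIso ((DerivedCategory.homologyFunctorFactors A i).app X).symm ≪≫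
    v.mapIso ((DerivedCategory.homologyFunctor A i).mapIso e)⟩

/-- the property of having all cohomology objects in `P` -/
abbrev DP : ObjectProperty (DerivedCategory A) :=
  fun X => ∀ n : ℤ, P ((DerivedCategory.homologyFunctor A n).obj X)

variable [v.IsLocalization P.isoModSerre]

lemma DP_iff_isZero (X : DerivedCategory A) :
    DP P X ↔ IsZero (v.mapDerivedCategory.obj X) := by
  rw [isZero_iff_homology]
  refine forall_congr' fun n => ?_
  rw [← ObjectProperty.SerreClassLocalization.isZero_obj_iff v P]
  exact (nonempty_homology_iso v X n).some.isZero_iff.symm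

lemma trW_iff {X Y : DerivedCategory A} (f : X ⟶ Y) :
    (DP P).trW f ↔ IsIso (v.mapDerivedCategory.map f) := by
  constructor
  · rintro ⟨Z, g, h, hT, hZ⟩
    have hT' := v.mapDerivedCategory.map_distinguished _ hT
    exact (Triangle.isZero₃_iff_isIso₁ _ hT').1 ((DP_iff_isZero P v Z).1 hZ)
  · intro hf
    obtain ⟨Z, g, h, hT⟩ := distinguished_cocone_triangle f
    have hT' := v.mapDerivedCategory.map_distinguished _ hT
    exact ⟨Z, g, h, hT, (DP_iff_isZero P v Z).2 ((Triangle.isZero₃_iff_isIso₁ _ hT').2 hf)⟩

variable (u : Q ⥤ A) (adj : u ⊣ v) [IsIso adj.unit]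

include adj in
theorem main :
    v.mapDerivedCategory.IsLocalization
      (ObjectProperty.trW (fun X : DerivedCategory A =>
        ∀ n : ℤ, P ((DerivedCategory.homologyFunctor A n).obj X))) := by
  haveI : u.Additive := adj.left_adjoint_additive
  let c := ComplexShape.up ℤ
  let adjC := Groth.Agent.LD.DAdj.mapHCAdj adj c
  haveI : IsIso adjC.unit := by
    haveI : ∀ K, IsIso (adjC.unit.app K) := fun K => by
      haveI : ∀ i, IsIso ((adjC.unit.app K).f i) := fun i =>
        inferInstanceAs (IsIso (adj.unit.app (K.X i)))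
      exact HomologicalComplex.Hom.isIso_of_components _
    exact NatIso.isIso_of_isIso_app _
  have hff := adjC.fullyFaithfulLOfIsIsoUnit
  haveI := hff.full
  haveI := hff.faithful
  let vC := v.mapHomologicalComplex c
  let uC := u.mapHomologicalComplex c
  let W₁ : MorphismProperty (CochainComplex A ℤ) :=
    (MorphismProperty.isomorphisms (CochainComplex Q ℤ)).inverseImage vC
  let W₂ : MorphismProperty (CochainComplex Q ℤ) := HomologicalComplex.quasiIso Q c
  let W₃ : MorphismProperty (CochainComplex A ℤ) := W₂.inverseImage vC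
  haveI : vC.IsLocalization W₁ := adjC.isLocalization'
  haveI h1 : (vC ⋙ DerivedCategory.Q).IsLocalization W₃ := by
    refine Functor.IsLocalization.comp vC DerivedCategory.Q W₁ W₂ W₃ ?_ ?_ ?_
    · intro K L f hf
      exact Localization.inverts DerivedCategory.Q W₂ _ hf
    · intro K L f hf
      have : IsIso (vC.map f) := hf
      change QuasiIso (vC.map f)
      infer_instance
    · intro K L g hg
      refine ⟨uC.obj K, uC.obj L, uC.map g, ?_, ⟨?_⟩⟩
      · change QuasiIso (vC.map (uC.map g))
        have hg' : QuasiIso g := hg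
        have e : Arrow.mk g ≅ Arrow.mk (vC.map (uC.map g)) :=
          Arrow.isoMk (asIso (adjC.unit.app K)) (asIso (adjC.unit.app L))
            (adjC.unit.naturality g).symm
        exact ((HomologicalComplex.quasiIso Q c).arrow_mk_iso_iff e).1 hg'
      · exact (Arrow.isoMk (asIso (adjC.unit.app K)) (asIso (adjC.unit.app L))
            (adjC.unit.naturality g).symm).symm
  haveI h2 : (DerivedCategory.Q ⋙ v.mapDerivedCategory).IsLocalization W₃ :=
    Functor.IsLocalization.of_iso W₃ v.mapDerivedCategoryFactors.symm
  refine Functor.IsLocalization.of_comp DerivedCategory.Q v.mapDerivedCategory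
    (HomologicalComplex.quasiIso A c) _ W₃ ?_ ?_
  · intro K L f hf
    have : QuasiIso f := hf
    change QuasiIso (vC.map f)
    infer_instance
  · have hW₃ : ∀ {K L : CochainComplex A ℤ} (f : K ⟶ L),
        W₃ f ↔ IsIso (v.mapDerivedCategory.map (DerivedCategory.Q.map f)) := by
      intro K L f
      change QuasiIso (vC.map f) ↔ _
      rw [← DerivedCategory.isIso_Q_map_iff_quasiIso]
      exact ((MorphismProperty.isomorphisms _).arrow_mk_iso_iff
        (Arrow.isoMk (v.mapDerivedCategoryFactors.app K) (v.mapDerivedCategoryFactors.app L)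
          (v.mapDerivedCategoryFactors.hom.naturality f).symm)).symm
    ext X Y f
    change (DP P).trW f ↔ _
    rw [trW_iff P v]
    constructor
    · intro hf
      let g := DerivedCategory.Q.mapArrow.objPreimage (Arrow.mk f)
      let e : DerivedCategory.Q.mapArrow.obj g ≅ Arrow.mk f :=
        DerivedCategory.Q.mapArrow.objObjPreimageIso (Arrow.mk f)
      refine ⟨g.left, g.right, g.hom, ?_, ⟨e⟩⟩
      rw [hW₃]
      exact ((MorphismProperty.isomorphisms _).arrow_mk_iso_iff
        (v.mapDerivedCategory.mapArrow.mapIso e)).2 hf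
    · rintro ⟨K, L, f', hf', ⟨e⟩⟩
      rw [hW₃] at hf'
      exact ((MorphismProperty.isomorphisms _).arrow_mk_iso_iff
        (v.mapDerivedCategory.mapArrow.mapIso e)).1 hf'

end Main

end Groth.Agent.H6.SQLoc
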