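import Mathlib
import Groth.Prelude.Def_SiteCmp
import Groth.Prelude.Def_WeakSerre
import Groth.Agent.Lib.Helper6.ScVa
import Groth.Agent.Lib.Helper6.ScL6

/-! Helper6: injectivity of `H⁰(Y, R^{n+1}ε_* F) → H⁰(X, R^{n+1}ε_* F)` for a covering `X → Y` in `P`,
under `V_n` (S9073). -/

set_option autoImplicit false
universe u
open CategoryTheory CategoryTheory.Limits Opposite

namespace Groth.Agent.H6.ScVb

open Groth.Agent.H6.ScBase Groth.Agent.H6.ScLan Groth.Agent.H6.ScLoc Groth.Agent.H6.ScFF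
  Groth.Agent.H6.ScVa Groth.Agent.H6.ScHA Groth.Agent.H6.ScL6 Groth.Agent.LD.SC

section

variable {C : Type u} [SmallCategory C] {J J' : GrothendieckTopology C} (h : J' ≤ J)
  (P : MorphismProperty C)
  (A' : ∀ X : C, ObjectProperty (Sheaf (J'.over X) AddCommGrpCat.{u})) [∀ X : C, WSerre.IsWeakSerre (A' X)]
  (h1 : ∀ ⦃X Y : C⦄ (f : X ⟶ Y), P f → ∀ ⦃Y' : C⦄ (g : Y' ⟶ Y),
    ∃ (W : C) (p : W ⟶ Y') (q : W ⟶ X), IsPullback p q g f ∧ P p)
  (h2 : ∀ ⦃X Y : C⦄ (f : X ⟶ Y) (F' : Sheaf (J'.over Y) AddCommGrpCat.{u}), A' Y F' →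
    A' X ((CohSite.push (J'.over Y) (J'.over X) (Over.map f)).obj F'))
  (h3 : ∀ (X : C) (F' : Sheaf (J'.over X) AddCommGrpCat.{u}), A' X F' → Presheaf.IsSheaf (J.over X) F'.obj)
  (h4 : ∀ ⦃X Y : C⦄ (f : X ⟶ Y)
    [((Over.map f).sheafPushforwardCocontinuous AddCommGrpCat.{u} (J'.over X) (J'.over Y)).Additive],
    P f → ∀ (F' : Sheaf (J'.over X) AddCommGrpCat.{u}), A' X F' → ∀ i : ℕ,
      A' Y ((((Over.map f).sheafPushforwardCocontinuous AddCommGrpCat.{u} (J'.over X) (J'.over Y)).rightDerived i).obj F'))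
  (n : ℕ)
  (hV : ∀ (Z : C) (G : Sheaf (J.over Z) AddCommGrpCat.{u}), A' Z ((epsO h Z).obj G) →
    ∀ i : ℕ, 1 ≤ i → i ≤ n → IsZero (((epsO h Z).rightDerived i).obj G))
  {X Y : C} (f : X ⟶ Y) (hf : P f)
  (hcov : Sieve.ofArrows (fun _ : PUnit.{u + 1} => X) (fun _ => f) ∈ J Y)
  (F : Sheaf (J.over Y) AddCommGrpCat.{u}) (hF : A' Y ((epsO h Y).obj F))

include h2 hF in
lemma hG : A' X ((epsO h X).obj ((fInv J f).obj F)) := h2 f _ hF

include h1 h2 h4 hF hf in
lemma hX2 : A' Y ((epsO h Y).obj ((fPush J f).obj ((fInv J f).obj F))) := by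
  haveI : HasPullbacksAlong f := hasPullbacksAlong_of P h1 f hf
  have h0 := h4 f hf _ (hG h A' h2 f F hF) 0
  exact (A' Y).prop_of_iso
    ((fPush J' f).rightDerivedZeroIsoSelf.app _ ≪≫ ((epsPushIso h f).app _).symm) h0

include h1 h2 h3 h4 hV hF hf in
/-- `R^q f_{τ,*} G` is in `A_Y` for `q ≤ n` -/
lemma hRq (q : ℕ) (hq : q ≤ n) :
    A' Y ((epsO h Y).obj (((fPush J f).rightDerived q).obj ((fInv J f).obj F))) := by
  haveI : HasPullbacksAlong f := hasPullbacksAlong_of P h1 f hf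
  have hG' := hG h A' h2 f F hF
  have h0 := h4 f hf _ hG' q
  obtain ⟨e⟩ := nonempty_rightDerived_fPush_eps_iso h f n ((fInv J f).obj F)
    (hV X _ hG') q hq (h3 Y _ h0)
  exact (A' Y).prop_of_iso e h0


include h1 h2 h3 h4 hV hF hf in
lemma hE : EHyp (fPush J f) (epsO h Y) n ((fInv J f).obj F) := by
  haveI : HasPullbacksAlong f := hasPullbacksAlong_of P h1 f hf
  have hG' := hG h A' h2 f F hF
  refine eHyp_of (fPush J f) (epsO h Y) (A' Y) ?_ ?_ n ((fInv J f).obj F) ?_ ?_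
  · intro A B d hA hB
    exact (A' Y).prop_cokernel d hA hB
  · intro Y' H d hd hc
    haveI := hd
    exact epi_eps_map (SiteCmp.over_le h Y) d (h3 Y _ hc)
  · intro p q hp hq hpq
    exact hV Y _ (hRq h P A' h1 h2 h3 h4 n hV f hf F hF q (by omega)) p hp (by omega)
  · intro hn
    refine ⟨?_, hRq h P A' h1 h2 h3 h4 n hV f hf F hF n le_rfl⟩
    obtain ⟨e1⟩ := nonempty_iso_comp (epsO h X) (fPush J' f) n ((fInv J f).obj F)
      (hV X _ hG') n le_rfl
    let e2 := (Groth.Agent.LD.EZ.rightDerivedIsoOfIso (epsPushIso h f) n).app ((fInv J f).obj F)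
    exact (A' Y).prop_of_iso (e1 ≪≫ e2.symm) (h4 f hf _ hG' n)

include h1 h2 h3 h4 hV hF hf hcov in
/-- there is a monomorphism from `R^{n+1}ε_* F` to `R^{n+1}(ε_* ⋙ f_{τ',*})(f⁻¹F)` -/
lemma exists_mono_to_comp : ∃ m : ((epsO h Y).rightDerived (n + 1)).obj F ⟶
    (haveI : HasPullbacksAlong f := hasPullbacksAlong_of P h1 f hf
     ((epsO h X ⋙ fPush J' f).rightDerived (n + 1)).obj ((fInv J f).obj F)), Mono m := by
  haveI : HasPullbacksAlong f := hasPullbacksAlong_of P h1 f hf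
  have hG' := hG h A' h2 f F hF
  have hX2' := hX2 h P A' h1 h2 h4 f hf F hF
  let S := unitSC J f F
  have hS : S.ShortExact := unitSC_shortExact J f hcov F
  have hcokK : A' Y (cokernel ((epsO h Y).map S.f)) := (A' Y).prop_cokernel _ hF hX2'
  have hsh := h3 Y _ hcokK
  obtain ⟨eQ⟩ := nonempty_eps_cokernel_iso (SiteCmp.over_le h Y) S.f hsh
  have hQ : A' Y ((epsO h Y).obj S.X₃) := (A' Y).prop_of_iso eQ.symm hcokK
  have hepi_g : Epi ((epsO h Y).map S.g) :=
    epi_eps_map_cokernel_π (SiteCmp.over_le h Y) S.f hsh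
  have hepi_n : Epi (((epsO h Y).rightDerived n).map S.g) := by
    rcases n with _ | m
    · exact epi_rightDerived_zero_map _ _ hepi_g
    · have hz := hV Y S.X₃ hQ (m + 1) (by omega) le_rfl
      exact ⟨fun a b _ => hz.eq_of_src a b⟩
  have mono1 : Mono (((epsO h Y).rightDerived (n + 1)).map S.f) :=
    mono_rightDerived_succ_map_f (epsO h Y) hS n hepi_n
  obtain ⟨a2, ha2⟩ := exists_mono_comp (fPush J f) (epsO h Y) n ((fInv J f).obj F)
    (hE h P A' h1 h2 h3 h4 n hV f hf F hF)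
  let θ := (Groth.Agent.LD.EZ.rightDerivedIsoOfIso (epsPushIso h f) (n + 1)).app ((fInv J f).obj F)
  refine ⟨((epsO h Y).rightDerived (n + 1)).map S.f ≫ a2 ≫ θ.hom, ?_⟩
  haveI : Mono (a2 ≫ θ.hom) := mono_comp _ _
  exact mono_comp _ _


include h1 h2 h3 h4 hV hF hf hcov in
/-- **claim (a)**: `H⁰(Y, R^{n+1}ε_* F) → H⁰(X, R^{n+1}ε_* F)` is injective -/
theorem inj_local :
    Function.Injective ((((epsO h Y).rightDerived (n + 1)).obj F).obj.map
      (Over.homMk f : Over.mk f ⟶ Over.mk (𝟙 Y)).op) := by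
  haveI : HasPullbacksAlong f := hasPullbacksAlong_of P h1 f hf
  have hG' := hG h A' h2 f F hF
  obtain ⟨m, hm⟩ := exists_mono_to_comp h P A' h1 h2 h3 h4 n hV f hf hcov F hF
  obtain ⟨a3, b3, w3, hm3, hex3⟩ := exists_exact_comp (epsO h X) (fPush J' f) n
    ((fInv J f).obj F) (hV X _ hG')
  let T := ((epsO h Y).rightDerived (n + 1)).obj F
  let R := ((epsO h X ⋙ fPush J' f).rightDerived (n + 1)).obj ((fInv J f).obj F)
  let M := ((fPush J' f).rightDerived (n + 1)).obj ((epsO h X).obj ((fInv J f).obj F))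
  let N₀ := ((epsO h X).rightDerived (n + 1)).obj ((fInv J f).obj F)
  let N := (fPush J' f).obj N₀
  let r : Over.mk f ⟶ Over.mk (𝟙 Y) := Over.homMk f
  let o1 : (Over Y)ᵒᵖ := op (Over.mk (𝟙 Y))
  let o2 : (Over Y)ᵒᵖ := op (Over.mk f)
  change Function.Injective (T.obj.map r.op)
  refine (injective_iff_map_eq_zero (T.obj.map r.op).hom).2 ?_
  intro s hs
  have hs' : T.obj.map r.op s = 0 := hs
  apply injective_app_of_mono m o1
  rw [map_zero]
  have hr1f : R.obj.map r.op (m.hom.app o1 s) = 0 := by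
    have hn := NatTrans.naturality_apply m.hom r.op s
    refine hn.symm.trans ?_
    rw [hs', map_zero]
  have hν : N.obj.map r.op (b3.hom.app o1 (m.hom.app o1 s)) = 0 := by
    have hn := NatTrans.naturality_apply b3.hom r.op (m.hom.app o1 s)
    refine hn.symm.trans ?_
    rw [hr1f, map_zero]
  have hν0 : b3.hom.app o1 (m.hom.app o1 s) = 0 :=
    injective_fPush_map J' f N₀ (hν.trans (map_zero _).symm)
  obtain ⟨μ, hμ⟩ := exists_preimage_of_exact a3 b3 w3 hm3 hex3 o1 (m.hom.app o1 s) hν0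
  haveI := hm3
  have hμf : M.obj.map r.op μ = 0 := by
    apply injective_app_of_mono a3 o2
    rw [map_zero]
    have hn := NatTrans.naturality_apply a3.hom r.op μ
    refine hn.trans ?_
    rw [hμ, hr1f]
  have hM : A' Y M := h4 f hf _ hG' (n + 1)
  have hMsh := h3 Y _ hM
  have hμ0 : μ = 0 := by
    let Sf : Sieve (Over.mk (𝟙 Y)) :=
      Sieve.ofArrows (fun _ : PUnit.{u + 1} => Over.mk f) (fun _ => r)
    have hSf : Sf ∈ (J.over Y) (Over.mk (𝟙 Y)) := by
      rw [GrothendieckTopology.mem_over_iff, Sieve.overEquiv_ofArrows]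
      exact hcov
    apply ext_of_sieve ⟨M.obj, hMsh⟩ Sf hSf
    intro V g hg
    obtain ⟨_, g₁, rfl⟩ := (Sieve.mem_ofArrows_iff _ _ g).1 hg
    rw [map_zero]
    change M.obj.map (g₁ ≫ r).op μ = 0
    rw [res_comp, hμf, map_zero]
  rw [← hμ, hμ0, map_zero]

end

end Groth.Agent.H6.ScVb
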