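import Mathlib
import Groth.Prelude.Def_SiteCmp
import Groth.Prelude.Def_WeakSerre
import Groth.Agent.Lib.Helper6.ScVb

/-! Helper6: `R^i ε_* F = 0` for `i ≥ 1` and `F ∈ A_X` (S9073). -/

set_option autoImplicit false
universe u
open CategoryTheory CategoryTheory.Limits Opposite

namespace Groth.Agent.H6.ScVc

open Groth.Agent.H6.ScBase Groth.Agent.H6.ScLan Groth.Agent.H6.ScLoc Groth.Agent.H6.ScFF
  Groth.Agent.H6.ScVa Groth.Agent.H6.ScVb Groth.Agent.H6.ScHA Groth.Agent.H6.ScL6 Groth.Agent.LD.SC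

section

variable {C : Type u} [SmallCategory C] {J J' : GrothendieckTopology C} (h : J' ≤ J)
  (P : MorphismProperty C)
  (A' : ∀ X : C, ObjectProperty (Sheaf (J'.over X) AddCommGrpCat.{u})) [∀ X : C, WSerre.IsWeakSerre (A' X)]
  (h1 : ∀ ⦃X Y : C⦄ (f : X ⟶ Y), P f → ∀ ⦃Y' : C⦄ (g : Y' ⟶ Y),
    ∃ (W : C) (p : W ⟶ Y') (q : W ⟶ X), IsPullback p q g f ∧ P p)
  (h2 : ∀ ⦃X Y : C⦄ (f : X ⟶ Y) (F' : Sheaf (J'.over Y) AddCommGrpCat.{u}), A' Y F' →
    A' X ((CohSite.push (J'.over Y) (J'.over X) (Over.map f)).obj F'))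
  (h3 : ∀ (X : C) (F' : Sheaf (J'.over X) AddCommGrpCat.{u}), A' X F' → Presheaf.IsSheaf (J.over X) F'.obj)
  (h4 : ∀ ⦃X Y : C⦄ (f : X ⟶ Y)
    [((Over.map f).sheafPushforwardCocontinuous AddCommGrpCat.{u} (J'.over X) (J'.over Y)).Additive],
    P f → ∀ (F' : Sheaf (J'.over X) AddCommGrpCat.{u}), A' X F' → ∀ i : ℕ,
      A' Y ((((Over.map f).sheafPushforwardCocontinuous AddCommGrpCat.{u} (J'.over X) (J'.over Y)).rightDerived i).obj F'))
  (h5 : ∀ (U : C) (S : Sieve U), S ∈ J U → ∃ (ι : Type u) (V : ι → C) (v : ∀ j, V j ⟶ U),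
    Sieve.ofArrows V v ∈ J' U ∧ ∀ j, ∃ (W : C) (w : W ⟶ V j), P w ∧
      Sieve.ofArrows (fun _ : PUnit.{u + 1} => W) (fun _ => w) ∈ J (V j) ∧
      ∃ (κ : Type u) (Wk : κ → C) (wk : ∀ k, Wk k ⟶ W), Sieve.ofArrows Wk wk ∈ J' W ∧
        ∀ k, S.arrows (wk k ≫ w ≫ v j))
  (n : ℕ)
  (hV : ∀ (Z : C) (G : Sheaf (J.over Z) AddCommGrpCat.{u}), A' Z ((epsO h Z).obj G) →
    ∀ i : ℕ, 1 ≤ i → i ≤ n → IsZero (((epsO h Z).rightDerived i).obj G))
  (X : C) (F : Sheaf (J.over X) AddCommGrpCat.{u}) (hF : A' X ((epsO h X).obj F))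

include h1 h2 h3 h4 hV hF in
/-- claim (a), general form -/
theorem inj_general {Z W : C} (g : Z ⟶ X) (f : W ⟶ Z) (hf : P f)
    (hcov : Sieve.ofArrows (fun _ : PUnit.{u + 1} => W) (fun _ => f) ∈ J Z) :
    Function.Injective ((((epsO h X).rightDerived (n + 1)).obj F).obj.map
      (Over.homMk f : Over.mk (f ≫ g) ⟶ Over.mk g).op) := by
  let T := ((epsO h X).rightDerived (n + 1)).obj F
  let FZ := (fInv J g).obj F
  have hFZ : A' Z ((epsO h Z).obj FZ) := h2 g _ hF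
  have hloc := inj_local h P A' h1 h2 h3 h4 n hV f hf hcov FZ hFZ
  obtain ⟨τ⟩ := nonempty_transfer h g F (n + 1)
  let r : Over.mk f ⟶ Over.mk (𝟙 Z) := Over.homMk f
  have h1' : Function.Injective (((fInv J' g).obj T).obj.map r.op) := by
    intro x y hxy
    have hx := NatTrans.naturality_apply τ.inv.hom r.op x
    have hy := NatTrans.naturality_apply τ.inv.hom r.op y
    have h2' := hloc (hx.symm.trans ((congrArg _ hxy).trans hy))
    exact injective_app_of_mono τ.inv _ h2'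
  let j : Over.mk g ≅ (Over.map g).obj (Over.mk (𝟙 Z)) := Over.isoMk (Iso.refl _) (by
    change 𝟙 _ ≫ 𝟙 Z ≫ g = g
    rw [Category.id_comp, Category.id_comp])
  have hcomp : (Over.homMk f : Over.mk (f ≫ g) ⟶ Over.mk g) = (Over.map g).map r ≫ j.inv := by
    apply Over.OverMorphism.ext
    simp [j, r]
  rw [hcomp]
  intro x y hxy
  rw [res_comp, res_comp] at hxy
  exact injective_res_of_iso T.obj j.symm (h1' hxy)


include h1 h2 h3 h4 h5 hV hF in
/-- the induction step: `R^{n+1} ε_* F = 0` -/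
theorem isZero_succ : IsZero (((epsO h X).rightDerived (n + 1)).obj F) := by
  let T := ((epsO h X).rightDerived (n + 1)).obj F
  have key : ∀ (U₀ : Over X) (s : T.obj.obj (op U₀)), s = 0 := by
    intro U₀ s
    obtain ⟨e⟩ := nonempty_rightDerived_epsA_iso (SiteCmp.over_le h X) F (n + 1)
    have hloc : ∃ S : Sieve U₀, S ∈ (J.over X) U₀ ∧
        ∀ ⦃V : Over X⦄ (g : V ⟶ U₀), S g → T.obj.map g.op s = 0 := by
      obtain ⟨S, hS, hS0⟩ := exists_sieve_sheafify_eq_zero (SiteCmp.over_le h X)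
        (Sheaf.cohomologyPresheaf.{u} F (n + 1))
        (fun U x => by
          obtain ⟨S, hS, hk⟩ := exists_sieve_Hres_eq_zero n F x
          exact ⟨S, hS, fun V g hg => hk g hg⟩)
        (e.hom.hom.app (op U₀) s)
      refine ⟨S, hS, fun V g hg => ?_⟩
      apply injective_app_of_mono e.hom (op V)
      rw [map_zero]
      have hn := NatTrans.naturality_apply e.hom.hom g.op s
      exact hn.trans (hS0 g hg)
    obtain ⟨S, hS, hS0⟩ := hloc
    have hS₀ : Sieve.overEquiv U₀ S ∈ J U₀.left := (GrothendieckTopology.mem_over_iff J S).1 hS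
    obtain ⟨ι, V, v, hcovV, hj⟩ := h5 U₀.left (Sieve.overEquiv U₀ S) hS₀
    apply ext_of_sieve T ((Sieve.overEquiv U₀).symm (Sieve.ofArrows V v))
      (GrothendieckTopology.overEquiv_symm_mem_over _ _ _ hcovV)
    intro V' g hg
    rw [map_zero]
    have hg' : Sieve.ofArrows V v g.left := hg
    obtain ⟨j, a, ha⟩ := (Sieve.mem_ofArrows_iff _ _ _).1 hg'
    let gj : Over.mk (v j ≫ U₀.hom) ⟶ U₀ := Over.homMk (v j)
    let ga : V' ⟶ Over.mk (v j ≫ U₀.hom) := Over.homMk a (by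
      change a ≫ v j ≫ U₀.hom = V'.hom
      rw [← Category.assoc, ← ha]
      exact Over.w g)
    have hgg : g = ga ≫ gj := by
      apply Over.OverMorphism.ext
      simp [ga, gj, ha]
    rw [hgg, res_comp]
    suffices hsj : T.obj.map gj.op s = 0 by rw [hsj, map_zero]
    obtain ⟨W, w, hPw, hcovw, κ, Wk, wk, hcovk, hk⟩ := hj j
    apply inj_general h P A' h1 h2 h3 h4 n hV X F hF (v j ≫ U₀.hom) w hPw hcovw
    rw [map_zero]
    let gw : Over.mk (w ≫ v j ≫ U₀.hom) ⟶ Over.mk (v j ≫ U₀.hom) := Over.homMk w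
    change T.obj.map gw.op (T.obj.map gj.op s) = 0
    apply ext_of_sieve T ((Sieve.overEquiv (Over.mk (w ≫ v j ≫ U₀.hom))).symm (Sieve.ofArrows Wk wk))
      (GrothendieckTopology.overEquiv_symm_mem_over _ _ _ hcovk)
    intro V'' g' hg'
    rw [map_zero, ← res_comp, ← res_comp]
    apply hS0
    have hg'' : Sieve.ofArrows Wk wk g'.left := hg'
    obtain ⟨k, b, hb⟩ := (Sieve.mem_ofArrows_iff _ _ _).1 hg''
    have hS' : S = (Sieve.overEquiv U₀).symm (Sieve.overEquiv U₀ S) :=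
      ((Sieve.overEquiv U₀).symm_apply_apply S).symm
    rw [hS']
    refine (Sieve.overEquiv_symm_iff _ _).2 ?_
    have hl : ((g' ≫ gw) ≫ gj).left = b ≫ wk k ≫ w ≫ v j := by
      simp [gw, gj, hb]
    rw [hl]
    exact (Sieve.overEquiv U₀ S).downward_closed (hk k) b
  rw [IsZero.iff_id_eq_zero]
  apply Sheaf.hom_ext
  apply NatTrans.ext
  funext U
  apply AddCommGrpCat.hom_ext
  apply AddMonoidHom.ext
  intro s
  exact (key U.unop s).trans (key U.unop _).symm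


end

section main

variable {C : Type u} [SmallCategory C] {J J' : GrothendieckTopology C} (h : J' ≤ J)
  (P : MorphismProperty C)
  (A' : ∀ X : C, ObjectProperty (Sheaf (J'.over X) AddCommGrpCat.{u})) [∀ X : C, WSerre.IsWeakSerre (A' X)]
  (h1 : ∀ ⦃X Y : C⦄ (f : X ⟶ Y), P f → ∀ ⦃Y' : C⦄ (g : Y' ⟶ Y),
    ∃ (W : C) (p : W ⟶ Y') (q : W ⟶ X), IsPullback p q g f ∧ P p)
  (h2 : ∀ ⦃X Y : C⦄ (f : X ⟶ Y) (F' : Sheaf (J'.over Y) AddCommGrpCat.{u}), A' Y F' →
    A' X ((CohSite.push (J'.over Y) (J'.over X) (Over.map f)).obj F'))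
  (h3 : ∀ (X : C) (F' : Sheaf (J'.over X) AddCommGrpCat.{u}), A' X F' → Presheaf.IsSheaf (J.over X) F'.obj)
  (h4 : ∀ ⦃X Y : C⦄ (f : X ⟶ Y)
    [((Over.map f).sheafPushforwardCocontinuous AddCommGrpCat.{u} (J'.over X) (J'.over Y)).Additive],
    P f → ∀ (F' : Sheaf (J'.over X) AddCommGrpCat.{u}), A' X F' → ∀ i : ℕ,
      A' Y ((((Over.map f).sheafPushforwardCocontinuous AddCommGrpCat.{u} (J'.over X) (J'.over Y)).rightDerived i).obj F'))
  (h5 : ∀ (U : C) (S : Sieve U), S ∈ J U → ∃ (ι : Type u) (V : ι → C) (v : ∀ j, V j ⟶ U),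
    Sieve.ofArrows V v ∈ J' U ∧ ∀ j, ∃ (W : C) (w : W ⟶ V j), P w ∧
      Sieve.ofArrows (fun _ : PUnit.{u + 1} => W) (fun _ => w) ∈ J (V j) ∧
      ∃ (κ : Type u) (Wk : κ → C) (wk : ∀ k, Wk k ⟶ W), Sieve.ofArrows Wk wk ∈ J' W ∧
        ∀ k, S.arrows (wk k ≫ w ≫ v j))

include h1 h2 h3 h4 h5 in
/-- `(V_n)` holds for all `n` -/
theorem vn_all : ∀ (n : ℕ) (Z : C) (G : Sheaf (J.over Z) AddCommGrpCat.{u}),
    A' Z ((epsO h Z).obj G) →
    ∀ i : ℕ, 1 ≤ i → i ≤ n → IsZero (((epsO h Z).rightDerived i).obj G) := by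
  intro n
  induction n with
  | zero =>
    intro Z G _ i hi1 hi0
    omega
  | succ n ih =>
    intro Z G hG i hi1 hin
    rcases Nat.lt_or_ge i (n + 1) with hlt | hge
    · exact ih Z G hG i hi1 (by omega)
    · obtain rfl : i = n + 1 := by omega
      exact isZero_succ h P A' h1 h2 h3 h4 h5 n ih Z G hG

include h1 h2 h3 h4 h5 in
theorem main9073 (X : C) (F : Sheaf (J.over X) AddCommGrpCat.{u})
    (hF : A' X ((SiteCmp.epsSh (SiteCmp.over_le h X) AddCommGrpCat.{u}).obj F)) (i : ℕ) (hi : 1 ≤ i) :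
    IsZero (((SiteCmp.epsSh (SiteCmp.over_le h X) AddCommGrpCat.{u}).rightDerived i).obj F) :=
  vn_all h P A' h1 h2 h3 h4 h5 i X F hF i hi le_rfl

end main

end Groth.Agent.H6.ScVc
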