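import Mathlib
import Groth.Prelude.Def_SiteCmp
import Groth.Prelude.Def_WeakSerre
import Groth.Agent.Lib.Helper6.ScVc

/-! Helper6: `H^n_{τ'}(X, F') ≅ H^n_τ(X, ε⁻¹F')` for `F' ∈ A'_X` (S9077). -/

set_option autoImplicit false
universe u
open CategoryTheory CategoryTheory.Limits Opposite

namespace Groth.Agent.H6.ScH

open Groth.Agent.H6.ScBase Groth.Agent.H6.ScLan Groth.Agent.H6.ScFF Groth.Agent.H6.ScVc

theorem main9077
    {C : Type u} [SmallCategory C] {J J' : GrothendieckTopology C} (h : J' ≤ J)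
    (P : MorphismProperty C)
    (A' : ∀ X : C, ObjectProperty (Sheaf (J'.over X) AddCommGrpCat.{u})) [∀ X : C, WSerre.IsWeakSerre (A' X)]
    (h1 : ∀ ⦃X Y : C⦄ (f : X ⟶ Y), P f → ∀ ⦃Y' : C⦄ (g : Y' ⟶ Y),
      ∃ (W : C) (p : W ⟶ Y') (q : W ⟶ X), IsPullback p q g f ∧ P p)
    (h2 : ∀ ⦃X Y : C⦄ (f : X ⟶ Y) (F' : Sheaf (J'.over Y) AddCommGrpCat.{u}), A' Y F' →
      A' X ((CohSite.push (J'.over Y) (J'.over X) (Over.map f)).obj F'))
    (h3 : ∀ (X : C) (F' : Sheaf (J'.over X) AddCommGrpCat.{u}), A' X F' → Presheaf.IsSheaf (J.over X) F'.obj)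
    (h4 : ∀ ⦃X Y : C⦄ (f : X ⟶ Y)
      [((Over.map f).sheafPushforwardCocontinuous AddCommGrpCat.{u} (J'.over X) (J'.over Y)).Additive],
      P f → ∀ (F' : Sheaf (J'.over X) AddCommGrpCat.{u}), A' X F' → ∀ i : ℕ,
        A' Y ((((Over.map f).sheafPushforwardCocontinuous AddCommGrpCat.{u} (J'.over X) (J'.over Y)).rightDerived i).obj F'))
    (h5 : ∀ (U : C) (S : Sieve U), S ∈ J U → ∃ (ι : Type u) (V : ι → C) (v : ∀ j, V j ⟶ U),
      Sieve.ofArrows V v ∈ J' U ∧ ∀ j, ∃ (W : C) (w : W ⟶ V j), P w ∧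
        Sieve.ofArrows (fun _ : PUnit.{u + 1} => W) (fun _ => w) ∈ J (V j) ∧
        ∃ (κ : Type u) (Wk : κ → C) (wk : ∀ k, Wk k ⟶ W), Sieve.ofArrows Wk wk ∈ J' W ∧
          ∀ k, S.arrows (wk k ≫ w ≫ v j))
    (X : C) (F' : Sheaf (J'.over X) AddCommGrpCat.{u}) (hF' : A' X F') (n : ℕ) :
    Nonempty (CohSite.HU F' n (Over.mk (𝟙 X)) ≃+
      CohSite.HU ((SiteCmp.epsShInv (SiteCmp.over_le h X) AddCommGrpCat.{u}).obj F') n (Over.mk (𝟙 X))) := by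
  have hsh := h3 X F' hF'
  let F'' : Sheaf (J.over X) AddCommGrpCat.{u} := ⟨F'.obj, hsh⟩
  let e0 : (epsO h X).obj F'' ≅ F' := epsObjIso (SiteCmp.over_le h X) F' hsh
  have hF'' : A' X ((epsO h X).obj F'') := (A' X).prop_of_iso e0.symm hF'
  have hV : ∀ q, 1 ≤ q → q ≤ n → IsZero (((epsO h X).rightDerived q).obj F'') :=
    fun q hq1 _ => main9073 h P A' h1 h2 h3 h4 h5 X F'' hF'' q hq1
  obtain ⟨e1⟩ := nonempty_cohomologyPresheaf_iso (SiteCmp.over_le h X) F'' n hV n le_rfl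
  let adj := SiteCmp.epsShAdj (SiteCmp.over_le h X) AddCommGrpCat.{u}
  haveI : IsIso (adj.counit.app F'') := inferInstance
  let e2 : (SiteCmp.epsShInv (SiteCmp.over_le h X) AddCommGrpCat.{u}).obj F' ≅ F'' :=
    (SiteCmp.epsShInv (SiteCmp.over_le h X) AddCommGrpCat.{u}).mapIso e0.symm ≪≫
      asIso (adj.counit.app F'')
  let c1 := (Sheaf.cohomologyPresheafFunctor.{u} (J'.over X) n).mapIso e0.symm
  let c2 := (Sheaf.cohomologyPresheafFunctor.{u} (J.over X) n).mapIso e2.symm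
  let c := c1 ≪≫ e1 ≪≫ c2
  exact ⟨(c.app (op (Over.mk (𝟙 X)))).addCommGroupIsoToAddEquiv⟩

end Groth.Agent.H6.ScH
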