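import Mathlib
import Groth.Prelude.Def_SiteCmp
import Groth.Prelude.Def_WeakSerre
import Groth.Agent.Lib.Helper6.ScLoc
import Groth.Agent.Lib.Helper6.ScL6

/-! Helper6: a class equalised by the two projections of a covering in `P` dies on a coarse
covering of the base (S9075). -/

set_option autoImplicit false
universe u
open CategoryTheory CategoryTheory.Limits Opposite

namespace Groth.Agent.H6.ScL4

open Groth.Agent.H6.ScBase Groth.Agent.H6.ScLan Groth.Agent.H6.ScLoc Groth.Agent.LD.SC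

section

variable {C : Type u} [SmallCategory C] {K : GrothendieckTopology C} {Y : C}
  (F' : Sheaf (K.over Y) AddCommGrpCat.{u}) (m : ℕ)

/-- restriction of cohomology classes -/
noncomputable abbrev rs {U V : Over Y} (g : V ⟶ U) (θ : CohSite.HU F' m U) : CohSite.HU F' m V :=
  CohSite.res F' m g θ

lemma rs_comp {U V W : Over Y} (g : V ⟶ U) (g' : W ⟶ V) (θ : CohSite.HU F' m U) :
    rs F' m (g' ≫ g) θ = rs F' m g' (rs F' m g θ) := by
  change ((Sheaf.cohomologyPresheaf.{u} F' m).map (g' ≫ g).op).hom θ =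
    ((Sheaf.cohomologyPresheaf.{u} F' m).map g'.op).hom
      (((Sheaf.cohomologyPresheaf.{u} F' m).map g.op).hom θ)
  rw [op_comp, Functor.map_comp]
  rfl

lemma rs_zero {U V : Over Y} (g : V ⟶ U) : rs F' m g (0 : CohSite.HU F' m U) = 0 :=
  map_zero _

end

section

variable {C : Type u} [SmallCategory C] (J' : GrothendieckTopology C) {X Y : C} (f : X ⟶ Y)
  [HasPullbacksAlong f] (F' : Sheaf (J'.over Y) AddCommGrpCat.{u}) (m : ℕ)

/-- base change to `X` followed by the forgetful functor: `V ↦ (V ×_Y X → Y)` -/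
noncomputable abbrev uu : Over Y ⥤ Over Y := Over.pullback f ⋙ Over.map f

/-- the presheaf `V ↦ Hᵐ(V ×_Y X, F')` on `C/Y` -/
noncomputable abbrev QQ : (Over Y)ᵒᵖ ⥤ AddCommGrpCat.{u} :=
  (uu f).op ⋙ Sheaf.cohomologyPresheaf.{u} F' m

/-- `Rᵐ f_* (F'|_X)` is the sheafification of `V ↦ Hᵐ(V ×_Y X, F')` -/
theorem nonempty_iso_sheafify_QQ :
    Nonempty (((fPush J' f).rightDerived m).obj ((fInv J' f).obj F') ≅
      (presheafToSheaf (J'.over Y) AddCommGrpCat.{u}).obj (QQ J' f F' m)) := by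
  obtain ⟨e1⟩ := nonempty_rightDerived_fPush_iso J' f ((fInv J' f).obj F') m
  obtain ⟨e2⟩ := nonempty_cohomologyPresheaf_fInv_iso J' f F' m
  exact ⟨e1 ≪≫ (presheafToSheaf (J'.over Y) AddCommGrpCat.{u}).mapIso
    (Functor.isoWhiskerLeft (Over.pullback f).op e2)⟩

/-- the projection `V ×_Y X → V` -/
noncomputable abbrev pc (V : Over Y) : (uu f).obj V ⟶ V := (Over.mapPullbackAdj f).counit.app V

lemma pc_naturality {V V' : Over Y} (g : V' ⟶ V) : (uu f).map g ≫ pc f V = pc f V' ≫ g :=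
  (Over.mapPullbackAdj f).counit.naturality g

/-- the projection `V ×_Y X → X` -/
noncomputable def sn (V : Over Y) : (uu f).obj V ⟶ Over.mk f :=
  Over.homMk (pullback.snd V.hom f) (by simp)

lemma sn_naturality {V V' : Over Y} (g : V' ⟶ V) : (uu f).map g ≫ sn f V = sn f V' := by
  apply Over.OverMorphism.ext
  simp only [sn, Functor.comp_map, Over.comp_left, Over.map_map_left, Over.pullback_map_left,
    Over.homMk_left]
  exact pullback.lift_snd _ _ _

end

section key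

variable {C : Type u} [SmallCategory C] {J J' : GrothendieckTopology C} {X Y : C} (f : X ⟶ Y)
  [HasPullbacksAlong f] (F' : Sheaf (J'.over Y) AddCommGrpCat.{u}) (n : ℕ)

theorem key
    (hsep : Presheaf.IsSheaf (J.over Y)
      ((presheafToSheaf (J'.over Y) AddCommGrpCat.{u}).obj (QQ J' f F' (n + 1))).obj)
    (hcov : Sieve.ofArrows (fun _ : PUnit.{u + 1} => X) (fun _ => f) ∈ J Y)
    (θ : CohSite.HU F' (n + 1) (Over.mk f))
    (hθ : rs F' (n + 1) (sn f (Over.mk f)) θ = rs F' (n + 1) (pc f (Over.mk f)) θ) :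
    ∃ S₁ : Sieve (Over.mk (𝟙 Y)), S₁ ∈ (J'.over Y) (Over.mk (𝟙 Y)) ∧
      ∀ ⦃V : Over Y⦄ (g : V ⟶ Over.mk (𝟙 Y)), S₁ g → rs F' (n + 1) (sn f V) θ = 0 := by
  let Q := QQ J' f F' (n + 1)
  let V₀ : Over Y := Over.mk (𝟙 Y)
  let W : Over Y := Over.mk f
  let θ₀ : Q.obj (op V₀) := rs F' (n + 1) (sn f V₀) θ
  have hmap : ∀ {V : Over Y} (g : V ⟶ V₀), Q.map g.op θ₀ = rs F' (n + 1) (sn f V) θ := by
    intro V g
    change rs F' (n + 1) ((uu f).map g) (rs F' (n + 1) (sn f V₀) θ) = _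
    rw [← rs_comp, sn_naturality]
  have hA : (toSheafify (J'.over Y) Q).app (op V₀) θ₀ = 0 := by
    let hW : W ⟶ V₀ := Over.homMk f
    let Sf : Sieve V₀ := Sieve.ofArrows (fun _ : PUnit.{u + 1} => W) (fun _ => hW)
    have hSf : Sf ∈ (J.over Y) V₀ := by
      rw [GrothendieckTopology.mem_over_iff, Sieve.overEquiv_ofArrows]
      exact hcov
    let Msh : Sheaf (J.over Y) AddCommGrpCat.{u} := ⟨_, hsep⟩
    apply ext_of_sieve Msh Sf hSf
    intro V g hg
    rw [map_zero]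
    have hn := NatTrans.naturality_apply (toSheafify (J'.over Y) Q) g.op θ₀
    refine hn.symm.trans ?_
    rw [hmap g]
    obtain ⟨_, g₁, rfl⟩ := (Sieve.mem_ofArrows_iff _ _ g).1 hg
    change (toSheafify (J'.over Y) Q).app (op V) (rs F' (n + 1) (sn f V) θ) = 0
    rw [toSheafify_eq_zero_iff]
    obtain ⟨Sθ, hSθ, hkill⟩ := exists_sieve_Hres_eq_zero n F' θ
    refine ⟨Sθ.pullback g₁, (J'.over Y).pullback_stable g₁ hSθ, ?_⟩
    intro V' k hk
    change rs F' (n + 1) ((uu f).map k) (rs F' (n + 1) (sn f V) θ) = 0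
    rw [← rs_comp, sn_naturality, ← sn_naturality f (k ≫ g₁), rs_comp, hθ, ← rs_comp,
      pc_naturality, rs_comp]
    have h0 : rs F' (n + 1) (k ≫ g₁) θ = 0 := hkill (k ≫ g₁) hk
    rw [h0, rs_zero]
  obtain ⟨S₁, hS₁, h1⟩ := (toSheafify_eq_zero_iff (J'.over Y) Q θ₀).1 hA
  refine ⟨S₁, hS₁, ?_⟩
  intro V g hg
  rw [← hmap g]
  exact h1 g hg

end key


section main

open Groth.Agent.H6.ScL6

theorem main9075
    {C : Type u} [SmallCategory C] {J J' : GrothendieckTopology C}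
    (P : MorphismProperty C)
    (A' : ∀ X : C, ObjectProperty (Sheaf (J'.over X) AddCommGrpCat.{u}))
    (h1 : ∀ ⦃X Y : C⦄ (f : X ⟶ Y), P f → ∀ ⦃Y' : C⦄ (g : Y' ⟶ Y),
      ∃ (W : C) (p : W ⟶ Y') (q : W ⟶ X), IsPullback p q g f ∧ P p)
    (h2 : ∀ ⦃X Y : C⦄ (f : X ⟶ Y) (F' : Sheaf (J'.over Y) AddCommGrpCat.{u}), A' Y F' →
      A' X ((CohSite.push (J'.over Y) (J'.over X) (Over.map f)).obj F'))
    (h3 : ∀ (X : C) (F' : Sheaf (J'.over X) AddCommGrpCat.{u}), A' X F' → Presheaf.IsSheaf (J.over X) F'.obj)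
    (h4 : ∀ ⦃X Y : C⦄ (f : X ⟶ Y)
      [((Over.map f).sheafPushforwardCocontinuous AddCommGrpCat.{u} (J'.over X) (J'.over Y)).Additive],
      P f → ∀ (F' : Sheaf (J'.over X) AddCommGrpCat.{u}), A' X F' → ∀ i : ℕ,
        A' Y ((((Over.map f).sheafPushforwardCocontinuous AddCommGrpCat.{u} (J'.over X) (J'.over Y)).rightDerived i).obj F'))
    {X Y : C} (f : X ⟶ Y) (hf : P f) (hcov : Sieve.ofArrows (fun _ : PUnit.{u + 1} => X) (fun _ => f) ∈ J Y)
    (F' : Sheaf (J'.over Y) AddCommGrpCat.{u}) (hF' : A' Y F') (n : ℕ)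
    (θ : CohSite.HU F' (n + 1) (Over.mk f))
    (hθ : ∀ (W : C) (p q : W ⟶ X) (hW : IsPullback p q f f),
      CohSite.res F' (n + 1) (Over.homMk p rfl : Over.mk (p ≫ f) ⟶ Over.mk f) θ =
        CohSite.res F' (n + 1) (Over.homMk q hW.w.symm : Over.mk (p ≫ f) ⟶ Over.mk f) θ) :
    ∃ (ι : Type u) (Z : ι → C) (g : ∀ i, Z i ⟶ Y), Sieve.ofArrows Z g ∈ J' Y ∧
      ∀ (i : ι) (W : C) (p : W ⟶ Z i) (q : W ⟶ X), IsPullback p q (g i) f →
        CohSite.res F' (n + 1) (Over.homMk q rfl : Over.mk (q ≫ f) ⟶ Over.mk f) θ = 0 := by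
  haveI : HasPullbacksAlong f := hasPullbacksAlong_of P h1 f hf
  -- separatedness
  have hsep : Presheaf.IsSheaf (J.over Y)
      ((presheafToSheaf (J'.over Y) AddCommGrpCat.{u}).obj (QQ J' f F' (n + 1))).obj := by
    obtain ⟨e⟩ := nonempty_iso_sheafify_QQ J' f F' (n + 1)
    have hA : A' Y (((fPush J' f).rightDerived (n + 1)).obj ((fInv J' f).obj F')) :=
      h4 f hf _ (h2 f F' hF') (n + 1)
    have hs := h3 Y _ hA
    exact (Presheaf.isSheaf_of_iso_iff ((sheafToPresheaf _ _).mapIso e)).1 hs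
  -- the equaliser hypothesis
  have hθ' : rs F' (n + 1) (sn f (Over.mk f)) θ = rs F' (n + 1) (pc f (Over.mk f)) θ := by
    have h0 := hθ (pullback f f) (pullback.fst f f) (pullback.snd f f) (IsPullback.of_hasPullback f f)
    let ι : (uu f).obj (Over.mk f) ≅ Over.mk (pullback.fst f f ≫ f) :=
      Over.isoMk (Iso.refl _) (by
        change 𝟙 _ ≫ pullback.fst f f ≫ f = pullback.snd f f ≫ f
        rw [Category.id_comp, pullback.condition])
    have e1 : ι.hom ≫ (Over.homMk (pullback.fst f f) rfl :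
        Over.mk (pullback.fst f f ≫ f) ⟶ Over.mk f) = pc f (Over.mk f) := by
      apply Over.OverMorphism.ext
      simp [ι, pc]
    have e2 : ι.hom ≫ (Over.homMk (pullback.snd f f) (IsPullback.of_hasPullback f f).w.symm :
        Over.mk (pullback.fst f f ≫ f) ⟶ Over.mk f) = sn f (Over.mk f) := by
      apply Over.OverMorphism.ext
      simp [ι, sn]
    rw [← e1, ← e2, rs_comp, rs_comp]
    exact congrArg (rs F' (n + 1) ι.hom) h0.symm
  obtain ⟨S₁, hS₁, hkill⟩ := key (J := J) f F' n hsep hcov θ hθ'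
  let S₀ : Sieve Y := Sieve.overEquiv (Over.mk (𝟙 Y)) S₁
  have hS₀ : S₀ ∈ J' Y := (GrothendieckTopology.mem_over_iff J' (Y := Over.mk (𝟙 Y)) S₁).1 hS₁
  refine ⟨(Σ Z : C, {g : Z ⟶ Y // S₀ g}), fun i => i.1, fun i => i.2.1, ?_, ?_⟩
  · refine J'.superset_covering ?_ hS₀
    intro Z g hg
    exact Sieve.ofArrows_mk (I := (Σ Z : C, {g : Z ⟶ Y // S₀ g})) (fun i => i.1) (fun i => i.2.1) ⟨Z, g, hg⟩
  · rintro ⟨Z, g, hg⟩ W p q hpb
    change CohSite.res F' (n + 1) (Over.homMk q rfl : Over.mk (q ≫ f) ⟶ Over.mk f) θ = 0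
    let V : Over Y := Over.mk (g ≫ 𝟙 Y)
    have hg' : S₁ (Over.homMk g : V ⟶ Over.mk (𝟙 Y)) :=
      (Sieve.overEquiv_iff (Y := Over.mk (𝟙 Y)) S₁ g).1 hg
    have hz := hkill _ hg'
    have hpb' : IsPullback p q (g ≫ 𝟙 Y) f := by simpa using hpb
    let e := hpb'.isoPullback
    let et : Over.mk (q ≫ f) ⟶ (uu f).obj V := Over.homMk e.hom (by
      change e.hom ≫ pullback.snd (g ≫ 𝟙 Y) f ≫ f = q ≫ f
      rw [← Category.assoc, hpb'.isoPullback_hom_snd])
    have e3 : et ≫ sn f V = (Over.homMk q rfl : Over.mk (q ≫ f) ⟶ Over.mk f) := by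
      apply Over.OverMorphism.ext
      simp only [Over.comp_left, et, sn, Over.homMk_left]
      exact hpb'.isoPullback_hom_snd
    change rs F' (n + 1) _ θ = 0
    rw [← e3, rs_comp, hz, rs_zero]

end main

end Groth.Agent.H6.ScL4
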