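import Mathlib
import Groth.Prelude.Def_SiteCmp
import Groth.Prelude.Def_WeakSerre
import Groth.Agent.Lib.Helper6.ScVc

/-! Helper6: `A_X` is a weak Serre subcategory (S9074). -/

set_option autoImplicit false
universe u
open CategoryTheory CategoryTheory.Limits Opposite ZeroObject

namespace Groth.Agent.H6.ScWS

open Groth.Agent.H6.ScBase Groth.Agent.H6.ScLan Groth.Agent.H6.ScFF Groth.Agent.H6.ScVc

theorem main9074
    {C : Type u} [SmallCategory C] {J J' : GrothendieckTopology C} (h : J' ≤ J)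
    (P : MorphismProperty C)
    (A' : ∀ X : C, ObjectProperty (Sheaf (J'.over X) AddCommGrpCat.{u})) [∀ X : C, WSerre.IsWeakSerre (A' X)]
    (h1 : ∀ ⦃X Y : C⦄ (f : X ⟶ Y), P f → ∀ ⦃Y' : C⦄ (g : Y' ⟶ Y),
      ∃ (W : C) (p : W ⟶ Y') (q : W ⟶ X), IsPullback p q g f ∧ P p)
    (h2 : ∀ ⦃X Y : C⦄ (f : X ⟶ Y) (F' : Sheaf (J'.over Y) AddCommGrpCat.{u}), A' Y F' →
      A' X ((CohSite.push (J'.over Y) (J'.over X) (Over.map f)).obj F'))
    (h3 : ∀ (X : C) (F' : Sheaf (J'.over X) AddCommGrpCat.{u}), A' X F' → Presheaf.IsSheaf (J.over X) F'.obj)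
    (h4 : ∀ ⦃X Y : C⦄ (f : X ⟶ Y)
      [((Over.map f).sheafPushforwardCocontinuous AddCommGrpCat.{u} (J'.over X) (J'.over Y)).Additive],
      P f → ∀ (F' : Sheaf (J'.over X) AddCommGrpCat.{u}), A' X F' → ∀ i : ℕ,
        A' Y ((((Over.map f).sheafPushforwardCocontinuous AddCommGrpCat.{u} (J'.over X) (J'.over Y)).rightDerived i).obj F'))
    (h5 : ∀ (U : C) (S : Sieve U), S ∈ J U → ∃ (ι : Type u) (V : ι → C) (v : ∀ j, V j ⟶ U),
      Sieve.ofArrows V v ∈ J' U ∧ ∀ j, ∃ (W : C) (w : W ⟶ V j), P w ∧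
        Sieve.ofArrows (fun _ : PUnit.{u + 1} => W) (fun _ => w) ∈ J (V j) ∧
        ∃ (κ : Type u) (Wk : κ → C) (wk : ∀ k, Wk k ⟶ W), Sieve.ofArrows Wk wk ∈ J' W ∧
          ∀ k, S.arrows (wk k ≫ w ≫ v j))
    (X : C) :
    WSerre.IsWeakSerre ((A' X).inverseImage (SiteCmp.epsSh (SiteCmp.over_le h X) AddCommGrpCat.{u})) := by
  have hV1 : ∀ (G : Sheaf (J.over X) AddCommGrpCat.{u}), A' X ((epsO h X).obj G) →
      IsZero (((epsO h X).rightDerived 1).obj G) :=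
    fun G hG => main9073 h P A' h1 h2 h3 h4 h5 X G hG 1 le_rfl
  haveI c0 : ((A' X).inverseImage (epsO h X)).ContainsZero := by
    refine ⟨⟨0, isZero_zero _, ?_⟩⟩
    obtain ⟨Z, hZ, hPZ⟩ := (A' X).exists_prop_of_containsZero
    exact (A' X).prop_of_iso (hZ.iso ((epsO h X).map_isZero (isZero_zero _))) hPZ
  haveI ck : ((A' X).inverseImage (epsO h X)).IsClosedUnderKernels := by
    refine ⟨?_⟩
    rintro _ ⟨f, k, hk, ⟨hA, hB⟩⟩
    have e1 : k.pt ≅ kernel f := IsLimit.conePointUniqueUpToIso hk (limit.isLimit _)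
    have e2 : (epsO h X).obj (kernel f) ≅ kernel ((epsO h X).map f) :=
      PreservesKernel.iso (epsO h X) f
    exact (A' X).prop_of_iso (((epsO h X).mapIso e1 ≪≫ e2).symm)
      ((A' X).prop_kernel ((epsO h X).map f) hA hB)
  haveI cc : ((A' X).inverseImage (epsO h X)).IsClosedUnderCokernels := by
    refine ⟨?_⟩
    rintro _ ⟨f, k, hk, ⟨hA, hB⟩⟩
    have e1 : k.pt ≅ cokernel f := IsColimit.coconePointUniqueUpToIso hk (colimit.isColimit _)
    have hc := (A' X).prop_cokernel ((epsO h X).map f) hA hB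
    obtain ⟨e2⟩ := nonempty_eps_cokernel_iso (SiteCmp.over_le h X) f (h3 X _ hc)
    exact (A' X).prop_of_iso (((epsO h X).mapIso e1 ≪≫ e2).symm) hc
  haveI ce : ((A' X).inverseImage (epsO h X)).IsClosedUnderExtensions := by
    refine ⟨?_⟩
    intro S hS hX1 hX3
    have hex := Groth.Agent.LD.PE.shortExact_map_of_isZero_R1 (epsO h X) hS (hV1 S.X₁ hX1)
    exact (A' X).prop_X₂_of_shortExact hex hX1 hX3
  exact {}

end Groth.Agent.H6.ScWS
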