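import Mathlib
import Groth.Prelude.Def_CInt
import Groth.Agent.Lib.Helper3.SchDenseExt

/-!
# A faithfully flat, quasi-compact, separated, schematically birational morphism is an isomorphism
-/

set_option autoImplicit false

universe u

open CategoryTheory CategoryTheory.Limits AlgebraicGeometry

namespace Groth.Agent.H6.SchBir

/-- **S15993**. -/
theorem s15993 {X S : Scheme.{u}} (f : X ⟶ S)
    [Flat f] [Surjective f] [QuasiCompact f] [IsSeparated f]
    (U : S.Opens) (V : X.Opens) [QuasiCompact V.ι]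
    (hU : CInt.IsSchematicallyDense U) (hV : CInt.IsSchematicallyDense V)
    (hle : V ≤ f ⁻¹ᵁ U) (hiso : IsIso (f.resLE U V hle)) : IsIso f := by
  -- `V.ι ≫ f` is a monomorphism
  have hmono : Mono (V.ι ≫ f) := by
    rw [← Scheme.Hom.resLE_comp_ι f hle]; infer_instance
  -- density in the fibre product
  have hD1 : CInt.IsSchematicallyDense ((pullback.fst f f) ⁻¹ᵁ V) :=
    Groth.Agent.H5.AlgSp.isSchematicallyDense_preimage_of_flat (pullback.fst f f) hV
  have hD2 : CInt.IsSchematicallyDense ((pullback.snd f f) ⁻¹ᵁ V) :=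
    Groth.Agent.H5.AlgSp.isSchematicallyDense_preimage_of_flat (pullback.snd f f) hV
  have hD : CInt.IsSchematicallyDense ((pullback.fst f f) ⁻¹ᵁ V ⊓ (pullback.snd f f) ⁻¹ᵁ V) :=
    Groth.Agent.H7.SchDenseSp.schDense_inf hD1 hD2
  have hfs : pullback.fst f f = pullback.snd f f := by
    have hr1 : Set.range (((pullback.fst f f) ⁻¹ᵁ V ⊓ (pullback.snd f f) ⁻¹ᵁ V).ι ≫
        pullback.fst f f) ⊆ Set.range V.ι := by
      rw [Scheme.Opens.range_ι]
      rintro _ ⟨z, rfl⟩
      exact z.2.1
    have hr2 : Set.range (((pullback.fst f f) ⁻¹ᵁ V ⊓ (pullback.snd f f) ⁻¹ᵁ V).ι ≫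
        pullback.snd f f) ⊆ Set.range V.ι := by
      rw [Scheme.Opens.range_ι]
      rintro _ ⟨z, rfl⟩
      exact z.2.2
    have ha := IsOpenImmersion.lift_fac V.ι _ hr1
    have hb := IsOpenImmersion.lift_fac V.ι _ hr2
    have hab : IsOpenImmersion.lift V.ι _ hr1 = IsOpenImmersion.lift V.ι _ hr2 := by
      rw [← cancel_mono (V.ι ≫ f), ← Category.assoc, ← Category.assoc, ha, hb,
        Category.assoc, Category.assoc, pullback.condition]
    have hres : ((pullback.fst f f) ⁻¹ᵁ V ⊓ (pullback.snd f f) ⁻¹ᵁ V).ι ≫ pullback.fst f f =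
        ((pullback.fst f f) ⁻¹ᵁ V ⊓ (pullback.snd f f) ⁻¹ᵁ V).ι ≫ pullback.snd f f := by
      rw [← ha, ← hb, hab]
    haveI : IsSeparated (Over.mk f).hom := inferInstanceAs (IsSeparated f)
    have key := Groth.Agent.H3.SchDenseExt.sep_ext (B := S) (Z := Over.mk (pullback.fst f f ≫ f))
      (Y := Over.mk f) (Over.homMk (pullback.fst f f) rfl)
      (Over.homMk (pullback.snd f f) pullback.condition.symm) _ hD hres
    exact congrArg (fun m => m.left) key
  haveI : Mono f := by
    refine ⟨fun {T} a b hab => ?_⟩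
    have h1 : pullback.lift a b hab ≫ pullback.fst f f = a := pullback.lift_fst _ _ _
    have h2 : pullback.lift a b hab ≫ pullback.snd f f = b := pullback.lift_snd _ _ _
    calc a = pullback.lift a b hab ≫ pullback.fst f f := h1.symm
      _ = pullback.lift a b hab ≫ pullback.snd f f := by rw [hfs]
      _ = b := h2
  exact Flat.isIso_of_surjective_of_mono f

end Groth.Agent.H6.SchBir
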