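import Groth.Prelude.Def_SchFin
import Mathlib.RingTheory.Spectrum.Prime.Topology

/-!
# Maps between trivial covers on a well-connected finite ringed space (helper6)
-/

universe u

namespace Groth.Agent.H6.SF

open SchFin

theorem idem_eq_zero_or_one {R : Type*} [CommRing R] [ConnectedSpace (PrimeSpectrum R)]
    (e : R) (he : IsIdempotentElem e) : e = 0 ∨ e = 1 := by
  have hcl : IsClopen (PrimeSpectrum.basicOpen e : Set (PrimeSpectrum R)) :=
    PrimeSpectrum.isClopen_iff.mpr ⟨e, he, rfl⟩
  rcases isClopen_iff.mp hcl with h | h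
  · left
    apply PrimeSpectrum.basicOpen_injOn_isIdempotentElem he IsIdempotentElem.zero
    apply TopologicalSpace.Opens.ext
    rw [h]; simp
  · right
    apply PrimeSpectrum.basicOpen_injOn_isIdempotentElem he IsIdempotentElem.one
    apply TopologicalSpace.Opens.ext
    rw [h]; simp

/-- An algebra map `R^F → R` over a ring with connected spectrum is evaluation at a unique index. -/
theorem exists_unique_index {R : Type*} [CommRing R] [ConnectedSpace (PrimeSpectrum R)]
    {F : Type*} [Finite F] [DecidableEq F] (χ : (F → R) →ₐ[R] R) :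
    ∃ i : F, χ (Pi.single i 1) = 1 ∧ (∀ j, j ≠ i → χ (Pi.single j 1) = 0) ∧
      ∀ g : F → R, χ g = g i := by
  cases nonempty_fintype F
  haveI : Nontrivial R := by
    have : Nonempty (PrimeSpectrum R) := inferInstance
    exact (PrimeSpectrum.nonempty_iff_nontrivial.mp this)
  have hid : ∀ i, IsIdempotentElem (χ (Pi.single i 1)) := by
    intro i
    rw [IsIdempotentElem, ← map_mul, ← Pi.single_mul, mul_one]
  have horth : ∀ i j, i ≠ j → χ (Pi.single i 1) * χ (Pi.single j 1) = 0 := by
    intro i j hij
    rw [← map_mul]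
    have : (Pi.single i (1 : R) : F → R) * Pi.single j 1 = 0 := by
      funext l
      by_cases hl : l = i
      · subst hl; simp [Pi.single_eq_of_ne hij]
      · simp [Pi.single_eq_of_ne hl]
    rw [this, map_zero]
  have hsum : ∑ i, χ (Pi.single i 1) = 1 := by
    rw [← map_sum, Finset.univ_sum_single]
    exact map_one χ
  have hex : ∃ i, χ (Pi.single i 1) = 1 := by
    by_contra hne
    push Not at hne
    have : ∀ i, χ (Pi.single i 1) = 0 := fun i =>
      (idem_eq_zero_or_one _ (hid i)).resolve_right (hne i)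
    rw [Finset.sum_eq_zero (fun i _ => this i)] at hsum
    exact zero_ne_one hsum
  obtain ⟨i, hi⟩ := hex
  have hz : ∀ j, j ≠ i → χ (Pi.single j 1) = 0 := by
    intro j hj
    have := horth j i hj
    rwa [hi, mul_one] at this
  refine ⟨i, hi, hz, fun g => ?_⟩
  have hg : g = ∑ l, g l • (Pi.single l (1 : R) : F → R) := by
    funext l
    simp [Finset.sum_apply, Pi.single_apply]
  conv_lhs => rw [hg]
  rw [map_sum]
  simp only [map_smul, smul_eq_mul]
  rw [Finset.sum_eq_single i (fun j _ hj => by rw [hz j hj, mul_zero]) (fun h => absurd (Finset.mem_univ i) h),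
    hi, mul_one]

theorem eqvGen_of_isConnected (X : RSpace.{u})
    (hC : X.IsConnected) (hP : X.IsPwConnected) (p₀ q₀ : X.pt) :
    Relation.EqvGen (fun a b : X.pt => a ≤ b) p₀ q₀ := by
  classical
  haveI : ConnectedSpace (PrimeSpectrum (X.sectRing Set.univ)) := hC
  haveI : ∀ p, Nontrivial (X.ring p) := fun p => by
    haveI : ConnectedSpace (PrimeSpectrum (X.ring p)) := hP p
    have : Nonempty (PrimeSpectrum (X.ring p)) := inferInstance
    exact PrimeSpectrum.nonempty_iff_nontrivial.mp this
  let s₀ : (q : ↥(Set.univ : Set X.pt)) → X.ring q.1 := fun q =>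
    if Relation.EqvGen (fun a b : X.pt => a ≤ b) p₀ q.1 then 1 else 0
  have hs₀ : s₀ ∈ X.sectRing Set.univ := by
    intro q q' h
    have hiff : Relation.EqvGen (fun a b : X.pt => a ≤ b) p₀ q.1 ↔
        Relation.EqvGen (fun a b : X.pt => a ≤ b) p₀ q'.1 :=
      ⟨fun hq => Relation.EqvGen.trans _ _ _ hq (Relation.EqvGen.rel _ _ h),
        fun hq => Relation.EqvGen.trans _ _ _ hq
          (Relation.EqvGen.symm _ _ (Relation.EqvGen.rel _ _ h))⟩
    simp only [s₀]
    by_cases hq : Relation.EqvGen (fun a b : X.pt => a ≤ b) p₀ q.1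
    · rw [if_pos hq, if_pos (hiff.mp hq), map_one]
    · rw [if_neg hq, if_neg (fun h' => hq (hiff.mpr h')), map_zero]
  have hidem : IsIdempotentElem (⟨s₀, hs₀⟩ : X.sectRing Set.univ) := by
    apply Subtype.ext
    funext q
    change s₀ q * s₀ q = s₀ q
    simp only [s₀]
    split_ifs <;> simp
  rcases idem_eq_zero_or_one _ hidem with h | h
  · exfalso
    have := congrArg (fun t : X.sectRing Set.univ => t.1 ⟨p₀, trivial⟩) h
    simp only [s₀, if_pos (Relation.EqvGen.refl p₀)] at this
    exact one_ne_zero this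
  · have := congrArg (fun t : X.sectRing Set.univ => t.1 ⟨q₀, trivial⟩) h
    simp only [s₀] at this
    by_contra hq
    rw [if_neg hq] at this
    exact zero_ne_one this

theorem nonempty_of_isConnected (X : RSpace.{u}) (hC : X.IsConnected) : Nonempty X.pt := by
  haveI : ConnectedSpace (PrimeSpectrum (X.sectRing Set.univ)) := hC
  have : Nonempty (PrimeSpectrum (X.sectRing Set.univ)) := inferInstance
  haveI : Nontrivial (X.sectRing Set.univ) := PrimeSpectrum.nonempty_iff_nontrivial.mp this
  by_contra hne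
  rw [not_nonempty_iff] at hne
  have : (0 : X.sectRing Set.univ) = 1 := by
    apply Subtype.ext
    funext q
    exact (hne.false q.1).elim
  exact zero_ne_one this

theorem trivial_cover_map (X : RSpace.{u}) (hW : X.IsWellConnected) (F E : Type)
    [Finite F] [Finite E]
    (f : ∀ p : X.pt, (F → X.ring p) →ₐ[X.ring p] (E → X.ring p))
    (hf : ∀ (p q : X.pt) (h : p ≤ q) (g : F → X.ring p) (e : E),
      X.res h (f p g e) = f q (fun i => X.res h (g i)) e) :
    ∃ φ : E → F, ∀ (p : X.pt) (g : F → X.ring p) (e : E), f p g e = g (φ e) := by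
  classical
  obtain ⟨hC, hP⟩ := hW
  haveI : ∀ p, ConnectedSpace (PrimeSpectrum (X.ring p)) := hP
  haveI : ∀ p, Nontrivial (X.ring p) := fun p => by
    have : Nonempty (PrimeSpectrum (X.ring p)) := inferInstance
    exact PrimeSpectrum.nonempty_iff_nontrivial.mp this
  let χ : ∀ (p : X.pt) (e : E), (F → X.ring p) →ₐ[X.ring p] X.ring p := fun p e =>
    (Pi.evalAlgHom (X.ring p) (fun _ : E => X.ring p) e).comp (f p)
  have hχ : ∀ p e, ∃ i : F, f p (Pi.single i 1) e = 1 ∧ (∀ j, j ≠ i → f p (Pi.single j 1) e = 0) ∧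
      ∀ g : F → X.ring p, f p g e = g i := fun p e => exists_unique_index (χ p e)
  have huniq : ∀ p e i j, f p (Pi.single i 1) e = 1 → f p (Pi.single j 1) e = 1 → i = j := by
    intro p e i j hi hj
    obtain ⟨l, _, h2, _⟩ := hχ p e
    have hil : i = l := by
      by_contra hne; rw [h2 i hne] at hi; exact zero_ne_one hi
    have hjl : j = l := by
      by_contra hne; rw [h2 j hne] at hj; exact zero_ne_one hj
    rw [hil, hjl]
  have hmono : ∀ p q (h : p ≤ q) e i, f p (Pi.single i 1) e = 1 → f q (Pi.single i 1) e = 1 := by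
    intro p q h e i hi
    have h1 := hf p q h (Pi.single i 1) e
    rw [hi, map_one] at h1
    have h2 : (fun l => X.res h ((Pi.single i 1 : F → X.ring p) l)) =
        (Pi.single i 1 : F → X.ring q) := by
      funext l
      by_cases hl : l = i
      · subst hl; simp
      · simp [Pi.single_eq_of_ne hl]
    rw [h2] at h1
    exact h1.symm
  obtain ⟨p₀⟩ := nonempty_of_isConnected X hC
  choose φ hφ using fun e => hχ p₀ e
  refine ⟨φ, fun p g e => ?_⟩
  have key : ∀ p q, Relation.EqvGen (fun a b : X.pt => a ≤ b) p q →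
      ∀ i, (f p (Pi.single i 1) e = 1 ↔ f q (Pi.single i 1) e = 1) := by
    intro p q hpq
    induction hpq with
    | rel p q h =>
      intro i
      refine ⟨hmono p q h e i, fun hq => ?_⟩
      obtain ⟨i', h1, _, _⟩ := hχ p e
      have := hmono p q h e i' h1
      rw [huniq q e i i' hq this]; exact h1
    | refl p => intro i; rfl
    | symm p q _ ih => intro i; exact (ih i).symm
    | trans p q r _ _ ih1 ih2 => intro i; exact (ih1 i).trans (ih2 i)
  have h1 : f p (Pi.single (φ e) 1) e = 1 :=
    (key p₀ p (eqvGen_of_isConnected X hC hP p₀ p) (φ e)).mp (hφ e).1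
  obtain ⟨i, hi, _, hg⟩ := hχ p e
  rw [hg g, huniq p e i (φ e) hi h1]

end Groth.Agent.H6.SF
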