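import Mathlib
import Groth.Prelude.Def_CInt
import Groth.Agent.Lib.Helper1.CMQF
import Groth.Agent.Lib.Helper1.EtNhd2
import Groth.Agent.Lib.Helper7.SecOpen1

/-!
# Étale locus, flat locus and local sections of a morphism which is an isomorphism over a dense open
-/

set_option autoImplicit false

universe u

open CategoryTheory CategoryTheory.Limits AlgebraicGeometry

namespace Groth.Agent.H6.SecEt

/-- A flat morphism locally of finite presentation from an affine scheme which is a monomorphism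
over an open `U` with schematically dense preimage is a monomorphism. -/
theorem mono_of_flat_aux {W S : Scheme.{u}} [IsAffine W] (g : W ⟶ S) [Flat g]
    [LocallyOfFinitePresentation g] (U : S.Opens)
    (hD : CInt.IsSchematicallyDense (g ⁻¹ᵁ U)) (hmono : Mono ((g ⁻¹ᵁ U).ι ≫ g)) : Mono g := by
  have hD2 : CInt.IsSchematicallyDense ((pullback.fst g g) ⁻¹ᵁ (g ⁻¹ᵁ U)) :=
    Groth.Agent.H3.SchDenseLfp.main (pullback.fst g g) _ hD
  have hfs : pullback.fst g g = pullback.snd g g := by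
    refine Groth.Agent.H7.SecOpen.ext_of_schDense _ _ _ hD2 ?_
    have hr1 : Set.range (((pullback.fst g g) ⁻¹ᵁ (g ⁻¹ᵁ U)).ι ≫ pullback.fst g g) ⊆
        Set.range (g ⁻¹ᵁ U).ι := by
      rw [Scheme.Opens.range_ι]
      rintro _ ⟨z, rfl⟩
      exact z.2
    have hr2 : Set.range (((pullback.fst g g) ⁻¹ᵁ (g ⁻¹ᵁ U)).ι ≫ pullback.snd g g) ⊆
        Set.range (g ⁻¹ᵁ U).ι := by
      rw [Scheme.Opens.range_ι]
      rintro _ ⟨z, rfl⟩
      have h1 : g (pullback.snd g g z.1) = g (pullback.fst g g z.1) := by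
        have := congrArg (fun m : pullback g g ⟶ S => m z.1) (pullback.condition (f := g) (g := g))
        simpa using this.symm
      have h2 : g (pullback.fst g g z.1) ∈ U := z.2
      change g (pullback.snd g g z.1) ∈ U
      rw [h1]; exact h2
    have ha := IsOpenImmersion.lift_fac (g ⁻¹ᵁ U).ι _ hr1
    have hb := IsOpenImmersion.lift_fac (g ⁻¹ᵁ U).ι _ hr2
    have hab : IsOpenImmersion.lift (g ⁻¹ᵁ U).ι _ hr1 =
        IsOpenImmersion.lift (g ⁻¹ᵁ U).ι _ hr2 := by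
      rw [← cancel_mono ((g ⁻¹ᵁ U).ι ≫ g), ← Category.assoc, ← Category.assoc, ha, hb,
        Category.assoc, Category.assoc, pullback.condition]
    rw [← ha, ← hb, hab]
  refine ⟨fun {T} a b hab => ?_⟩
  have h1 : pullback.lift a b hab ≫ pullback.fst g g = a := pullback.lift_fst _ _ _
  have h2 : pullback.lift a b hab ≫ pullback.snd g g = b := pullback.lift_snd _ _ _
  calc a = pullback.lift a b hab ≫ pullback.fst g g := h1.symm
    _ = pullback.lift a b hab ≫ pullback.snd g g := by rw [hfs]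
    _ = b := h2

/-- The restriction of `f` to an affine open on which it is flat and locally of finite
presentation is a monomorphism, if `f` is an isomorphism over `U` and `f⁻¹ U` is schematically
dense. -/
theorem mono_of_flat {X S : Scheme.{u}} (f : X ⟶ S) (U : S.Opens)
    (hiso : IsIso (f ∣_ U)) (hdense : CInt.IsSchematicallyDense (f ⁻¹ᵁ U))
    (W : X.Opens) (hW : IsAffineOpen W) [Flat (W.ι ≫ f)]
    [LocallyOfFinitePresentation (W.ι ≫ f)] : Mono (W.ι ≫ f) := by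
  haveI : IsAffine W.toScheme := hW
  have hD1 : CInt.IsSchematicallyDense (W.ι ⁻¹ᵁ (f ⁻¹ᵁ U)) :=
    Groth.Agent.H3.SchDenseLfp.main W.ι _ hdense
  have hD : CInt.IsSchematicallyDense ((W.ι ≫ f) ⁻¹ᵁ U) := by
    rw [Scheme.Hom.comp_preimage]; exact hD1
  have hmono : Mono ((f ⁻¹ᵁ U).ι ≫ f) := by
    rw [← morphismRestrict_ι]; infer_instance
  refine mono_of_flat_aux (W.ι ≫ f) U hD ?_
  have hr : Set.range (((W.ι ≫ f) ⁻¹ᵁ U).ι ≫ W.ι) ⊆ Set.range (f ⁻¹ᵁ U).ι := by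
    rw [Scheme.Opens.range_ι]
    rintro _ ⟨z, rfl⟩
    exact z.2
  have hfac := IsOpenImmersion.lift_fac (f ⁻¹ᵁ U).ι _ hr
  haveI : Mono (IsOpenImmersion.lift (f ⁻¹ᵁ U).ι _ hr) := by
    apply mono_of_mono_fac hfac
  have e : ((W.ι ≫ f) ⁻¹ᵁ U).ι ≫ W.ι ≫ f =
      IsOpenImmersion.lift (f ⁻¹ᵁ U).ι _ hr ≫ (f ⁻¹ᵁ U).ι ≫ f := by
    exact ((Category.assoc _ _ _).symm.trans (congrArg (· ≫ f) hfac.symm)).trans
      (Category.assoc _ _ _)
  rw [e]
  exact mono_comp _ _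

/-- **Flat points have open-immersion neighbourhoods.** -/
theorem exists_oi_nhd_of_flat {X S : Scheme.{u}} [IsLocallyNoetherian S] (f : X ⟶ S)
    [LocallyOfFiniteType f] (U : S.Opens) (hiso : IsIso (f ∣_ U))
    (hdense : CInt.IsSchematicallyDense (f ⁻¹ᵁ U)) (x : X) (hfl : (f.stalkMap x).hom.Flat) :
    ∃ W : X.Opens, x ∈ W ∧ IsOpenImmersion (W.ι ≫ f) := by
  haveI : LocallyOfFinitePresentation f := Groth.Agent.H1.EtNhd.lfp_of_lft_of_noetherian f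
  obtain ⟨W₁, hxW₁, hW₁⟩ := Groth.Agent.H1.CMQF.exists_flat_nhd f x hfl
  have key : ∀ W : X.Opens, IsAffineOpen W → W ≤ W₁ → x ∈ W →
      ∃ W : X.Opens, x ∈ W ∧ IsOpenImmersion (W.ι ≫ f) := by
    intro W hW hle hxW
    haveI : Flat (W.ι ≫ f) := by
      rw [← X.homOfLE_ι hle, Category.assoc]; infer_instance
    haveI : LocallyOfFinitePresentation (W.ι ≫ f) := inferInstance
    haveI := mono_of_flat f U hiso hdense W hW
    exact ⟨W, hxW, IsOpenImmersion.of_flat_of_mono _⟩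
  obtain ⟨_, ⟨W, hW, rfl⟩, hxW, hWle⟩ :=
    X.isBasis_affineOpens.exists_subset_of_mem_open hxW₁ W₁.isOpen
  exact key W hW hWle hxW

/-- restriction of an isomorphism over `U` to `V`. -/
theorem isIso_restrict_restrict {X S : Scheme.{u}} (f : X ⟶ S) (U V : S.Opens)
    (h : IsIso (f ∣_ U)) : IsIso (f ∣_ V ∣_ (V.ι ⁻¹ᵁ U)) := by
  have e1 : V.ι ''ᵁ (V.ι ⁻¹ᵁ U) = U.ι ''ᵁ (U.ι ⁻¹ᵁ V) := by
    rw [Scheme.Hom.image_preimage_eq_opensRange_inf, Scheme.Hom.image_preimage_eq_opensRange_inf,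
      Scheme.Opens.opensRange_ι, Scheme.Opens.opensRange_ι, inf_comm]
  have i : Arrow.mk (f ∣_ V ∣_ (V.ι ⁻¹ᵁ U)) ≅ Arrow.mk (f ∣_ U ∣_ (U.ι ⁻¹ᵁ V)) :=
    morphismRestrictRestrict f V (V.ι ⁻¹ᵁ U) ≪≫ morphismRestrictEq f e1 ≪≫
      (morphismRestrictRestrict f U (U.ι ⁻¹ᵁ V)).symm
  have h2 : IsIso (f ∣_ U ∣_ (U.ι ⁻¹ᵁ V)) := inferInstance
  exact ((MorphismProperty.isomorphisms Scheme.{u}).arrow_mk_iso_iff i).mpr h2

/-- **A local section passes through the open-immersion locus.** -/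
theorem exists_oi_nhd_of_section {X S : Scheme.{u}} (f : X ⟶ S) (U : S.Opens)
    (hiso : IsIso (f ∣_ U)) (hdense : CInt.IsSchematicallyDense (f ⁻¹ᵁ U))
    (V : S.Opens) (σ : V.toScheme ⟶ X) (hσ : σ ≫ f = V.ι) (s : V) :
    ∃ W : X.Opens, σ s ∈ W ∧ IsOpenImmersion (W.ι ≫ f) := by
  have hσf : ∀ v : V, f (σ v) = v.1 := fun v => by
    have := congrArg (fun m : V.toScheme ⟶ S => m v) hσ
    exact this
  have hr : Set.range σ ⊆ Set.range (f ⁻¹ᵁ V).ι := by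
    rw [Scheme.Opens.range_ι]
    rintro _ ⟨v, rfl⟩
    change f (σ v) ∈ V
    rw [hσf]; exact v.2
  have hfac := IsOpenImmersion.lift_fac (f ⁻¹ᵁ V).ι σ hr
  have hσ' : IsOpenImmersion.lift (f ⁻¹ᵁ V).ι σ hr ≫ (f ∣_ V) = 𝟙 _ := by
    rw [← cancel_mono V.ι, Category.assoc, morphismRestrict_ι, ← Category.assoc, hfac, hσ,
      Category.id_comp]
  have hiso' : IsIso (f ∣_ V ∣_ (V.ι ⁻¹ᵁ U)) := isIso_restrict_restrict f U V hiso
  have hdense' : CInt.IsSchematicallyDense ((f ∣_ V) ⁻¹ᵁ (V.ι ⁻¹ᵁ U)) := by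
    have e : (f ∣_ V) ⁻¹ᵁ (V.ι ⁻¹ᵁ U) = (f ⁻¹ᵁ V).ι ⁻¹ᵁ (f ⁻¹ᵁ U) := by
      rw [← Scheme.Hom.comp_preimage, ← Scheme.Hom.comp_preimage, morphismRestrict_ι]
    rw [e]
    exact Groth.Agent.H3.SchDenseLfp.main (f ⁻¹ᵁ V).ι _ hdense
  obtain ⟨W', hsW', hW'⟩ := Groth.Agent.H7.SecOpen.S17727_main (f ∣_ V) (V.ι ⁻¹ᵁ U) hiso' hdense'
    (IsOpenImmersion.lift (f ⁻¹ᵁ V).ι σ hr) hσ' s
  refine ⟨(f ⁻¹ᵁ V).ι ''ᵁ W', ?_, ?_⟩
  · refine ⟨_, hsW', ?_⟩
    have := congrArg (fun m : V.toScheme ⟶ X => m s) hfac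
    exact this
  · have e : ((f ⁻¹ᵁ V).ι ''ᵁ W').ι ≫ f =
        ((f ⁻¹ᵁ V).ι.isoImage W').inv ≫ (W'.ι ≫ (f ∣_ V)) ≫ V.ι := by
      rw [Category.assoc, morphismRestrict_ι, ← Scheme.Hom.isoImage_inv_ι_assoc]
    rw [e]
    infer_instance

/-- **S17728**. -/
theorem s17728 {X S : Scheme.{u}} [IsNoetherian S] (f : X ⟶ S) [LocallyOfFiniteType f]
    (U : S.Opens) (hiso : IsIso (morphismRestrict f U))
    (hdense : CInt.IsSchematicallyDense (f ⁻¹ᵁ U)) (x : X) :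
    List.TFAE [
      ∃ W : X.Opens, x ∈ W ∧ Etale (W.ι ≫ f),
      (f.stalkMap x).hom.Flat,
      ∃ (V : S.Opens) (hV : f.base x ∈ V) (σ : (V : Scheme.{u}) ⟶ X),
        σ ≫ f = V.ι ∧ σ.base ⟨f.base x, hV⟩ = x] := by
  tfae_have 1 → 2 := fun h => (Groth.Agent.H1.EtNhd.stalk_of_etale_nhd f x h).1
  tfae_have 2 → 3 := by
    intro hfl
    obtain ⟨W, hxW, hW⟩ := exists_oi_nhd_of_flat f U hiso hdense x hfl
    have hV : f.base x ∈ (W.ι ≫ f).opensRange := ⟨⟨x, hxW⟩, rfl⟩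
    refine ⟨(W.ι ≫ f).opensRange, hV, (W.ι ≫ f).isoOpensRange.inv ≫ W.ι, ?_, ?_⟩
    · rw [Category.assoc, Scheme.Hom.isoOpensRange_inv_comp]
    · have h1 : (W.ι ≫ f).isoOpensRange.hom ⟨x, hxW⟩ = ⟨f.base x, hV⟩ := by
        apply Subtype.ext
        have := congrArg (fun m : W.toScheme ⟶ S => m ⟨x, hxW⟩)
          (W.ι ≫ f).isoOpensRange_hom_ι
        exact this
      have h2 : (W.ι ≫ f).isoOpensRange.inv ⟨f.base x, hV⟩ = ⟨x, hxW⟩ := by
        rw [← h1]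
        have := congrArg (fun m : W.toScheme ⟶ W.toScheme => m ⟨x, hxW⟩)
          (W.ι ≫ f).isoOpensRange.hom_inv_id
        simpa using this
      change W.ι ((W.ι ≫ f).isoOpensRange.inv ⟨f.base x, hV⟩) = x
      rw [h2]
      rfl
  tfae_have 3 → 1 := by
    rintro ⟨V, hV, σ, hσ, hσx⟩
    obtain ⟨W, hsW, hW⟩ := exists_oi_nhd_of_section f U hiso hdense V σ hσ ⟨f.base x, hV⟩
    refine ⟨W, ?_, inferInstance⟩
    have : σ ⟨f.base x, hV⟩ = x := hσx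
    rw [← this]
    exact hsW
  tfae_finish

end Groth.Agent.H6.SecEt
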