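import Groth.Agent.Lib.Helper6.ArtFunFirstOrder

/-!
# helper6: `Heps` implies bijectivity of the comparison map for `A ×_k (k ⊕ V)`
-/

set_option autoImplicit false
set_option linter.style.haveILetI false
set_option linter.unusedTactic false
set_option linter.unusedVariables false
set_option linter.deprecated false

universe u v

open CategoryTheory

namespace Groth.Agent.H6.SecSplit

open ArtFun ArtFun.Art IsLocalRing

variable {Λ : Type u} {k : Type u} [CommRing Λ] [Field k] [Algebra Λ k]

section ErCase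

variable [IsNoetherianRing Λ] [Module.Finite Λ k] {F : Art Λ k ⥤ Type v}

lemma toBase_er_zero_bijective : Function.Bijective (toBase (Er Λ k 0)) := by
  constructor
  · intro x y hxy
    have h1 : TrivSqZeroExt.fst (x : TrivSqZeroExt k (Fin 0 → k)) =
        TrivSqZeroExt.fst (y : TrivSqZeroExt k (Fin 0 → k)) := hxy
    exact TrivSqZeroExt.ext h1 (Subsingleton.elim _ _)
  · exact (Er Λ k 0).res_surjective

/-- the comparison map for `A ×_k (k ⊕ k^r)` is bijective under `Heps`. -/
theorem cmp_bijective_er (hF : Heps F) (r : ℕ) :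
    ∀ ⦃B A : Art Λ k⦄ (p' : B ⟶ A) (p'' : B ⟶ Er Λ k r)
      (h : IsFibreProd p' p'' (toBase A) (toBase (Er Λ k r))), Function.Bijective (cmp F h) := by
  induction r with
  | zero =>
    intro B A p' p'' h
    haveI : IsIso (toBase (Er Λ k 0)) := art_isIso_of_bijective _ toBase_er_zero_bijective
    exact cmp_bijective_of_isIso F h
  | succ r ih =>
    intro B A p' p'' h
    have hsurj : Function.Surjective (toBase (Er Λ k r)) := (Er Λ k r).res_surjective
    obtain ⟨B', q', q'', hB'⟩ := art_exists_isFibreProd (toBase A) (toBase (Er Λ k r)) hsurj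
    obtain ⟨π, hπ1, hπ2⟩ := fp_exists_lift hB' p' (p'' ≫ erMap (initL r))
      (by rw [eq_toBase (p' ≫ _), eq_toBase ((p'' ≫ _) ≫ _)])
    have hπ1' : ∀ b, q' (π b) = p' b := fun b => congrArg (fun g : B ⟶ A => g b) hπ1
    have hπ2' : ∀ b, q'' (π b) = erMap (initL r) (p'' b) := fun b =>
      congrArg (fun g : B ⟶ Er Λ k r => g b) hπ2
    have her := isFibreProd_er (Λ := Λ) (k := k) r
    -- `B = B' ×_k k[ε]`
    have hB : IsFibreProd π (p'' ≫ erToDual (lastL r)) (toBase B') (toBase (dual Λ k)) := by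
      refine ⟨by rw [eq_toBase (π ≫ _), eq_toBase ((p'' ≫ _) ≫ _)], ?_, ?_⟩
      · intro b₁ b₂ e1 e2
        apply h.inj
        · rw [← hπ1', ← hπ1', e1]
        · apply her.inj
          · rw [← hπ2', ← hπ2', e1]
          · exact e2
      · intro b' u hbu
        have hbu' : B'.res b' = (dual Λ k).res u := hbu
        obtain ⟨e, he1, he2⟩ := her.surj (q'' b') u (by
          change (Er Λ k r).res (q'' b') = (dual Λ k).res u
          rw [Art.res_app, hbu'])
        obtain ⟨b, hb1, hb2⟩ := h.surj (q' b') e (by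
          change A.res (q' b') = (Er Λ k (r + 1)).res e
          rw [Art.res_app, ← Art.res_app (erToDual (lastL r)) e, he2, hbu'])
        refine ⟨b, ?_, ?_⟩
        · apply hB'.inj
          · rw [hπ1', hb1]
          · rw [hπ2', hb2, he1]
        · change erToDual (lastL r) (p'' b) = u
          rw [hb2, he2]
    have hbij1 := hF π (p'' ≫ erToDual (lastL r)) hB
    have hbij2 := ih q' q'' hB'
    have hbij3 := hF (erMap (Λ := Λ) (initL (k := k) r)) (erToDual (lastL r)) her
    constructor
    · rw [cmp_injective_iff]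
      intro z₁ z₂ e1 e2
      apply (cmp_injective_iff F hB).1 hbij1.1
      · apply (cmp_injective_iff F hB').1 hbij2.1
        · rw [← map_comp_apply', ← map_comp_apply', hπ1, e1]
        · rw [← map_comp_apply', ← map_comp_apply', hπ2, map_comp_apply', map_comp_apply', e2]
      · rw [map_comp_apply', map_comp_apply', e2]
    · rw [cmp_surjective_iff]
      intro a e hae
      obtain ⟨z', hz'1, hz'2⟩ := (cmp_surjective_iff F hB').1 hbij2.2 a
        (F.map (erMap (initL r)) e) (by
          rw [hae, ← map_comp_apply', eq_toBase (erMap (initL r) ≫ _)])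
      obtain ⟨z, hz1, hz2⟩ := (cmp_surjective_iff F hB).1 hbij1.2 z'
        (F.map (erToDual (lastL r)) e) (by
          rw [← map_comp_apply', eq_toBase (erToDual (lastL r) ≫ _), ← hae, ← hz'1,
            ← map_comp_apply', eq_toBase (q' ≫ _)])
      refine ⟨z, ?_, ?_⟩
      · rw [← hπ1, map_comp_apply', hz1, hz'1]
      · apply (cmp_injective_iff F her).1 hbij3.1
        · rw [← map_comp_apply', ← hπ2, map_comp_apply', hz1, hz'2]
        · rw [← map_comp_apply', hz2]

end ErCase

section Iso

variable [IsNoetherianRing Λ] [Module.Finite Λ k]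

/-- an object with a section and square-zero maximal ideal is isomorphic to some `k ⊕ k^r`. -/
theorem exists_bijective_er (E : Art Λ k) (σ : base Λ k ⟶ E) (hE : maximalIdeal E ^ 2 = ⊥) :
    ∃ (r : ℕ) (Φ : Er Λ k r ⟶ E), Function.Bijective Φ := by
  classical
  letI alg : Algebra k E := σ.toAlgHom.toRingHom.toAlgebra
  have halg : ∀ c : k, algebraMap k E c = σ c := fun c => rfl
  haveI : Module.Finite Λ E := art_finite E
  haveI : IsScalarTower Λ k E :=
    IsScalarTower.of_algebraMap_eq (fun l => (σ.toAlgHom.commutes l).symm)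
  haveI : Module.Finite k E := Module.Finite.of_restrictScalars_finite Λ k E
  let V : Submodule k E := (maximalIdeal E).restrictScalars k
  have hV : ∀ e : E, e ∈ V ↔ e ∈ maximalIdeal E := fun e => Iff.rfl
  let bV := Module.finBasis k V
  let r := Module.finrank k V
  let g₀ : (Fin r → k) →ₗ[k] E := V.subtype ∘ₗ (bV.equivFun.symm : (Fin r → k) ≃ₗ[k] V).toLinearMap
  let g : (Fin r → k) →ₗ[Λ] E := g₀.restrictScalars Λ
  have hgmem : ∀ w, g w ∈ maximalIdeal E := fun w => (bV.equivFun.symm w).2
  have hg : ∀ x y, g x * g y = 0 := by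
    intro x y
    have : g x * g y ∈ maximalIdeal E ^ 2 := by
      rw [pow_two]
      exact Ideal.mul_mem_mul (hgmem x) (hgmem y)
    rwa [hE, Ideal.mem_bot] at this
  have hfg : ∀ (c : k) (x : Fin r → k), g (c • x) = σ.toAlgHom c * g x := by
    intro c x
    change g₀ (c • x) = _
    rw [map_smul, Algebra.smul_def]
    rfl
  have hgf : ∀ (c : k) (x : Fin r → k), g (MulOpposite.op c • x) = g x * σ.toAlgHom c := by
    intro c x
    rw [op_smul_eq_smul, hfg, mul_comm]
  let Φ₀ : TrivSqZeroExt k (Fin r → k) →ₐ[Λ] E := TrivSqZeroExt.lift σ.toAlgHom g hg hfg hgf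
  have hΦ₀ : ∀ x, Φ₀ x = σ x.fst + g x.snd := fun x => rfl
  have hresσ : ∀ c : k, E.res (σ c) = c := fun c => Art.res_app σ c
  have hresg : ∀ w, E.res (g w) = 0 := fun w => (Art.mem_maximalIdeal_iff E _).1 (hgmem w)
  let Φ : Er Λ k r ⟶ E := ⟨Φ₀, by
    apply AlgHom.ext
    intro x
    change E.res (Φ₀ x) = x.fst
    rw [hΦ₀, map_add, hresσ, hresg, add_zero]⟩
  have hΦ : ∀ x : Er Λ k r, Φ x = σ (TrivSqZeroExt.fst (x : TrivSqZeroExt k (Fin r → k))) +
      g (TrivSqZeroExt.snd (x : TrivSqZeroExt k (Fin r → k))) := fun x => rfl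
  have hginj : Function.Injective g := by
    intro w w' hww
    have h1 : (bV.equivFun.symm w : E) = (bV.equivFun.symm w' : E) := hww
    exact bV.equivFun.symm.injective (Subtype.ext h1)
  refine ⟨r, Φ, ?_, ?_⟩
  · intro x y hxy
    have h1 := congrArg E.res hxy
    rw [hΦ, hΦ, map_add, map_add, hresσ, hresσ, hresg, hresg, add_zero, add_zero] at h1
    have h2 := hxy
    rw [hΦ, hΦ, h1] at h2
    exact TrivSqZeroExt.ext h1 (hginj (add_left_cancel h2))
  · intro e
    have hm : e - σ (E.res e) ∈ maximalIdeal E := by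
      rw [Art.mem_maximalIdeal_iff, map_sub, hresσ, sub_self]
    let w : Fin r → k := bV.equivFun ⟨e - σ (E.res e), hm⟩
    refine ⟨((E.res e, w) : TrivSqZeroExt k (Fin r → k)), ?_⟩
    rw [hΦ]
    have h1 : g w = e - σ (E.res e) := by
      change ((bV.equivFun.symm (bV.equivFun ⟨e - σ (E.res e), hm⟩) : V) : E) = _
      rw [LinearEquiv.symm_apply_apply]
    change σ (E.res e) + g w = e
    rw [h1]
    ring

end Iso

section Main

variable [IsNoetherianRing Λ] [Module.Finite Λ k] {F : Art Λ k ⥤ Type v}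

theorem main12725 (hF : Heps F)
    {E : Art Λ k} (hσ : Nonempty (base Λ k ⟶ E))
    (hE : maximalIdeal E ^ 2 = ⊥)
    ⦃B A : Art Λ k⦄ (p' : B ⟶ A) (p'' : B ⟶ E)
    (h : IsFibreProd p' p'' (toBase A) (toBase E)) :
    Function.Bijective (cmp F h) := by
  obtain ⟨σ⟩ := hσ
  obtain ⟨r, Φ, hΦ⟩ := exists_bijective_er E σ hE
  haveI : IsIso Φ := art_isIso_of_bijective Φ hΦ
  have h' : IsFibreProd p' (p'' ≫ inv Φ) (toBase A) (toBase (Er Λ k r)) := by
    refine ⟨by rw [eq_toBase (p' ≫ _), eq_toBase ((p'' ≫ _) ≫ _)], ?_, ?_⟩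
    · intro b₁ b₂ e1 e2
      apply h.inj _ _ e1
      have e3 : (inv Φ) (p'' b₁) = (inv Φ) (p'' b₂) := e2
      have := congrArg Φ e3
      have hc : ∀ x : E, Φ ((inv Φ) x) = x := fun x => by
        change (inv Φ ≫ Φ) x = x
        rw [IsIso.inv_hom_id]
        rfl
      rwa [hc, hc] at this
    · intro a x hax
      have hax' : A.res a = (Er Λ k r).res x := hax
      obtain ⟨b, hb1, hb2⟩ := h.surj a (Φ x) (by
        change A.res a = E.res (Φ x)
        rw [Art.res_app, hax'])
      refine ⟨b, hb1, ?_⟩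
      change (inv Φ) (p'' b) = x
      rw [hb2]
      change (Φ ≫ inv Φ) x = x
      rw [IsIso.hom_inv_id]
      rfl
  have hbij := cmp_bijective_er hF r p' (p'' ≫ inv Φ) h'
  constructor
  · rw [cmp_injective_iff]
    intro z₁ z₂ e1 e2
    apply (cmp_injective_iff F h').1 hbij.1 _ _ e1
    rw [map_comp_apply', map_comp_apply', e2]
  · rw [cmp_surjective_iff]
    intro x' x'' hx
    obtain ⟨z, hz1, hz2⟩ := (cmp_surjective_iff F h').1 hbij.2 x' (F.map (inv Φ) x'') (by
      rw [hx, ← map_comp_apply', eq_toBase (inv Φ ≫ _)])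
    refine ⟨z, hz1, ?_⟩
    have := congrArg (F.map Φ) hz2
    rw [← map_comp_apply', ← map_comp_apply', Category.assoc, IsIso.inv_hom_id, Category.comp_id,
      map_id_apply'] at this
    exact this

end Main

end Groth.Agent.H6.SecSplit
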