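import Mathlib
import Groth.Agent.Lib.Helper6.SplitDeg5

/-!
# Counting sections of a finite étale cover of a connected scheme (helper6)
-/

universe w u

open CategoryTheory CategoryTheory.Limits AlgebraicGeometry Opposite

namespace Groth.Agent.H6.SectCount

open Groth.Agent.H6.SplitDeg

/-- sections of a finite étale morphism are open and closed immersions. -/
theorem section_props {T P : Scheme.{u}} (p : P ⟶ T) [IsFinite p] [Etale p] (σ : T ⟶ P)
    (hσ : σ ≫ p = 𝟙 T) : IsOpenImmersion σ ∧ IsClosedImmersion σ := by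
  haveI : Etale σ := MorphismProperty.of_postcomp (W := @Etale) (W' := @Etale) σ p
      inferInstance (by rw [hσ]; infer_instance)
  haveI : Mono σ := by
    haveI : Mono (σ ≫ p) := by rw [hσ]; infer_instance
    exact mono_of_mono σ p
  refine ⟨IsOpenImmersion.of_flat_of_mono σ, ?_⟩
  haveI : IsClosedImmersion (σ ≫ p) := by rw [hσ]; infer_instance
  exact IsClosedImmersion.of_comp σ p

/-- **Rigidity**: two sections of a finite étale morphism over a connected base which meet are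
equal. -/
theorem section_eq_of_meet {T P : Scheme.{u}} [ConnectedSpace T] (p : P ⟶ T) [IsFinite p]
    [Etale p] (σ₁ σ₂ : T ⟶ P) (h₁ : σ₁ ≫ p = 𝟙 T) (h₂ : σ₂ ≫ p = 𝟙 T) (t : T)
    (ht : σ₁ t ∈ Set.range σ₂) : σ₁ = σ₂ := by
  obtain ⟨ho2, hc2⟩ := section_props p σ₂ h₂
  have hclopen : IsClopen (Set.range σ₂) :=
    ⟨hc2.isClosedEmbedding.isClosed_range, σ₂.isOpenEmbedding.isOpen_range⟩
  have hT : IsClopen (σ₁ ⁻¹' (Set.range σ₂)) := hclopen.preimage σ₁.continuous
  rcases isClopen_iff.mp hT with h0 | h1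
  · exfalso
    have : t ∈ σ₁ ⁻¹' (Set.range σ₂) := ht
    rw [h0] at this
    exact this
  · have h := comp_section_eq_of_apply_eq p σ₁ σ₂ h₁ h₂ (𝟙 T) (fun z => by
      have : z ∈ σ₁ ⁻¹' (Set.range σ₂) := by rw [h1]; trivial
      exact this)
    simpa using h

/-- the splitting criterion, for an arbitrary small index type. -/
theorem exists_iso_sigma_of_sections' {T P : Scheme.{u}} (f : P ⟶ T) [IsFinite f] [Etale f]
    {ι : Type w} [Small.{u} ι] [HasCoproduct (fun _ : ι => T)]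
    (σ : ι → (T ⟶ P)) (hσ : ∀ i, σ i ≫ f = 𝟙 T)
    (hinj : ∀ (Ω : Type u) [Field Ω] [IsAlgClosed Ω] (ζ : Spec (CommRingCat.of Ω) ⟶ T) (i j : ι),
      ζ ≫ σ i = ζ ≫ σ j → i = j)
    (hsurj : ∀ (Ω : Type u) [Field Ω] [IsAlgClosed Ω] (η : Spec (CommRingCat.of Ω) ⟶ P),
      ∃ i, η = (η ≫ f) ≫ σ i) :
    ∃ e : P ≅ ∐ fun _ : ι => T, ∀ i, Sigma.ι (fun _ : ι => T) i ≫ e.inv ≫ f = 𝟙 T := by
  haveI hsopen : ∀ i, IsOpenImmersion (σ i) := fun i => (section_props f (σ i) (hσ i)).1
  have hdisj : Pairwise (Function.onFun Disjoint (fun i => (σ i).opensRange)) := by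
    intro i j hij
    change Disjoint (σ i).opensRange (σ j).opensRange
    rw [disjoint_iff]
    ext p
    simp only [TopologicalSpace.Opens.coe_inf, Scheme.Hom.coe_opensRange, Set.mem_inter_iff,
      TopologicalSpace.Opens.coe_bot, Set.mem_empty_iff_false, iff_false, not_and]
    rintro ⟨y, rfl⟩ hy
    obtain ⟨Ω, _, _, ζ, x, hx⟩ := exists_geometric_point_at T y
    have h1 : ζ ≫ σ i = ζ ≫ σ j := by
      refine comp_section_eq_of_apply_eq f (σ i) (σ j) (hσ i) (hσ j) ζ (fun z => ?_)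
      have hz : z = x := Subsingleton.elim _ _
      rw [hz, hx]
      exact hy
    exact hij (hinj Ω ζ i j h1)
  have hcov : ⨆ i, (σ i).opensRange = ⊤ := by
    rw [eq_top_iff]
    intro p _
    obtain ⟨Ω, _, _, η, x, hx⟩ := exists_geometric_point_at P p
    obtain ⟨i, hi⟩ := hsurj Ω η
    simp only [TopologicalSpace.Opens.iSup_mk, TopologicalSpace.Opens.mem_mk, Set.mem_iUnion]
    refine ⟨i, (η ≫ f) x, ?_⟩
    have h6 : ((η ≫ f) ≫ σ i) x = η x :=
      congrArg (fun m : Spec (CommRingCat.of Ω) ⟶ P => m x) hi.symm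
    exact h6.trans hx
  obtain ⟨hc⟩ := nonempty_isColimit_cofanMk_of σ hcov hdisj
  let e : P ≅ ∐ fun _ : ι => T :=
    hc.coconePointUniqueUpToIso (coproductIsCoproduct fun _ : ι => T)
  refine ⟨e, fun i => ?_⟩
  have h1 : Sigma.ι (fun _ : ι => T) i ≫ e.inv = σ i :=
    hc.comp_coconePointUniqueUpToIso_inv (coproductIsCoproduct fun _ : ι => T) ⟨i⟩
  rw [← Category.assoc, h1, hσ]

end Groth.Agent.H6.SectCount
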