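import Mathlib
import Groth.Agent.Lib.Helper6.SectCount1

universe u

open CategoryTheory CategoryTheory.Limits AlgebraicGeometry Opposite

namespace Groth.Agent.H6.SectCount

open Groth.Agent.H6.SplitDeg

/-- **S18918**, with the degree expressed through `Scheme.Hom.finrank`. -/
theorem main_finrank {X Y X' : Scheme.{u}} (f : X ⟶ Y) [IsFinite f] [Etale f] (n : ℕ)
    (hn : ∀ y, f.finrank y = n) (φ : X' ⟶ Y) [Nonempty X'] [ConnectedSpace X'] :
    Finite (Over.mk φ ⟶ Over.mk f) ∧ Nat.card (Over.mk φ ⟶ Over.mk f) ≤ n ∧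
      (Nat.card (Over.mk φ ⟶ Over.mk f) = n ↔
        ∃ e : pullback f φ ≅ ∐ fun _ : Fin n => X',
          e.hom ≫ Sigma.desc (fun _ : Fin n => 𝟙 X') = pullback.snd f φ) := by
  let p : pullback f φ ⟶ X' := pullback.snd f φ
  haveI : IsFinite p := MorphismProperty.pullback_snd (P := @IsFinite) _ _ inferInstance
  haveI : Etale p := MorphismProperty.pullback_snd (P := @Etale) _ _ inferInstance
  have hprank : ∀ x', p.finrank x' = n := fun x' => by
    rw [Scheme.Hom.finrank_pullback_snd, hn]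
  have hw : ∀ g : Over.mk φ ⟶ Over.mk f, g.left ≫ f = φ := fun g => Over.w g
  let sec : (Over.mk φ ⟶ Over.mk f) → (X' ⟶ pullback f φ) := fun g =>
    pullback.lift g.left (𝟙 X') (by rw [hw g, Category.id_comp])
  have hsec_snd : ∀ g, sec g ≫ p = 𝟙 X' := fun g => pullback.lift_snd _ _ _
  have hsec_fst : ∀ g, sec g ≫ pullback.fst f φ = g.left := fun g => pullback.lift_fst _ _ _
  have hsec_inj : Function.Injective sec := fun g g' h => by
    apply Over.OverMorphism.ext
    rw [← hsec_fst g, ← hsec_fst g', h]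
  have hrig : ∀ (Ω : Type u) [Field Ω] [IsAlgClosed Ω] (ζ : Spec (CommRingCat.of Ω) ⟶ X')
      (g g' : Over.mk φ ⟶ Over.mk f), ζ ≫ sec g = ζ ≫ sec g' → g = g' := by
    intro Ω _ _ ζ g g' h
    obtain ⟨x⟩ : Nonempty (Spec (CommRingCat.of Ω)) := inferInstance
    refine hsec_inj (section_eq_of_meet p (sec g) (sec g') (hsec_snd g) (hsec_snd g') (ζ x)
      ⟨ζ x, ?_⟩)
    exact (congrArg (fun m : Spec (CommRingCat.of Ω) ⟶ pullback f φ => m x) h).symm
  have hcard : ∀ (Ω : Type u) [Field Ω] [IsAlgClosed Ω] (ζ : Spec (CommRingCat.of Ω) ⟶ X'),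
      Nat.card {η : Spec (CommRingCat.of Ω) ⟶ pullback f φ // η ≫ p = ζ} = n := by
    intro Ω _ _ ζ
    obtain ⟨x⟩ : Nonempty (Spec (CommRingCat.of Ω)) := inferInstance
    rw [← FEtDeg.finrank_eq_card_lifts Ω p ζ x, hprank]
  let F : ∀ (Ω : Type u) [Field Ω] [IsAlgClosed Ω] (ζ : Spec (CommRingCat.of Ω) ⟶ X'),
      (Over.mk φ ⟶ Over.mk f) → {η : Spec (CommRingCat.of Ω) ⟶ pullback f φ // η ≫ p = ζ} :=
    fun Ω _ _ ζ g => ⟨ζ ≫ sec g, by rw [Category.assoc, hsec_snd, Category.comp_id]⟩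
  have hFinj : ∀ (Ω : Type u) [Field Ω] [IsAlgClosed Ω] (ζ : Spec (CommRingCat.of Ω) ⟶ X'),
      Function.Injective (F Ω ζ) := fun Ω _ _ ζ g g' h =>
    hrig Ω ζ g g' (congrArg Subtype.val h)
  obtain ⟨x0⟩ : Nonempty X' := inferInstance
  obtain ⟨Ω0, _, _, ζ0, x, hx⟩ := exists_geometric_point_at X' x0
  haveI hfinlift : ∀ (Ω : Type u) [Field Ω] [IsAlgClosed Ω] (ζ : Spec (CommRingCat.of Ω) ⟶ X'),
      Finite {η : Spec (CommRingCat.of Ω) ⟶ pullback f φ // η ≫ p = ζ} :=
    fun Ω _ _ ζ => finite_lifts p ζ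
  haveI hfin : Finite (Over.mk φ ⟶ Over.mk f) := Finite.of_injective (F Ω0 ζ0) (hFinj Ω0 ζ0)
  have hle : Nat.card (Over.mk φ ⟶ Over.mk f) ≤ n := by
    rw [← hcard Ω0 ζ0]
    exact Nat.card_le_card_of_injective (F Ω0 ζ0) (hFinj Ω0 ζ0)
  refine ⟨hfin, hle, ?_, ?_⟩
  · intro hM
    let ε : Fin n ≃ (Over.mk φ ⟶ Over.mk f) := (Finite.equivFinOfCardEq hM).symm
    obtain ⟨e, he⟩ := exists_iso_sigma_of_sections' p (fun i : Fin n => sec (ε i))
      (fun i => hsec_snd _) (fun Ω _ _ ζ i j h => ε.injective (hrig Ω ζ _ _ h)) (by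
        intro Ω _ _ η
        have hb : Function.Bijective (F Ω (η ≫ p)) :=
          (hFinj Ω (η ≫ p)).bijective_of_nat_card_le (by rw [hcard, hM])
        obtain ⟨g, hg⟩ := hb.2 ⟨η, rfl⟩
        obtain ⟨i, rfl⟩ := ε.surjective g
        exact ⟨i, (congrArg Subtype.val hg).symm⟩)
    refine ⟨e, ?_⟩
    rw [← cancel_epi e.inv, Iso.inv_hom_id_assoc]
    apply Sigma.hom_ext
    intro i
    rw [Sigma.ι_desc]
    exact (he i).symm
  · rintro ⟨e, he⟩
    have he' : ∀ i, Sigma.ι (fun _ : Fin n => X') i ≫ e.inv ≫ p = 𝟙 X' := fun i => by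
      change Sigma.ι (fun _ : Fin n => X') i ≫ e.inv ≫ pullback.snd f φ = 𝟙 X'
      rw [← he, Iso.inv_hom_id_assoc, Sigma.ι_desc]
    let G : Fin n → (Over.mk φ ⟶ Over.mk f) := fun i =>
      Over.homMk (Sigma.ι (fun _ : Fin n => X') i ≫ e.inv ≫ pullback.fst f φ) (by
        change (Sigma.ι (fun _ : Fin n => X') i ≫ e.inv ≫ pullback.fst f φ) ≫ f = φ
        simp only [Category.assoc]
        rw [pullback.condition]
        have h5 := he' i
        calc Sigma.ι (fun _ : Fin n => X') i ≫ e.inv ≫ pullback.snd f φ ≫ φ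
            = (Sigma.ι (fun _ : Fin n => X') i ≫ e.inv ≫ p) ≫ φ := by
              simp only [Category.assoc]; rfl
          _ = φ := by rw [h5, Category.id_comp])
    have hG : Function.Injective G := by
      intro i j h
      have h1 : Sigma.ι (fun _ : Fin n => X') i ≫ e.inv ≫ pullback.fst f φ =
          Sigma.ι (fun _ : Fin n => X') j ≫ e.inv ≫ pullback.fst f φ :=
        congrArg (fun g : Over.mk φ ⟶ Over.mk f => g.left) h
      have h2 : Sigma.ι (fun _ : Fin n => X') i ≫ e.inv = Sigma.ι (fun _ : Fin n => X') j ≫ e.inv := by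
        apply pullback.hom_ext
        · simpa only [Category.assoc] using h1
        · simpa only [Category.assoc] using (he' i).trans (he' j).symm
      have h3 : Sigma.ι (fun _ : Fin n => X') i = Sigma.ι (fun _ : Fin n => X') j := by
        rwa [cancel_mono] at h2
      by_contra hij
      have := isEmpty_of_commSq_sigmaι_of_ne (g := fun _ : Fin n => X') (a := 𝟙 X') (b := 𝟙 X')
        ⟨by rw [Category.id_comp, Category.id_comp]; exact h3⟩ hij
      exact this.false x0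
    have h4 := Nat.card_le_card_of_injective G hG
    rw [Nat.card_eq_fintype_card, Fintype.card_fin] at h4
    omega

/-- **S18918**. -/
theorem main {X Y X' : Scheme.{u}} (f : X ⟶ Y) [IsFinite f] [Etale f] (n : ℕ)
    (hdeg : FlatMod.IsFinLocFreeOfRank n
      ((Scheme.Modules.pushforward f).obj (Coh.structureModule X)))
    (φ : X' ⟶ Y) [Nonempty X'] [ConnectedSpace X'] :
    Finite (Over.mk φ ⟶ Over.mk f) ∧ Nat.card (Over.mk φ ⟶ Over.mk f) ≤ n ∧
      (Nat.card (Over.mk φ ⟶ Over.mk f) = n ↔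
        ∃ e : pullback f φ ≅ ∐ fun _ : Fin n => X',
          e.hom ≫ Sigma.desc (fun _ : Fin n => 𝟙 X') = pullback.snd f φ) :=
  main_finrank f n ((Groth.Agent.H6.Cov.s19692 f n).mpr ⟨inferInstance, hdeg⟩).2 φ

end Groth.Agent.H6.SectCount
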