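import Groth.Agent.Lib.Helper6.SegLA4

/-! The core Künneth computation. -/

universe u
open DirectSum TensorProduct

namespace Groth.Agent.H6

namespace SegLA

section Core

variable {k : Type u} [Field k] (C : Cx k) (K : Submodule k C.V)
  (hKp : ∀ p x, x ∈ K → prk C.gr p x ∈ K) (hKd : ∀ x, x ∈ K → C.d x ∈ K)
  (C' : Cx k) (K' : Submodule k C'.V)
  (hKp' : ∀ p x, x ∈ K' → prk C'.gr p x ∈ K') (hKd' : ∀ x, x ∈ K' → C'.d x ∈ K')

/-- the relative cohomology with an explicit kernel -/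
noncomputable def PCx.Quot.rel' {C C' : PCx k} (Q : PCx.Quot C C') (K : Submodule k C.V)
    (hK : LinearMap.ker Q.q = K) (p : ℕ) : C.Hrel K p ≃ₗ[k] C'.H p := by
  subst hK
  exact Q.rel p

/-- the tensor product of complexes exact in positive degrees is exact in positive degrees -/
theorem tensor_exactAt (hex : ∀ p, C.toPCx.ExactAt p) (hex' : ∀ p, C'.toPCx.ExactAt p) (p : ℕ) :
    (Cx.tensor C C').ExactAt p := by
  obtain ⟨S⟩ := C.exists_split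
  obtain ⟨S'⟩ := C'.exists_split
  apply (S.tensor S').exactAt_of_e_eq_zero
  intro w hw
  have : TensorProduct.map S.e S'.e w ∈ (⊥ : Submodule k (C.V ⊗[k] C'.V)) := by
    refine Cx.map_mem_of_tot C C' ?_ hw
    intro i j x y hij hx hy
    rw [TensorProduct.map_tmul, Submodule.mem_bot]
    cases i with
    | zero =>
      cases j with
      | zero => omega
      | succ j => rw [S'.e_eq_zero_of_exactAt (hex' j) hy, TensorProduct.tmul_zero]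
    | succ i => rw [S.e_eq_zero_of_exactAt (hex i) hx, TensorProduct.zero_tmul]
  exact this

/-- the kernel of the quotient map of tensor products -/
noncomputable def KT : Submodule k (C.V ⊗[k] C'.V) :=
  LinearMap.ker (Cx.tensorQuot C K hKp hKd C' K' hKp' hKd').q

/-- **the Künneth computation**: the cohomology of the subcomplex `K ⊗ B + A ⊗ K'` of the tensor
product of two resolutions, in degrees at least two -/
theorem nonempty_coreEquiv (hex : ∀ p, C.toPCx.ExactAt p) (hex' : ∀ p, C'.toPCx.ExactAt p)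
    (m : ℕ) :
    Nonempty ((Cx.tensor C C').Hsub (KT C K hKp hKd C' K' hKp' hKd') (m + 2) ≃ₗ[k]
      ∀ i : Fin (m + 2), (C.toPCx.Hrel K i ⊗[k] C'.toPCx.Hrel K' (m + 1 - i))) := by
  obtain ⟨S⟩ := (C.quot K hKp hKd).exists_split
  obtain ⟨S'⟩ := (C'.quot K' hKp' hKd').exists_split
  have hT := tensor_exactAt C C' hex hex'
  let e1 := (PCx.conn (Cx.tensor C C') (KT C K hKp hKd C' K' hKp' hKd') m (hT m)
    (hT (m + 1))).symm
  let e2 := (Cx.tensorQuot C K hKp hKd C' K' hKp' hKd').rel (m + 1)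
  let e3 := (S.tensor S').equivH (m + 1)
  let e4 := (rdEquiv S S' (m + 1)).symm
  let e5 : (∀ i : Fin (m + 2), ↥(S.He i) ⊗[k] ↥(S'.He (m + 1 - i))) ≃ₗ[k]
      ∀ i : Fin (m + 2), (C.toPCx.Hrel K i ⊗[k] C'.toPCx.Hrel K' (m + 1 - i)) :=
    LinearEquiv.piCongrRight (fun i : Fin (m + 2) =>
      TensorProduct.congr
        ((S.equivH i).symm.trans
          ((Cx.toQuot C K hKp hKd).rel' K (Cx.ker_qm C K hKp hKd) i).symm)
        ((S'.equivH (m + 1 - i)).symm.trans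
          ((Cx.toQuot C' K' hKp' hKd').rel' K' (Cx.ker_qm C' K' hKp' hKd') (m + 1 - i)).symm))
  exact ⟨e1.trans (e2.trans (e3.trans (e4.trans e5)))⟩

/-- the explicit description of the kernel -/
theorem KT_eq : KT C K hKp hKd C' K' hKp' hKd' =
    LinearMap.range (TensorProduct.map K.subtype (LinearMap.id : C'.V →ₗ[k] C'.V)) ⊔
      LinearMap.range (TensorProduct.map (LinearMap.id : C.V →ₗ[k] C.V) K'.subtype) := by
  have h1 : Function.Exact K.subtype (Cx.qm C K hKp hKd) := by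
    rw [LinearMap.exact_iff, Cx.ker_qm, Submodule.range_subtype]
  have h2 : Function.Exact K'.subtype (Cx.qm C' K' hKp' hKd') := by
    rw [LinearMap.exact_iff, Cx.ker_qm, Submodule.range_subtype]
  have := TensorProduct.map_ker h1 (Cx.qm_surjective C K hKp hKd) h2
    (Cx.qm_surjective C' K' hKp' hKd')
  rw [KT]
  change LinearMap.ker (TensorProduct.map (Cx.qm C K hKp hKd) (Cx.qm C' K' hKp' hKd')) = _
  rw [this, sup_comm]
  rfl

theorem tmul_mem_KT_left {x : C.V} (hx : x ∈ K) (y : C'.V) :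
    x ⊗ₜ[k] y ∈ KT C K hKp hKd C' K' hKp' hKd' := by
  rw [KT_eq]
  exact Submodule.mem_sup_left ⟨(⟨x, hx⟩ : K) ⊗ₜ[k] y, rfl⟩

theorem tmul_mem_KT_right (x : C.V) {y : C'.V} (hy : y ∈ K') :
    x ⊗ₜ[k] y ∈ KT C K hKp hKd C' K' hKp' hKd' := by
  rw [KT_eq]
  exact Submodule.mem_sup_right ⟨x ⊗ₜ[k] (⟨y, hy⟩ : K'), rfl⟩

section Low

/-- the inclusion of `Z^0 ⊗ Z'^0` -/
noncomputable def zz : ↥(C.toPCx.Z 0) ⊗[k] ↥(C'.toPCx.Z 0) →ₗ[k] C.V ⊗[k] C'.V :=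
  TensorProduct.map (C.toPCx.Z 0).subtype (C'.toPCx.Z 0).subtype

theorem zz_tmul (a : ↥(C.toPCx.Z 0)) (b : ↥(C'.toPCx.Z 0)) :
    zz C C' (a ⊗ₜ[k] b) = (a.1 : C.V) ⊗ₜ[k] (b.1 : C'.V) := rfl

theorem D_zz (u : ↥(C.toPCx.Z 0) ⊗[k] ↥(C'.toPCx.Z 0)) : Cx.D C C' (zz C C' u) = 0 := by
  induction u using TensorProduct.induction_on with
  | zero => rw [map_zero, map_zero]
  | tmul a b =>
    have ha : C.d a.1 = 0 := a.2.1
    have hb : C'.d b.1 = 0 := b.2.1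
    rw [zz_tmul, Cx.D_tmul, ha, hb, TensorProduct.zero_tmul, TensorProduct.tmul_zero, add_zero]
  | add u v hu hv => rw [map_add, map_add, hu, hv, add_zero]

theorem zz_mem_tot (u : ↥(C.toPCx.Z 0) ⊗[k] ↥(C'.toPCx.Z 0)) : zz C C' u ∈ Cx.tot C C' 0 := by
  induction u using TensorProduct.induction_on with
  | zero => rw [map_zero]; exact zero_mem _
  | tmul a b =>
    rw [zz_tmul]
    have ha : a.1 ∈ C.gr 0 := a.2.2
    have hb : b.1 ∈ C'.gr 0 := b.2.2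
    exact Cx.tmul_mem_tot C C' (i := 0) (j := 0) rfl ha hb
  | add u v hu hv => rw [map_add]; exact add_mem hu hv

theorem Z_zero_le_range_zz (S : C.toPCx.Split) (S' : C'.toPCx.Split) :
    (Cx.tensor C C').Z 0 ≤ LinearMap.range (zz C C') := by
  rw [← (S.tensor S').map_e_zero]
  rintro _ ⟨w, hw, rfl⟩
  change TensorProduct.map S.e S'.e w ∈ _
  refine Cx.map_mem_of_tot C C' ?_ hw
  intro i j x y hij hx hy
  obtain ⟨rfl, rfl⟩ : i = 0 ∧ j = 0 := by omega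
  have h1 : S.e x ∈ C.toPCx.Z 0 := ⟨LinearMap.mem_ker.mpr (S.d_e x), S.e_mem 0 x hx⟩
  have h2 : S'.e y ∈ C'.toPCx.Z 0 := ⟨LinearMap.mem_ker.mpr (S'.d_e y), S'.e_mem 0 y hy⟩
  exact ⟨(⟨S.e x, h1⟩ : C.toPCx.Z 0) ⊗ₜ[k] (⟨S'.e y, h2⟩ : C'.toPCx.Z 0), rfl⟩

/-- vanishing of `H^0` of the subcomplex -/
theorem Zsub_zero_eq_bot (h0 : C.toPCx.Zsub K 0 = ⊥) (h0' : C'.toPCx.Zsub K' 0 = ⊥) :
    (Cx.tensor C C').Zsub (KT C K hKp hKd C' K' hKp' hKd') 0 = ⊥ := by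
  obtain ⟨S⟩ := C.exists_split
  obtain ⟨S'⟩ := C'.exists_split
  rw [eq_bot_iff]
  intro ω hω
  rw [Submodule.mem_bot]
  obtain ⟨u, rfl⟩ := Z_zero_le_range_zz C C' S S' hω.1
  have hq : TensorProduct.map (Cx.qm C K hKp hKd) (Cx.qm C' K' hKp' hKd') (zz C C' u) = 0 := hω.2
  have hinj : ∀ (C : Cx k) (K : Submodule k C.V) (hKp : ∀ p x, x ∈ K → prk C.gr p x ∈ K)
      (hKd : ∀ x, x ∈ K → C.d x ∈ K), C.toPCx.Zsub K 0 = ⊥ →
      Function.Injective (Cx.qm C K hKp hKd ∘ₗ (C.toPCx.Z 0).subtype) := by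
    intro C K hKp hKd h0
    rw [injective_iff_map_eq_zero]
    intro z hz
    have h1 : z.1 ∈ LinearMap.ker (Cx.qm C K hKp hKd) := hz
    rw [Cx.ker_qm] at h1
    have h2 : z.1 ∈ C.toPCx.Zsub K 0 := ⟨z.2, h1⟩
    rw [h0, Submodule.mem_bot] at h2
    exact Subtype.ext h2
  have h3 := TensorProduct.map_injective_of_flat_flat _ _ (hinj C K hKp hKd h0)
    (hinj C' K' hKp' hKd' h0')
  rw [zz, ← LinearMap.comp_apply, ← TensorProduct.map_comp] at hq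
  have hu : u = 0 := h3 (hq.trans (map_zero _).symm)
  rw [hu]
  exact map_zero _

/-- cocycles of degree zero of the quotient lift to cocycles, if `H^1` of the subcomplex vanishes -/
theorem exists_lift_Z_zero (h1 : ∀ z, z ∈ C.toPCx.Zsub K 1 → z ∈ C.toPCx.Bsub K 1)
    {z' : (C.quot K hKp hKd).V} (hz' : z' ∈ (C.quot K hKp hKd).toPCx.Z 0) :
    ∃ z, z ∈ C.toPCx.Z 0 ∧ Cx.qm C K hKp hKd z = z' := by
  obtain ⟨x, hx, rfl⟩ := (Cx.toQuot C K hKp hKd).exists_lift hz'.2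
  have h2 : C.d x ∈ K := by
    rw [← Cx.ker_qm C K hKp hKd, LinearMap.mem_ker, Cx.qm_d]
    exact hz'.1
  have h3 : C.d x ∈ C.toPCx.Zsub K 1 :=
    ⟨⟨LinearMap.mem_ker.mpr (C.d_d x), C.d_mem 0 x hx⟩, h2⟩
  obtain ⟨κ, hκ, hκx⟩ := h1 _ h3
  refine ⟨x - κ, ⟨LinearMap.mem_ker.mpr ?_, sub_mem hx hκ.1⟩, ?_⟩
  · rw [map_sub, hκx, sub_self]
  · have : Cx.qm C K hKp hKd κ = 0 := by
      rw [← LinearMap.mem_ker, Cx.ker_qm]; exact hκ.2
    rw [map_sub, this, sub_zero]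
    rfl

/-- vanishing of `H^1` of the subcomplex -/
theorem Zsub_one_le_Bsub (hex : ∀ p, C.toPCx.ExactAt p) (hex' : ∀ p, C'.toPCx.ExactAt p)
    (h1 : ∀ z, z ∈ C.toPCx.Zsub K 1 → z ∈ C.toPCx.Bsub K 1)
    (h1' : ∀ z, z ∈ C'.toPCx.Zsub K' 1 → z ∈ C'.toPCx.Bsub K' 1) (ω : C.V ⊗[k] C'.V)
    (hω : ω ∈ (Cx.tensor C C').Zsub (KT C K hKp hKd C' K' hKp' hKd') 1) :
    ω ∈ (Cx.tensor C C').Bsub (KT C K hKp hKd C' K' hKp' hKd') 1 := by
  obtain ⟨S⟩ := (C.quot K hKp hKd).exists_split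
  obtain ⟨S'⟩ := (C'.quot K' hKp' hKd').exists_split
  let Q := Cx.tensorQuot C K hKp hKd C' K' hKp' hKd'
  obtain ⟨η, hη, hηω⟩ : ∃ η : C.V ⊗[k] C'.V, η ∈ Cx.tot C C' 0 ∧ Cx.D C C' η = ω :=
    tensor_exactAt C C' hex hex' 0 ω hω.1.2 hω.1.1
  have hQη : Q.q η ∈ (Cx.tensor (C.quot K hKp hKd) (C'.quot K' hKp' hKd')).Z 0 := by
    refine ⟨LinearMap.mem_ker.mpr ?_, Q.q_mem hη⟩
    have h2 := Q.comm η
    have h3 : (Cx.tensor C C').d η = ω := hηω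
    rw [h3] at h2
    rw [← h2]
    exact LinearMap.mem_ker.mp hω.2
  rw [← (S.tensor S').map_e_zero] at hQη
  obtain ⟨w, hw, hwη⟩ := hQη
  have key : TensorProduct.map S.e S'.e w ∈ (LinearMap.range (zz C C')).map Q.q := by
    refine Cx.map_mem_of_tot _ _ ?_ hw
    intro i j x y hij hx hy
    obtain ⟨rfl, rfl⟩ : i = 0 ∧ j = 0 := by omega
    have h2 : S.e x ∈ (C.quot K hKp hKd).toPCx.Z 0 :=
      ⟨LinearMap.mem_ker.mpr (S.d_e x), S.e_mem 0 x hx⟩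
    have h3 : S'.e y ∈ (C'.quot K' hKp' hKd').toPCx.Z 0 :=
      ⟨LinearMap.mem_ker.mpr (S'.d_e y), S'.e_mem 0 y hy⟩
    obtain ⟨z, hz, hzx⟩ := exists_lift_Z_zero C K hKp hKd h1 h2
    obtain ⟨z', hz', hzy⟩ := exists_lift_Z_zero C' K' hKp' hKd' h1' h3
    refine ⟨z ⊗ₜ[k] z', ⟨(⟨z, hz⟩ : C.toPCx.Z 0) ⊗ₜ[k] (⟨z', hz'⟩ : C'.toPCx.Z 0), rfl⟩, ?_⟩
    change TensorProduct.map _ _ (z ⊗ₜ[k] z') = _
    rw [TensorProduct.map_tmul, hzx, hzy, TensorProduct.map_tmul]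
  obtain ⟨_, ⟨u, rfl⟩, hζ⟩ := key
  refine ⟨η - zz C C' u, ⟨sub_mem hη (zz_mem_tot C C' u), ?_⟩, ?_⟩
  · have h4 : Q.q (η - zz C C' u) = Q.q η - Q.q (zz C C' u) := map_sub Q.q η (zz C C' u)
    have h5 : Q.q (η - zz C C' u) = 0 := by
      rw [h4, hζ]
      exact sub_eq_zero.mpr hwη.symm
    exact (LinearMap.mem_ker (f := Q.q)).mpr h5
  · change Cx.D C C' (η - zz C C' u) = ω
    rw [map_sub, D_zz, sub_zero]
    exact hηω

end Low

end Core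

end SegLA

end Groth.Agent.H6
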