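import Groth.Agent.Lib.Helper6.SegGood
import Groth.Agent.Lib.Helper6.SegLA5

/-! A *injective resolution packaged as one big graded module with a differential, and its
degree-`δ` part as a complex of vector spaces. -/

universe u
open DirectSum TensorProduct
set_option linter.unusedSectionVars false

namespace Groth.Agent.H6

namespace Seg

open SegLA ToAdd

section Big

variable {k : Type u} [Field k] {R : Type u} [CommRing R] [Algebra k R]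
  (𝒜 : ℤ → Submodule k R) [GradedAlgebra 𝒜]
variable {M : Type u} [AddCommGroup M] [Module R M] {ℳ : ℤ → AddSubgroup M}
  [DirectSum.Decomposition ℳ] [SetLike.GradedSMul 𝒜 ℳ]
variable (E : GrLC.StarInjRes 𝒜 ℳ)
variable {𝕏 : Type u} [AddCommGroup 𝕏] [Module R 𝕏] [Module k 𝕏] [IsScalarTower k R 𝕏]
  (𝒳 : ℤ → AddSubgroup 𝕏) [DirectSum.Decomposition 𝒳] [SetLike.GradedSMul 𝒜 𝒳]

/-- the terms of a resolution assembled into one graded module -/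
structure Big where
  lof : ∀ p : ℕ, (E.X p).carrier →ₗ[R] 𝕏
  comp : ∀ p : ℕ, 𝕏 →ₗ[R] (E.X p).carrier
  lof_gr : ∀ p, GrLC.IsGrHom (E.X p).gr 𝒳 (lof p)
  comp_gr : ∀ p, GrLC.IsGrHom 𝒳 (E.X p).gr (comp p)
  comp_lof : ∀ p u, comp p (lof p u) = u
  comp_lof_ne : ∀ p q u, p ≠ q → comp q (lof p u) = 0
  fin : ∀ x : 𝕏, ∃ s : Finset ℕ, x = ∑ p ∈ s, lof p (comp p x)
  d : 𝕏 →ₗ[R] 𝕏
  d_lof : ∀ p u, d (lof p u) = lof (p + 1) (E.d p u)
  σ : 𝕏 →ₗ[R] 𝕏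
  σ_lof : ∀ p u, σ (lof p u) = (-1 : k) ^ p • lof p u

namespace Big

variable {𝒜 E 𝒳} (B : Big 𝒜 E 𝒳)

/-- the cohomological pieces -/
def co (p : ℕ) : Submodule R 𝕏 := LinearMap.range (B.lof p)

theorem lof_mem_co (p : ℕ) (u : (E.X p).carrier) : B.lof p u ∈ B.co p := ⟨u, rfl⟩

theorem lof_injective (p : ℕ) : Function.Injective (B.lof p) := by
  intro u v h
  rw [← B.comp_lof p u, h, B.comp_lof]

theorem lof_comp_of_mem {p : ℕ} {x : 𝕏} (hx : x ∈ B.co p) : B.lof p (B.comp p x) = x := by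
  obtain ⟨u, rfl⟩ := hx
  rw [B.comp_lof]

theorem comp_of_mem_ne {p q : ℕ} {x : 𝕏} (hx : x ∈ B.co p) (hne : p ≠ q) : B.comp q x = 0 := by
  obtain ⟨u, rfl⟩ := hx
  exact B.comp_lof_ne p q u hne

theorem eq_zero_of_comp {x : 𝕏} (h : ∀ p, B.comp p x = 0) : x = 0 := by
  obtain ⟨s, hs⟩ := B.fin x
  rw [hs]
  exact Finset.sum_eq_zero fun p _ => by rw [h p, map_zero]

theorem ext_comp {x y : 𝕏} (h : ∀ p, B.comp p x = B.comp p y) : x = y := by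
  rw [← sub_eq_zero]
  apply B.eq_zero_of_comp
  intro p
  rw [map_sub, h p, sub_self]

theorem hom_ext {N : Type*} [AddCommGroup N] [Module R N] {f g : 𝕏 →ₗ[R] N}
    (h : ∀ p u, f (B.lof p u) = g (B.lof p u)) : f = g := by
  apply LinearMap.ext
  intro x
  obtain ⟨s, hs⟩ := B.fin x
  rw [hs, map_sum, map_sum]
  exact Finset.sum_congr rfl fun p _ => h p _

/-- the projection onto a cohomological piece -/
noncomputable def π (p : ℕ) : 𝕏 →ₗ[R] 𝕏 := B.lof p ∘ₗ B.comp p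

theorem π_apply (p : ℕ) (x : 𝕏) : B.π p x = B.lof p (B.comp p x) := rfl

theorem π_mem (p : ℕ) (x : 𝕏) : B.π p x ∈ B.co p := ⟨_, rfl⟩

theorem π_of_mem {p : ℕ} {x : 𝕏} (hx : x ∈ B.co p) : B.π p x = x := B.lof_comp_of_mem hx

theorem π_of_mem_ne {p q : ℕ} {x : 𝕏} (hx : x ∈ B.co p) (hne : p ≠ q) : B.π q x = 0 := by
  rw [π_apply, B.comp_of_mem_ne hx hne, map_zero]

theorem π_gr (p : ℕ) : GrLC.IsGrHom 𝒳 𝒳 (B.π p) :=
  fun δ x hx => B.lof_gr p δ _ (B.comp_gr p δ x hx)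

theorem d_mem_co {p : ℕ} {x : 𝕏} (hx : x ∈ B.co p) : B.d x ∈ B.co (p + 1) := by
  obtain ⟨u, rfl⟩ := hx
  rw [B.d_lof]
  exact ⟨_, rfl⟩

theorem E_d_d (p : ℕ) (u : (E.X p).carrier) : E.d (p + 1) (E.d p u) = 0 := by
  have : E.d p u ∈ LinearMap.ker (E.d (p + 1)) := by
    rw [E.exact_succ]
    exact ⟨u, rfl⟩
  exact this

theorem d_d (x : 𝕏) : B.d (B.d x) = 0 := by
  have : B.d ∘ₗ B.d = 0 := by
    apply B.hom_ext
    intro p u
    rw [LinearMap.comp_apply, B.d_lof, B.d_lof, E_d_d, map_zero, LinearMap.zero_apply]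
  exact LinearMap.congr_fun this x

theorem d_gr : GrLC.IsGrHom 𝒳 𝒳 B.d := by
  intro δ x hx
  obtain ⟨s, hs⟩ := B.fin x
  rw [hs, map_sum]
  refine sum_mem fun p _ => ?_
  rw [B.d_lof]
  exact B.lof_gr (p + 1) δ _ (E.d_grHom p δ _ (B.comp_gr p δ x hx))

theorem σ_of_mem {p : ℕ} {x : 𝕏} (hx : x ∈ B.co p) : B.σ x = (-1 : k) ^ p • x := by
  obtain ⟨u, rfl⟩ := hx
  exact B.σ_lof p u

theorem σ_mem_co {p : ℕ} {x : 𝕏} (hx : x ∈ B.co p) : B.σ x ∈ B.co p := by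
  rw [B.σ_of_mem hx, ← algebraMap_smul R ((-1 : k) ^ p) x]
  exact Submodule.smul_mem _ _ hx

theorem σ_gr : GrLC.IsGrHom 𝒳 𝒳 B.σ := by
  intro δ x hx
  obtain ⟨s, hs⟩ := B.fin x
  rw [hs, map_sum]
  refine sum_mem fun p _ => ?_
  rw [B.σ_lof]
  exact smul_mem_piece 𝒜 𝒳 _ (B.lof_gr p δ _ (B.comp_gr p δ x hx))

theorem comp_d_succ (p : ℕ) (x : 𝕏) : B.comp (p + 1) (B.d x) = E.d p (B.comp p x) := by
  have : B.comp (p + 1) ∘ₗ B.d = E.d p ∘ₗ B.comp p := by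
    apply B.hom_ext
    intro q u
    rw [LinearMap.comp_apply, LinearMap.comp_apply, B.d_lof]
    by_cases hqp : q = p
    · subst hqp
      rw [B.comp_lof, B.comp_lof]
    · rw [B.comp_lof_ne (q + 1) (p + 1) _ (by omega), B.comp_lof_ne q p _ hqp, map_zero]
  exact LinearMap.congr_fun this x

theorem comp_d_zero (x : 𝕏) : B.comp 0 (B.d x) = 0 := by
  have : B.comp 0 ∘ₗ B.d = 0 := by
    apply B.hom_ext
    intro q u
    rw [LinearMap.comp_apply, B.d_lof, B.comp_lof_ne (q + 1) 0 _ (by omega),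
      LinearMap.zero_apply]
  exact LinearMap.congr_fun this x

/-- the torsion of the big module, componentwise -/
theorem mem_gam_iff (a : Ideal R) (x : 𝕏) :
    x ∈ GrLC.gam a 𝕏 ↔ ∀ p, B.comp p x ∈ GrLC.gam a (E.X p).carrier := by
  constructor
  · rintro ⟨n, hn⟩ p
    exact ⟨n, fun r hr => by rw [← map_smul, hn r hr, map_zero]⟩
  · intro h
    obtain ⟨s, hs⟩ := B.fin x
    rw [hs]
    refine sum_mem fun p _ => ?_
    obtain ⟨n, hn⟩ := h p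
    exact ⟨n, fun r hr => by rw [← map_smul, hn r hr, map_zero]⟩

/-! ### the degree `δ` part -/

/-- pieces of the core -/
def coreGr (δ : ℤ) (p : ℕ) : Submodule k ↥(pcs 𝒜 𝒳 δ) :=
  ((B.co p).restrictScalars k).comap (pcs 𝒜 𝒳 δ).subtype

theorem mem_coreGr {δ : ℤ} {p : ℕ} {v : ↥(pcs 𝒜 𝒳 δ)} : v ∈ B.coreGr δ p ↔ (v : 𝕏) ∈ B.co p :=
  Iff.rfl

/-- restricted projections -/
noncomputable def coreπ (δ : ℤ) (p : ℕ) : ↥(pcs 𝒜 𝒳 δ) →ₗ[k] ↥(pcs 𝒜 𝒳 δ) :=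
  ((B.π p).restrictScalars k).restrict (fun x hx => B.π_gr p δ x hx)

theorem coe_coreπ (δ : ℤ) (p : ℕ) (v : ↥(pcs 𝒜 𝒳 δ)) : (B.coreπ δ p v : 𝕏) = B.π p v.1 := rfl

theorem core_isInternal (δ : ℤ) : DirectSum.IsInternal (B.coreGr δ) := by
  refine SegLA.isInternal_of_proj (B.coreGr δ) (B.coreπ δ) ?_ ?_ ?_
  · intro p v hv
    exact Subtype.ext (B.π_of_mem hv)
  · intro p q v hv hne
    exact Subtype.ext (B.π_of_mem_ne hv hne)
  · intro v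
    obtain ⟨s, hs⟩ := B.fin v.1
    have : v = ∑ p ∈ s, B.coreπ δ p v := by
      apply Subtype.ext
      rw [AddSubmonoidClass.coe_finsetSum]
      exact hs
    rw [this]
    refine sum_mem fun p _ => ?_
    exact Submodule.mem_iSup_of_mem p (B.π_mem p v.1)

/-- the degree `δ` part of the big complex -/
noncomputable def core (δ : ℤ) : Cx k where
  V := ↥(pcs 𝒜 𝒳 δ)
  gr := B.coreGr δ
  d := (B.d.restrictScalars k).restrict (fun x hx => B.d_gr δ x hx)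
  d_mem := fun _ _ hv => B.d_mem_co hv
  d_d := fun v => Subtype.ext (B.d_d v.1)
  dec := (B.core_isInternal δ).chooseDecomposition

theorem coe_core_d (δ : ℤ) (v : (B.core δ).V) :
    ((B.core δ).d v : ↥(pcs 𝒜 𝒳 δ)).1 = B.d (v : ↥(pcs 𝒜 𝒳 δ)).1 := rfl

theorem core_prk (δ : ℤ) (p : ℕ) : prk (B.core δ).gr p = B.coreπ δ p :=
  SegLA.prk_eq_of_proj (B.core δ).gr (B.coreπ δ)
    (fun _ _ hv => Subtype.ext (B.π_of_mem hv))
    (fun _ _ _ hv hne => Subtype.ext (B.π_of_mem_ne hv hne)) p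

/-- the sign map restricted -/
noncomputable def coreσ (δ : ℤ) : ↥(pcs 𝒜 𝒳 δ) →ₗ[k] ↥(pcs 𝒜 𝒳 δ) :=
  (B.σ.restrictScalars k).restrict (fun x hx => B.σ_gr δ x hx)

theorem core_sgn (δ : ℤ) : (B.core δ).sgn = B.coreσ δ := by
  apply SegLA.ext_of_mem (B.core δ).gr
  intro p v hv
  rw [(B.core δ).sgn_of_mem hv]
  apply Subtype.ext
  have h1 : B.σ (v : ↥(pcs 𝒜 𝒳 δ)).1 = (-1 : k) ^ p • (v : ↥(pcs 𝒜 𝒳 δ)).1 := B.σ_of_mem hv
  exact h1.symm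

theorem coe_core_sgn (δ : ℤ) (v : (B.core δ).V) :
    ((B.core δ).sgn v : ↥(pcs 𝒜 𝒳 δ)).1 = B.σ (v : ↥(pcs 𝒜 𝒳 δ)).1 := by
  rw [core_sgn]
  rfl

/-- the torsion part of the core -/
noncomputable def coreK (a : Ideal R) (δ : ℤ) : Submodule k (B.core δ).V :=
  ((GrLC.gam a 𝕏).restrictScalars k).comap (pcs 𝒜 𝒳 δ).subtype

theorem mem_coreK {a : Ideal R} {δ : ℤ} {v : (B.core δ).V} :
    v ∈ B.coreK a δ ↔ (v : ↥(pcs 𝒜 𝒳 δ)).1 ∈ GrLC.gam a 𝕏 := Iff.rfl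

theorem map_mem_gam {N N' : Type u} [AddCommGroup N] [Module R N] [AddCommGroup N'] [Module R N']
    (f : N →ₗ[R] N') (a : Ideal R) {x : N} (hx : x ∈ GrLC.gam a N) : f x ∈ GrLC.gam a N' := by
  obtain ⟨n, hn⟩ := hx
  exact ⟨n, fun r hr => by rw [← map_smul, hn r hr, map_zero]⟩

theorem coreK_prk (a : Ideal R) (δ : ℤ) (p : ℕ) (v : (B.core δ).V) (hv : v ∈ B.coreK a δ) :
    prk (B.core δ).gr p v ∈ B.coreK a δ := by
  rw [core_prk]
  exact map_mem_gam (B.π p) a hv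

theorem coreK_d (a : Ideal R) (δ : ℤ) (v : (B.core δ).V) (hv : v ∈ B.coreK a δ) :
    (B.core δ).d v ∈ B.coreK a δ :=
  map_mem_gam B.d a hv

/-- the core is exact in positive degrees -/
theorem core_exactAt (δ : ℤ) (p : ℕ) : (B.core δ).toPCx.ExactAt p := by
  intro v hv hdv
  have hv1 : (v : ↥(pcs 𝒜 𝒳 δ)).1 ∈ B.co (p + 1) := hv
  have hd : B.d (v : ↥(pcs 𝒜 𝒳 δ)).1 = 0 := congrArg Subtype.val hdv
  set u := B.comp (p + 1) (v : ↥(pcs 𝒜 𝒳 δ)).1 with hu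
  have hvu : B.lof (p + 1) u = (v : ↥(pcs 𝒜 𝒳 δ)).1 := B.lof_comp_of_mem hv1
  have hug : u ∈ (E.X (p + 1)).gr δ := B.comp_gr (p + 1) δ _ (v : ↥(pcs 𝒜 𝒳 δ)).2
  have hdu : E.d (p + 1) u = 0 := by
    apply B.lof_injective (p + 2)
    rw [← B.d_lof, hvu, hd, map_zero]
  have hu' : u ∈ LinearMap.range (E.d p) := by
    rw [← E.exact_succ]
    exact hdu
  obtain ⟨u', hu'⟩ := hu'
  have h1 : E.d p (Gr.proj (E.X p).gr δ u') = u := by
    rw [Gr.isGrHom_proj (E.X p).gr (E.X (p + 1)).gr (E.d_grHom p), hu', Gr.proj_of_mem _ hug]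
  have hmem : B.lof p (Gr.proj (E.X p).gr δ u') ∈ 𝒳 δ :=
    B.lof_gr p δ _ (Gr.proj_mem (E.X p).gr δ u')
  refine ⟨(⟨B.lof p (Gr.proj (E.X p).gr δ u'), hmem⟩ : ↥(pcs 𝒜 𝒳 δ)), B.lof_mem_co p _, ?_⟩
  apply Subtype.ext
  change B.d (B.lof p (Gr.proj (E.X p).gr δ u')) = _
  rw [B.d_lof, h1, hvu]

end Big

end Big

end Seg

end Groth.Agent.H6
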