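import Groth.Agent.Lib.Helper6.SegBig1

/-! Dimension bookkeeping: pieces of `M` and of its graded local cohomology in terms of the
degree-`δ` core of the big complex. -/

universe u
open DirectSum TensorProduct
set_option linter.unusedSectionVars false

namespace Groth.Agent.H6

namespace Seg

open SegLA ToAdd

section Rank

variable {k : Type u} [Field k] {R : Type u} [CommRing R] [Algebra k R]
  (𝒜 : ℤ → Submodule k R) [GradedAlgebra 𝒜]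

theorem algebraMap_mem_deg0 (c : k) : algebraMap k R c ∈ GrLC.deg0 𝒜 := by
  change algebraMap k R c ∈ 𝒜 0
  rw [Algebra.algebraMap_eq_smul_one]
  exact Submodule.smul_mem _ _ (SetLike.GradedOne.one_mem (A := 𝒜))

/-- the field as the degree zero subring -/
def kToDeg0 : k →+* GrLC.deg0 𝒜 :=
  (algebraMap k R).codRestrict (GrLC.deg0 𝒜) (algebraMap_mem_deg0 𝒜)

theorem coe_kToDeg0 (c : k) : (kToDeg0 𝒜 c : R) = algebraMap k R c := rfl

theorem kToDeg0_bijective [Nontrivial R] (h0 : 𝒜 0 = Submodule.span k {(1 : R)}) :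
    Function.Bijective (kToDeg0 𝒜) := by
  constructor
  · intro c c' h
    exact (algebraMap k R).injective (congrArg Subtype.val h)
  · rintro ⟨r, hr⟩
    have hr' : r ∈ 𝒜 0 := hr
    rw [h0, Submodule.mem_span_singleton] at hr'
    obtain ⟨c, rfl⟩ := hr'
    refine ⟨c, Subtype.ext ?_⟩
    rw [coe_kToDeg0, Algebra.algebraMap_eq_smul_one]

theorem finrank_eq_of_addEquiv [Nontrivial R] (h0 : 𝒜 0 = Submodule.span k {(1 : R)})
    {V : Type u} [AddCommGroup V] [Module k V] {N : Type u} [AddCommGroup N]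
    [Module (GrLC.deg0 𝒜) N] (θ : V ≃+ N) (hθ : ∀ (c : k) (v : V), θ (c • v) = kToDeg0 𝒜 c • θ v) :
    Module.finrank k V = Module.finrank (GrLC.deg0 𝒜) N := by
  have := rank_eq_of_equiv_equiv (kToDeg0 𝒜) θ (kToDeg0_bijective 𝒜 h0) hθ
  unfold Module.finrank
  rw [this]

theorem finrank_eq_of_semilinear [Nontrivial R] (h0 : 𝒜 0 = Submodule.span k {(1 : R)})
    {V : Type u} [AddCommGroup V] [Module k V] {N : Type u} [AddCommGroup N]
    [Module (GrLC.deg0 𝒜) N] (θ : V →ₛₗ[kToDeg0 𝒜] N) (hθ : Function.Bijective θ) :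
    Module.finrank k V = Module.finrank (GrLC.deg0 𝒜) N :=
  finrank_eq_of_addEquiv 𝒜 h0 (AddEquiv.ofBijective θ.toAddMonoidHom hθ)
    (fun c v => map_smulₛₗ θ c v)

theorem finite_iff_of_semilinear [Nontrivial R] (h0 : 𝒜 0 = Submodule.span k {(1 : R)})
    {V : Type u} [AddCommGroup V] [Module k V] {N : Type u} [AddCommGroup N]
    [Module (GrLC.deg0 𝒜) N] (θ : V →ₛₗ[kToDeg0 𝒜] N) (hθ : Function.Bijective θ) :
    Module.Finite k V ↔ Module.Finite (GrLC.deg0 𝒜) N := by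
  haveI : RingHomSurjective (kToDeg0 𝒜) := ⟨(kToDeg0_bijective 𝒜 h0).surjective⟩
  exact LinearMap.finite_iff_of_bijective θ hθ

variable {M : Type u} [AddCommGroup M] [Module R M] [Module k M] [IsScalarTower k R M]
  (ℳ : ℤ → AddSubgroup M) [DirectSum.Decomposition ℳ] [SetLike.GradedSMul 𝒜 ℳ]

/-- the piece of `M` over `k` and over the degree zero subring -/
def pcsToComp (δ : ℤ) : ↥(pcs 𝒜 ℳ δ) →ₛₗ[kToDeg0 𝒜] ↥(GrLC.comp 𝒜 ℳ δ) where
  toFun x := ⟨x.1, x.2⟩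
  map_add' _ _ := rfl
  map_smul' c v := by
    apply Subtype.ext
    change c • (v : M) = algebraMap k R c • (v : M)
    rw [algebraMap_smul]

theorem pcsToComp_bijective (δ : ℤ) : Function.Bijective (pcsToComp 𝒜 ℳ δ) :=
  ⟨fun _ _ h => Subtype.ext (congrArg Subtype.val h), fun y => ⟨⟨y.1, y.2⟩, rfl⟩⟩

theorem finrank_pcs_eq [Nontrivial R] (h0 : 𝒜 0 = Submodule.span k {(1 : R)}) (δ : ℤ) :
    Module.finrank k ↥(pcs 𝒜 ℳ δ) = Module.finrank (GrLC.deg0 𝒜) ↥(GrLC.comp 𝒜 ℳ δ) :=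
  finrank_eq_of_semilinear 𝒜 h0 _ (pcsToComp_bijective 𝒜 ℳ δ)

theorem finite_pcs_iff [Nontrivial R] (h0 : 𝒜 0 = Submodule.span k {(1 : R)}) (δ : ℤ) :
    Module.Finite k ↥(pcs 𝒜 ℳ δ) ↔ Module.Finite (GrLC.deg0 𝒜) ↥(GrLC.comp 𝒜 ℳ δ) :=
  finite_iff_of_semilinear 𝒜 h0 _ (pcsToComp_bijective 𝒜 ℳ δ)

end Rank

section RelZero

variable {k : Type u} [Field k] (C : PCx k) (K : Submodule k C.V)

/-- the relative cohomology in degree zero, when the cohomology of the subcomplex vanishes in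
degrees zero and one -/
noncomputable def relZero (h0 : C.Zsub K 0 = ⊥) (h1 : C.Zsub K 1 ≤ C.Bsub K 1) :
    ↥(C.Z 0) ≃ₗ[k] C.Hrel K 0 :=
  (sqBot (C.Z 0)).symm.trans (sqEquiv LinearMap.id
    (by
      intro z hz
      refine ⟨hz.2, ?_⟩
      change C.d z ∈ K
      rw [LinearMap.mem_ker.mp hz.1]
      exact zero_mem _)
    (by
      intro z _ hb
      rw [Submodule.mem_bot] at hb
      rw [hb]
      exact zero_mem _)
    (by
      intro z hz hb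
      have : z ∈ C.Zsub K 0 := ⟨hz, hb.2⟩
      rw [h0] at this
      exact this)
    (by
      intro z' hz'
      have h2 : C.d z' ∈ C.Zsub K 1 :=
        ⟨⟨LinearMap.mem_ker.mpr (C.d_d z'), C.d_mem 0 z' hz'.1⟩, hz'.2⟩
      obtain ⟨κ, hκ, hκz⟩ := h1 h2
      refine ⟨z' - κ, ⟨?_, sub_mem hz'.1 hκ.1⟩, ?_⟩
      · change C.d (z' - κ) = 0
        rw [map_sub, hκz, sub_self]
      · change z' - κ - z' ∈ C.gr 0 ⊓ K
        have : z' - κ - z' = -κ := by abel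
        rw [this]
        exact neg_mem hκ))

end RelZero

section Ident

variable {k : Type u} [Field k] {R : Type u} [CommRing R] [Algebra k R]
  {𝒜 : ℤ → Submodule k R} [GradedAlgebra 𝒜] [GradedRing (toAdd 𝒜)]
variable {M : Type u} [AddCommGroup M] [Module R M] [Module k M] [IsScalarTower k R M]
  {ℳ : ℤ → AddSubgroup M} [DirectSum.Decomposition ℳ] [SetLike.GradedSMul 𝒜 ℳ]
variable {E : GrLC.StarInjRes 𝒜 ℳ}
variable {𝕏 : Type u} [AddCommGroup 𝕏] [Module R 𝕏] [Module k 𝕏] [IsScalarTower k R 𝕏]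
  {𝒳 : ℤ → AddSubgroup 𝕏} [DirectSum.Decomposition 𝒳] [SetLike.GradedSMul 𝒜 𝒳]
variable (B : Big 𝒜 E 𝒳) (a : HomogeneousIdeal 𝒜)

theorem Big.d_lof_ε (m : M) : B.d (B.lof 0 (E.ε m)) = 0 := by
  rw [B.d_lof]
  have : E.ε m ∈ LinearMap.ker (E.d 0) := by
    rw [E.exact_zero]
    exact ⟨m, rfl⟩
  rw [LinearMap.mem_ker.mp this, map_zero]

/-- `M_δ` as the cocycles of degree zero of the core -/
noncomputable def Big.z0Map (δ : ℤ) : ↥(pcs 𝒜 ℳ δ) →ₗ[k] ↥((B.core δ).toPCx.Z 0) where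
  toFun m := ⟨(⟨B.lof 0 (E.ε m.1), B.lof_gr 0 δ _ (E.ε_grHom δ _ m.2)⟩ : ↥(pcs 𝒜 𝒳 δ)),
    ⟨LinearMap.mem_ker.mpr (Subtype.ext (B.d_lof_ε m.1)), B.lof_mem_co 0 _⟩⟩
  map_add' m m' := by
    apply Subtype.ext
    apply Subtype.ext
    change B.lof 0 (E.ε ((m + m' : ↥(pcs 𝒜 ℳ δ)) : M)) = B.lof 0 (E.ε m.1) + B.lof 0 (E.ε m'.1)
    rw [Submodule.coe_add, map_add, map_add]
  map_smul' c m := by
    apply Subtype.ext
    apply Subtype.ext
    change B.lof 0 (E.ε ((c • m : ↥(pcs 𝒜 ℳ δ)) : M)) = c • B.lof 0 (E.ε m.1)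
    rw [Submodule.coe_smul, ← algebraMap_smul R c (m : M), map_smul, map_smul, algebraMap_smul]

theorem Big.z0Map_bijective (δ : ℤ) : Function.Bijective (B.z0Map δ) := by
  constructor
  · intro m m' h
    have h1 : B.lof 0 (E.ε m.1) = B.lof 0 (E.ε m'.1) :=
      congrArg (fun z : ↥((B.core δ).toPCx.Z 0) => ((z : (B.core δ).V) : ↥(pcs 𝒜 𝒳 δ)).1) h
    exact Subtype.ext (E.ε_injective (B.lof_injective 0 h1))
  · intro z
    have hz1 : ((z : (B.core δ).V) : ↥(pcs 𝒜 𝒳 δ)).1 ∈ B.co 0 := z.2.2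
    have hd0 : (B.core δ).d z.1 = 0 := LinearMap.mem_ker.mp z.2.1
    have hd : B.d ((z : (B.core δ).V) : ↥(pcs 𝒜 𝒳 δ)).1 = 0 := congrArg Subtype.val hd0
    set u := B.comp 0 ((z : (B.core δ).V) : ↥(pcs 𝒜 𝒳 δ)).1 with hu
    have hzu : B.lof 0 u = ((z : (B.core δ).V) : ↥(pcs 𝒜 𝒳 δ)).1 := B.lof_comp_of_mem hz1
    have hug : u ∈ (E.X 0).gr δ := B.comp_gr 0 δ _ ((z : (B.core δ).V) : ↥(pcs 𝒜 𝒳 δ)).2
    have hdu : E.d 0 u = 0 := by
      apply B.lof_injective 1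
      rw [← B.d_lof, hzu, hd, map_zero]
    have hu' : u ∈ LinearMap.range E.ε := by
      rw [← E.exact_zero]
      exact hdu
    obtain ⟨m, hm⟩ := hu'
    have h1 : E.ε (Gr.proj ℳ δ m) = u := by
      rw [Gr.isGrHom_proj ℳ (E.X 0).gr E.ε_grHom, hm, Gr.proj_of_mem _ hug]
    refine ⟨(⟨Gr.proj ℳ δ m, Gr.proj_mem ℳ δ m⟩ : ↥(pcs 𝒜 ℳ δ)), ?_⟩
    apply Subtype.ext
    apply Subtype.ext
    change B.lof 0 (E.ε (Gr.proj ℳ δ m)) = _
    rw [h1, hzu]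

theorem Big.finrank_Z0 [Nontrivial R] (h0 : 𝒜 0 = Submodule.span k {(1 : R)}) (δ : ℤ) :
    Module.finrank k ↥((B.core δ).toPCx.Z 0) =
      Module.finrank (GrLC.deg0 𝒜) ↥(GrLC.comp 𝒜 ℳ δ) := by
  rw [← finrank_pcs_eq 𝒜 ℳ h0 δ]
  exact (LinearEquiv.ofBijective (B.z0Map δ) (B.z0Map_bijective δ)).finrank_eq.symm

theorem Big.comp_mem_cocyc {δ : ℤ} {i : ℕ} {v : (B.core δ).V}
    (hv : v ∈ (B.core δ).toPCx.Zsub (B.coreK a.toIdeal δ) i) :
    B.comp i (v : ↥(pcs 𝒜 𝒳 δ)).1 ∈ E.cocyc a i := by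
  refine ⟨Big.map_mem_gam (B.comp i) a.toIdeal hv.2, ?_⟩
  change E.d i (B.comp i (v : ↥(pcs 𝒜 𝒳 δ)).1) = 0
  rw [← B.comp_d_succ]
  have hd0 : (B.core δ).d v = 0 := LinearMap.mem_ker.mp hv.1.1
  have : B.d (v : ↥(pcs 𝒜 𝒳 δ)).1 = 0 := congrArg Subtype.val hd0
  rw [this, map_zero]

theorem gam_proj_mem (E : GrLC.StarInjRes 𝒜 ℳ) (p : ℕ) (δ : ℤ) {w : (E.X p).carrier}
    (hw : w ∈ GrLC.gam a.toIdeal (E.X p).carrier) :
    Gr.proj (E.X p).gr δ w ∈ GrLC.gam a.toIdeal (E.X p).carrier := by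
  letI := gradedSMul_to 𝒜 (E.X p).gr
  exact Gr.gam_isHomogeneous (toAdd 𝒜) (E.X p).gr (idealTo 𝒜 a) δ hw

theorem Big.exists_toHcomp (δ : ℤ) (i : ℕ) :
    ∃ Θ : ↥((B.core δ).toPCx.Zsub (B.coreK a.toIdeal δ) i) →+ ↥(E.Hcomp a i δ),
      Function.Surjective Θ ∧
      (∀ v, Θ v = 0 ↔ (v : (B.core δ).V) ∈ (B.core δ).toPCx.Bsub (B.coreK a.toIdeal δ) i) ∧
      ∀ (c : k) v, Θ (c • v) = kToDeg0 𝒜 c • Θ v := by
  let Θ : ↥((B.core δ).toPCx.Zsub (B.coreK a.toIdeal δ) i) →+ ↥(E.Hcomp a i δ) :=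
    { toFun := fun v => ⟨E.toH a i ⟨B.comp i ((v : (B.core δ).V) : ↥(pcs 𝒜 𝒳 δ)).1,
          B.comp_mem_cocyc a v.2⟩,
        ⟨⟨B.comp i ((v : (B.core δ).V) : ↥(pcs 𝒜 𝒳 δ)).1, B.comp_mem_cocyc a v.2⟩,
          B.comp_gr i δ _ ((v : (B.core δ).V) : ↥(pcs 𝒜 𝒳 δ)).2, rfl⟩⟩
      map_zero' := by
        apply Subtype.ext
        change E.toH a i _ = 0
        have : (⟨B.comp i (((0 : ↥((B.core δ).toPCx.Zsub (B.coreK a.toIdeal δ) i)) :
            (B.core δ).V) : ↥(pcs 𝒜 𝒳 δ)).1, B.comp_mem_cocyc a (0 :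
            ↥((B.core δ).toPCx.Zsub (B.coreK a.toIdeal δ) i)).2⟩ : ↥(E.cocyc a i)) = 0 := by
          apply Subtype.ext
          exact map_zero (B.comp i)
        rw [this, map_zero]
      map_add' := by
        intro v w
        apply Subtype.ext
        change E.toH a i _ = E.toH a i _ + E.toH a i _
        rw [← map_add]
        congr 1
        apply Subtype.ext
        change B.comp i (((v + w : ↥((B.core δ).toPCx.Zsub (B.coreK a.toIdeal δ) i)) :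
          (B.core δ).V) : ↥(pcs 𝒜 𝒳 δ)).1 = _
        exact map_add (B.comp i) _ _ }
  have hΘ : ∀ v, ((Θ v : ↥(E.Hcomp a i δ)) : E.H a i) =
      E.toH a i ⟨B.comp i ((v : (B.core δ).V) : ↥(pcs 𝒜 𝒳 δ)).1, B.comp_mem_cocyc a v.2⟩ :=
    fun v => rfl
  refine ⟨Θ, ?_, ?_, ?_⟩
  · rintro ⟨x, z, hz, rfl⟩
    have hz1 : z.1 ∈ GrLC.gam a.toIdeal (E.X i).carrier := z.2.1
    have hz2 : E.d i z.1 = 0 := LinearMap.mem_ker.mp z.2.2
    have hv : (⟨B.lof i z.1, B.lof_gr i δ _ hz⟩ : ↥(pcs 𝒜 𝒳 δ)) ∈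
        (B.core δ).toPCx.Zsub (B.coreK a.toIdeal δ) i := by
      refine ⟨⟨LinearMap.mem_ker.mpr (Subtype.ext ?_), B.lof_mem_co i _⟩,
        Big.map_mem_gam (B.lof i) a.toIdeal hz1⟩
      change B.d (B.lof i z.1) = 0
      rw [B.d_lof, hz2, map_zero]
    refine ⟨⟨_, hv⟩, Subtype.ext ?_⟩
    rw [hΘ]
    congr 1
    apply Subtype.ext
    exact B.comp_lof i z.1
  · intro v
    have h1 : Θ v = 0 ↔ B.comp i ((v : (B.core δ).V) : ↥(pcs 𝒜 𝒳 δ)).1 ∈ E.cobdy a i := by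
      rw [← Subtype.coe_inj, hΘ]
      change E.toH a i _ = 0 ↔ _
      rw [Submodule.mkQ_apply, Submodule.Quotient.mk_eq_zero, Submodule.mem_comap]
      rfl
    rw [h1]
    have hvco : ((v : (B.core δ).V) : ↥(pcs 𝒜 𝒳 δ)).1 ∈ B.co i := v.2.1.2
    cases i with
    | zero =>
      change _ ∈ (⊥ : Submodule R _) ↔ (v : (B.core δ).V) ∈ (⊥ : Submodule k _)
      rw [Submodule.mem_bot, Submodule.mem_bot]
      constructor
      · intro h
        apply Subtype.ext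
        rw [← B.lof_comp_of_mem hvco, h, map_zero]
        rfl
      · intro h
        rw [h]
        exact map_zero _
    | succ j =>
      constructor
      · rintro ⟨w, hw, hwv⟩
        have hw' := gam_proj_mem a E j δ hw
        have h2 : E.d j (Gr.proj (E.X j).gr δ w) =
            B.comp (j + 1) ((v : (B.core δ).V) : ↥(pcs 𝒜 𝒳 δ)).1 := by
          rw [Gr.isGrHom_proj (E.X j).gr (E.X (j + 1)).gr (E.d_grHom j), hwv,
            Gr.proj_of_mem _ (B.comp_gr (j + 1) δ _ ((v : (B.core δ).V) : ↥(pcs 𝒜 𝒳 δ)).2)]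
        refine ⟨(⟨B.lof j (Gr.proj (E.X j).gr δ w),
          B.lof_gr j δ _ (Gr.proj_mem (E.X j).gr δ w)⟩ : ↥(pcs 𝒜 𝒳 δ)),
          ⟨B.lof_mem_co j _, Big.map_mem_gam (B.lof j) a.toIdeal hw'⟩, ?_⟩
        apply Subtype.ext
        change B.d (B.lof j (Gr.proj (E.X j).gr δ w)) = _
        rw [B.d_lof, h2, B.lof_comp_of_mem hvco]
      · rintro ⟨y, hy, hyv⟩
        refine ⟨B.comp j (y : ↥(pcs 𝒜 𝒳 δ)).1, Big.map_mem_gam (B.comp j) a.toIdeal hy.2, ?_⟩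
        rw [← B.comp_d_succ]
        have : B.d (y : ↥(pcs 𝒜 𝒳 δ)).1 = ((v : (B.core δ).V) : ↥(pcs 𝒜 𝒳 δ)).1 :=
          congrArg Subtype.val hyv
        rw [this]
  · intro c v
    apply Subtype.ext
    change E.toH a i _ = algebraMap k R c • E.toH a i _
    rw [← map_smul]
    congr 1
    apply Subtype.ext
    change B.comp i (c • ((v : (B.core δ).V) : ↥(pcs 𝒜 𝒳 δ)).1) = algebraMap k R c • _
    rw [← algebraMap_smul R c, map_smul]

theorem Big.Zsub_le_Bsub_of_Hcomp_eq_bot (δ : ℤ) (i : ℕ) (h : E.Hcomp a i δ = ⊥) :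
    (B.core δ).toPCx.Zsub (B.coreK a.toIdeal δ) i ≤ (B.core δ).toPCx.Bsub (B.coreK a.toIdeal δ) i := by
  obtain ⟨Θ, -, hker, -⟩ := B.exists_toHcomp a δ i
  intro v hv
  have h2 : ∀ y : E.H a i, y ∈ E.Hcomp a i δ → y = 0 := by
    rw [h]
    intro y hy
    exact (Submodule.mem_bot _).mp hy
  exact (hker ⟨v, hv⟩).mp (Subtype.ext (h2 _ (Θ ⟨v, hv⟩).2))

theorem Big.exists_semilinear_Hsub (δ : ℤ) (i : ℕ) :
    ∃ θ : (B.core δ).toPCx.Hsub (B.coreK a.toIdeal δ) i →ₛₗ[kToDeg0 𝒜] ↥(E.Hcomp a i δ),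
      Function.Bijective θ := by
  obtain ⟨Θ₀, hsurj, hker0, hsmul⟩ := B.exists_toHcomp a δ i
  let Θ : ↥((B.core δ).toPCx.Zsub (B.coreK a.toIdeal δ) i) →ₛₗ[kToDeg0 𝒜] ↥(E.Hcomp a i δ) :=
    { toFun := Θ₀
      map_add' := map_add Θ₀
      map_smul' := hsmul }
  have hker : ((B.core δ).toPCx.Bsub (B.coreK a.toIdeal δ) i).comap
      ((B.core δ).toPCx.Zsub (B.coreK a.toIdeal δ) i).subtype ≤ LinearMap.ker Θ := by
    intro v hv
    rw [LinearMap.mem_ker]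
    exact (hker0 v).mpr hv
  refine ⟨Submodule.liftQ _ Θ hker, ?_, ?_⟩
  · rw [← LinearMap.ker_eq_bot, Submodule.ker_liftQ_eq_bot]
    intro v hv
    rw [Submodule.mem_comap]
    exact (hker0 v).mp (LinearMap.mem_ker.mp hv)
  · intro y
    obtain ⟨v, rfl⟩ := hsurj y
    exact ⟨Submodule.Quotient.mk v, rfl⟩

theorem Big.finrank_Hsub [Nontrivial R] (h0 : 𝒜 0 = Submodule.span k {(1 : R)}) (δ : ℤ) (i : ℕ) :
    Module.finrank k ((B.core δ).toPCx.Hsub (B.coreK a.toIdeal δ) i) =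
      Module.finrank (GrLC.deg0 𝒜) ↥(E.Hcomp a i δ) := by
  obtain ⟨θ, hθ⟩ := B.exists_semilinear_Hsub a δ i
  exact finrank_eq_of_semilinear 𝒜 h0 θ hθ

theorem Big.finite_Hsub_iff [Nontrivial R] (h0 : 𝒜 0 = Submodule.span k {(1 : R)}) (δ : ℤ)
    (i : ℕ) :
    Module.Finite k ((B.core δ).toPCx.Hsub (B.coreK a.toIdeal δ) i) ↔
      Module.Finite (GrLC.deg0 𝒜) ↥(E.Hcomp a i δ) := by
  obtain ⟨θ, hθ⟩ := B.exists_semilinear_Hsub a δ i
  exact finite_iff_of_semilinear 𝒜 h0 θ hθ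

theorem Big.finite_Z0_iff [Nontrivial R] (h0 : 𝒜 0 = Submodule.span k {(1 : R)}) (δ : ℤ) :
    Module.Finite k ↥((B.core δ).toPCx.Z 0) ↔
      Module.Finite (GrLC.deg0 𝒜) ↥(GrLC.comp 𝒜 ℳ δ) := by
  rw [← finite_pcs_iff 𝒜 ℳ h0 δ]
  exact ⟨fun _ => Module.Finite.equiv (LinearEquiv.ofBijective (B.z0Map δ) (B.z0Map_bijective δ)).symm,
    fun _ => Module.Finite.equiv (LinearEquiv.ofBijective (B.z0Map δ) (B.z0Map_bijective δ))⟩

/-- the relative cohomology of the core in degree zero is `M_δ`, when `H^0` and `H^1` vanish -/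
theorem Big.nonempty_Hrel_zero (δ : ℤ) (hv0 : E.Hcomp a 0 δ = ⊥) (hv1 : E.Hcomp a 1 δ = ⊥) :
    Nonempty (↥((B.core δ).toPCx.Z 0) ≃ₗ[k] (B.core δ).toPCx.Hrel (B.coreK a.toIdeal δ) 0) := by
  have h0 : (B.core δ).toPCx.Zsub (B.coreK a.toIdeal δ) 0 = ⊥ :=
    le_bot_iff.mp (B.Zsub_le_Bsub_of_Hcomp_eq_bot a δ 0 hv0)
  exact ⟨relZero _ _ h0 (B.Zsub_le_Bsub_of_Hcomp_eq_bot a δ 1 hv1)⟩

theorem Big.finrank_Hrel_zero [Nontrivial R] (h0 : 𝒜 0 = Submodule.span k {(1 : R)}) (δ : ℤ)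
    (hv0 : E.Hcomp a 0 δ = ⊥) (hv1 : E.Hcomp a 1 δ = ⊥) :
    Module.finrank k ((B.core δ).toPCx.Hrel (B.coreK a.toIdeal δ) 0) =
      Module.finrank (GrLC.deg0 𝒜) ↥(GrLC.comp 𝒜 ℳ δ) := by
  obtain ⟨e⟩ := B.nonempty_Hrel_zero a δ hv0 hv1
  rw [← e.finrank_eq, B.finrank_Z0 h0]

theorem Big.finite_Hrel_zero [Nontrivial R] (h0 : 𝒜 0 = Submodule.span k {(1 : R)}) (δ : ℤ)
    (hv0 : E.Hcomp a 0 δ = ⊥) (hv1 : E.Hcomp a 1 δ = ⊥)
    (hfin : Module.Finite (GrLC.deg0 𝒜) ↥(GrLC.comp 𝒜 ℳ δ)) :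
    Module.Finite k ((B.core δ).toPCx.Hrel (B.coreK a.toIdeal δ) 0) := by
  obtain ⟨e⟩ := B.nonempty_Hrel_zero a δ hv0 hv1
  haveI := (B.finite_Z0_iff h0 δ).mpr hfin
  exact Module.Finite.equiv e

theorem Big.finrank_Hrel_succ [Nontrivial R] (h0 : 𝒜 0 = Submodule.span k {(1 : R)}) (δ : ℤ)
    (m : ℕ) :
    Module.finrank k ((B.core δ).toPCx.Hrel (B.coreK a.toIdeal δ) (m + 1)) =
      Module.finrank (GrLC.deg0 𝒜) ↥(E.Hcomp a (m + 2) δ) := by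
  rw [← B.finrank_Hsub a h0 δ (m + 2)]
  exact (PCx.conn (B.core δ).toPCx (B.coreK a.toIdeal δ) m (B.core_exactAt δ m)
    (B.core_exactAt δ (m + 1))).finrank_eq

theorem Big.finite_Hrel_succ [Nontrivial R] (h0 : 𝒜 0 = Submodule.span k {(1 : R)}) (δ : ℤ)
    (m : ℕ) (hfin : Module.Finite (GrLC.deg0 𝒜) ↥(E.Hcomp a (m + 2) δ)) :
    Module.Finite k ((B.core δ).toPCx.Hrel (B.coreK a.toIdeal δ) (m + 1)) := by
  haveI := (B.finite_Hsub_iff a h0 δ (m + 2)).mpr hfin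
  exact Module.Finite.equiv (PCx.conn (B.core δ).toPCx (B.coreK a.toIdeal δ) m
    (B.core_exactAt δ m) (B.core_exactAt δ (m + 1))).symm

end Ident

end Seg

end Groth.Agent.H6
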