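import Groth.Agent.Lib.Helper6.SegMod3

/-! Segre submodules spanned by pure tensors; maps of Segre submodules induced by arbitrary
`k`-linear maps commuting with the action. -/

universe u
open DirectSum TensorProduct
set_option linter.unusedSectionVars false

namespace Groth.Agent.H6

namespace Seg

open SegLA ToAdd

section OfSpan

variable {k : Type u} [Field k] {R S T : Type u} [CommRing R] [CommRing S] [CommRing T]
  [Algebra k R] [Algebra k S] [Algebra k T]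
  (𝒜 : ℤ → Submodule k R) [GradedAlgebra 𝒜] (ℬ : ℤ → Submodule k S) [GradedAlgebra ℬ]
  (𝒯 : ℤ → Submodule k T) [GradedAlgebra 𝒯]
  (ψ : T →ₐ[k] R ⊗[k] S)
variable {X : Type u} [AddCommGroup X] [Module R X] [Module k X] [IsScalarTower k R X]
  (𝒳 : ℤ → AddSubgroup X) [DirectSum.Decomposition 𝒳] [SetLike.GradedSMul 𝒜 𝒳]
variable {Y : Type u} [AddCommGroup Y] [Module S Y] [Module k Y] [IsScalarTower k S Y]
  (𝒴 : ℤ → AddSubgroup Y) [DirectSum.Decomposition 𝒴] [SetLike.GradedSMul ℬ 𝒴]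

/-- stability of a span under the action of a homogeneous element of `R ⊗ S` -/
theorem act_mem_span (G : Set (X ⊗[k] Y))
    (hact : ∀ w ∈ G, ∀ (c : ℤ) (a : R) (b : S), a ∈ 𝒜 c → b ∈ ℬ c →
      GrSeg.act k R S X Y (a ⊗ₜ[k] b) w ∈ Submodule.span k G)
    {c : ℤ} {z : R ⊗[k] S} (hz : z ∈ GrSeg.segrePiece k 𝒜 ℬ c) {u : X ⊗[k] Y}
    (hu : u ∈ Submodule.span k G) : GrSeg.act k R S X Y z u ∈ Submodule.span k G := by
  rw [GrSeg.segrePiece] at hz
  induction hz using Submodule.span_induction with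
  | mem z hz =>
    obtain ⟨a, ha, b, hb, rfl⟩ := hz
    induction hu using Submodule.span_induction with
    | mem w hw => exact hact w hw c a b ha hb
    | zero => rw [map_zero]; exact zero_mem _
    | add x y _ _ hx hy => rw [map_add]; exact add_mem hx hy
    | smul r x _ hx => rw [map_smul]; exact Submodule.smul_mem _ _ hx
  | zero => rw [map_zero, LinearMap.zero_apply]; exact zero_mem _
  | add x y _ _ hx hy => rw [map_add, LinearMap.add_apply]; exact add_mem hx hy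
  | smul r x _ hx => rw [map_smul, LinearMap.smul_apply]; exact Submodule.smul_mem _ _ hx

/-- the Segre submodule spanned by a set of homogeneous elements stable under the action -/
def TSub.ofSpan (hT : GrSeg.IsSegreRing 𝒜 ℬ 𝒯 ψ) (G : Set (X ⊗[k] Y))
    (hpiece : ∀ w ∈ G, ∃ δ : ℤ, w ∈ GrSeg.segrePiece k 𝒳 𝒴 δ)
    (hact : ∀ w ∈ G, ∀ (c : ℤ) (a : R) (b : S), a ∈ 𝒜 c → b ∈ ℬ c →
      GrSeg.act k R S X Y (a ⊗ₜ[k] b) w ∈ Submodule.span k G) : TSub 𝒜 ℬ ψ 𝒳 𝒴 where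
  U := Submodule.span k G
  le_seg := by
    rw [Submodule.span_le]
    intro w hw
    obtain ⟨δ, hδ⟩ := hpiece w hw
    exact piece_le_seg 𝒳 𝒴 δ hδ
  act_mem := by
    intro t u hu
    induction t using DirectSum.Decomposition.inductionOn 𝒯 with
    | zero => rw [actT_zero]; exact zero_mem _
    | homogeneous t =>
      rename_i c
      have h1 : ψ (t : T) ∈ GrSeg.segrePiece k 𝒜 ℬ c := by
        rw [← hT.2 c]
        exact ⟨t, t.2, rfl⟩
      exact act_mem_span 𝒜 ℬ G hact h1 hu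
    | add t t' h1 h2 => rw [actT_add]; exact add_mem h1 h2
  sp_mem := by
    intro d u hu
    induction hu using Submodule.span_induction with
    | mem w hw =>
      obtain ⟨δ, hδ⟩ := hpiece w hw
      by_cases hd : δ = d
      · subst hd
        rw [sp_of_mem 𝒜 ℬ 𝒳 𝒴 hδ]
        exact Submodule.subset_span hw
      · rw [sp_of_mem_ne 𝒜 ℬ 𝒳 𝒴 hδ hd]
        exact zero_mem _
    | zero => rw [map_zero]; exact zero_mem _
    | add x y _ _ hx hy => rw [map_add]; exact add_mem hx hy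
    | smul r x _ hx => rw [map_smul]; exact Submodule.smul_mem _ _ hx

end OfSpan

section MapOf

variable {k : Type u} [Field k] {R S T : Type u} [CommRing R] [CommRing S] [CommRing T]
  [Algebra k R] [Algebra k S] [Algebra k T]
  {𝒜 : ℤ → Submodule k R} [GradedAlgebra 𝒜] {ℬ : ℤ → Submodule k S} [GradedAlgebra ℬ]
  {ψ : T →ₐ[k] R ⊗[k] S}
variable {X : Type u} [AddCommGroup X] [Module R X] [Module k X] [IsScalarTower k R X]
  {𝒳 : ℤ → AddSubgroup X} [DirectSum.Decomposition 𝒳] [SetLike.GradedSMul 𝒜 𝒳]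
variable {Y : Type u} [AddCommGroup Y] [Module S Y] [Module k Y] [IsScalarTower k S Y]
  {𝒴 : ℤ → AddSubgroup Y} [DirectSum.Decomposition 𝒴] [SetLike.GradedSMul ℬ 𝒴]
variable {X' : Type u} [AddCommGroup X'] [Module R X'] [Module k X'] [IsScalarTower k R X']
  {𝒳' : ℤ → AddSubgroup X'} [DirectSum.Decomposition 𝒳'] [SetLike.GradedSMul 𝒜 𝒳']
variable {Y' : Type u} [AddCommGroup Y'] [Module S Y'] [Module k Y'] [IsScalarTower k S Y']
  {𝒴' : ℤ → AddSubgroup Y'} [DirectSum.Decomposition 𝒴'] [SetLike.GradedSMul ℬ 𝒴']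

/-- the map of graded `T`-modules induced by a `k`-linear map commuting with the action -/
noncomputable def TSub.mapOf (V : TSub 𝒜 ℬ ψ 𝒳 𝒴) (V' : TSub 𝒜 ℬ ψ 𝒳' 𝒴')
    (Φ : X ⊗[k] Y →ₗ[k] X' ⊗[k] Y') (hΦ : ∀ t w, Φ (actT ψ t w) = actT ψ t (Φ w))
    (h : ∀ u, u ∈ V.U → Φ u ∈ V'.U) : ↥V.U →ₗ[T] ↥V'.U where
  toFun u := ⟨Φ u.1, h u.1 u.2⟩
  map_add' u v := Subtype.ext (map_add Φ u.1 v.1)
  map_smul' t u := Subtype.ext (hΦ t u.1)

theorem TSub.coe_mapOf (V : TSub 𝒜 ℬ ψ 𝒳 𝒴) (V' : TSub 𝒜 ℬ ψ 𝒳' 𝒴')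
    (Φ : X ⊗[k] Y →ₗ[k] X' ⊗[k] Y') (hΦ : ∀ t w, Φ (actT ψ t w) = actT ψ t (Φ w))
    (h : ∀ u, u ∈ V.U → Φ u ∈ V'.U) (u : ↥V.U) :
    ((V.mapOf V' Φ hΦ h u : ↥V'.U) : X' ⊗[k] Y') = Φ u.1 := rfl

end MapOf

end Seg

end Groth.Agent.H6
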