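import Groth.Agent.Lib.Helper6.SegBig2
import Groth.Agent.Lib.Helper6.SegMod4

/-! The total complex of the Segre product of two big complexes, as graded modules over the Segre
product ring, and its dictionary with the tensor product of the degree-`δ` cores. -/

universe u
open DirectSum TensorProduct
set_option linter.unusedSectionVars false

namespace Groth.Agent.H6

namespace Seg

open SegLA ToAdd

section Pair

variable {k : Type u} [Field k] {R S T : Type u} [CommRing R] [CommRing S] [CommRing T]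
  [Algebra k R] [Algebra k S] [Algebra k T]
  {𝒜 : ℤ → Submodule k R} [GradedAlgebra 𝒜] {ℬ : ℤ → Submodule k S} [GradedAlgebra ℬ]
  (𝒯 : ℤ → Submodule k T) [GradedAlgebra 𝒯]
  (ψ : T →ₐ[k] R ⊗[k] S) (hT : GrSeg.IsSegreRing 𝒜 ℬ 𝒯 ψ)
variable {M : Type u} [AddCommGroup M] [Module R M] {ℳ : ℤ → AddSubgroup M}
  [DirectSum.Decomposition ℳ] [SetLike.GradedSMul 𝒜 ℳ] {E : GrLC.StarInjRes 𝒜 ℳ}
variable {𝕏 : Type u} [AddCommGroup 𝕏] [Module R 𝕏] [Module k 𝕏] [IsScalarTower k R 𝕏]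
  {𝒳 : ℤ → AddSubgroup 𝕏} [DirectSum.Decomposition 𝒳] [SetLike.GradedSMul 𝒜 𝒳]
  (B : Big 𝒜 E 𝒳)
variable {N : Type u} [AddCommGroup N] [Module S N] {𝒩 : ℤ → AddSubgroup N}
  [DirectSum.Decomposition 𝒩] [SetLike.GradedSMul ℬ 𝒩] {E' : GrLC.StarInjRes ℬ 𝒩}
variable {𝕐 : Type u} [AddCommGroup 𝕐] [Module S 𝕐] [Module k 𝕐] [IsScalarTower k S 𝕐]
  {𝒴 : ℤ → AddSubgroup 𝕐} [DirectSum.Decomposition 𝒴] [SetLike.GradedSMul ℬ 𝒴]
  (B' : Big ℬ E' 𝒴)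

/-- the generators of the pieces of the total complex -/
def Wgen (A : Set (ℕ × ℕ)) : Set (𝕏 ⊗[k] 𝕐) :=
  {w | ∃ (p q : ℕ) (δ : ℤ) (x : 𝕏) (y : 𝕐), (p, q) ∈ A ∧ x ∈ B.co p ∧ x ∈ 𝒳 δ ∧ y ∈ B'.co q ∧
    y ∈ 𝒴 δ ∧ w = x ⊗ₜ[k] y}

/-- the sub-Segre-module spanned by the bidegrees in `A` -/
def WS (A : Set (ℕ × ℕ)) : TSub 𝒜 ℬ ψ 𝒳 𝒴 :=
  TSub.ofSpan 𝒜 ℬ 𝒯 ψ 𝒳 𝒴 hT (Wgen B B' A)
    (by
      rintro w ⟨p, q, δ, x, y, -, -, hx, -, hy, rfl⟩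
      exact ⟨δ, tmul_mem_piece 𝒳 𝒴 hx hy⟩)
    (by
      rintro w ⟨p, q, δ, x, y, hA, hxp, hx, hyq, hy, rfl⟩ c a b ha hb
      rw [GrSeg.act_tmul]
      refine Submodule.subset_span ⟨p, q, c + δ, a • x, b • y, hA, Submodule.smul_mem _ _ hxp, ?_,
        Submodule.smul_mem _ _ hyq, ?_, rfl⟩
      · exact SetLike.GradedSMul.smul_mem (A := 𝒜) (B := 𝒳) ha hx
      · exact SetLike.GradedSMul.smul_mem (A := ℬ) (B := 𝒴) hb hy)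

theorem WS_U (A : Set (ℕ × ℕ)) : (WS 𝒯 ψ hT B B' A).U = Submodule.span k (Wgen B B' A) := rfl

theorem tmul_mem_WS {A : Set (ℕ × ℕ)} {p q : ℕ} {δ : ℤ} {x : 𝕏} {y : 𝕐} (hA : (p, q) ∈ A)
    (hxp : x ∈ B.co p) (hx : x ∈ 𝒳 δ) (hyq : y ∈ B'.co q) (hy : y ∈ 𝒴 δ) :
    x ⊗ₜ[k] y ∈ (WS 𝒯 ψ hT B B' A).U :=
  Submodule.subset_span ⟨p, q, δ, x, y, hA, hxp, hx, hyq, hy, rfl⟩

theorem WS_mono {A A' : Set (ℕ × ℕ)} (h : A ⊆ A') :
    (WS 𝒯 ψ hT B B' A).U ≤ (WS 𝒯 ψ hT B B' A').U := by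
  apply Submodule.span_mono
  rintro w ⟨p, q, δ, x, y, hA, hxp, hx, hyq, hy, rfl⟩
  exact ⟨p, q, δ, x, y, h hA, hxp, hx, hyq, hy, rfl⟩

/-- the total differential -/
noncomputable def DD : 𝕏 ⊗[k] 𝕐 →ₗ[k] 𝕏 ⊗[k] 𝕐 :=
  tmap B.d (LinearMap.id : 𝕐 →ₗ[S] 𝕐) + tmap B.σ B'.d

theorem DD_tmul (x : 𝕏) (y : 𝕐) :
    DD B B' (x ⊗ₜ[k] y) = B.d x ⊗ₜ[k] y + B.σ x ⊗ₜ[k] B'.d y := rfl

theorem DD_actT (t : T) (w : 𝕏 ⊗[k] 𝕐) : DD B B' (actT ψ t w) = actT ψ t (DD B B' w) := by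
  rw [DD, LinearMap.add_apply, LinearMap.add_apply, tmap_actT, tmap_actT, map_add]

theorem DD_mem_piece {δ : ℤ} {w : 𝕏 ⊗[k] 𝕐} (hw : w ∈ GrSeg.segrePiece k 𝒳 𝒴 δ) :
    DD B B' w ∈ GrSeg.segrePiece k 𝒳 𝒴 δ := by
  rw [DD, LinearMap.add_apply]
  exact add_mem (tmap_mem_piece B.d_gr (fun _ _ h => h) hw) (tmap_mem_piece B.σ_gr B'.d_gr hw)

theorem DD_mem_WS {A A' : Set (ℕ × ℕ)}
    (hA : ∀ p q, (p, q) ∈ A → (p + 1, q) ∈ A' ∧ (p, q + 1) ∈ A') {w : 𝕏 ⊗[k] 𝕐}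
    (hw : w ∈ (WS 𝒯 ψ hT B B' A).U) : DD B B' w ∈ (WS 𝒯 ψ hT B B' A').U := by
  rw [WS_U] at hw
  induction hw using Submodule.span_induction with
  | mem w hw =>
    obtain ⟨p, q, δ, x, y, hpq, hxp, hx, hyq, hy, rfl⟩ := hw
    rw [DD_tmul]
    exact add_mem
      (tmul_mem_WS 𝒯 ψ hT B B' (hA p q hpq).1 (B.d_mem_co hxp) (B.d_gr δ x hx) hyq hy)
      (tmul_mem_WS 𝒯 ψ hT B B' (hA p q hpq).2 (B.σ_mem_co hxp) (B.σ_gr δ x hx)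
        (B'.d_mem_co hyq) (B'.d_gr δ y hy))
  | zero => rw [map_zero]; exact zero_mem _
  | add x y _ _ hx hy => rw [map_add]; exact add_mem hx hy
  | smul r x _ hx => rw [map_smul]; exact Submodule.smul_mem _ _ hx

/-- the bidegrees of total degree `n` -/
def An (n : ℕ) : Set (ℕ × ℕ) := ↑(Finset.HasAntidiagonal.antidiagonal n)

theorem mem_An {n p q : ℕ} : (p, q) ∈ An n ↔ p + q = n := by
  rw [An, Finset.mem_coe, Finset.HasAntidiagonal.mem_antidiagonal]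

theorem An_succ (n p q : ℕ) (h : (p, q) ∈ An n) :
    (p + 1, q) ∈ An (n + 1) ∧ (p, q + 1) ∈ An (n + 1) := by
  rw [mem_An] at h
  constructor
  · rw [mem_An]
    omega
  · rw [mem_An]
    omega

/-! ### the dictionary with the cores -/

/-- the inclusion of the tensor product of the cores -/
noncomputable def inclC (δ : ℤ) : (B.core δ).V ⊗[k] (B'.core δ).V →ₗ[k] 𝕏 ⊗[k] 𝕐 :=
  incl 𝒜 ℬ 𝒳 𝒴 δ

theorem inclC_tmul (δ : ℤ) (a : (B.core δ).V) (b : (B'.core δ).V) :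
    inclC B B' δ (a ⊗ₜ[k] b) = (a : ↥(pcs 𝒜 𝒳 δ)).1 ⊗ₜ[k] (b : ↥(pcs ℬ 𝒴 δ)).1 := rfl

theorem inclC_injective (δ : ℤ) : Function.Injective (inclC B B' δ) :=
  incl_injective 𝒜 ℬ 𝒳 𝒴 δ

theorem inclC_mem_piece (δ : ℤ) (z : (B.core δ).V ⊗[k] (B'.core δ).V) :
    inclC B B' δ z ∈ GrSeg.segrePiece k 𝒳 𝒴 δ := by
  rw [← range_incl 𝒜 ℬ 𝒳 𝒴 δ]
  exact ⟨z, rfl⟩

theorem exists_inclC_of_mem_piece {δ : ℤ} {w : 𝕏 ⊗[k] 𝕐} (hw : w ∈ GrSeg.segrePiece k 𝒳 𝒴 δ) :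
    ∃ z : (B.core δ).V ⊗[k] (B'.core δ).V, inclC B B' δ z = w := by
  rw [← range_incl 𝒜 ℬ 𝒳 𝒴 δ] at hw
  exact hw

theorem inclC_mem_WS (δ : ℤ) (n : ℕ) {z : (B.core δ).V ⊗[k] (B'.core δ).V}
    (hz : z ∈ Cx.tot (B.core δ) (B'.core δ) n) :
    inclC B B' δ z ∈ (WS 𝒯 ψ hT B B' (An n)).U := by
  rw [Cx.tot] at hz
  induction hz using Submodule.span_induction with
  | mem w hw =>
    obtain ⟨i, j, x, y, hij, hx, hy, rfl⟩ := hw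
    rw [inclC_tmul]
    exact tmul_mem_WS 𝒯 ψ hT B B' (mem_An.mpr hij) hx
      (x : ↥(pcs 𝒜 𝒳 δ)).2 hy (y : ↥(pcs ℬ 𝒴 δ)).2
  | zero => rw [map_zero]; exact zero_mem _
  | add x y _ _ hx hy => rw [map_add]; exact add_mem hx hy
  | smul r x _ hx => rw [map_smul]; exact Submodule.smul_mem _ _ hx

theorem exists_tot_of_mem_WS (δ : ℤ) (n : ℕ) {u : 𝕏 ⊗[k] 𝕐}
    (hu : u ∈ (WS 𝒯 ψ hT B B' (An n)).U) (hδ : u ∈ GrSeg.segrePiece k 𝒳 𝒴 δ) :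
    ∃ z ∈ Cx.tot (B.core δ) (B'.core δ) n, inclC B B' δ z = u := by
  have key : ∀ u ∈ (WS 𝒯 ψ hT B B' (An n)).U,
      ∃ z ∈ Cx.tot (B.core δ) (B'.core δ) n, inclC B B' δ z = sp 𝒜 ℬ 𝒳 𝒴 δ u := by
    intro u hu
    rw [WS_U] at hu
    induction hu using Submodule.span_induction with
    | mem w hw =>
      obtain ⟨p, q, δ', x, y, hpq, hxp, hx, hyq, hy, rfl⟩ := hw
      by_cases hd : δ' = δ
      · subst hd
        refine ⟨(⟨x, hx⟩ : ↥(pcs 𝒜 𝒳 δ')) ⊗ₜ[k] (⟨y, hy⟩ : ↥(pcs ℬ 𝒴 δ')),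
          Cx.tmul_mem_tot (B.core δ') (B'.core δ') (mem_An.mp hpq) hxp hyq, ?_⟩
        rw [sp_of_mem 𝒜 ℬ 𝒳 𝒴 (tmul_mem_piece 𝒳 𝒴 hx hy)]
        rfl
      · refine ⟨0, zero_mem _, ?_⟩
        rw [map_zero, sp_of_mem_ne 𝒜 ℬ 𝒳 𝒴 (tmul_mem_piece 𝒳 𝒴 hx hy) hd]
    | zero => exact ⟨0, zero_mem _, by rw [map_zero, map_zero]⟩
    | add a b _ _ ha hb =>
      obtain ⟨za, hza, ha⟩ := ha
      obtain ⟨zb, hzb, hb⟩ := hb
      exact ⟨za + zb, add_mem hza hzb, by rw [map_add, map_add, ha, hb]⟩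
    | smul r a _ ha =>
      obtain ⟨za, hza, ha⟩ := ha
      exact ⟨r • za, Submodule.smul_mem _ _ hza, by rw [map_smul, map_smul, ha]⟩
  obtain ⟨z, hz, hzu⟩ := key u hu
  exact ⟨z, hz, by rw [hzu, sp_of_mem 𝒜 ℬ 𝒳 𝒴 hδ]⟩

theorem DD_inclC (δ : ℤ) (z : (B.core δ).V ⊗[k] (B'.core δ).V) :
    DD B B' (inclC B B' δ z) = inclC B B' δ (Cx.D (B.core δ) (B'.core δ) z) := by
  induction z using TensorProduct.induction_on with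
  | zero => simp
  | tmul a b =>
    rw [inclC_tmul, DD_tmul, Cx.D_tmul, map_add, inclC_tmul, inclC_tmul, B.coe_core_d,
      B.coe_core_sgn, B'.coe_core_d]
  | add x y hx hy => rw [map_add, map_add, map_add, map_add, hx, hy]

/-- the torsion part of the tensor product of the cores, in terms of the big modules -/
theorem qq_inclC_eq_zero_iff (mR : Ideal R) (mS : Ideal S) (δ : ℤ)
    (z : (B.core δ).V ⊗[k] (B'.core δ).V) :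
    qq mR mS (inclC B B' δ z) = 0 ↔
      z ∈ KT (B.core δ) (B.coreK mR δ) (B.coreK_prk mR δ) (B.coreK_d mR δ)
        (B'.core δ) (B'.coreK mS δ) (B'.coreK_prk mS δ) (B'.coreK_d mS δ) := by
  let j : (Cx.quot (B.core δ) (B.coreK mR δ) (B.coreK_prk mR δ) (B.coreK_d mR δ)).V →ₗ[k]
      𝕏 ⧸ GrLC.gam mR 𝕏 :=
    (B.coreK mR δ).liftQ (qG mR ∘ₗ (pcs 𝒜 𝒳 δ).subtype) (by
      intro v hv
      rw [LinearMap.mem_ker]
      change (Submodule.Quotient.mk (v : ↥(pcs 𝒜 𝒳 δ)).1 : 𝕏 ⧸ GrLC.gam mR 𝕏) = 0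
      rw [Submodule.Quotient.mk_eq_zero]
      exact hv)
  let j' : (Cx.quot (B'.core δ) (B'.coreK mS δ) (B'.coreK_prk mS δ) (B'.coreK_d mS δ)).V →ₗ[k]
      𝕐 ⧸ GrLC.gam mS 𝕐 :=
    (B'.coreK mS δ).liftQ (qG mS ∘ₗ (pcs ℬ 𝒴 δ).subtype) (by
      intro v hv
      rw [LinearMap.mem_ker]
      change (Submodule.Quotient.mk (v : ↥(pcs ℬ 𝒴 δ)).1 : 𝕐 ⧸ GrLC.gam mS 𝕐) = 0
      rw [Submodule.Quotient.mk_eq_zero]
      exact hv)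
  have hj : Function.Injective j := by
    rw [← LinearMap.ker_eq_bot]
    apply Submodule.ker_liftQ_eq_bot
    intro v hv
    rw [LinearMap.mem_ker] at hv
    change (Submodule.Quotient.mk (v : ↥(pcs 𝒜 𝒳 δ)).1 : 𝕏 ⧸ GrLC.gam mR 𝕏) = 0 at hv
    rw [Submodule.Quotient.mk_eq_zero] at hv
    exact hv
  have hj' : Function.Injective j' := by
    rw [← LinearMap.ker_eq_bot]
    apply Submodule.ker_liftQ_eq_bot
    intro v hv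
    rw [LinearMap.mem_ker] at hv
    change (Submodule.Quotient.mk (v : ↥(pcs ℬ 𝒴 δ)).1 : 𝕐 ⧸ GrLC.gam mS 𝕐) = 0 at hv
    rw [Submodule.Quotient.mk_eq_zero] at hv
    exact hv
  have h0 : (qq mR mS) ∘ₗ (inclC B B' δ) = (TensorProduct.map j j') ∘ₗ (TensorProduct.map
        (Cx.qm (B.core δ) (B.coreK mR δ) (B.coreK_prk mR δ) (B.coreK_d mR δ))
        (Cx.qm (B'.core δ) (B'.coreK mS δ) (B'.coreK_prk mS δ) (B'.coreK_d mS δ))) :=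
    TensorProduct.ext' (fun a b => rfl)
  have h1 : qq mR mS (inclC B B' δ z) =
      TensorProduct.map j j' (TensorProduct.map
        (Cx.qm (B.core δ) (B.coreK mR δ) (B.coreK_prk mR δ) (B.coreK_d mR δ))
        (Cx.qm (B'.core δ) (B'.coreK mS δ) (B'.coreK_prk mS δ) (B'.coreK_d mS δ)) z) :=
    LinearMap.congr_fun h0 z
  rw [h1]
  constructor
  · intro h
    have h2 := TensorProduct.map_injective_of_flat_flat j j' hj hj'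
    have h4 : TensorProduct.map
        (Cx.qm (B.core δ) (B.coreK mR δ) (B.coreK_prk mR δ) (B.coreK_d mR δ))
        (Cx.qm (B'.core δ) (B'.coreK mS δ) (B'.coreK_prk mS δ) (B'.coreK_d mS δ)) z = 0 :=
      h2 (by rw [h, map_zero])
    exact LinearMap.mem_ker.mpr h4
  · intro h
    have h3 : TensorProduct.map
        (Cx.qm (B.core δ) (B.coreK mR δ) (B.coreK_prk mR δ) (B.coreK_d mR δ))
        (Cx.qm (B'.core δ) (B'.coreK mS δ) (B'.coreK_prk mS δ) (B'.coreK_d mS δ)) z = 0 :=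
      LinearMap.mem_ker.mp h
    rw [h3, map_zero]

end Pair

end Seg

end Groth.Agent.H6
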