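import Groth.Agent.Lib.Helper6.SegBig3

/-! Acyclicity of the pieces of the total complex. -/

universe u
open DirectSum TensorProduct
set_option linter.unusedSectionVars false

namespace Groth.Agent.H6

namespace Seg

open SegLA ToAdd

section Acyc

variable {k : Type u} [Field k] {R S T : Type u} [CommRing R] [CommRing S] [CommRing T]
  [Algebra k R] [Algebra k S] [Algebra k T]
  {𝒜 : ℤ → Submodule k R} [GradedAlgebra 𝒜] {ℬ : ℤ → Submodule k S} [GradedAlgebra ℬ]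
  (𝒯 : ℤ → Submodule k T) [GradedAlgebra 𝒯]
  (ψ : T →ₐ[k] R ⊗[k] S) (hT : GrSeg.IsSegreRing 𝒜 ℬ 𝒯 ψ)
  [GradedRing (toAdd 𝒜)] [GradedRing (toAdd ℬ)] [GradedRing (toAdd 𝒯)]
variable {M : Type u} [AddCommGroup M] [Module R M] {ℳ : ℤ → AddSubgroup M}
  [DirectSum.Decomposition ℳ] [SetLike.GradedSMul 𝒜 ℳ] {E : GrLC.StarInjRes 𝒜 ℳ}
variable {𝕏 : Type u} [AddCommGroup 𝕏] [Module R 𝕏] [Module k 𝕏] [IsScalarTower k R 𝕏]
  {𝒳 : ℤ → AddSubgroup 𝕏} [DirectSum.Decomposition 𝒳] [SetLike.GradedSMul 𝒜 𝒳]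
  (B : Big 𝒜 E 𝒳)
variable {N : Type u} [AddCommGroup N] [Module S N] {𝒩 : ℤ → AddSubgroup N}
  [DirectSum.Decomposition 𝒩] [SetLike.GradedSMul ℬ 𝒩] {E' : GrLC.StarInjRes ℬ 𝒩}
variable {𝕐 : Type u} [AddCommGroup 𝕐] [Module S 𝕐] [Module k 𝕐] [IsScalarTower k S 𝕐]
  {𝒴 : ℤ → AddSubgroup 𝕐} [DirectSum.Decomposition 𝒴] [SetLike.GradedSMul ℬ 𝒴]
  (B' : Big ℬ E' 𝒴)
variable (mR : HomogeneousIdeal (toAdd 𝒜))
  (hmR : mR.toIdeal = Ideal.span (⋃ n ∈ Set.Ioi (0 : ℤ), (𝒜 n : Set R)))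
  (mS : HomogeneousIdeal (toAdd ℬ))
  (hmS : mS.toIdeal = Ideal.span (⋃ n ∈ Set.Ioi (0 : ℤ), (ℬ n : Set S)))
  (mT : HomogeneousIdeal (toAdd 𝒯))
  (hmT : mT.toIdeal = Ideal.span (⋃ n ∈ Set.Ioi (0 : ℤ), (𝒯 n : Set T)))

/-- the pieces of the total complex as graded modules -/
noncomputable def WG (A : Set (ℕ × ℕ)) : GrLC.GMod.{u} (toAdd 𝒯) :=
  (WS 𝒯 ψ hT B B' A).toGMod 𝒯 hT

include hmR hmS hmT in
theorem acyc_single [IsNoetherianRing R] [IsNoetherianRing S] [IsNoetherianRing T] (p q : ℕ) :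
    Gr.Acyc mT (WG 𝒯 ψ hT B B' {(p, q)}) := by
  letI : Module k (E.X p).carrier := Module.compHom _ (algebraMap k R)
  haveI : IsScalarTower k R (E.X p).carrier := compHom_tower R _
  letI : Module k (E'.X q).carrier := Module.compHom _ (algebraMap k S)
  haveI : IsScalarTower k S (E'.X q).carrier := compHom_tower S _
  have h0 := acyc_seg 𝒜 ℬ 𝒯 ψ hT (E.X p).gr (E'.X q).gr mR hmR mS hmS mT hmT (E.starInj p)
    (E'.starInj q)
  have hmem : ∀ u, u ∈ (TSub.full 𝒜 ℬ 𝒯 ψ (E.X p).gr (E'.X q).gr hT).U →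
      tmap (B.lof p) (B'.lof q) u ∈ (WS 𝒯 ψ hT B B' {(p, q)}).U := by
    intro u hu
    change u ∈ seg (E.X p).gr (E'.X q).gr at hu
    induction hu using Submodule.iSup_induction' with
    | mem d w hw =>
      rw [GrSeg.segrePiece] at hw
      induction hw using Submodule.span_induction with
      | mem w hw =>
        obtain ⟨x, hx, y, hy, rfl⟩ := hw
        rw [tmap_tmul]
        exact tmul_mem_WS 𝒯 ψ hT B B' (Set.mem_singleton _) (B.lof_mem_co p x)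
          (B.lof_gr p d x hx) (B'.lof_mem_co q y) (B'.lof_gr q d y hy)
      | zero => rw [map_zero]; exact zero_mem _
      | add a b _ _ ha hb => rw [map_add]; exact add_mem ha hb
      | smul r a _ ha => rw [map_smul]; exact Submodule.smul_mem _ _ ha
    | zero => rw [map_zero]; exact zero_mem _
    | add a b _ _ ha hb => rw [map_add]; exact add_mem ha hb
  let f : (segG 𝒜 ℬ 𝒯 ψ hT (E.X p).gr (E'.X q).gr).carrier →ₗ[T]
      (WG 𝒯 ψ hT B B' {(p, q)}).carrier :=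
    TSub.map (TSub.full 𝒜 ℬ 𝒯 ψ (E.X p).gr (E'.X q).gr hT) (WS 𝒯 ψ hT B B' {(p, q)})
      (B.lof p) (B'.lof q) hmem
  have hf : Function.Bijective f := by
    constructor
    · intro u v huv
      apply Subtype.ext
      apply tmap_injective (k := k) (B.lof_injective p) (B'.lof_injective q)
      exact congrArg Subtype.val huv
    · intro v
      have hv : (v : ↥(WS 𝒯 ψ hT B B' {(p, q)}).U).1 ∈
          (seg (E.X p).gr (E'.X q).gr).map (tmap (B.lof p) (B'.lof q)) := by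
        have h1 : (WS 𝒯 ψ hT B B' {(p, q)}).U ≤
            (seg (E.X p).gr (E'.X q).gr).map (tmap (B.lof p) (B'.lof q)) := by
          rw [WS_U, Submodule.span_le]
          rintro w ⟨p', q', δ, x, y, hpq, hxp, hx, hyq, hy, rfl⟩
          rw [Set.mem_singleton_iff, Prod.mk.injEq] at hpq
          obtain ⟨rfl, rfl⟩ := hpq
          refine ⟨B.comp p' x ⊗ₜ[k] B'.comp q' y, piece_le_seg _ _ δ
            (tmul_mem_piece _ _ (B.comp_gr p' δ x hx) (B'.comp_gr q' δ y hy)), ?_⟩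
          rw [tmap_tmul, B.lof_comp_of_mem hxp, B'.lof_comp_of_mem hyq]
        exact h1 (v : ↥(WS 𝒯 ψ hT B B' {(p, q)}).U).2
      obtain ⟨u, hu, huv⟩ := hv
      exact ⟨(⟨u, hu⟩ : ↥(seg (E.X p).gr (E'.X q).gr)), Subtype.ext huv⟩
  exact Gr.Acyc.of_equiv (U' := segG 𝒜 ℬ 𝒯 ψ hT (E.X p).gr (E'.X q).gr)
    (U := WG 𝒯 ψ hT B B' {(p, q)}) (LinearEquiv.ofBijective f hf)
    (TSub.map_isGrHom _ _ (B.lof_gr p) (B'.lof_gr q) hmem) h0

/-- the projector onto a bidegree -/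
noncomputable def Pi2 (p q : ℕ) : 𝕏 ⊗[k] 𝕐 →ₗ[k] 𝕏 ⊗[k] 𝕐 := tmap (B.π p) (B'.π q)

theorem Pi2_tmul (p q : ℕ) (x : 𝕏) (y : 𝕐) :
    Pi2 B B' p q (x ⊗ₜ[k] y) = B.π p x ⊗ₜ[k] B'.π q y := rfl

theorem Pi2_of_mem {p q : ℕ} {x : 𝕏} {y : 𝕐} (hx : x ∈ B.co p) (hy : y ∈ B'.co q) :
    Pi2 B B' p q (x ⊗ₜ[k] y) = x ⊗ₜ[k] y := by
  rw [Pi2_tmul, B.π_of_mem hx, B'.π_of_mem hy]

theorem Pi2_of_mem_ne {p q p' q' : ℕ} {x : 𝕏} {y : 𝕐} (hx : x ∈ B.co p') (hy : y ∈ B'.co q')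
    (hne : (p', q') ≠ (p, q)) : Pi2 B B' p q (x ⊗ₜ[k] y) = 0 := by
  rw [Pi2_tmul]
  by_cases hp : p' = p
  · have hq : q' ≠ q := fun h => hne (by rw [hp, h])
    rw [B'.π_of_mem_ne hy hq, TensorProduct.tmul_zero]
  · rw [B.π_of_mem_ne hx hp, TensorProduct.zero_tmul]

theorem Pi2_mem_single {A : Set (ℕ × ℕ)} (p q : ℕ) {u : 𝕏 ⊗[k] 𝕐}
    (hu : u ∈ (WS 𝒯 ψ hT B B' A).U) : Pi2 B B' p q u ∈ (WS 𝒯 ψ hT B B' {(p, q)}).U := by
  rw [WS_U] at hu
  induction hu using Submodule.span_induction with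
  | mem w hw =>
    obtain ⟨p', q', δ, x, y, -, hxp, hx, hyq, hy, rfl⟩ := hw
    by_cases h : (p', q') = (p, q)
    · rw [Prod.mk.injEq] at h
      obtain ⟨rfl, rfl⟩ := h
      rw [Pi2_of_mem B B' hxp hyq]
      exact tmul_mem_WS 𝒯 ψ hT B B' (Set.mem_singleton _) hxp hx hyq hy
    · rw [Pi2_of_mem_ne B B' hxp hyq h]
      exact zero_mem _
  | zero => rw [map_zero]; exact zero_mem _
  | add a b _ _ ha hb => rw [map_add]; exact add_mem ha hb
  | smul r a _ ha => rw [map_smul]; exact Submodule.smul_mem _ _ ha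

theorem Pi2_eq_zero {A : Set (ℕ × ℕ)} {p q : ℕ} (hpq : (p, q) ∉ A) {u : 𝕏 ⊗[k] 𝕐}
    (hu : u ∈ (WS 𝒯 ψ hT B B' A).U) : Pi2 B B' p q u = 0 := by
  rw [WS_U] at hu
  induction hu using Submodule.span_induction with
  | mem w hw =>
    obtain ⟨p', q', δ, x, y, hA, hxp, hx, hyq, hy, rfl⟩ := hw
    exact Pi2_of_mem_ne B B' hxp hyq (fun h => hpq (h ▸ hA))
  | zero => rw [map_zero]
  | add a b _ _ ha hb => rw [map_add, ha, hb, add_zero]
  | smul r a _ ha => rw [map_smul, ha, smul_zero]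

theorem sub_Pi2_mem {A : Set (ℕ × ℕ)} {p q : ℕ} {u : 𝕏 ⊗[k] 𝕐}
    (hu : u ∈ (WS 𝒯 ψ hT B B' (insert (p, q) A)).U) :
    u - Pi2 B B' p q u ∈ (WS 𝒯 ψ hT B B' A).U := by
  rw [WS_U] at hu
  induction hu using Submodule.span_induction with
  | mem w hw =>
    obtain ⟨p', q', δ, x, y, hA, hxp, hx, hyq, hy, rfl⟩ := hw
    by_cases h : (p', q') = (p, q)
    · rw [Prod.mk.injEq] at h
      obtain ⟨rfl, rfl⟩ := h
      rw [Pi2_of_mem B B' hxp hyq, sub_self]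
      exact zero_mem _
    · rw [Pi2_of_mem_ne B B' hxp hyq h, sub_zero]
      have hA' : (p', q') ∈ A := by
        rcases hA with hA | hA
        · exact absurd hA h
        · exact hA
      exact tmul_mem_WS 𝒯 ψ hT B B' hA' hxp hx hyq hy
  | zero => rw [map_zero, sub_zero]; exact zero_mem _
  | add a b _ _ ha hb =>
    rw [map_add]
    have : a + b - (Pi2 B B' p q a + Pi2 B B' p q b) =
        (a - Pi2 B B' p q a) + (b - Pi2 B B' p q b) := by abel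
    rw [this]
    exact add_mem ha hb
  | smul r a _ ha =>
    rw [map_smul, ← smul_sub]
    exact Submodule.smul_mem _ _ ha

theorem Pi2_of_mem_single {p q : ℕ} {u : 𝕏 ⊗[k] 𝕐}
    (hu : u ∈ (WS 𝒯 ψ hT B B' {(p, q)}).U) : Pi2 B B' p q u = u := by
  rw [WS_U] at hu
  induction hu using Submodule.span_induction with
  | mem w hw =>
    obtain ⟨p', q', δ, x, y, hA, hxp, hx, hyq, hy, rfl⟩ := hw
    rw [Set.mem_singleton_iff, Prod.mk.injEq] at hA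
    obtain ⟨rfl, rfl⟩ := hA
    exact Pi2_of_mem B B' hxp hyq
  | zero => rw [map_zero]
  | add a b _ _ ha hb => rw [map_add, ha, hb]
  | smul r a _ ha => rw [map_smul, ha]

/-- the short exact sequence splitting off one bidegree -/
theorem ses_insert {A : Set (ℕ × ℕ)} {p q : ℕ} (hpq : (p, q) ∉ A) :
    ∃ (i : (WG 𝒯 ψ hT B B' A).carrier →ₗ[T] (WG 𝒯 ψ hT B B' (insert (p, q) A)).carrier)
      (π : (WG 𝒯 ψ hT B B' (insert (p, q) A)).carrier →ₗ[T]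
        (WG 𝒯 ψ hT B B' {(p, q)}).carrier),
      Gr.GrSES (WG 𝒯 ψ hT B B' A).gr (WG 𝒯 ψ hT B B' (insert (p, q) A)).gr
        (WG 𝒯 ψ hT B B' {(p, q)}).gr i π := by
  let i : (WG 𝒯 ψ hT B B' A).carrier →ₗ[T] (WG 𝒯 ψ hT B B' (insert (p, q) A)).carrier :=
    TSub.mapOf (WS 𝒯 ψ hT B B' A) (WS 𝒯 ψ hT B B' (insert (p, q) A)) LinearMap.id
      (fun _ _ => rfl) (fun u hu => WS_mono 𝒯 ψ hT B B' (Set.subset_insert _ _) hu)
  let π : (WG 𝒯 ψ hT B B' (insert (p, q) A)).carrier →ₗ[T]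
      (WG 𝒯 ψ hT B B' {(p, q)}).carrier :=
    TSub.mapOf (WS 𝒯 ψ hT B B' (insert (p, q) A)) (WS 𝒯 ψ hT B B' {(p, q)}) (Pi2 B B' p q)
      (fun t w => tmap_actT ψ (B.π p) (B'.π q) t w)
      (fun u hu => Pi2_mem_single 𝒯 ψ hT B B' p q hu)
  refine ⟨i, π, ?_⟩
  exact
    { hi := fun δ u hu => hu
      hp := fun δ u hu => tmap_mem_piece (B.π_gr p) (B'.π_gr q) hu
      inj := fun u v huv => Subtype.ext
        (show (u : ↥(WS 𝒯 ψ hT B B' A).U).1 = (v : ↥(WS 𝒯 ψ hT B B' A).U).1 from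
          congrArg (fun z : ↥(WS 𝒯 ψ hT B B' (insert (p, q) A)).U => z.1) huv)
      surj := by
        intro v
        refine ⟨⟨(v : ↥(WS 𝒯 ψ hT B B' {(p, q)}).U).1,
          WS_mono 𝒯 ψ hT B B' (Set.singleton_subset_iff.mpr (Set.mem_insert _ _))
            (v : ↥(WS 𝒯 ψ hT B B' {(p, q)}).U).2⟩, Subtype.ext ?_⟩
        exact Pi2_of_mem_single 𝒯 ψ hT B B' (v : ↥(WS 𝒯 ψ hT B B' {(p, q)}).U).2
      exact := by
        intro u
        constructor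
        · intro hu
          have h0 : Pi2 B B' p q (u : ↥(WS 𝒯 ψ hT B B' (insert (p, q) A)).U).1 = 0 :=
            congrArg Subtype.val hu
          have h1 := sub_Pi2_mem 𝒯 ψ hT B B' (u : ↥(WS 𝒯 ψ hT B B' (insert (p, q) A)).U).2
          rw [h0, sub_zero] at h1
          exact ⟨⟨_, h1⟩, Subtype.ext rfl⟩
        · rintro ⟨u', rfl⟩
          exact Subtype.ext (Pi2_eq_zero 𝒯 ψ hT B B' hpq (u' : ↥(WS 𝒯 ψ hT B B' A).U).2) }

include hmR hmS hmT in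
/-- the pieces of the total complex spanned by finitely many bidegrees are acyclic -/
theorem acyc_finset [IsNoetherianRing R] [IsNoetherianRing S] [IsNoetherianRing T]
    (s : Finset (ℕ × ℕ)) : Gr.Acyc mT (WG 𝒯 ψ hT B B' (s : Set (ℕ × ℕ))) := by
  classical
  induction s using Finset.induction_on with
  | empty =>
    apply Gr.Acyc.of_torsion
    rw [eq_top_iff]
    intro u _
    have hu : (u : ↥(WS 𝒯 ψ hT B B' ((∅ : Finset (ℕ × ℕ)) : Set (ℕ × ℕ))).U).1 = 0 := by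
      have h1 : (u : ↥(WS 𝒯 ψ hT B B' ((∅ : Finset (ℕ × ℕ)) : Set (ℕ × ℕ))).U).1 ∈
          Submodule.span k (Wgen B B' ((∅ : Finset (ℕ × ℕ)) : Set (ℕ × ℕ))) :=
        (u : ↥(WS 𝒯 ψ hT B B' ((∅ : Finset (ℕ × ℕ)) : Set (ℕ × ℕ))).U).2
      have h2 : Wgen B B' ((∅ : Finset (ℕ × ℕ)) : Set (ℕ × ℕ)) = (∅ : Set (𝕏 ⊗[k] 𝕐)) := by
        ext w
        constructor
        · rintro ⟨p, q, δ, x, y, hA, -⟩
          simp at hA
        · intro h
          exact absurd h (Set.notMem_empty w)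
      rw [h2, Submodule.span_empty, Submodule.mem_bot] at h1
      exact h1
    have hu0 : u = 0 := Subtype.ext hu
    rw [hu0]
    exact zero_mem _
  | insert a s ha ih =>
    obtain ⟨p, q⟩ := a
    have hpq : (p, q) ∉ (s : Set (ℕ × ℕ)) := by
      rw [Finset.mem_coe]
      exact ha
    obtain ⟨i, π, hS⟩ := ses_insert 𝒯 ψ hT B B' hpq
    have h1 := Gr.Acyc.of_ses hS ih (acyc_single 𝒯 ψ hT B B' mR hmR mS hmS mT hmT p q)
    rw [Finset.coe_insert]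
    exact h1

end Acyc

end Seg

end Groth.Agent.H6
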