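import Groth.Agent.Lib.Helper6.SegBig4
import Groth.Agent.Lib.Helper6.GrAcyc

/-! The total complex as a `Γ`-acyclic resolution of the Segre product `M # N`. -/

universe u
open DirectSum TensorProduct
set_option linter.unusedSectionVars false

namespace Groth.Agent.H6

namespace Gr

section Homog

variable {ι : Type} [AddCommGroup ι] [DecidableEq ι]
variable {R : Type u} [CommRing R] {𝒜 : ι → AddSubgroup R} [GradedRing 𝒜]

/-- exactness can be checked on homogeneous elements -/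
theorem ker_le_range_of_homogeneous {U U'' : GrLC.GMod.{u} 𝒜} {P : Type u} [AddCommGroup P]
    [Module R P] (g : P →ₗ[R] U.carrier) (f : U.carrier →ₗ[R] U''.carrier)
    (hf : GrLC.IsGrHom U.gr U''.gr f)
    (h : ∀ δ u, u ∈ U.gr δ → f u = 0 → u ∈ LinearMap.range g) :
    LinearMap.ker f ≤ LinearMap.range g := by
  intro u hu
  obtain ⟨s, hs⟩ := exists_finset_sum_proj U.gr u
  rw [← hs]
  refine sum_mem fun δ _ => ?_
  apply h δ _ (proj_mem U.gr δ u)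
  rw [isGrHom_proj U.gr U''.gr hf, LinearMap.mem_ker.mp hu, map_zero]

end Homog

end Gr

namespace Seg

open SegLA ToAdd

section ResTo

variable {ι : Type} [AddCommGroup ι] [DecidableEq ι]
variable {R : Type u} [CommRing R] {σ : Type u} [SetLike σ R] [AddSubgroupClass σ R]
variable (𝒲 : ι → σ) [GradedRing 𝒲] [GradedRing (toAdd 𝒲)]
variable {M : Type u} [AddCommGroup M] [Module R M] {ℳ : ι → AddSubgroup M}
  [DirectSum.Decomposition ℳ] [SetLike.GradedSMul 𝒲 ℳ] [SetLike.GradedSMul (toAdd 𝒲) ℳ]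

/-- a *injective resolution of a module, over the underlying additive subgroups -/
def resToM (I : GrLC.StarInjRes 𝒲 ℳ) : GrLC.StarInjRes (toAdd 𝒲) ℳ where
  X n := gmodTo 𝒲 (I.X n)
  d := I.d
  ε := I.ε
  d_grHom := I.d_grHom
  ε_grHom := I.ε_grHom
  ε_injective := I.ε_injective
  exact_zero := I.exact_zero
  exact_succ := I.exact_succ
  starInj n :=
    haveI := gradedSMul_to 𝒲 (I.X n).gr
    isStarInj_to 𝒲 (I.X n).gr (I.starInj n)

theorem mem_Hcomp_resToM (I : GrLC.StarInjRes 𝒲 ℳ) (m : HomogeneousIdeal 𝒲) (i : ℕ) (g : ι)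
    (x : I.H m i) :
    x ∈ I.Hcomp m i g ↔ (x : (resToM 𝒲 I).H (idealTo 𝒲 m) i) ∈
      (resToM 𝒲 I).Hcomp (idealTo 𝒲 m) i g := Iff.rfl

end ResTo

section SQ

variable {k : Type u} [Field k] {A' : Type u} [Ring A'] {σ : k →+* A'}
  {V : Type u} [AddCommGroup V] [Module k V] {N : Type u} [AddCommGroup N] [Module A' N]

/-- a semilinear bijection from a subquotient, from an additive surjection with the right
kernel -/
theorem exists_semilinear_sq (Z Bd : Submodule k V) (Θ₀ : ↥Z →+ N)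
    (hsurj : Function.Surjective Θ₀) (hker : ∀ v, Θ₀ v = 0 ↔ (v : V) ∈ Bd)
    (hsmul : ∀ (c : k) v, Θ₀ (c • v) = σ c • Θ₀ v) :
    ∃ θ : SQ Z Bd →ₛₗ[σ] N, Function.Bijective θ := by
  let Θ : ↥Z →ₛₗ[σ] N :=
    { toFun := Θ₀
      map_add' := map_add Θ₀
      map_smul' := hsmul }
  have hk : Bd.comap Z.subtype ≤ LinearMap.ker Θ := by
    intro v hv
    rw [LinearMap.mem_ker]
    exact (hker v).mpr hv
  refine ⟨Submodule.liftQ _ Θ hk, ?_, ?_⟩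
  · rw [← LinearMap.ker_eq_bot, Submodule.ker_liftQ_eq_bot]
    intro v hv
    rw [Submodule.mem_comap]
    exact (hker v).mp (LinearMap.mem_ker.mp hv)
  · intro y
    obtain ⟨v, rfl⟩ := hsurj y
    exact ⟨Submodule.Quotient.mk v, rfl⟩

end SQ

section Res

variable {k : Type u} [Field k] {R S T : Type u} [CommRing R] [CommRing S] [CommRing T]
  [Algebra k R] [Algebra k S] [Algebra k T]
  {𝒜 : ℤ → Submodule k R} [GradedAlgebra 𝒜] {ℬ : ℤ → Submodule k S} [GradedAlgebra ℬ]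
  (𝒯 : ℤ → Submodule k T) [GradedAlgebra 𝒯]
  (ψ : T →ₐ[k] R ⊗[k] S) (hT : GrSeg.IsSegreRing 𝒜 ℬ 𝒯 ψ)
  [GradedRing (toAdd 𝒜)] [GradedRing (toAdd ℬ)] [GradedRing (toAdd 𝒯)]
variable {M : Type u} [AddCommGroup M] [Module R M] [Module k M] [IsScalarTower k R M]
  {ℳ : ℤ → AddSubgroup M}
  [DirectSum.Decomposition ℳ] [SetLike.GradedSMul 𝒜 ℳ] {E : GrLC.StarInjRes 𝒜 ℳ}
variable {𝕏 : Type u} [AddCommGroup 𝕏] [Module R 𝕏] [Module k 𝕏] [IsScalarTower k R 𝕏]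
  {𝒳 : ℤ → AddSubgroup 𝕏} [DirectSum.Decomposition 𝒳] [SetLike.GradedSMul 𝒜 𝒳]
  (B : Big 𝒜 E 𝒳)
variable {N : Type u} [AddCommGroup N] [Module S N] [Module k N] [IsScalarTower k S N]
  {𝒩 : ℤ → AddSubgroup N}
  [DirectSum.Decomposition 𝒩] [SetLike.GradedSMul ℬ 𝒩] {E' : GrLC.StarInjRes ℬ 𝒩}
variable {𝕐 : Type u} [AddCommGroup 𝕐] [Module S 𝕐] [Module k 𝕐] [IsScalarTower k S 𝕐]
  {𝒴 : ℤ → AddSubgroup 𝕐} [DirectSum.Decomposition 𝒴] [SetLike.GradedSMul ℬ 𝒴]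
  (B' : Big ℬ E' 𝒴)
variable {P : Type u} [AddCommGroup P] [Module T P] [Module k P] [IsScalarTower k T P]
  {𝒬 : ℤ → AddSubgroup P} [DirectSum.Decomposition 𝒬] [SetLike.GradedSMul 𝒯 𝒬]
  {φ : P →ₗ[k] M ⊗[k] N} (hP : GrSeg.IsSegreMod ψ ℳ 𝒩 𝒬 φ)

/-- the augmentation of the first factor -/
noncomputable def Big.aug : M →ₗ[R] 𝕏 := B.lof 0 ∘ₗ E.ε

theorem Big.aug_gr : GrLC.IsGrHom ℳ 𝒳 B.aug := fun δ m hm => B.lof_gr 0 δ _ (E.ε_grHom δ m hm)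

theorem Big.aug_injective : Function.Injective B.aug :=
  (B.lof_injective 0).comp E.ε_injective

theorem Big.aug_mem_co (m : M) : B.aug m ∈ B.co 0 := B.lof_mem_co 0 _

theorem Big.d_aug (m : M) : B.d (B.aug m) = 0 := B.d_lof_ε m

/-- the differentials of the total complex -/
noncomputable def dT (n : ℕ) :
    (WG 𝒯 ψ hT B B' (An n)).carrier →ₗ[T] (WG 𝒯 ψ hT B B' (An (n + 1))).carrier :=
  TSub.mapOf (WS 𝒯 ψ hT B B' (An n)) (WS 𝒯 ψ hT B B' (An (n + 1))) (DD B B')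
    (DD_actT ψ B B') (fun _ hu => DD_mem_WS 𝒯 ψ hT B B' (An_succ n) hu)

theorem coe_dT (n : ℕ) (u : (WG 𝒯 ψ hT B B' (An n)).carrier) :
    (dT 𝒯 ψ hT B B' n u : ↥(WS 𝒯 ψ hT B B' (An (n + 1))).U).1 =
      DD B B' (u : ↥(WS 𝒯 ψ hT B B' (An n)).U).1 := rfl

theorem dT_gr (n : ℕ) : GrLC.IsGrHom (WG 𝒯 ψ hT B B' (An n)).gr
    (WG 𝒯 ψ hT B B' (An (n + 1))).gr (dT 𝒯 ψ hT B B' n) :=
  fun _ _ hu => DD_mem_piece B B' hu

theorem tmap_aug_mem {w : M ⊗[k] N} (hw : w ∈ seg ℳ 𝒩) :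
    tmap B.aug B'.aug w ∈ (WS 𝒯 ψ hT B B' (An 0)).U := by
  induction hw using Submodule.iSup_induction' with
  | mem d w hw =>
    rw [GrSeg.segrePiece] at hw
    induction hw using Submodule.span_induction with
    | mem w hw =>
      obtain ⟨x, hx, y, hy, rfl⟩ := hw
      rw [tmap_tmul]
      exact tmul_mem_WS 𝒯 ψ hT B B' (mem_An.mpr rfl) (B.aug_mem_co x) (B.aug_gr d x hx)
        (B'.aug_mem_co y) (B'.aug_gr d y hy)
    | zero => rw [map_zero]; exact zero_mem _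
    | add a b _ _ ha hb => rw [map_add]; exact add_mem ha hb
    | smul r a _ ha => rw [map_smul]; exact Submodule.smul_mem _ _ ha
  | zero => rw [map_zero]; exact zero_mem _
  | add a b _ _ ha hb => rw [map_add]; exact add_mem ha hb

include hP in
theorem phi_mem_seg (p : P) : φ p ∈ seg ℳ 𝒩 := by
  obtain ⟨s, hs⟩ := Gr.exists_finset_sum_proj 𝒬 p
  rw [← hs, map_sum]
  refine sum_mem fun δ _ => ?_
  exact piece_le_seg ℳ 𝒩 δ
    (Groth.Agent.H9.SegreBij.map_mem_piece ψ ℳ 𝒩 𝒬 φ hP (Gr.proj_mem 𝒬 δ p))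

/-- the augmentation of the total complex -/
noncomputable def εT : P →ₗ[T] (WG 𝒯 ψ hT B B' (An 0)).carrier where
  toFun p := (⟨tmap B.aug B'.aug (φ p), tmap_aug_mem 𝒯 ψ hT B B' (phi_mem_seg ψ hP p)⟩ :
    ↥(WS 𝒯 ψ hT B B' (An 0)).U)
  map_add' p p' := by
    apply Subtype.ext
    change tmap B.aug B'.aug (φ (p + p')) = tmap B.aug B'.aug (φ p) + tmap B.aug B'.aug (φ p')
    rw [map_add, map_add]
  map_smul' t p := by
    apply Subtype.ext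
    change tmap B.aug B'.aug (φ (t • p)) = actT ψ t (tmap B.aug B'.aug (φ p))
    rw [hP.map_smul, ← tmap_actT]
    rfl

theorem coe_εT (p : P) :
    (εT 𝒯 ψ hT B B' hP p : ↥(WS 𝒯 ψ hT B B' (An 0)).U).1 = tmap B.aug B'.aug (φ p) := rfl

theorem εT_injective : Function.Injective (εT 𝒯 ψ hT B B' hP) := by
  intro p p' h
  have h1 : tmap B.aug B'.aug (φ p) = tmap B.aug B'.aug (φ p') :=
    congrArg (fun z : ↥(WS 𝒯 ψ hT B B' (An 0)).U => z.1) h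
  exact hP.injective (tmap_injective (k := k) B.aug_injective B'.aug_injective h1)

theorem εT_gr [SetLike.GradedSMul (toAdd 𝒯) 𝒬] :
    GrLC.IsGrHom 𝒬 (WG 𝒯 ψ hT B B' (An 0)).gr (εT 𝒯 ψ hT B B' hP) :=
  fun δ p hp => tmap_mem_piece B.aug_gr B'.aug_gr
    (Groth.Agent.H9.SegreBij.map_mem_piece ψ ℳ 𝒩 𝒬 φ hP hp)

theorem DD_DD_of_mem_seg {w : 𝕏 ⊗[k] 𝕐} (hw : w ∈ seg 𝒳 𝒴) : DD B B' (DD B B' w) = 0 := by
  induction hw using Submodule.iSup_induction' with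
  | mem δ w hw =>
    obtain ⟨z, rfl⟩ := exists_inclC_of_mem_piece B B' hw
    rw [DD_inclC, DD_inclC]
    have := LinearMap.congr_fun (Cx.D_comp_D (B.core δ) (B'.core δ)) z
    rw [LinearMap.comp_apply, LinearMap.zero_apply] at this
    rw [this, map_zero]
  | zero => rw [map_zero, map_zero]
  | add a b _ _ ha hb => rw [map_add, map_add, ha, hb, add_zero]

theorem DD_tmap_aug (w : M ⊗[k] N) : DD B B' (tmap B.aug B'.aug w) = 0 := by
  induction w using TensorProduct.induction_on with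
  | zero => rw [map_zero, map_zero]
  | tmul m n =>
    rw [tmap_tmul, DD_tmul, B.d_aug, B'.d_aug, TensorProduct.zero_tmul, TensorProduct.tmul_zero,
      add_zero]
  | add a b ha hb => rw [map_add, map_add, ha, hb, add_zero]

theorem exact_succ_T (n : ℕ) :
    LinearMap.ker (dT 𝒯 ψ hT B B' (n + 1)) = LinearMap.range (dT 𝒯 ψ hT B B' n) := by
  apply le_antisymm
  · refine Gr.ker_le_range_of_homogeneous (dT 𝒯 ψ hT B B' n) (dT 𝒯 ψ hT B B' (n + 1))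
      (dT_gr 𝒯 ψ hT B B' (n + 1)) ?_
    intro δ u hu h0
    obtain ⟨z, hz, hzu⟩ := exists_tot_of_mem_WS 𝒯 ψ hT B B' δ (n + 1)
      (u : ↥(WS 𝒯 ψ hT B B' (An (n + 1))).U).2 hu
    have h1 : DD B B' (u : ↥(WS 𝒯 ψ hT B B' (An (n + 1))).U).1 = 0 :=
      congrArg (fun z : ↥(WS 𝒯 ψ hT B B' (An (n + 1 + 1))).U => z.1) h0
    have hD : Cx.D (B.core δ) (B'.core δ) z = 0 := by
      apply inclC_injective B B' δ
      rw [← DD_inclC, hzu, h1, map_zero]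
    have hex : ∃ z' : (B.core δ).V ⊗[k] (B'.core δ).V,
        z' ∈ Cx.tot (B.core δ) (B'.core δ) n ∧ Cx.D (B.core δ) (B'.core δ) z' = z :=
      tensor_exactAt (B.core δ) (B'.core δ) (B.core_exactAt δ) (B'.core_exactAt δ) n z hz hD
    obtain ⟨z', hz', hzz⟩ := hex
    refine ⟨(⟨inclC B B' δ z', inclC_mem_WS 𝒯 ψ hT B B' δ n hz'⟩ :
      ↥(WS 𝒯 ψ hT B B' (An n)).U), Subtype.ext ?_⟩
    change DD B B' (inclC B B' δ z') = _
    rw [DD_inclC, hzz, hzu]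
  · rintro _ ⟨w, rfl⟩
    rw [LinearMap.mem_ker]
    apply Subtype.ext
    change DD B B' (DD B B' (w : ↥(WS 𝒯 ψ hT B B' (An n)).U).1) = 0
    exact DD_DD_of_mem_seg B B' ((WS 𝒯 ψ hT B B' (An n)).le_seg
      (w : ↥(WS 𝒯 ψ hT B B' (An n)).U).2)

theorem exact_zero_T :
    LinearMap.ker (dT 𝒯 ψ hT B B' 0) = LinearMap.range (εT 𝒯 ψ hT B B' hP) := by
  apply le_antisymm
  · refine Gr.ker_le_range_of_homogeneous (εT 𝒯 ψ hT B B' hP) (dT 𝒯 ψ hT B B' 0)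
      (dT_gr 𝒯 ψ hT B B' 0) ?_
    intro δ u hu h0
    obtain ⟨z, hz, hzu⟩ := exists_tot_of_mem_WS 𝒯 ψ hT B B' δ 0
      (u : ↥(WS 𝒯 ψ hT B B' (An 0)).U).2 hu
    have h1 : DD B B' (u : ↥(WS 𝒯 ψ hT B B' (An 0)).U).1 = 0 :=
      congrArg (fun z : ↥(WS 𝒯 ψ hT B B' (An (0 + 1))).U => z.1) h0
    have hD : Cx.D (B.core δ) (B'.core δ) z = 0 := by
      apply inclC_injective B B' δ
      rw [← DD_inclC, hzu, h1, map_zero]
    obtain ⟨S₁⟩ := (B.core δ).exists_split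
    obtain ⟨S₂⟩ := (B'.core δ).exists_split
    have hzZ : z ∈ (Cx.tensor (B.core δ) (B'.core δ)).Z 0 := ⟨LinearMap.mem_ker.mpr hD, hz⟩
    obtain ⟨w, rfl⟩ := Z_zero_le_range_zz (B.core δ) (B'.core δ) S₁ S₂ hzZ
    obtain ⟨w₀, rfl⟩ := TensorProduct.map_surjective (B.z0Map_bijective δ).surjective
      (B'.z0Map_bijective δ).surjective w
    have h2 : (inclC B B' δ) ∘ₗ (zz (B.core δ) (B'.core δ)) ∘ₗ
        (TensorProduct.map (B.z0Map δ) (B'.z0Map δ)) =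
        (tmap B.aug B'.aug) ∘ₗ (incl 𝒜 ℬ ℳ 𝒩 δ) := TensorProduct.ext' (fun m n => rfl)
    have h3 : tmap B.aug B'.aug (incl 𝒜 ℬ ℳ 𝒩 δ w₀) = (u : ↥(WS 𝒯 ψ hT B B' (An 0)).U).1 := by
      rw [← hzu]
      exact (LinearMap.congr_fun h2 w₀).symm
    have h4 : incl 𝒜 ℬ ℳ 𝒩 δ w₀ ∈ GrSeg.segrePiece k ℳ 𝒩 δ := by
      rw [← range_incl 𝒜 ℬ ℳ 𝒩 δ]
      exact ⟨w₀, rfl⟩
    obtain ⟨p, -, hp⟩ := Groth.Agent.H9.SegreBij.exists_of_mem_piece ψ ℳ 𝒩 𝒬 φ hP h4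
    refine ⟨p, Subtype.ext ?_⟩
    rw [coe_εT, hp, h3]
  · rintro _ ⟨p, rfl⟩
    rw [LinearMap.mem_ker]
    apply Subtype.ext
    change DD B B' (tmap B.aug B'.aug (φ p)) = 0
    exact DD_tmap_aug B B' (φ p)

variable (mR : HomogeneousIdeal 𝒜)
  (hmR : mR.toIdeal = Ideal.span (⋃ n ∈ Set.Ioi (0 : ℤ), (𝒜 n : Set R)))
  (mS : HomogeneousIdeal ℬ)
  (hmS : mS.toIdeal = Ideal.span (⋃ n ∈ Set.Ioi (0 : ℤ), (ℬ n : Set S)))
  (mT : HomogeneousIdeal 𝒯)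
  (hmT : mT.toIdeal = Ideal.span (⋃ n ∈ Set.Ioi (0 : ℤ), (𝒯 n : Set T)))

/-- the total complex as an acyclic resolution of the Segre product -/
noncomputable def totRes [IsNoetherianRing R] [IsNoetherianRing S] [IsNoetherianRing T]
    [SetLike.GradedSMul (toAdd 𝒯) 𝒬] : Gr.GrAcycRes (toAdd 𝒯) 𝒬 (idealTo 𝒯 mT) where
  X n := WG 𝒯 ψ hT B B' (An n)
  d := dT 𝒯 ψ hT B B'
  ε := εT 𝒯 ψ hT B B' hP
  d_grHom := dT_gr 𝒯 ψ hT B B'
  ε_grHom := εT_gr 𝒯 ψ hT B B' hP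
  ε_injective := εT_injective 𝒯 ψ hT B B' hP
  exact_zero := exact_zero_T 𝒯 ψ hT B B' hP
  exact_succ := exact_succ_T 𝒯 ψ hT B B'
  acyclic n := acyc_finset 𝒯 ψ hT B B' (idealTo 𝒜 mR) hmR (idealTo ℬ mS) hmS (idealTo 𝒯 mT) hmT
    (Finset.HasAntidiagonal.antidiagonal n)

/-- the torsion part of the tensor product of the cores -/
noncomputable def coreKT (δ : ℤ) : Submodule k ((B.core δ).V ⊗[k] (B'.core δ).V) :=
  KT (B.core δ) (B.coreK mR.toIdeal δ) (B.coreK_prk mR.toIdeal δ) (B.coreK_d mR.toIdeal δ)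
    (B'.core δ) (B'.coreK mS.toIdeal δ) (B'.coreK_prk mS.toIdeal δ) (B'.coreK_d mS.toIdeal δ)

variable [IsNoetherianRing R] [IsNoetherianRing S] [IsNoetherianRing T]
  [SetLike.GradedSMul (toAdd 𝒯) 𝒬]

include hmR hmS hmT in
theorem inclC_mem_gam_iff (δ : ℤ) (q : ℕ) (z : (B.core δ).V ⊗[k] (B'.core δ).V)
    (hz : inclC B B' δ z ∈ (WS 𝒯 ψ hT B B' (An q)).U) :
    (⟨inclC B B' δ z, hz⟩ : ↥(WS 𝒯 ψ hT B B' (An q)).U) ∈
      GrLC.gam mT.toIdeal ↥(WS 𝒯 ψ hT B B' (An q)).U ↔ z ∈ coreKT B B' mR mS δ := by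
  rw [mem_gam_iff 𝒜 ℬ 𝒯 ψ hT mR.toIdeal hmR mS.toIdeal hmS mT.toIdeal hmT
    (WS 𝒯 ψ hT B B' (An q)) ⟨inclC B B' δ z, hz⟩]
  exact qq_inclC_eq_zero_iff B B' mR.toIdeal mS.toIdeal δ z

variable (EP : GrLC.StarInjRes 𝒯 𝒬)

theorem hasComparison_tot (q : ℕ) :
    ∃ Φ : ↥((totRes 𝒯 ψ hT B B' hP mR hmR mS hmS mT hmT).cocyc q) →ₗ[T] EP.H mT q,
      Function.Surjective Φ ∧
      LinearMap.ker Φ = ((totRes 𝒯 ψ hT B B' hP mR hmR mS hmS mT hmT).cobdy q).comap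
        ((totRes 𝒯 ψ hT B B' hP mR hmR mS hmS mT hmT).cocyc q).subtype ∧
      (∀ (g : ℤ) (z : (totRes 𝒯 ψ hT B B' hP mR hmR mS hmS mT hmT).cocyc q),
        z.1 ∈ ((totRes 𝒯 ψ hT B B' hP mR hmR mS hmS mT hmT).X q).gr g → Φ z ∈ EP.Hcomp mT q g) ∧
      (∀ (g : ℤ) (x : EP.H mT q), x ∈ EP.Hcomp mT q g →
        ∃ z : (totRes 𝒯 ψ hT B B' hP mR hmR mS hmS mT hmT).cocyc q,
          z.1 ∈ ((totRes 𝒯 ψ hT B B' hP mR hmR mS hmS mT hmT).X q).gr g ∧ Φ z = x) :=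
  (totRes 𝒯 ψ hT B B' hP mR hmR mS hmS mT hmT).hasComparison (resToM 𝒯 EP) q

include hT hmR hmS hmT hP in
theorem exists_toHcomp_tot (δ : ℤ) (q : ℕ) :
    ∃ Θ : ↥((Cx.tensor (B.core δ) (B'.core δ)).Zsub (coreKT B B' mR mS δ) q) →+
        ↥(EP.Hcomp mT q δ),
      Function.Surjective Θ ∧
      (∀ v, Θ v = 0 ↔ v.1 ∈
        (Cx.tensor (B.core δ) (B'.core δ)).Bsub (coreKT B B' mR mS δ) q) ∧
      ∀ (c : k) v, Θ (c • v) = kToDeg0 𝒯 c • Θ v := by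
  let A := totRes 𝒯 ψ hT B B' hP mR hmR mS hmS mT hmT
  obtain ⟨Φ, hΦs, hΦk, hΦg, hΦg'⟩ := hasComparison_tot 𝒯 ψ hT B B' hP mR hmR mS hmS mT hmT EP q
  -- the cocycle attached to an element of `Zsub`
  have hmemWS : ∀ z : (B.core δ).V ⊗[k] (B'.core δ).V,
      z ∈ (Cx.tensor (B.core δ) (B'.core δ)).Zsub (coreKT B B' mR mS δ) q →
      inclC B B' δ z ∈ (WS 𝒯 ψ hT B B' (An q)).U :=
    fun z hz => inclC_mem_WS 𝒯 ψ hT B B' δ q hz.1.2
  have hcoc : ∀ (z : (B.core δ).V ⊗[k] (B'.core δ).V)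
      (hz : z ∈ (Cx.tensor (B.core δ) (B'.core δ)).Zsub (coreKT B B' mR mS δ) q),
      (⟨inclC B B' δ z, hmemWS z hz⟩ : ↥(WS 𝒯 ψ hT B B' (An q)).U) ∈ A.cocyc q := by
    intro z hz
    refine ⟨(inclC_mem_gam_iff 𝒯 ψ hT B B' mR hmR mS hmS mT hmT δ q z (hmemWS z hz)).mpr hz.2, ?_⟩
    change dT 𝒯 ψ hT B B' q ⟨inclC B B' δ z, hmemWS z hz⟩ = 0
    apply Subtype.ext
    change DD B B' (inclC B B' δ z) = 0
    rw [DD_inclC]
    have : Cx.D (B.core δ) (B'.core δ) z = 0 := LinearMap.mem_ker.mp hz.1.1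
    rw [this, map_zero]
  let cz : ↥((Cx.tensor (B.core δ) (B'.core δ)).Zsub (coreKT B B' mR mS δ) q) → ↥(A.cocyc q) :=
    fun v => ⟨⟨inclC B B' δ v.1, hmemWS v.1 v.2⟩, hcoc v.1 v.2⟩
  have cz_add : ∀ v w, cz (v + w) = cz v + cz w := by
    intro v w
    apply Subtype.ext
    apply Subtype.ext
    exact map_add (inclC B B' δ) v.1 w.1
  have cz_gr : ∀ v, ((cz v : ↥(A.cocyc q)) : (A.X q).carrier) ∈ (A.X q).gr δ :=
    fun v => inclC_mem_piece B B' δ v.1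
  let Θ : ↥((Cx.tensor (B.core δ) (B'.core δ)).Zsub (coreKT B B' mR mS δ) q) →+
      ↥(EP.Hcomp mT q δ) :=
    { toFun := fun v => ⟨Φ (cz v), hΦg δ (cz v) (cz_gr v)⟩
      map_zero' := by
        apply Subtype.ext
        change Φ (cz 0) = 0
        have : cz 0 = 0 := by
          apply Subtype.ext
          apply Subtype.ext
          exact map_zero (inclC B B' δ)
        rw [this, map_zero]
      map_add' := by
        intro v w
        apply Subtype.ext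
        change Φ (cz (v + w)) = Φ (cz v) + Φ (cz w)
        rw [cz_add, map_add] }
  have hΘ : ∀ v, ((Θ v : ↥(EP.Hcomp mT q δ)) : EP.H mT q) = Φ (cz v) := fun v => rfl
  refine ⟨Θ, ?_, ?_, ?_⟩
  · rintro ⟨x, hx⟩
    obtain ⟨zc, hzc, hzx⟩ := hΦg' δ x hx
    obtain ⟨z, hz, hzu⟩ := exists_tot_of_mem_WS 𝒯 ψ hT B B' δ q
      (zc.1 : ↥(WS 𝒯 ψ hT B B' (An q)).U).2 hzc
    have hzc1 : dT 𝒯 ψ hT B B' q zc.1 = 0 := zc.2.2
    have hzc2 : DD B B' (zc.1 : ↥(WS 𝒯 ψ hT B B' (An q)).U).1 = 0 :=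
      congrArg (fun w : ↥(WS 𝒯 ψ hT B B' (An (q + 1))).U => w.1) hzc1
    have hD : Cx.D (B.core δ) (B'.core δ) z = 0 := by
      apply inclC_injective B B' δ
      rw [← DD_inclC, hzu, hzc2, map_zero]
    have hzW : inclC B B' δ z ∈ (WS 𝒯 ψ hT B B' (An q)).U := inclC_mem_WS 𝒯 ψ hT B B' δ q hz
    have heq : (⟨inclC B B' δ z, hzW⟩ : ↥(WS 𝒯 ψ hT B B' (An q)).U) = zc.1 := Subtype.ext hzu
    have hK : z ∈ coreKT B B' mR mS δ := by
      rw [← inclC_mem_gam_iff 𝒯 ψ hT B B' mR hmR mS hmS mT hmT δ q z hzW, heq]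
      exact zc.2.1
    have hzZ : z ∈ (Cx.tensor (B.core δ) (B'.core δ)).Zsub (coreKT B B' mR mS δ) q :=
      ⟨⟨LinearMap.mem_ker.mpr hD, hz⟩, hK⟩
    refine ⟨⟨z, hzZ⟩, Subtype.ext ?_⟩
    rw [hΘ]
    change Φ (cz ⟨z, hzZ⟩) = x
    rw [← hzx]
    congr 1
    apply Subtype.ext
    exact heq
  · intro v
    have h0 : Θ v = 0 ↔ Φ (cz v) = 0 := by
      constructor
      · intro h
        exact congrArg Subtype.val h
      · intro h
        exact Subtype.ext h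
    have h1 : Φ (cz v) = 0 ↔ ((cz v : ↥(A.cocyc q)) : (A.X q).carrier) ∈ A.cobdy q := by
      rw [← LinearMap.mem_ker, hΦk, Submodule.mem_comap]
      rfl
    rw [h0, h1]
    cases q with
    | zero =>
      change _ ∈ (⊥ : Submodule T _) ↔ v.1 ∈ (⊥ : Submodule k _)
      rw [Submodule.mem_bot, Submodule.mem_bot]
      constructor
      · intro h
        apply inclC_injective B B' δ
        have h' : inclC B B' δ v.1 = 0 := congrArg (fun w : ↥(WS 𝒯 ψ hT B B' (An 0)).U => w.1) h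
        exact h'.trans (map_zero (inclC B B' δ)).symm
      · intro h
        apply Subtype.ext
        change inclC B B' δ v.1 = 0
        exact (congrArg (inclC B B' δ) h).trans (map_zero _)
    | succ n =>
      constructor
      · rintro ⟨w, hw, hwv⟩
        have hw' : Gr.proj (A.X n).gr δ w ∈ GrLC.gam mT.toIdeal (A.X n).carrier :=
          Gr.gam_isHomogeneous (toAdd 𝒯) (A.X n).gr (idealTo 𝒯 mT) δ hw
        have h2 : A.d n (Gr.proj (A.X n).gr δ w) = ((cz v : ↥(A.cocyc (n + 1))) :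
            (A.X (n + 1)).carrier) := by
          rw [Gr.isGrHom_proj (A.X n).gr (A.X (n + 1)).gr (A.d_grHom n), hwv,
            Gr.proj_of_mem _ (cz_gr v)]
        obtain ⟨y, hy, hyw⟩ := exists_tot_of_mem_WS 𝒯 ψ hT B B' δ n
          (Gr.proj (A.X n).gr δ w : ↥(WS 𝒯 ψ hT B B' (An n)).U).2
          (Gr.proj_mem (A.X n).gr δ w)
        have hyW : inclC B B' δ y ∈ (WS 𝒯 ψ hT B B' (An n)).U :=
          inclC_mem_WS 𝒯 ψ hT B B' δ n hy
        have heq : (⟨inclC B B' δ y, hyW⟩ : ↥(WS 𝒯 ψ hT B B' (An n)).U) =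
            Gr.proj (A.X n).gr δ w := Subtype.ext hyw
        have hK : y ∈ coreKT B B' mR mS δ := by
          rw [← inclC_mem_gam_iff 𝒯 ψ hT B B' mR hmR mS hmS mT hmT δ n y hyW, heq]
          exact hw'
        refine ⟨y, ⟨hy, hK⟩, ?_⟩
        apply inclC_injective B B' δ
        change inclC B B' δ (Cx.D (B.core δ) (B'.core δ) y) = inclC B B' δ v.1
        rw [← DD_inclC, hyw]
        exact congrArg (fun w : ↥(WS 𝒯 ψ hT B B' (An (n + 1))).U => w.1) h2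
      · rintro ⟨y, hy, hyv⟩
        have hyW : inclC B B' δ y ∈ (WS 𝒯 ψ hT B B' (An n)).U :=
          inclC_mem_WS 𝒯 ψ hT B B' δ n hy.1
        refine ⟨(⟨inclC B B' δ y, hyW⟩ : ↥(WS 𝒯 ψ hT B B' (An n)).U),
          (inclC_mem_gam_iff 𝒯 ψ hT B B' mR hmR mS hmS mT hmT δ n y hyW).mpr hy.2, ?_⟩
        apply Subtype.ext
        change DD B B' (inclC B B' δ y) = inclC B B' δ v.1
        exact (DD_inclC B B' δ y).trans (congrArg (inclC B B' δ) hyv)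
  · intro c v
    apply Subtype.ext
    change Φ (cz (c • v)) = algebraMap k T c • Φ (cz v)
    rw [← map_smul]
    congr 1
    apply Subtype.ext
    apply Subtype.ext
    change inclC B B' δ (c • v.1) = actT ψ (algebraMap k T c) (inclC B B' δ v.1)
    refine (map_smul (inclC B B' δ) c v.1).trans ?_
    have := algebraMap_smul T c (⟨inclC B B' δ v.1, hmemWS v.1 v.2⟩ : ↥(WS 𝒯 ψ hT B B' (An q)).U)
    exact (congrArg (fun w : ↥(WS 𝒯 ψ hT B B' (An q)).U => w.1) this).symm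

include hT hmR hmS hmT hP in
theorem exists_semilinear_tot (δ : ℤ) (q : ℕ) :
    ∃ θ : (Cx.tensor (B.core δ) (B'.core δ)).Hsub (coreKT B B' mR mS δ) q →ₛₗ[kToDeg0 𝒯]
      ↥(EP.Hcomp mT q δ), Function.Bijective θ := by
  obtain ⟨Θ₀, hsurj, hker, hsmul⟩ :=
    exists_toHcomp_tot 𝒯 ψ hT B B' hP mR hmR mS hmS mT hmT EP δ q
  exact exists_semilinear_sq _ _ Θ₀ hsurj hker hsmul

include hT hmR hmS hmT hP in
theorem finrank_Hsub_tot [Nontrivial T] (h0 : 𝒯 0 = Submodule.span k {(1 : T)}) (δ : ℤ) (q : ℕ) :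
    Module.finrank k ((Cx.tensor (B.core δ) (B'.core δ)).Hsub (coreKT B B' mR mS δ) q) =
      Module.finrank (GrLC.deg0 𝒯) ↥(EP.Hcomp mT q δ) := by
  obtain ⟨θ, hθ⟩ := exists_semilinear_tot 𝒯 ψ hT B B' hP mR hmR mS hmS mT hmT EP δ q
  exact finrank_eq_of_semilinear 𝒯 h0 θ hθ

end Res

end Seg

end Groth.Agent.H6
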