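import Groth.Agent.Lib.Helper6.SegBig5

/-! The Künneth formula for the graded local cohomology of a Segre product, in terms of big
complexes. -/

universe u
open DirectSum TensorProduct
set_option linter.unusedSectionVars false

namespace Groth.Agent.H6

namespace Seg

open SegLA ToAdd

theorem kunneth_arith (a a' : ℕ) (h h' r r' : ℕ → ℕ) (h0 : h 0 = 0) (h1 : h 1 = 0)
    (h0' : h' 0 = 0) (h1' : h' 1 = 0) (hr0 : r 0 = a) (hrs : ∀ j, r (j + 1) = h (j + 2))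
    (hr0' : r' 0 = a') (hrs' : ∀ j, r' (j + 1) = h' (j + 2)) (m : ℕ) :
    ∑ i ∈ Finset.range (m + 2), r i * r' (m + 1 - i) =
      a * h' (m + 2) + h (m + 2) * a' +
        ∑ i ∈ Finset.range (m + 2 + 2), h i * h' (m + 2 + 1 - i) := by
  have e1 : ∀ i ∈ Finset.range m, r (i + 1) * r' (m + 1 - (i + 1)) =
      h (i + 1 + 1) * h' (m + 2 + 1 - (i + 1 + 1)) := by
    intro i hi
    have hi' : i < m := Finset.mem_range.mp hi
    obtain ⟨j, hj⟩ : ∃ j, m + 1 - (i + 1) = j + 1 := ⟨m - i - 1, by omega⟩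
    have : m + 2 + 1 - (i + 1 + 1) = j + 2 := by omega
    rw [hrs, hj, hrs', this]
  rw [Finset.sum_range_succ' _ (m + 1), Finset.sum_range_succ _ m, Finset.sum_congr rfl e1]
  rw [Finset.sum_range_succ' _ (m + 2 + 1), Finset.sum_range_succ' _ (m + 2),
    Finset.sum_range_succ _ (m + 1), Finset.sum_range_succ _ m]
  have t1 : m + 1 - (m + 1) = 0 := by omega
  have t2 : m + 2 + 1 - (m + 1 + 1 + 1) = 0 := by omega
  have t3 : m + 2 + 1 - (m + 1 + 1) = 1 := by omega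
  have t4 : m + 1 - 0 = m + 1 := by omega
  rw [t1, t2, t3, t4, hr0, hr0', hrs, hrs', h0, h1', h0', zero_add, h1]
  ring

section Res

variable {k : Type u} [Field k] {R S T : Type u} [CommRing R] [CommRing S] [CommRing T]
  [Algebra k R] [Algebra k S] [Algebra k T]
  {𝒜 : ℤ → Submodule k R} [GradedAlgebra 𝒜] {ℬ : ℤ → Submodule k S} [GradedAlgebra ℬ]
  (𝒯 : ℤ → Submodule k T) [GradedAlgebra 𝒯]
  (ψ : T →ₐ[k] R ⊗[k] S) (hT : GrSeg.IsSegreRing 𝒜 ℬ 𝒯 ψ)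
  [GradedRing (toAdd 𝒜)] [GradedRing (toAdd ℬ)] [GradedRing (toAdd 𝒯)]
variable {M : Type u} [AddCommGroup M] [Module R M] [Module k M] [IsScalarTower k R M]
  {ℳ : ℤ → AddSubgroup M}
  [DirectSum.Decomposition ℳ] [SetLike.GradedSMul 𝒜 ℳ] {E : GrLC.StarInjRes 𝒜 ℳ}
variable {𝕏 : Type u} [AddCommGroup 𝕏] [Module R 𝕏] [Module k 𝕏] [IsScalarTower k R 𝕏]
  {𝒳 : ℤ → AddSubgroup 𝕏} [DirectSum.Decomposition 𝒳] [SetLike.GradedSMul 𝒜 𝒳]
  (B : Big 𝒜 E 𝒳)
variable {N : Type u} [AddCommGroup N] [Module S N] [Module k N] [IsScalarTower k S N]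
  {𝒩 : ℤ → AddSubgroup N}
  [DirectSum.Decomposition 𝒩] [SetLike.GradedSMul ℬ 𝒩] {E' : GrLC.StarInjRes ℬ 𝒩}
variable {𝕐 : Type u} [AddCommGroup 𝕐] [Module S 𝕐] [Module k 𝕐] [IsScalarTower k S 𝕐]
  {𝒴 : ℤ → AddSubgroup 𝕐} [DirectSum.Decomposition 𝒴] [SetLike.GradedSMul ℬ 𝒴]
  (B' : Big ℬ E' 𝒴)
variable {P : Type u} [AddCommGroup P] [Module T P] [Module k P] [IsScalarTower k T P]
  {𝒬 : ℤ → AddSubgroup P} [DirectSum.Decomposition 𝒬] [SetLike.GradedSMul 𝒯 𝒬]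
  {φ : P →ₗ[k] M ⊗[k] N} (hP : GrSeg.IsSegreMod ψ ℳ 𝒩 𝒬 φ)
variable (mR : HomogeneousIdeal 𝒜)
  (hmR : mR.toIdeal = Ideal.span (⋃ n ∈ Set.Ioi (0 : ℤ), (𝒜 n : Set R)))
  (mS : HomogeneousIdeal ℬ)
  (hmS : mS.toIdeal = Ideal.span (⋃ n ∈ Set.Ioi (0 : ℤ), (ℬ n : Set S)))
  (mT : HomogeneousIdeal 𝒯)
  (hmT : mT.toIdeal = Ideal.span (⋃ n ∈ Set.Ioi (0 : ℤ), (𝒯 n : Set T)))
variable [IsNoetherianRing R] [IsNoetherianRing S] [IsNoetherianRing T]
  [SetLike.GradedSMul (toAdd 𝒯) 𝒬]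
variable (EP : GrLC.StarInjRes 𝒯 𝒬)

include B B' hT hmR hmS hmT hP in
/-- the Künneth formula for the graded local cohomology of a Segre product -/
theorem finrank_Hcomp_tot [Nontrivial R] [Nontrivial S] [Nontrivial T]
    (h0R : 𝒜 0 = Submodule.span k {(1 : R)}) (h0S : ℬ 0 = Submodule.span k {(1 : S)})
    (h0T : 𝒯 0 = Submodule.span k {(1 : T)})
    (hM : ∀ (q : ℕ) (d : ℤ), q ≤ 1 → E.Hcomp mR q d = ⊥)
    (hN : ∀ (q : ℕ) (d : ℤ), q ≤ 1 → E'.Hcomp mS q d = ⊥)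
    (hfM : ∀ d, Module.Finite (GrLC.deg0 𝒜) ↥(GrLC.comp 𝒜 ℳ d))
    (hfMH : ∀ i d, Module.Finite (GrLC.deg0 𝒜) ↥(E.Hcomp mR i d))
    (hfN : ∀ d, Module.Finite (GrLC.deg0 ℬ) ↥(GrLC.comp ℬ 𝒩 d))
    (hfNH : ∀ i d, Module.Finite (GrLC.deg0 ℬ) ↥(E'.Hcomp mS i d))
    (q : ℕ) (d : ℤ) :
    Module.finrank (GrLC.deg0 𝒯) ↥(EP.Hcomp mT q d) =
      Module.finrank (GrLC.deg0 𝒜) ↥(GrLC.comp 𝒜 ℳ d) *
          Module.finrank (GrLC.deg0 ℬ) ↥(E'.Hcomp mS q d) +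
        Module.finrank (GrLC.deg0 𝒜) ↥(E.Hcomp mR q d) *
          Module.finrank (GrLC.deg0 ℬ) ↥(GrLC.comp ℬ 𝒩 d) +
        ∑ i ∈ Finset.range (q + 2), Module.finrank (GrLC.deg0 𝒜) ↥(E.Hcomp mR i d) *
          Module.finrank (GrLC.deg0 ℬ) ↥(E'.Hcomp mS (q + 1 - i) d) := by
  rw [← finrank_Hsub_tot 𝒯 ψ hT B B' hP mR hmR mS hmS mT hmT EP h0T d q]
  have hbot : ∀ i, i ≤ 1 → Module.finrank (GrLC.deg0 𝒜) ↥(E.Hcomp mR i d) = 0 := by
    intro i hi
    rw [hM i d hi]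
    exact finrank_bot _ _
  have hbot' : ∀ i, i ≤ 1 → Module.finrank (GrLC.deg0 ℬ) ↥(E'.Hcomp mS i d) = 0 := by
    intro i hi
    rw [hN i d hi]
    exact finrank_bot _ _
  have hZ0 : (B.core d).toPCx.Zsub (B.coreK mR.toIdeal d) 0 = ⊥ :=
    le_bot_iff.mp (B.Zsub_le_Bsub_of_Hcomp_eq_bot mR d 0 (hM 0 d (by omega)))
  have hZ1 : (B.core d).toPCx.Zsub (B.coreK mR.toIdeal d) 1 ≤
      (B.core d).toPCx.Bsub (B.coreK mR.toIdeal d) 1 :=
    B.Zsub_le_Bsub_of_Hcomp_eq_bot mR d 1 (hM 1 d le_rfl)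
  have hZ0' : (B'.core d).toPCx.Zsub (B'.coreK mS.toIdeal d) 0 = ⊥ :=
    le_bot_iff.mp (B'.Zsub_le_Bsub_of_Hcomp_eq_bot mS d 0 (hN 0 d (by omega)))
  have hZ1' : (B'.core d).toPCx.Zsub (B'.coreK mS.toIdeal d) 1 ≤
      (B'.core d).toPCx.Bsub (B'.coreK mS.toIdeal d) 1 :=
    B'.Zsub_le_Bsub_of_Hcomp_eq_bot mS d 1 (hN 1 d le_rfl)
  match q with
  | 0 =>
    have hz : (Cx.tensor (B.core d) (B'.core d)).Zsub (coreKT B B' mR mS d) 0 = ⊥ :=
      Zsub_zero_eq_bot (B.core d) (B.coreK mR.toIdeal d) (B.coreK_prk mR.toIdeal d)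
        (B.coreK_d mR.toIdeal d) (B'.core d) (B'.coreK mS.toIdeal d) (B'.coreK_prk mS.toIdeal d)
        (B'.coreK_d mS.toIdeal d) hZ0 hZ0'
    haveI : Subsingleton ((Cx.tensor (B.core d) (B'.core d)).Hsub (coreKT B B' mR mS d) 0) := by
      refine ⟨fun x y => ?_⟩
      obtain ⟨x, rfl⟩ := Submodule.Quotient.mk_surjective _ x
      obtain ⟨y, rfl⟩ := Submodule.Quotient.mk_surjective _ y
      have hx : x = 0 := Subtype.ext ((Submodule.mem_bot k).mp (hz ▸ x.2))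
      have hy : y = 0 := Subtype.ext ((Submodule.mem_bot k).mp (hz ▸ y.2))
      rw [hx, hy]
    rw [Module.finrank_zero_of_subsingleton, hbot 0 (by omega), hbot' 0 (by omega),
      Finset.sum_range_succ, Finset.sum_range_one, hbot 0 (by omega), hbot 1 le_rfl]
    simp
  | 1 =>
    haveI : Subsingleton ((Cx.tensor (B.core d) (B'.core d)).Hsub (coreKT B B' mR mS d) 1) := by
      refine ⟨fun x y => ?_⟩
      obtain ⟨x, rfl⟩ := Submodule.Quotient.mk_surjective _ x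
      obtain ⟨y, rfl⟩ := Submodule.Quotient.mk_surjective _ y
      rw [Submodule.Quotient.eq, Submodule.mem_comap]
      refine Zsub_one_le_Bsub (B.core d) (B.coreK mR.toIdeal d) (B.coreK_prk mR.toIdeal d)
        (B.coreK_d mR.toIdeal d) (B'.core d) (B'.coreK mS.toIdeal d) (B'.coreK_prk mS.toIdeal d)
        (B'.coreK_d mS.toIdeal d) (B.core_exactAt d) (B'.core_exactAt d) (fun z hz => hZ1 hz)
        (fun z hz => hZ1' hz) _ (x - y).2
    rw [Module.finrank_zero_of_subsingleton, hbot 1 le_rfl, hbot' 1 le_rfl,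
      Finset.sum_range_succ, Finset.sum_range_succ, Finset.sum_range_one, hbot 0 (by omega),
      hbot 1 le_rfl, hbot' 0 (by omega)]
    simp
  | m + 2 =>
    obtain ⟨e⟩ := nonempty_coreEquiv (B.core d) (B.coreK mR.toIdeal d) (B.coreK_prk mR.toIdeal d)
      (B.coreK_d mR.toIdeal d) (B'.core d) (B'.coreK mS.toIdeal d) (B'.coreK_prk mS.toIdeal d)
      (B'.coreK_d mS.toIdeal d) (B.core_exactAt d) (B'.core_exactAt d) m
    have hfr : ∀ i : ℕ, Module.Finite k ((B.core d).toPCx.Hrel (B.coreK mR.toIdeal d) i) := by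
      intro i
      cases i with
      | zero => exact B.finite_Hrel_zero mR h0R d (hM 0 d (by omega)) (hM 1 d le_rfl) (hfM d)
      | succ j => exact B.finite_Hrel_succ mR h0R d j (hfMH (j + 2) d)
    have hfr' : ∀ i : ℕ, Module.Finite k ((B'.core d).toPCx.Hrel (B'.coreK mS.toIdeal d) i) := by
      intro i
      cases i with
      | zero => exact B'.finite_Hrel_zero mS h0S d (hN 0 d (by omega)) (hN 1 d le_rfl) (hfN d)
      | succ j => exact B'.finite_Hrel_succ mS h0S d j (hfNH (j + 2) d)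
    haveI : ∀ i : Fin (m + 2), Module.Finite k
        ((B.core d).toPCx.Hrel (B.coreK mR.toIdeal d) i ⊗[k]
          (B'.core d).toPCx.Hrel (B'.coreK mS.toIdeal d) (m + 1 - i)) := by
      intro i
      haveI := hfr i
      haveI := hfr' (m + 1 - i)
      infer_instance
    have h1 : Module.finrank k
        ((Cx.tensor (B.core d) (B'.core d)).Hsub (coreKT B B' mR mS d) (m + 2)) =
        ∑ i ∈ Finset.range (m + 2),
          Module.finrank k ((B.core d).toPCx.Hrel (B.coreK mR.toIdeal d) i) *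
          Module.finrank k ((B'.core d).toPCx.Hrel (B'.coreK mS.toIdeal d) (m + 1 - i)) := by
      rw [← Fin.sum_univ_eq_sum_range (fun i =>
        Module.finrank k ((B.core d).toPCx.Hrel (B.coreK mR.toIdeal d) i) *
          Module.finrank k ((B'.core d).toPCx.Hrel (B'.coreK mS.toIdeal d) (m + 1 - i))) (m + 2)]
      rw [show coreKT B B' mR mS d = KT (B.core d) (B.coreK mR.toIdeal d)
        (B.coreK_prk mR.toIdeal d) (B.coreK_d mR.toIdeal d) (B'.core d) (B'.coreK mS.toIdeal d)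
        (B'.coreK_prk mS.toIdeal d) (B'.coreK_d mS.toIdeal d) from rfl]
      rw [e.finrank_eq, Module.finrank_pi_fintype]
      exact Finset.sum_congr rfl fun i _ => Module.finrank_tensorProduct
    rw [h1]
    exact kunneth_arith _ _
      (fun i => Module.finrank (GrLC.deg0 𝒜) ↥(E.Hcomp mR i d))
      (fun i => Module.finrank (GrLC.deg0 ℬ) ↥(E'.Hcomp mS i d))
      (fun i => Module.finrank k ((B.core d).toPCx.Hrel (B.coreK mR.toIdeal d) i))
      (fun i => Module.finrank k ((B'.core d).toPCx.Hrel (B'.coreK mS.toIdeal d) i))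
      (hbot 0 (by omega)) (hbot 1 le_rfl) (hbot' 0 (by omega)) (hbot' 1 le_rfl)
      (B.finrank_Hrel_zero mR h0R d (hM 0 d (by omega)) (hM 1 d le_rfl))
      (fun j => B.finrank_Hrel_succ mR h0R d j)
      (B'.finrank_Hrel_zero mS h0S d (hN 0 d (by omega)) (hN 1 d le_rfl))
      (fun j => B'.finrank_Hrel_succ mS h0S d j) m

end Res

end Seg

end Groth.Agent.H6
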