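import Groth.Agent.Lib.Helper6.SegBig7

/-! The relative cohomology in degree zero without depth hypotheses, and vanishing and
non-vanishing of the local cohomology of Segre products. -/

universe u
open DirectSum TensorProduct
set_option linter.unusedSectionVars false

namespace Groth.Agent.H6

namespace SegLA

section Conn0

variable {k : Type u} [Field k] (C : PCx k) (K : Submodule k C.V)

theorem PCx.d_mem_Zsub_one {z : C.V} (hz : z ∈ C.Zrel K 0) : C.d z ∈ C.Zsub K 1 :=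
  ⟨⟨LinearMap.mem_ker.mpr (C.d_d z), C.d_mem 0 z hz.1⟩, hz.2⟩

theorem PCx.d_mem_Bsub_one {z : C.V} (hb : z ∈ C.Brel K 0) : C.d z ∈ C.Bsub K 1 :=
  ⟨z, hb, rfl⟩

/-- the connecting map from the relative cohomology in degree zero -/
noncomputable def PCx.conn0 : C.Hrel K 0 →ₗ[k] C.Hsub K 1 :=
  sqMap C.d (fun _ hz => C.d_mem_Zsub_one K hz) (fun _ _ hb => C.d_mem_Bsub_one K hb)

theorem PCx.conn0_mk (z : ↥(C.Zrel K 0)) :
    C.conn0 K (Submodule.Quotient.mk z) =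
      Submodule.Quotient.mk ⟨C.d z.1, C.d_mem_Zsub_one K z.2⟩ := rfl

theorem PCx.conn0_surjective (h : C.ExactAt 0) : Function.Surjective (C.conn0 K) := by
  intro y
  obtain ⟨⟨z', hz'⟩, rfl⟩ := Submodule.Quotient.mk_surjective _ y
  obtain ⟨z, hz, hzz⟩ := h z' hz'.1.2 (LinearMap.mem_ker.mp hz'.1.1)
  have hzrel : z ∈ C.Zrel K 0 := by
    refine ⟨hz, ?_⟩
    change C.d z ∈ K
    rw [hzz]
    exact hz'.2
  refine ⟨Submodule.Quotient.mk ⟨z, hzrel⟩, ?_⟩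
  rw [PCx.conn0_mk]
  congr 1
  exact Subtype.ext hzz

/-- the map from the cocycles of degree zero to the relative cohomology -/
noncomputable def PCx.z0ToRel : ↥(C.Z 0) →ₗ[k] C.Hrel K 0 :=
  (Submodule.mkQ _).comp (Submodule.inclusion (by
    intro z hz
    refine ⟨hz.2, ?_⟩
    change C.d z ∈ K
    rw [LinearMap.mem_ker.mp hz.1]
    exact zero_mem _ : C.Z 0 ≤ C.Zrel K 0))

theorem PCx.ker_conn0_le : LinearMap.ker (C.conn0 K) ≤ LinearMap.range (C.z0ToRel K) := by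
  intro y hy
  obtain ⟨⟨x, hx⟩, rfl⟩ := Submodule.Quotient.mk_surjective _ y
  rw [LinearMap.mem_ker] at hy
  rw [PCx.conn0_mk, Submodule.Quotient.mk_eq_zero, Submodule.mem_comap] at hy
  obtain ⟨κ, hκ, hκx⟩ := hy
  have hκx' : C.d κ = C.d x := hκx
  have hz0 : x - κ ∈ C.Z 0 := by
    refine ⟨?_, sub_mem hx.1 hκ.1⟩
    change C.d (x - κ) = 0
    rw [map_sub, hκx', sub_self]
  refine ⟨⟨x - κ, hz0⟩, ?_⟩
  change Submodule.Quotient.mk _ = Submodule.Quotient.mk _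
  rw [Submodule.Quotient.eq, Submodule.mem_comap]
  change x - κ - x ∈ C.Brel K 0
  have : x - κ - x = -κ := by abel
  rw [this]
  exact neg_mem hκ

theorem PCx.finite_Hrel_zero (h : C.ExactAt 0) [Module.Finite k ↥(C.Z 0)]
    [Module.Finite k (C.Hsub K 1)] : Module.Finite k (C.Hrel K 0) := by
  haveI : Module.Finite k ↥(LinearMap.range (C.z0ToRel K)) := Module.Finite.range _
  haveI : Module.Finite k ↥(LinearMap.ker (C.conn0 K)) :=
    Module.Finite.of_injective (Submodule.inclusion (C.ker_conn0_le K))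
      (Submodule.inclusion_injective _)
  haveI : Module.Finite k (C.Hrel K 0 ⧸ LinearMap.ker (C.conn0 K)) :=
    Module.Finite.equiv
      ((C.conn0 K).quotKerEquivOfSurjective (C.conn0_surjective K h)).symm
  exact Module.Finite.of_submodule_quotient (LinearMap.ker (C.conn0 K))

theorem PCx.nontrivial_Hrel_zero (h : C.ExactAt 0) [Nontrivial (C.Hsub K 1)] :
    Nontrivial (C.Hrel K 0) :=
  (C.conn0_surjective K h).nontrivial

end Conn0

end SegLA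

namespace Seg

open SegLA ToAdd

section Ident

variable {k : Type u} [Field k] {R : Type u} [CommRing R] [Algebra k R]
  {𝒜 : ℤ → Submodule k R} [GradedAlgebra 𝒜] [GradedRing (toAdd 𝒜)]
variable {M : Type u} [AddCommGroup M] [Module R M] [Module k M] [IsScalarTower k R M]
  {ℳ : ℤ → AddSubgroup M} [DirectSum.Decomposition ℳ] [SetLike.GradedSMul 𝒜 ℳ]
variable {E : GrLC.StarInjRes 𝒜 ℳ}
variable {𝕏 : Type u} [AddCommGroup 𝕏] [Module R 𝕏] [Module k 𝕏] [IsScalarTower k R 𝕏]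
  {𝒳 : ℤ → AddSubgroup 𝕏} [DirectSum.Decomposition 𝒳] [SetLike.GradedSMul 𝒜 𝒳]
variable (B : Big 𝒜 E 𝒳) (a : HomogeneousIdeal 𝒜)

theorem Big.finite_Hrel_zero' [Nontrivial R] (h0 : 𝒜 0 = Submodule.span k {(1 : R)}) (δ : ℤ)
    (hfin : Module.Finite (GrLC.deg0 𝒜) ↥(GrLC.comp 𝒜 ℳ δ))
    (hfin1 : Module.Finite (GrLC.deg0 𝒜) ↥(E.Hcomp a 1 δ)) :
    Module.Finite k ((B.core δ).toPCx.Hrel (B.coreK a.toIdeal δ) 0) := by
  haveI := (B.finite_Z0_iff h0 δ).mpr hfin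
  haveI := (B.finite_Hsub_iff a h0 δ 1).mpr hfin1
  exact PCx.finite_Hrel_zero _ _ (B.core_exactAt δ 0)

theorem Big.nontrivial_Hsub (δ : ℤ) (i : ℕ) (hne : E.Hcomp a i δ ≠ ⊥) :
    Nontrivial ((B.core δ).toPCx.Hsub (B.coreK a.toIdeal δ) i) := by
  obtain ⟨θ, hθ⟩ := B.exists_semilinear_Hsub a δ i
  haveI : Nontrivial ↥(E.Hcomp a i δ) := Submodule.nontrivial_iff_ne_bot.mpr hne
  exact hθ.surjective.nontrivial

theorem Big.nontrivial_Hrel_zero (δ : ℤ) (hne : E.Hcomp a 1 δ ≠ ⊥) :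
    Nontrivial ((B.core δ).toPCx.Hrel (B.coreK a.toIdeal δ) 0) := by
  haveI := B.nontrivial_Hsub a δ 1 hne
  exact PCx.nontrivial_Hrel_zero _ _ (B.core_exactAt δ 0)

theorem Big.nontrivial_Hrel_succ (δ : ℤ) (m : ℕ) (hne : E.Hcomp a (m + 2) δ ≠ ⊥) :
    Nontrivial ((B.core δ).toPCx.Hrel (B.coreK a.toIdeal δ) (m + 1)) := by
  haveI := B.nontrivial_Hsub a δ (m + 2) hne
  exact (PCx.conn (B.core δ).toPCx (B.coreK a.toIdeal δ) m (B.core_exactAt δ m)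
    (B.core_exactAt δ (m + 1))).toEquiv.nontrivial

/-- uniform statement: `H^r ≠ 0` in degree `δ` gives nonvanishing relative cohomology in
degree `r - 1` -/
theorem Big.nontrivial_Hrel_pred (δ : ℤ) (r : ℕ) (hr : 1 ≤ r) (hne : E.Hcomp a r δ ≠ ⊥) :
    Nontrivial ((B.core δ).toPCx.Hrel (B.coreK a.toIdeal δ) (r - 1)) := by
  obtain ⟨j, rfl⟩ : ∃ j, r = j + 1 := ⟨r - 1, by omega⟩
  cases j with
  | zero => exact B.nontrivial_Hrel_zero a δ hne
  | succ m => exact B.nontrivial_Hrel_succ a δ m hne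

/-- all relative cohomology groups are finite dimensional -/
theorem Big.finite_Hrel [Nontrivial R] (h0 : 𝒜 0 = Submodule.span k {(1 : R)}) (δ : ℤ)
    (hfin : Module.Finite (GrLC.deg0 𝒜) ↥(GrLC.comp 𝒜 ℳ δ))
    (hfinH : ∀ i, Module.Finite (GrLC.deg0 𝒜) ↥(E.Hcomp a i δ)) (i : ℕ) :
    Module.Finite k ((B.core δ).toPCx.Hrel (B.coreK a.toIdeal δ) i) := by
  cases i with
  | zero => exact B.finite_Hrel_zero' a h0 δ hfin (hfinH 1)
  | succ j => exact B.finite_Hrel_succ a h0 δ j (hfinH (j + 2))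

/-- vanishing of the relative cohomology above the dimension -/
theorem Big.subsingleton_Hrel [Nontrivial R] (h0 : 𝒜 0 = Submodule.span k {(1 : R)}) (δ : ℤ)
    (hfinH : ∀ i, Module.Finite (GrLC.deg0 𝒜) ↥(E.Hcomp a i δ)) (r : ℕ)
    (hv : ∀ i, r < i → E.Hcomp a i δ = ⊥) (i : ℕ) (h1 : 1 ≤ i) (hi : r < i + 1) :
    Subsingleton ((B.core δ).toPCx.Hrel (B.coreK a.toIdeal δ) i) := by
  obtain ⟨j, rfl⟩ : ∃ j, i = j + 1 := ⟨i - 1, by omega⟩
  haveI := B.finite_Hrel_succ a h0 δ j (hfinH (j + 2))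
  apply subsingleton_of_finrank_eq_zero (k := k)
  rw [B.finrank_Hrel_succ a h0 δ j, hv (j + 2) (by omega)]
  exact finrank_bot _ _

end Ident

section Res

variable {k : Type u} [Field k] {R S T : Type u} [CommRing R] [CommRing S] [CommRing T]
  [Algebra k R] [Algebra k S] [Algebra k T]
  {𝒜 : ℤ → Submodule k R} [GradedAlgebra 𝒜] {ℬ : ℤ → Submodule k S} [GradedAlgebra ℬ]
  (𝒯 : ℤ → Submodule k T) [GradedAlgebra 𝒯]
  (ψ : T →ₐ[k] R ⊗[k] S) (hT : GrSeg.IsSegreRing 𝒜 ℬ 𝒯 ψ)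
  [GradedRing (toAdd 𝒜)] [GradedRing (toAdd ℬ)] [GradedRing (toAdd 𝒯)]
variable {M : Type u} [AddCommGroup M] [Module R M] [Module k M] [IsScalarTower k R M]
  {ℳ : ℤ → AddSubgroup M}
  [DirectSum.Decomposition ℳ] [SetLike.GradedSMul 𝒜 ℳ] {E : GrLC.StarInjRes 𝒜 ℳ}
variable {𝕏 : Type u} [AddCommGroup 𝕏] [Module R 𝕏] [Module k 𝕏] [IsScalarTower k R 𝕏]
  {𝒳 : ℤ → AddSubgroup 𝕏} [DirectSum.Decomposition 𝒳] [SetLike.GradedSMul 𝒜 𝒳]
  (B : Big 𝒜 E 𝒳)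
variable {N : Type u} [AddCommGroup N] [Module S N] [Module k N] [IsScalarTower k S N]
  {𝒩 : ℤ → AddSubgroup N}
  [DirectSum.Decomposition 𝒩] [SetLike.GradedSMul ℬ 𝒩] {E' : GrLC.StarInjRes ℬ 𝒩}
variable {𝕐 : Type u} [AddCommGroup 𝕐] [Module S 𝕐] [Module k 𝕐] [IsScalarTower k S 𝕐]
  {𝒴 : ℤ → AddSubgroup 𝕐} [DirectSum.Decomposition 𝒴] [SetLike.GradedSMul ℬ 𝒴]
  (B' : Big ℬ E' 𝒴)
variable {P : Type u} [AddCommGroup P] [Module T P] [Module k P] [IsScalarTower k T P]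
  {𝒬 : ℤ → AddSubgroup P} [DirectSum.Decomposition 𝒬] [SetLike.GradedSMul 𝒯 𝒬]
  {φ : P →ₗ[k] M ⊗[k] N} (hP : GrSeg.IsSegreMod ψ ℳ 𝒩 𝒬 φ)
variable (mR : HomogeneousIdeal 𝒜)
  (hmR : mR.toIdeal = Ideal.span (⋃ n ∈ Set.Ioi (0 : ℤ), (𝒜 n : Set R)))
  (mS : HomogeneousIdeal ℬ)
  (hmS : mS.toIdeal = Ideal.span (⋃ n ∈ Set.Ioi (0 : ℤ), (ℬ n : Set S)))
  (mT : HomogeneousIdeal 𝒯)
  (hmT : mT.toIdeal = Ideal.span (⋃ n ∈ Set.Ioi (0 : ℤ), (𝒯 n : Set T)))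
variable [IsNoetherianRing R] [IsNoetherianRing S] [IsNoetherianRing T]
  [SetLike.GradedSMul (toAdd 𝒯) 𝒬]
variable (EP : GrLC.StarInjRes 𝒯 𝒬)

include B B' hT hmR hmS hmT hP in
/-- non-vanishing of the local cohomology of a Segre product in degree `r + s - 1` -/
theorem Hcomp_tot_ne_bot [Nontrivial R] [Nontrivial S] [Nontrivial T]
    (h0R : 𝒜 0 = Submodule.span k {(1 : R)}) (h0S : ℬ 0 = Submodule.span k {(1 : S)})
    (h0T : 𝒯 0 = Submodule.span k {(1 : T)}) (r s : ℕ) (h1r : 1 ≤ r) (h1s : 1 ≤ s)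
    (hrs : 3 ≤ r + s) (d : ℤ)
    (hfM : Module.Finite (GrLC.deg0 𝒜) ↥(GrLC.comp 𝒜 ℳ d))
    (hfMH : ∀ i, Module.Finite (GrLC.deg0 𝒜) ↥(E.Hcomp mR i d))
    (hfN : Module.Finite (GrLC.deg0 ℬ) ↥(GrLC.comp ℬ 𝒩 d))
    (hfNH : ∀ i, Module.Finite (GrLC.deg0 ℬ) ↥(E'.Hcomp mS i d))
    (hM : E.Hcomp mR r d ≠ ⊥) (hN : E'.Hcomp mS s d ≠ ⊥) :
    EP.Hcomp mT (r + s - 1) d ≠ ⊥ := by
  obtain ⟨m, hm⟩ : ∃ m, r + s - 1 = m + 2 := ⟨r + s - 3, by omega⟩
  rw [hm]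
  have hfr := B.finite_Hrel mR h0R d hfM hfMH
  have hfr' := B'.finite_Hrel mS h0S d hfN hfNH
  have hfin : ∀ i : Fin (m + 2), Module.Finite k
      ((B.core d).toPCx.Hrel (B.coreK mR.toIdeal d) i ⊗[k]
        (B'.core d).toPCx.Hrel (B'.coreK mS.toIdeal d) (m + 1 - i)) := by
    intro i
    haveI := hfr i
    haveI := hfr' (m + 1 - i)
    infer_instance
  have key := finrank_Hcomp_tot_general 𝒯 ψ hT B B' hP mR hmR mS hmS mT hmT EP h0T m d hfin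
  intro hbot
  rw [hbot, finrank_bot] at key
  have h0 := (Finset.sum_eq_zero_iff.mp key.symm) (r - 1) (by rw [Finset.mem_range]; omega)
  have e : m + 1 - (r - 1) = s - 1 := by omega
  rw [e] at h0
  haveI := hfr (r - 1)
  haveI := hfr' (s - 1)
  haveI := B.nontrivial_Hrel_pred mR d r h1r hM
  haveI := B'.nontrivial_Hrel_pred mS d s h1s hN
  have p1 : 0 < Module.finrank k ((B.core d).toPCx.Hrel (B.coreK mR.toIdeal d) (r - 1)) :=
    Module.finrank_pos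
  have p2 : 0 < Module.finrank k ((B'.core d).toPCx.Hrel (B'.coreK mS.toIdeal d) (s - 1)) :=
    Module.finrank_pos
  exact absurd h0 (Nat.mul_ne_zero p1.ne' p2.ne')

include B B' hT hmR hmS hmT hP in
/-- vanishing of the local cohomology of a Segre product in degrees at least `r + s` -/
theorem finrank_Hcomp_tot_eq_zero [Nontrivial R] [Nontrivial S] [Nontrivial T]
    (h0R : 𝒜 0 = Submodule.span k {(1 : R)}) (h0S : ℬ 0 = Submodule.span k {(1 : S)})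
    (h0T : 𝒯 0 = Submodule.span k {(1 : T)}) (r s : ℕ) (h1r : 1 ≤ r) (h1s : 1 ≤ s)
    (q : ℕ) (hq : r + s ≤ q) (d : ℤ)
    (hfM : Module.Finite (GrLC.deg0 𝒜) ↥(GrLC.comp 𝒜 ℳ d))
    (hfMH : ∀ i, Module.Finite (GrLC.deg0 𝒜) ↥(E.Hcomp mR i d))
    (hfN : Module.Finite (GrLC.deg0 ℬ) ↥(GrLC.comp ℬ 𝒩 d))
    (hfNH : ∀ i, Module.Finite (GrLC.deg0 ℬ) ↥(E'.Hcomp mS i d))
    (hvM : ∀ i, r < i → E.Hcomp mR i d = ⊥) (hvN : ∀ i, s < i → E'.Hcomp mS i d = ⊥) :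
    Module.finrank (GrLC.deg0 𝒯) ↥(EP.Hcomp mT q d) = 0 := by
  obtain ⟨m, rfl⟩ : ∃ m, q = m + 2 := ⟨q - 2, by omega⟩
  have hfr := B.finite_Hrel mR h0R d hfM hfMH
  have hfr' := B'.finite_Hrel mS h0S d hfN hfNH
  have hfin : ∀ i : Fin (m + 2), Module.Finite k
      ((B.core d).toPCx.Hrel (B.coreK mR.toIdeal d) i ⊗[k]
        (B'.core d).toPCx.Hrel (B'.coreK mS.toIdeal d) (m + 1 - i)) := by
    intro i
    haveI := hfr i
    haveI := hfr' (m + 1 - i)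
    infer_instance
  rw [finrank_Hcomp_tot_general 𝒯 ψ hT B B' hP mR hmR mS hmS mT hmT EP h0T m d hfin]
  apply Finset.sum_eq_zero
  intro i hi
  rw [Finset.mem_range] at hi
  by_cases hir : r < i + 1
  · haveI := B.subsingleton_Hrel mR h0R d hfMH r hvM i (by omega) hir
    rw [Module.finrank_zero_of_subsingleton, zero_mul]
  · haveI := B'.subsingleton_Hrel mS h0S d hfNH s hvN (m + 1 - i) (by omega) (by omega)
    have h0 : Module.finrank k
        ((B'.core d).toPCx.Hrel (B'.coreK mS.toIdeal d) (m + 1 - i)) = 0 :=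
      Module.finrank_zero_of_subsingleton
    rw [h0, mul_zero]

end Res

end Seg

end Groth.Agent.H6
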