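import Groth.Agent.Lib.Helper6.GrCMCrit3
import Groth.Agent.Lib.Helper6.SegCan2

/-! The Cohen–Macaulay criterion for graded rings defined over a field (pieces are subspaces). -/

universe u
open DirectSum TensorProduct
set_option linter.unusedSectionVars false

namespace Groth.Agent.H6

namespace Seg

open SegLA ToAdd

section Crit

variable {k : Type u} [Field k] {R : Type u} [CommRing R] [Nontrivial R] [Algebra k R]
  (𝒜 : ℤ → Submodule k R) [GradedAlgebra 𝒜] [IsNoetherianRing R]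
  (hpos : ∀ n : ℤ, n < 0 → 𝒜 n = ⊥) (h0 : 𝒜 0 = Submodule.span k {(1 : R)})
  (m : HomogeneousIdeal 𝒜)
  (hm : m.toIdeal = Ideal.span (⋃ n ∈ Set.Ioi (0 : ℤ), (𝒜 n : Set R)))
variable {M : Type u} [AddCommGroup M] [Module R M] (ℳ : ℤ → AddSubgroup M)
  [DirectSum.Decomposition ℳ] [SetLike.GradedSMul 𝒜 ℳ] [Module.Finite R M]

include hpos h0 hm in
/-- the Cohen–Macaulay criterion for graded modules -/
theorem cm_iff_existsUnique [Nontrivial M] (E : GrLC.StarInjRes 𝒜 ℳ) :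
    (∀ (p : Ideal R) [p.IsPrime], Subsingleton (LocalizedModule p.primeCompl M) ∨
        LocCoh.IsCohenMacaulayModule (Localization.AtPrime p)
          (LocalizedModule p.primeCompl M)) ↔
      ∃! q : ℕ, ∃ d : ℤ, E.Hcomp m q d ≠ ⊥ := by
  letI := gradedRing_toAdd 𝒜
  haveI := gradedSMul_to 𝒜 ℳ
  rw [GrCM.cm_iff_existsUnique (toAdd 𝒜) (toAdd_neg_eq_bot 𝒜 hpos) (isField_deg0 𝒜 h0)
    (idealTo 𝒜 m) hm ℳ (resToM 𝒜 E)]
  apply existsUnique_congr
  intro q
  rw [GrCM.nontrivial_H_iff (toAdd 𝒜) ℳ (resToM 𝒜 E) (idealTo 𝒜 m) q]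
  apply exists_congr
  intro d
  apply not_congr
  rw [Submodule.eq_bot_iff, Submodule.eq_bot_iff]
  exact Iff.rfl

include hpos h0 hm in
/-- the Cohen–Macaulay criterion for graded rings -/
theorem cmRing_iff_existsUnique (I : GrLC.StarInjRes 𝒜 𝒜) :
    LocCoh.IsCohenMacaulayRing R ↔ ∃! q : ℕ, ∃ d : ℤ, I.Hcomp m q d ≠ ⊥ := by
  letI := gradedRing_toAdd 𝒜
  haveI := gradedSMul_self 𝒜
  rw [GrCM.cmRing_iff_module]
  exact cm_iff_existsUnique 𝒜 hpos h0 m hm (toAdd 𝒜) (resSelf 𝒜 I)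

end Crit

end Seg

end Groth.Agent.H6
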