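import Groth.Agent.Lib.Helper6.SegCM1
import Groth.Agent.Lib.Helper6.GrRes

/-! Existence of *injective resolutions for gradings by subspaces; Cohen–Macaulayness of Segre
products. -/

universe u
open DirectSum TensorProduct
set_option linter.unusedSectionVars false

namespace Groth.Agent.H6

namespace Seg

open SegLA ToAdd

section ResOf

variable {ι : Type} [AddCommGroup ι] [DecidableEq ι]
variable {R : Type u} [CommRing R] {σ : Type u} [SetLike σ R] [AddSubgroupClass σ R]
variable (𝒲 : ι → σ) [GradedRing 𝒲] [GradedRing (toAdd 𝒲)]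

theorem isStarInj_of {M : Type u} [AddCommGroup M] [Module R M] (ℳ : ι → AddSubgroup M)
    [DirectSum.Decomposition ℳ] [SetLike.GradedSMul 𝒲 ℳ] [SetLike.GradedSMul (toAdd 𝒲) ℳ]
    (h : GrLC.IsStarInj (toAdd 𝒲) ℳ) : GrLC.IsStarInj 𝒲 ℳ := by
  intro A B f hf hinj g hg
  exact h (gmodTo 𝒲 A) (gmodTo 𝒲 B) f hf hinj g hg

variable {M : Type u} [AddCommGroup M] [Module R M] {ℳ : ι → AddSubgroup M}
  [DirectSum.Decomposition ℳ] [SetLike.GradedSMul 𝒲 ℳ] [SetLike.GradedSMul (toAdd 𝒲) ℳ]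

/-- a *injective resolution over the underlying additive subgroups gives one over the original
pieces -/
def resOfM (I : GrLC.StarInjRes (toAdd 𝒲) ℳ) : GrLC.StarInjRes 𝒲 ℳ where
  X n := gmodOf 𝒲 (I.X n)
  d := I.d
  ε := I.ε
  d_grHom := I.d_grHom
  ε_grHom := I.ε_grHom
  ε_injective := I.ε_injective
  exact_zero := I.exact_zero
  exact_succ := I.exact_succ
  starInj n :=
    haveI := gradedSMul_of 𝒲 (I.X n).gr
    isStarInj_of 𝒲 (I.X n).gr (I.starInj n)

variable (ℳ) in
/-- *injective resolutions exist -/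
theorem nonempty_starInjRes : Nonempty (GrLC.StarInjRes 𝒲 ℳ) :=
  ⟨resOfM 𝒲 (Gr.starInjRes (toAdd 𝒲) ℳ)⟩

end ResOf

end Seg

end Groth.Agent.H6
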