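import Groth.Agent.Lib.Helper6.SegCM2
import Groth.Agent.Lib.Helper6.GrStd
import Groth.Agent.Lib.Helper6.SegRing
import Groth.Agent.S18646

/-! Cohen–Macaulayness of Segre products of standard graded Cohen–Macaulay rings. -/

universe u
open DirectSum TensorProduct
set_option linter.unusedSectionVars false

namespace Groth.Agent.H6

namespace Seg

open SegLA ToAdd

section EndDeg

variable {H : Type u} [AddCommGroup H] (𝒢 : ℤ → AddSubgroup H)

theorem endDeg_neg_iff : GrLC.endDeg 𝒢 < 0 ↔ ∀ n : ℤ, 0 ≤ n → 𝒢 n = ⊥ := by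
  constructor
  · intro h n hn
    by_contra hne
    have h1 : (((n : ℤ) : WithTop ℤ) : WithBot (WithTop ℤ)) ≤ GrLC.endDeg 𝒢 := by
      unfold GrLC.endDeg
      exact le_iSup₂ (f := fun (n : ℤ) (_ : 𝒢 n ≠ ⊥) =>
        (((n : ℤ) : WithTop ℤ) : WithBot (WithTop ℤ))) n hne
    have h2 : (((n : ℤ) : WithTop ℤ) : WithBot (WithTop ℤ)) <
        (((0 : ℤ) : WithTop ℤ) : WithBot (WithTop ℤ)) := lt_of_le_of_lt h1 h
    rw [WithBot.coe_lt_coe, WithTop.coe_lt_coe] at h2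
    omega
  · intro h
    have h1 : GrLC.endDeg 𝒢 ≤ (((-1 : ℤ) : WithTop ℤ) : WithBot (WithTop ℤ)) := by
      unfold GrLC.endDeg
      refine iSup₂_le fun n hn => ?_
      have : n < 0 := not_le.mp fun h0 => hn (h n h0)
      rw [WithBot.coe_le_coe, WithTop.coe_le_coe]
      omega
    refine lt_of_le_of_lt h1 ?_
    change (((-1 : ℤ) : WithTop ℤ) : WithBot (WithTop ℤ)) <
      (((0 : ℤ) : WithTop ℤ) : WithBot (WithTop ℤ))
    rw [WithBot.coe_lt_coe, WithTop.coe_lt_coe]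
    omega

end EndDeg

section Arith

theorem sum_eq_ite (hR hS : ℕ → ℕ) (r s : ℕ) (h1s : 1 ≤ s)
    (hRv : ∀ q, q ≠ r → hR q = 0) (hSv : ∀ q, q ≠ s → hS q = 0) (q : ℕ) :
    (Finset.range (q + 2)).sum (fun i => hR i * hS (q + 1 - i)) =
      if q + 1 = r + s then hR r * hS s else 0 := by
  split_ifs with h
  · rw [Finset.sum_eq_single r]
    · have : q + 1 - r = s := by omega
      rw [this]
    · intro i _ hi
      rw [hRv i hi, zero_mul]
    · intro hr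
      exfalso
      apply hr
      rw [Finset.mem_range]
      omega
  · apply Finset.sum_eq_zero
    intro i _
    by_cases hi : i = r
    · have : q + 1 - i ≠ s := by omega
      rw [hSv _ this, mul_zero]
    · rw [hRv i hi, zero_mul]

theorem cm_segre_arith (a b : ℤ → ℕ) (hR hS F : ℕ → ℤ → ℕ) (r s : ℕ) (h2r : 2 ≤ r) (h2s : 2 ≤ s)
    (hF : ∀ q d, F q d = a d * hS q d + hR q d * b d +
      (Finset.range (q + 2)).sum (fun i => hR i d * hS (q + 1 - i) d))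
    (hRv : ∀ q d, q ≠ r → hR q d = 0) (hSv : ∀ q d, q ≠ s → hS q d = 0)
    (hne : ∃ d, hR r d ≠ 0 ∧ hS s d ≠ 0)
    (ha : ∀ d, a d ≠ 0 ↔ 0 ≤ d) (hb : ∀ d, b d ≠ 0 ↔ 0 ≤ d) :
    (∃! q, ∃ d, F q d ≠ 0) ↔ (∀ d, 0 ≤ d → hR r d = 0) ∧ (∀ d, 0 ≤ d → hS s d = 0) := by
  have hF' : ∀ q d, F q d = a d * hS q d + hR q d * b d +
      if q + 1 = r + s then hR r d * hS s d else 0 := by
    intro q d
    rw [hF q d, sum_eq_ite (fun i => hR i d) (fun i => hS i d) r s (by omega)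
      (fun q hq => hRv q d hq) (fun q hq => hSv q d hq) q]
  obtain ⟨d0, hd0R, hd0S⟩ := hne
  have htop : F (r + s - 1) d0 ≠ 0 := by
    rw [hF', if_pos (by omega)]
    have := Nat.mul_ne_zero hd0R hd0S
    omega
  constructor
  · rintro ⟨q, ⟨d, hd⟩, huniq⟩
    have hq : r + s - 1 = q := huniq _ ⟨d0, htop⟩
    constructor
    · intro d hd0
      by_contra hne
      have : F r d ≠ 0 := by
        rw [hF']
        have := Nat.mul_ne_zero hne ((hb d).mpr hd0)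
        omega
      have := huniq r ⟨d, this⟩
      omega
    · intro d hd0
      by_contra hne
      have : F s d ≠ 0 := by
        rw [hF']
        have := Nat.mul_ne_zero ((ha d).mpr hd0) hne
        omega
      have := huniq s ⟨d, this⟩
      omega
  · rintro ⟨h1, h2⟩
    refine ⟨r + s - 1, ⟨d0, htop⟩, ?_⟩
    rintro q ⟨d, hd⟩
    by_contra hq
    apply hd
    rw [hF', if_neg (by omega)]
    have e1 : a d * hS q d = 0 := by
      by_cases hqs : q = s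
      · by_cases hd0 : 0 ≤ d
        · rw [hqs, h2 d hd0, mul_zero]
        · have : a d = 0 := by
            by_contra h
            exact hd0 ((ha d).mp h)
          rw [this, zero_mul]
      · rw [hSv q d hqs, mul_zero]
    have e2 : hR q d * b d = 0 := by
      by_cases hqr : q = r
      · by_cases hd0 : 0 ≤ d
        · rw [hqr, h1 d hd0, zero_mul]
        · have : b d = 0 := by
            by_contra h
            exact hd0 ((hb d).mp h)
          rw [this, mul_zero]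
      · rw [hRv q d hqr, zero_mul]
    rw [e1, e2]

end Arith

section Tools

variable {k : Type u} [Field k] {R : Type u} [CommRing R] [Algebra k R]
  (𝒜 : ℤ → Submodule k R) [GradedAlgebra 𝒜]

theorem exists_irrel : ∃ m : HomogeneousIdeal 𝒜,
    m.toIdeal = Ideal.span (⋃ n ∈ Set.Ioi (0 : ℤ), (𝒜 n : Set R)) :=
  ⟨⟨Ideal.span (⋃ n ∈ Set.Ioi (0 : ℤ), (𝒜 n : Set R)), Ideal.homogeneous_span 𝒜 _ (by
    intro x hx
    simp only [Set.mem_iUnion] at hx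
    obtain ⟨n, _, hxn⟩ := hx
    exact ⟨n, hxn⟩)⟩, rfl⟩

/-- a *injective resolution of the ring, from one of the ring viewed as a graded module over
itself with additive subgroups as pieces -/
def selfRes [GradedRing (toAdd 𝒜)] [SetLike.GradedSMul 𝒜 (toAdd 𝒜)]
    (I : GrLC.StarInjRes 𝒜 (toAdd 𝒜)) : GrLC.StarInjRes 𝒜 𝒜 where
  X := I.X
  d := I.d
  ε := I.ε
  d_grHom := I.d_grHom
  ε_grHom := I.ε_grHom
  ε_injective := I.ε_injective
  exact_zero := I.exact_zero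
  exact_succ := I.exact_succ
  starInj := I.starInj

theorem nonempty_starInjRes_self : Nonempty (GrLC.StarInjRes 𝒜 𝒜) := by
  letI := gradedRing_toAdd 𝒜
  haveI := gradedSMul_self 𝒜
  obtain ⟨I⟩ := nonempty_starInjRes 𝒜 (toAdd 𝒜)
  exact ⟨selfRes 𝒜 I⟩

theorem finrank_eq_zero_iff_of_isField {K V : Type u} [CommRing K] (hK : IsField K)
    [AddCommGroup V] [Module K V] [Module.Finite K V] :
    Module.finrank K V = 0 ↔ Subsingleton V := by
  letI := hK.toField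
  exact Module.finrank_zero_iff

variable [Nontrivial R] [IsNoetherianRing R]
variable {M : Type u} [AddCommGroup M] [Module R M] (ℳ : ℤ → AddSubgroup M)
  [DirectSum.Decomposition ℳ] [SetLike.GradedSMul 𝒜 ℳ] [Module.Finite R M]

theorem Hcomp_eq_bot_iff_finrank (hpos : ∀ n : ℤ, n < 0 → 𝒜 n = ⊥)
    (h0 : 𝒜 0 = Submodule.span k {(1 : R)}) (a : HomogeneousIdeal 𝒜)
    (ha : a.toIdeal = Ideal.span (⋃ n ∈ Set.Ioi (0 : ℤ), (𝒜 n : Set R)))
    (E : GrLC.StarInjRes 𝒜 ℳ) (i : ℕ) (d : ℤ) :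
    E.Hcomp a i d = ⊥ ↔ Module.finrank (GrLC.deg0 𝒜) ↥(E.Hcomp a i d) = 0 := by
  letI := gradedRing_toAdd 𝒜
  haveI := gradedSMul_to 𝒜 ℳ
  haveI := finite_Hcomp_of_pos 𝒜 ℳ hpos a ha E i d
  rw [finrank_eq_zero_iff_of_isField (isField_deg0 𝒜 h0), Submodule.subsingleton_iff_eq_bot]

end Tools

section Std

variable {k : Type u} [Field k] {R : Type u} [CommRing R] [Nontrivial R] [Algebra k R]
  (𝒜 : ℤ → Submodule k R) [GradedAlgebra 𝒜] [IsNoetherianRing R]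
  (hpos : ∀ n : ℤ, n < 0 → 𝒜 n = ⊥) (h0 : 𝒜 0 = Submodule.span k {(1 : R)})
  (m : HomogeneousIdeal 𝒜)
  (hm : m.toIdeal = Ideal.span (⋃ n ∈ Set.Ioi (0 : ℤ), (𝒜 n : Set R)))

theorem Hcomp_to_eq_bot_iff [GradedRing (toAdd 𝒜)] {M : Type u} [AddCommGroup M] [Module R M]
    (ℳ : ℤ → AddSubgroup M) [DirectSum.Decomposition ℳ] [SetLike.GradedSMul 𝒜 ℳ]
    [SetLike.GradedSMul (toAdd 𝒜) ℳ] (E : GrLC.StarInjRes 𝒜 ℳ) (q : ℕ) (d : ℤ) :
    (resToM 𝒜 E).Hcomp (idealTo 𝒜 m) q d = ⊥ ↔ E.Hcomp m q d = ⊥ := by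
  rw [Submodule.eq_bot_iff, Submodule.eq_bot_iff]
  exact Iff.rfl

include hpos h0 hm in
/-- the top local cohomology of a graded ring defined over a field does not vanish -/
theorem exists_Hcomp_top_ne_bot (r : ℕ) (hr : ringKrullDim R = r) (I : GrLC.StarInjRes 𝒜 𝒜) :
    ∃ d : ℤ, I.Hcomp m r d ≠ ⊥ := by
  letI := gradedRing_toAdd 𝒜
  haveI := gradedSMul_self 𝒜
  have h0' := isField_deg0 𝒜 h0
  have hpos' := toAdd_neg_eq_bot 𝒜 hpos
  haveI hmax : (idealTo 𝒜 m).toIdeal.IsMaximal :=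
    GrCM.isMaximal_irrelevant (toAdd 𝒜) hpos' h0' (idealTo 𝒜 m) hm
  have hh : (idealTo 𝒜 m).toIdeal.height = r :=
    Gr.height_irrelevant (toAdd 𝒜) hpos' h0' (idealTo 𝒜 m).toIdeal hm r hr
  haveI hnt := MaxLoc.nontrivial_top (idealTo 𝒜 m).toIdeal r hh
  obtain ⟨e⟩ := Gr.nonempty_H_equiv (toAdd 𝒜) (toAdd 𝒜) (resToM 𝒜 (resSelf 𝒜 I)) (idealTo 𝒜 m) r
  haveI : Nontrivial ((resToM 𝒜 (resSelf 𝒜 I)).H (idealTo 𝒜 m) r) :=
    e.toEquiv.nontrivial
  obtain ⟨d, hd⟩ := (GrCM.nontrivial_H_iff (toAdd 𝒜) (toAdd 𝒜) (resToM 𝒜 (resSelf 𝒜 I))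
    (idealTo 𝒜 m) r).mp this
  refine ⟨d, fun h => hd ?_⟩
  rw [Hcomp_to_eq_bot_iff]
  exact h

variable (hstd : Ideal.span (⋃ n ∈ Set.Ioi (0 : ℤ), (𝒜 n : Set R)) =
    Ideal.span ((𝒜 1 : Submodule k R) : Set R))

include hpos h0 hm hstd in
theorem piece_ne_bot (r : ℕ) (hr : ringKrullDim R = r) (h1 : 1 ≤ r) (d : ℤ) (hd : 0 ≤ d) :
    𝒜 d ≠ ⊥ := by
  letI := gradedRing_toAdd 𝒜
  intro h
  apply GrStd.piece_ne_bot (toAdd 𝒜) (toAdd_neg_eq_bot 𝒜 hpos) (isField_deg0 𝒜 h0) (idealTo 𝒜 m) hm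
    hstd r hr h1 d hd
  ext x
  rw [mem_toAdd, h]
  rfl

include hpos h0 hm hstd in
theorem finrank_piece_ne_zero_iff (r : ℕ) (hr : ringKrullDim R = r) (h1 : 1 ≤ r) (d : ℤ) :
    Module.finrank k ↥(𝒜 d) ≠ 0 ↔ 0 ≤ d := by
  letI := gradedRing_toAdd 𝒜
  haveI := gradedSMul_self 𝒜
  constructor
  · intro h
    by_contra hd
    apply h
    rw [hpos d (by omega)]
    exact finrank_bot k R
  · intro hd h
    apply piece_ne_bot 𝒜 hpos h0 m hm hstd r hr h1 d hd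
    rw [← finrank_comp_self 𝒜 h0 d] at h
    haveI := finite_comp_of_pos 𝒜 (toAdd 𝒜) hpos m hm d
    rw [finrank_eq_zero_iff_of_isField (isField_deg0 𝒜 h0)] at h
    rw [Submodule.eq_bot_iff]
    intro x hx
    have : (⟨x, hx⟩ : ↥(GrLC.comp 𝒜 (toAdd 𝒜) d)) = 0 := Subsingleton.elim _ _
    exact congrArg Subtype.val this

include hpos h0 hm hstd in
/-- the nonvanishing of the pieces of the top local cohomology of a standard graded ring
propagates downwards -/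
theorem Hcomp_ne_bot_of_le (r : ℕ) (hr : ringKrullDim R = r) (h1 : 1 ≤ r)
    (I : GrLC.StarInjRes 𝒜 𝒜) (n n' : ℤ) (hnn : n' ≤ n) (hn : I.Hcomp m r n ≠ ⊥) :
    I.Hcomp m r n' ≠ ⊥ := by
  letI := gradedRing_toAdd 𝒜
  haveI := gradedSMul_self 𝒜
  intro h
  apply GrStd.Hcomp_ne_bot_of_le (toAdd 𝒜) (toAdd_neg_eq_bot 𝒜 hpos) (isField_deg0 𝒜 h0)
    (idealTo 𝒜 m) hm hstd r hr h1 (resToM 𝒜 (resSelf 𝒜 I)) n n' hnn
  · intro h'
    apply hn
    rw [Hcomp_to_eq_bot_iff] at h'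
    exact h'
  · rw [Hcomp_to_eq_bot_iff]
    exact h

end Std

section Main

theorem Hgr_eq_bot_iff {k : Type u} [Field k] {R : Type u} [CommRing R] [Algebra k R]
    (𝒜 : ℤ → Submodule k R) [GradedAlgebra 𝒜] (m : HomogeneousIdeal 𝒜) (I : GrLC.StarInjRes 𝒜 𝒜)
    (q : ℕ) (d : ℤ) : I.Hgr m q d = ⊥ ↔ I.Hcomp m q d = ⊥ := by
  constructor
  · intro h
    rw [Submodule.eq_bot_iff]
    intro x hx
    have h1 : x ∈ I.Hgr m q d := hx
    rw [h] at h1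
    exact h1
  · intro h
    change (I.Hcomp m q d).toAddSubgroup = ⊥
    rw [h]
    rfl

/-- **S18648**: the Segre product of two standard graded Cohen–Macaulay rings of dimensions
at least two is Cohen–Macaulay if and only if both a-invariants are negative -/
theorem cm_segre_std (k : Type u) [Field k] (R : Type u) [CommRing R] [Algebra k R]
    (𝒜 : ℤ → Submodule k R) [GradedAlgebra 𝒜] (hposR : ∀ n : ℤ, n < 0 → 𝒜 n = ⊥)
    (h0R : 𝒜 0 = Submodule.span k {(1 : R)}) [Algebra.FiniteType k R] (S : Type u) [CommRing S]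
    [Algebra k S] (ℬ : ℤ → Submodule k S) [GradedAlgebra ℬ]
    (hposS : ∀ n : ℤ, n < 0 → ℬ n = ⊥) (h0S : ℬ 0 = Submodule.span k {(1 : S)})
    [Algebra.FiniteType k S] (T : Type u) [CommRing T] [Algebra k T] (𝒯 : ℤ → Submodule k T)
    [GradedAlgebra 𝒯] (ψ : T →ₐ[k] TensorProduct k R S) (hψ : Function.Injective ψ)
    (hdegT : ∀ n : ℤ, (𝒯 n).map ψ.toLinearMap =
      Submodule.span k {x : TensorProduct k R S | ∃ a ∈ 𝒜 n, ∃ b ∈ ℬ n, x = a ⊗ₜ[k] b})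
    [LocCoh.IsCohenMacaulayRing R] [LocCoh.IsCohenMacaulayRing S] (mR : HomogeneousIdeal 𝒜)
    (hmR : mR.toIdeal = Ideal.span (⋃ n ∈ Set.Ioi (0 : ℤ), (𝒜 n : Set R)))
    (hstdR : Ideal.span (⋃ n ∈ Set.Ioi (0 : ℤ), (𝒜 n : Set R)) =
      Ideal.span ((𝒜 1 : Submodule k R) : Set R))
    (I : GrLC.StarInjRes 𝒜 𝒜) (mS : HomogeneousIdeal ℬ)
    (hmS : mS.toIdeal = Ideal.span (⋃ n ∈ Set.Ioi (0 : ℤ), (ℬ n : Set S)))
    (hstdS : Ideal.span (⋃ n ∈ Set.Ioi (0 : ℤ), (ℬ n : Set S)) =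
      Ideal.span ((ℬ 1 : Submodule k S) : Set S))
    (J : GrLC.StarInjRes ℬ ℬ) (r s : ℕ) (hr : ringKrullDim R = r) (hs : ringKrullDim S = s)
    (h2r : 2 ≤ r) (h2s : 2 ≤ s) :
    LocCoh.IsCohenMacaulayRing T ↔
      GrLC.endDeg (I.Hgr mR r) < 0 ∧ GrLC.endDeg (J.Hgr mS s) < 0 := by
  haveI : Nontrivial R := nontrivial_of_dim r hr
  haveI : Nontrivial S := nontrivial_of_dim s hs
  haveI : IsNoetherianRing R := Algebra.FiniteType.isNoetherianRing k R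
  haveI : IsNoetherianRing S := Algebra.FiniteType.isNoetherianRing k S
  have hT : GrSeg.IsSegreRing 𝒜 ℬ 𝒯 ψ := ⟨hψ, hdegT⟩
  haveI : IsNoetherianRing T :=
    Groth.Agent.S18646.result k R 𝒜 hposR h0R S ℬ hposS h0S T 𝒯 ψ hT.1 hT.2
  haveI : Nontrivial T := segre_nontrivial ψ
  have h0T : 𝒯 0 = Submodule.span k {(1 : T)} := segre_deg_zero hT h0R h0S
  have hposT : ∀ n : ℤ, n < 0 → 𝒯 n = ⊥ := segre_neg_eq_bot hT hposR
  obtain ⟨mT, hmT⟩ := exists_irrel 𝒯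
  obtain ⟨IT⟩ := nonempty_starInjRes_self 𝒯
  letI := gradedRing_toAdd 𝒜
  letI := gradedRing_toAdd ℬ
  letI := gradedRing_toAdd 𝒯
  haveI := gradedSMul_self 𝒜
  haveI := gradedSMul_self ℬ
  haveI := gradedSMul_self 𝒯
  rw [cmRing_iff_existsUnique 𝒯 hposT h0T mT hmT IT]
  have hRcm := (cmRing_iff_existsUnique 𝒜 hposR h0R mR hmR I).mp inferInstance
  have hScm := (cmRing_iff_existsUnique ℬ hposS h0S mS hmS J).mp inferInstance
  obtain ⟨dR, hdR⟩ := exists_Hcomp_top_ne_bot 𝒜 hposR h0R mR hmR r hr I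
  obtain ⟨dS, hdS⟩ := exists_Hcomp_top_ne_bot ℬ hposS h0S mS hmS s hs J
  have hRv : ∀ (q : ℕ) (d : ℤ), q ≠ r → I.Hcomp mR q d = ⊥ := by
    intro q d hq
    by_contra h
    obtain ⟨q0, _, huniq⟩ := hRcm
    have h1 := huniq q ⟨d, h⟩
    have h2 := huniq r ⟨dR, hdR⟩
    exact hq (h1.trans h2.symm)
  have hSv : ∀ (q : ℕ) (d : ℤ), q ≠ s → J.Hcomp mS q d = ⊥ := by
    intro q d hq
    by_contra h
    obtain ⟨q0, _, huniq⟩ := hScm
    have h1 := huniq q ⟨d, h⟩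
    have h2 := huniq s ⟨dS, hdS⟩
    exact hq (h1.trans h2.symm)
  have eR : ∀ (q : ℕ) (d : ℤ), I.Hcomp mR q d = ⊥ ↔
      Module.finrank (GrLC.deg0 𝒜) ↥(I.Hcomp mR q d) = 0 := fun q d =>
    Hcomp_eq_bot_iff_finrank 𝒜 (toAdd 𝒜) hposR h0R mR hmR (resSelf 𝒜 I) q d
  have eS : ∀ (q : ℕ) (d : ℤ), J.Hcomp mS q d = ⊥ ↔
      Module.finrank (GrLC.deg0 ℬ) ↥(J.Hcomp mS q d) = 0 := fun q d =>
    Hcomp_eq_bot_iff_finrank ℬ (toAdd ℬ) hposS h0S mS hmS (resSelf ℬ J) q d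
  have eT : ∀ (q : ℕ) (d : ℤ), IT.Hcomp mT q d = ⊥ ↔
      Module.finrank (GrLC.deg0 𝒯) ↥(IT.Hcomp mT q d) = 0 := fun q d =>
    Hcomp_eq_bot_iff_finrank 𝒯 (toAdd 𝒯) hposT h0T mT hmT (resSelf 𝒯 IT) q d
  have hK := fun (q : ℕ) (d : ℤ) => kunneth_rings k R 𝒜 hposR h0R S ℬ hposS h0S T 𝒯 ψ hψ hdegT
    mR hmR I mS hmS J mT hmT IT (fun q d hq => hRv q d (by omega))
    (fun q d hq => hSv q d (by omega)) q d
  have key := cm_segre_arith (fun d => Module.finrank k ↥(𝒜 d))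
    (fun d => Module.finrank k ↥(ℬ d))
    (fun q d => Module.finrank (GrLC.deg0 𝒜) ↥(I.Hcomp mR q d))
    (fun q d => Module.finrank (GrLC.deg0 ℬ) ↥(J.Hcomp mS q d))
    (fun q d => Module.finrank (GrLC.deg0 𝒯) ↥(IT.Hcomp mT q d)) r s h2r h2s hK
    (fun q d hq => (eR q d).mp (hRv q d hq)) (fun q d hq => (eS q d).mp (hSv q d hq))
    ⟨min dR dS, fun h => Hcomp_ne_bot_of_le 𝒜 hposR h0R mR hmR hstdR r hr (by omega) I dR
        (min dR dS) (min_le_left _ _) hdR ((eR _ _).mpr h),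
      fun h => Hcomp_ne_bot_of_le ℬ hposS h0S mS hmS hstdS s hs (by omega) J dS
        (min dR dS) (min_le_right _ _) hdS ((eS _ _).mpr h)⟩
    (fun d => finrank_piece_ne_zero_iff 𝒜 hposR h0R mR hmR hstdR r hr (by omega) d)
    (fun d => finrank_piece_ne_zero_iff ℬ hposS h0S mS hmS hstdS s hs (by omega) d)
  have e1 : (∃! q : ℕ, ∃ d : ℤ, IT.Hcomp mT q d ≠ ⊥) ↔
      ∃! q : ℕ, ∃ d : ℤ, Module.finrank (GrLC.deg0 𝒯) ↥(IT.Hcomp mT q d) ≠ 0 :=
    existsUnique_congr fun q => exists_congr fun d => not_congr (eT q d)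
  rw [e1, key, endDeg_neg_iff, endDeg_neg_iff]
  refine and_congr (forall_congr' fun d => imp_congr_right fun _ => ?_)
    (forall_congr' fun d => imp_congr_right fun _ => ?_)
  · rw [Hgr_eq_bot_iff, eR]
  · rw [Hgr_eq_bot_iff, eS]

end Main

end Seg

end Groth.Agent.H6
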