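import Groth.Agent.Lib.Helper6.SegLow3
import Groth.Agent.Lib.Helper6.SegCM4

/-! Cohen–Macaulayness of Segre products `R # S` of Cohen–Macaulay graded rings with `dim R = 1`. -/

universe u
open DirectSum TensorProduct
set_option linter.unusedSectionVars false

namespace Groth.Agent.H6

namespace Seg

open SegLA ToAdd

section Arith

theorem cm_segre_arith1 (a b : ℤ → ℕ) (hR hS F : ℕ → ℤ → ℕ) (s : ℕ) (h1s : 1 ≤ s)
    (hF : ∀ q d, F q d = a d * hS q d + hR q d * b d +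
      (Finset.range (q + 2)).sum (fun i => hR i d * hS (q + 1 - i) d))
    (hRv : ∀ q d, q ≠ 1 → hR q d = 0) (hSv : ∀ q d, q ≠ s → hS q d = 0)
    (htop : ∃ d, F s d ≠ 0) :
    (2 ≤ s → ((∃! q, ∃ d, F q d ≠ 0) ↔ ∀ d, hR 1 d * b d = 0)) ∧
      (s = 1 → ∃! q, ∃ d, F q d ≠ 0) := by
  have hF' : ∀ q d, F q d = a d * hS q d + hR q d * b d +
      if q + 1 = 1 + s then hR 1 d * hS s d else 0 := by
    intro q d
    rw [hF q d, sum_eq_ite (fun i => hR i d) (fun i => hS i d) 1 s h1s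
      (fun q hq => hRv q d hq) (fun q hq => hSv q d hq) q]
  obtain ⟨d0, hd0⟩ := htop
  constructor
  · intro h2s
    constructor
    · rintro ⟨q, ⟨d, hd⟩, huniq⟩
      have hq : s = q := huniq _ ⟨d0, hd0⟩
      intro d
      by_contra hne
      have : F 1 d ≠ 0 := by
        rw [hF']
        omega
      have := huniq 1 ⟨d, this⟩
      omega
    · intro h2
      refine ⟨s, ⟨d0, hd0⟩, ?_⟩
      rintro q ⟨d, hd⟩
      by_contra hq
      apply hd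
      rw [hF', if_neg (by omega)]
      have e1 : a d * hS q d = 0 := by
        rw [hSv q d hq, mul_zero]
      have e2 : hR q d * b d = 0 := by
        by_cases hqr : q = 1
        · rw [hqr, h2 d]
        · rw [hRv q d hqr, zero_mul]
      rw [e1, e2]
  · intro hs1
    subst hs1
    refine ⟨1, ⟨d0, hd0⟩, ?_⟩
    rintro q ⟨d, hd⟩
    by_contra hq
    apply hd
    rw [hF', if_neg (by omega), hSv q d hq, hRv q d hq]
    simp

end Arith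

section Main

/-- **S18663** -/
theorem cm_segre_dim1 (k : Type u) [Field k] (R : Type u) [CommRing R] [Algebra k R]
    (𝒜 : ℤ → Submodule k R) [GradedAlgebra 𝒜] (hposR : ∀ n : ℤ, n < 0 → 𝒜 n = ⊥)
    (h0R : 𝒜 0 = Submodule.span k {(1 : R)}) [Algebra.FiniteType k R] (S : Type u) [CommRing S]
    [Algebra k S] (ℬ : ℤ → Submodule k S) [GradedAlgebra ℬ]
    (hposS : ∀ n : ℤ, n < 0 → ℬ n = ⊥) (h0S : ℬ 0 = Submodule.span k {(1 : S)})
    [Algebra.FiniteType k S] (T : Type u) [CommRing T] [Algebra k T] (𝒯 : ℤ → Submodule k T)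
    [GradedAlgebra 𝒯] (ψ : T →ₐ[k] TensorProduct k R S) (hψ : Function.Injective ψ)
    (hdegT : ∀ n : ℤ, (𝒯 n).map ψ.toLinearMap =
      Submodule.span k {x : TensorProduct k R S | ∃ a ∈ 𝒜 n, ∃ b ∈ ℬ n, x = a ⊗ₜ[k] b})
    [LocCoh.IsCohenMacaulayRing R] [LocCoh.IsCohenMacaulayRing S] (mR : HomogeneousIdeal 𝒜)
    (hmR : mR.toIdeal = Ideal.span (⋃ n ∈ Set.Ioi (0 : ℤ), (𝒜 n : Set R)))
    (I : GrLC.StarInjRes 𝒜 𝒜) (hr : ringKrullDim R = 1) (s : ℕ) (hs : ringKrullDim S = s)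
    (h1s : 1 ≤ s) :
    (2 ≤ s → (LocCoh.IsCohenMacaulayRing T ↔ ∀ n : ℤ, I.Hcomp mR 1 n = ⊥ ∨ ℬ n = ⊥)) ∧
      (s = 1 → LocCoh.IsCohenMacaulayRing T) := by
  have hr' : ringKrullDim R = ((1 : ℕ) : WithBot ℕ∞) := by rw [hr]; rfl
  haveI : Nontrivial R := nontrivial_of_dim 1 hr'
  haveI : Nontrivial S := nontrivial_of_dim s hs
  haveI : IsNoetherianRing R := Algebra.FiniteType.isNoetherianRing k R
  haveI : IsNoetherianRing S := Algebra.FiniteType.isNoetherianRing k S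
  have hT : GrSeg.IsSegreRing 𝒜 ℬ 𝒯 ψ := ⟨hψ, hdegT⟩
  haveI : IsNoetherianRing T :=
    Groth.Agent.S18646.result k R 𝒜 hposR h0R S ℬ hposS h0S T 𝒯 ψ hT.1 hT.2
  haveI : Nontrivial T := segre_nontrivial ψ
  have h0T : 𝒯 0 = Submodule.span k {(1 : T)} := segre_deg_zero hT h0R h0S
  have hposT : ∀ n : ℤ, n < 0 → 𝒯 n = ⊥ := segre_neg_eq_bot hT hposR
  obtain ⟨mT, hmT⟩ := exists_irrel 𝒯
  obtain ⟨IT⟩ := nonempty_starInjRes_self 𝒯
  obtain ⟨mS, hmS⟩ := exists_irrel ℬ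
  obtain ⟨J⟩ := nonempty_starInjRes_self ℬ
  letI := gradedRing_toAdd 𝒜
  letI := gradedRing_toAdd ℬ
  letI := gradedRing_toAdd 𝒯
  haveI := gradedSMul_self 𝒜
  haveI := gradedSMul_self ℬ
  haveI := gradedSMul_self 𝒯
  rw [cmRing_iff_existsUnique 𝒯 hposT h0T mT hmT IT]
  have hRcm := (cmRing_iff_existsUnique 𝒜 hposR h0R mR hmR I).mp inferInstance
  have hScm := (cmRing_iff_existsUnique ℬ hposS h0S mS hmS J).mp inferInstance
  obtain ⟨dR, hdR⟩ := exists_Hcomp_top_ne_bot 𝒜 hposR h0R mR hmR 1 hr' I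
  obtain ⟨dS, hdS⟩ := exists_Hcomp_top_ne_bot ℬ hposS h0S mS hmS s hs J
  have hRv : ∀ (q : ℕ) (d : ℤ), q ≠ 1 → I.Hcomp mR q d = ⊥ := by
    intro q d hq
    by_contra h
    obtain ⟨q0, _, huniq⟩ := hRcm
    have h1 := huniq q ⟨d, h⟩
    have h2 := huniq 1 ⟨dR, hdR⟩
    exact hq (h1.trans h2.symm)
  have hSv : ∀ (q : ℕ) (d : ℤ), q ≠ s → J.Hcomp mS q d = ⊥ := by
    intro q d hq
    by_contra h
    obtain ⟨q0, _, huniq⟩ := hScm
    have h1 := huniq q ⟨d, h⟩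
    have h2 := huniq s ⟨dS, hdS⟩
    exact hq (h1.trans h2.symm)
  have eR : ∀ (q : ℕ) (d : ℤ), I.Hcomp mR q d = ⊥ ↔
      Module.finrank (GrLC.deg0 𝒜) ↥(I.Hcomp mR q d) = 0 := fun q d =>
    Hcomp_eq_bot_iff_finrank 𝒜 (toAdd 𝒜) hposR h0R mR hmR (resSelf 𝒜 I) q d
  have eS : ∀ (q : ℕ) (d : ℤ), J.Hcomp mS q d = ⊥ ↔
      Module.finrank (GrLC.deg0 ℬ) ↥(J.Hcomp mS q d) = 0 := fun q d =>
    Hcomp_eq_bot_iff_finrank ℬ (toAdd ℬ) hposS h0S mS hmS (resSelf ℬ J) q d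
  have eT : ∀ (q : ℕ) (d : ℤ), IT.Hcomp mT q d = ⊥ ↔
      Module.finrank (GrLC.deg0 𝒯) ↥(IT.Hcomp mT q d) = 0 := fun q d =>
    Hcomp_eq_bot_iff_finrank 𝒯 (toAdd 𝒯) hposT h0T mT hmT (resSelf 𝒯 IT) q d
  have hK := fun (q : ℕ) (d : ℤ) => kunneth_rings_depth1 k R 𝒜 hposR h0R S ℬ hposS h0S T 𝒯 ψ hT
    mR hmR I mS hmS J mT hmT IT d (hRv 0 d (by omega)) (hSv 0 d (by omega)) q
  have hdimT := dim_segre k R 𝒜 hposR h0R S ℬ hposS h0S T 𝒯 ψ hT 1 s hr' hs le_rfl h1s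
  obtain ⟨dT, hdT⟩ := exists_Hcomp_top_ne_bot 𝒯 hposT h0T mT hmT (1 + s - 1) hdimT IT
  have e1s : 1 + s - 1 = s := by omega
  rw [e1s] at hdT
  have key := cm_segre_arith1 (fun d => Module.finrank k ↥(𝒜 d))
    (fun d => Module.finrank k ↥(ℬ d))
    (fun q d => Module.finrank (GrLC.deg0 𝒜) ↥(I.Hcomp mR q d))
    (fun q d => Module.finrank (GrLC.deg0 ℬ) ↥(J.Hcomp mS q d))
    (fun q d => Module.finrank (GrLC.deg0 𝒯) ↥(IT.Hcomp mT q d)) s h1s hK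
    (fun q d hq => (eR q d).mp (hRv q d hq)) (fun q d hq => (eS q d).mp (hSv q d hq))
    ⟨dT, fun h => hdT ((eT _ _).mpr h)⟩
  have e1 : (∃! q : ℕ, ∃ d : ℤ, IT.Hcomp mT q d ≠ ⊥) ↔
      ∃! q : ℕ, ∃ d : ℤ, Module.finrank (GrLC.deg0 𝒯) ↥(IT.Hcomp mT q d) ≠ 0 :=
    existsUnique_congr fun q => exists_congr fun d => not_congr (eT q d)
  rw [e1]
  refine ⟨fun h2s => ?_, key.2⟩
  rw [key.1 h2s]
  refine forall_congr' fun d => ?_
  change Module.finrank (GrLC.deg0 𝒜) ↥(I.Hcomp mR 1 d) * Module.finrank k ↥(ℬ d) = 0 ↔ _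
  rw [Nat.mul_eq_zero, finrank_piece_eq_zero_iff ℬ hposS h0S mS hmS d, eR]

end Main

end Seg

end Groth.Agent.H6
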