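import Groth.Agent.Lib.Helper6.SegCMMod1

/-! Cohen–Macaulayness of Segre products of Cohen–Macaulay modules. -/

universe u
open DirectSum TensorProduct
set_option linter.unusedSectionVars false

namespace Groth.Agent.H6

namespace Seg

open SegLA ToAdd

/-- **S19755** -/
theorem segre_cm_iff_mod (k : Type u) [Field k] (R : Type u) [CommRing R] [Algebra k R]
    (𝒜 : ℤ → Submodule k R) [GradedAlgebra 𝒜] (hposR : ∀ n : ℤ, n < 0 → 𝒜 n = ⊥)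
    (h0R : 𝒜 0 = Submodule.span k {(1 : R)}) [Algebra.FiniteType k R] (S : Type u) [CommRing S]
    [Algebra k S] (ℬ : ℤ → Submodule k S) [GradedAlgebra ℬ]
    (hposS : ∀ n : ℤ, n < 0 → ℬ n = ⊥) (h0S : ℬ 0 = Submodule.span k {(1 : S)})
    [Algebra.FiniteType k S] (T : Type u) [CommRing T] [Algebra k T] (𝒯 : ℤ → Submodule k T)
    [GradedAlgebra 𝒯] (ψ : T →ₐ[k] TensorProduct k R S) (hT : GrSeg.IsSegreRing 𝒜 ℬ 𝒯 ψ)
    (mR : HomogeneousIdeal 𝒜)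
    (hmR : mR.toIdeal = Ideal.span (⋃ n ∈ Set.Ioi (0 : ℤ), (𝒜 n : Set R)))
    (mS : HomogeneousIdeal ℬ)
    (hmS : mS.toIdeal = Ideal.span (⋃ n ∈ Set.Ioi (0 : ℤ), (ℬ n : Set S)))
    (M : Type u) [AddCommGroup M] [Module R M] [Module k M] [IsScalarTower k R M]
    (ℳ : ℤ → AddSubgroup M) [DirectSum.Decomposition ℳ] [SetLike.GradedSMul 𝒜 ℳ]
    [Module.Finite R M] (EM : GrLC.StarInjRes 𝒜 ℳ)
    (N : Type u) [AddCommGroup N] [Module S N] [Module k N] [IsScalarTower k S N]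
    (𝒩 : ℤ → AddSubgroup N) [DirectSum.Decomposition 𝒩] [SetLike.GradedSMul ℬ 𝒩]
    [Module.Finite S N] (EN : GrLC.StarInjRes ℬ 𝒩)
    (P : Type u) [AddCommGroup P] [Module T P] [Module k P] [IsScalarTower k T P]
    (𝒬 : ℤ → AddSubgroup P) [DirectSum.Decomposition 𝒬]
    (φ : P →ₗ[k] TensorProduct k M N) (hP : GrSeg.IsSegreMod ψ ℳ 𝒩 𝒬 φ) [Nontrivial P]
    (r s : ℕ) (h2r : 2 ≤ r) (h2s : 2 ≤ s)
    (hdM : Module.supportDim R M = r) (hdN : Module.supportDim S N = s)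
    (hMcm : ∀ (q : Ideal R) [q.IsPrime], Subsingleton (LocalizedModule q.primeCompl M) ∨
      LocCoh.IsCohenMacaulayModule (Localization.AtPrime q) (LocalizedModule q.primeCompl M))
    (hNcm : ∀ (q : Ideal S) [q.IsPrime], Subsingleton (LocalizedModule q.primeCompl N) ∨
      LocCoh.IsCohenMacaulayModule (Localization.AtPrime q) (LocalizedModule q.primeCompl N)) :
    (∀ (q : Ideal T) [q.IsPrime], Subsingleton (LocalizedModule q.primeCompl P) ∨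
      LocCoh.IsCohenMacaulayModule (Localization.AtPrime q) (LocalizedModule q.primeCompl P)) ↔
      (∀ d : ℤ, ℳ d = ⊥ ∨ EN.Hcomp mS s d = ⊥) ∧ (∀ d : ℤ, EM.Hcomp mR r d = ⊥ ∨ 𝒩 d = ⊥) := by
  haveI : Nontrivial M := by
    rw [← Module.supportDim_ne_bot_iff_nontrivial R, hdM]
    exact WithBot.coe_ne_bot
  haveI : Nontrivial N := by
    rw [← Module.supportDim_ne_bot_iff_nontrivial S, hdN]
    exact WithBot.coe_ne_bot
  haveI : Nontrivial R := Module.nontrivial R M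
  haveI : Nontrivial S := Module.nontrivial S N
  haveI : IsNoetherianRing R := Algebra.FiniteType.isNoetherianRing k R
  haveI : IsNoetherianRing S := Algebra.FiniteType.isNoetherianRing k S
  haveI : IsNoetherianRing T :=
    Groth.Agent.S18646.result k R 𝒜 hposR h0R S ℬ hposS h0S T 𝒯 ψ hT.1 hT.2
  haveI : Nontrivial T := segre_nontrivial ψ
  have h0T : 𝒯 0 = Submodule.span k {(1 : T)} := segre_deg_zero hT h0R h0S
  have hposT : ∀ n : ℤ, n < 0 → 𝒯 n = ⊥ := segre_neg_eq_bot hT hposR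
  haveI : Module.Finite T P := Groth.Agent.S19747.result k R 𝒜 hposR h0R S ℬ hposS h0S T 𝒯 ψ hT
    M ℳ N 𝒩 P 𝒬 φ hP
  haveI : SetLike.GradedSMul 𝒯 𝒬 := Groth.Agent.H9.SegreBij.gradedSMul 𝒜 ℬ 𝒯 ψ ℳ 𝒩 𝒬 φ hT hP
  obtain ⟨mT, hmT⟩ := exists_irrel 𝒯
  letI := gradedRing_toAdd 𝒜
  letI := gradedRing_toAdd ℬ
  letI := gradedRing_toAdd 𝒯
  haveI := gradedSMul_to 𝒜 ℳ
  haveI := gradedSMul_to ℬ 𝒩
  haveI := gradedSMul_to 𝒯 𝒬
  obtain ⟨EP⟩ := nonempty_starInjRes 𝒯 𝒬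
  rw [cm_iff_existsUnique 𝒯 hposT h0T mT hmT 𝒬 EP]
  have hMv := Hcomp_eq_bot_of_cm 𝒜 hposR h0R mR hmR ℳ EM r hdM hMcm
  have hNv := Hcomp_eq_bot_of_cm ℬ hposS h0S mS hmS 𝒩 EN s hdN hNcm
  have hK := kunneth_cm_mod k R 𝒜 hposR h0R S ℬ hposS h0S T 𝒯 ψ hT mR hmR mS hmS mT hmT M ℳ EM
    N 𝒩 EN P 𝒬 φ hP EP r s (by omega) (by omega) hdM hdN hMcm hNcm
  obtain ⟨-, dT, hdT⟩ := dim_segre_cm_mod k R 𝒜 hposR h0R S ℬ hposS h0S T 𝒯 ψ hT mR hmR mS hmS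
    mT hmT M ℳ EM N 𝒩 EN P 𝒬 φ hP EP r s (by omega) (by omega) hdM hdN hMcm hNcm
  have eR : ∀ (q : ℕ) (d : ℤ), EM.Hcomp mR q d = ⊥ ↔
      Module.finrank (GrLC.deg0 𝒜) ↥(EM.Hcomp mR q d) = 0 := fun q d =>
    Hcomp_eq_bot_iff_finrank 𝒜 ℳ hposR h0R mR hmR EM q d
  have eS : ∀ (q : ℕ) (d : ℤ), EN.Hcomp mS q d = ⊥ ↔
      Module.finrank (GrLC.deg0 ℬ) ↥(EN.Hcomp mS q d) = 0 := fun q d =>
    Hcomp_eq_bot_iff_finrank ℬ 𝒩 hposS h0S mS hmS EN q d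
  have eT : ∀ (q : ℕ) (d : ℤ), EP.Hcomp mT q d = ⊥ ↔
      Module.finrank (GrLC.deg0 𝒯) ↥(EP.Hcomp mT q d) = 0 := fun q d =>
    Hcomp_eq_bot_iff_finrank 𝒯 𝒬 hposT h0T mT hmT EP q d
  have key := cm_segre_arith_ite (fun d => Module.finrank (GrLC.deg0 𝒜) ↥(GrLC.comp 𝒜 ℳ d))
    (fun d => Module.finrank (GrLC.deg0 ℬ) ↥(GrLC.comp ℬ 𝒩 d))
    (fun q d => Module.finrank (GrLC.deg0 𝒜) ↥(EM.Hcomp mR q d))
    (fun q d => Module.finrank (GrLC.deg0 ℬ) ↥(EN.Hcomp mS q d))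
    (fun q d => Module.finrank (GrLC.deg0 𝒯) ↥(EP.Hcomp mT q d)) r s h2r h2s hK
    (fun q d hq => (eR q d).mp (hMv q d hq)) (fun q d hq => (eS q d).mp (hNv q d hq))
    ⟨dT, fun h => hdT ((eT _ _).mpr h)⟩
  have e1 : (∃! q : ℕ, ∃ d : ℤ, EP.Hcomp mT q d ≠ ⊥) ↔
      ∃! q : ℕ, ∃ d : ℤ, Module.finrank (GrLC.deg0 𝒯) ↥(EP.Hcomp mT q d) ≠ 0 :=
    existsUnique_congr fun q => exists_congr fun d => not_congr (eT q d)
  rw [e1, key]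
  refine and_congr (forall_congr' fun d => ?_) (forall_congr' fun d => ?_)
  · change Module.finrank (GrLC.deg0 𝒜) ↥(GrLC.comp 𝒜 ℳ d) *
      Module.finrank (GrLC.deg0 ℬ) ↥(EN.Hcomp mS s d) = 0 ↔ _
    rw [Nat.mul_eq_zero, finrank_comp_eq_zero_iff 𝒜 hposR h0R mR hmR ℳ d, eS]
  · change Module.finrank (GrLC.deg0 𝒜) ↥(EM.Hcomp mR r d) *
      Module.finrank (GrLC.deg0 ℬ) ↥(GrLC.comp ℬ 𝒩 d) = 0 ↔ _
    rw [Nat.mul_eq_zero, finrank_comp_eq_zero_iff ℬ hposS h0S mS hmS 𝒩 d, eR]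

/-- **S19756** -/
theorem segre_cm_dim1_mod (k : Type u) [Field k] (R : Type u) [CommRing R] [Algebra k R]
    (𝒜 : ℤ → Submodule k R) [GradedAlgebra 𝒜] (hposR : ∀ n : ℤ, n < 0 → 𝒜 n = ⊥)
    (h0R : 𝒜 0 = Submodule.span k {(1 : R)}) [Algebra.FiniteType k R] (S : Type u) [CommRing S]
    [Algebra k S] (ℬ : ℤ → Submodule k S) [GradedAlgebra ℬ]
    (hposS : ∀ n : ℤ, n < 0 → ℬ n = ⊥) (h0S : ℬ 0 = Submodule.span k {(1 : S)})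
    [Algebra.FiniteType k S] (T : Type u) [CommRing T] [Algebra k T] (𝒯 : ℤ → Submodule k T)
    [GradedAlgebra 𝒯] (ψ : T →ₐ[k] TensorProduct k R S) (hT : GrSeg.IsSegreRing 𝒜 ℬ 𝒯 ψ)
    (mR : HomogeneousIdeal 𝒜)
    (hmR : mR.toIdeal = Ideal.span (⋃ n ∈ Set.Ioi (0 : ℤ), (𝒜 n : Set R)))
    (M : Type u) [AddCommGroup M] [Module R M] [Module k M] [IsScalarTower k R M]
    (ℳ : ℤ → AddSubgroup M) [DirectSum.Decomposition ℳ] [SetLike.GradedSMul 𝒜 ℳ]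
    [Module.Finite R M] (EM : GrLC.StarInjRes 𝒜 ℳ)
    (N : Type u) [AddCommGroup N] [Module S N] [Module k N] [IsScalarTower k S N]
    (𝒩 : ℤ → AddSubgroup N) [DirectSum.Decomposition 𝒩] [SetLike.GradedSMul ℬ 𝒩]
    [Module.Finite S N]
    (P : Type u) [AddCommGroup P] [Module T P] [Module k P] [IsScalarTower k T P]
    (𝒬 : ℤ → AddSubgroup P) [DirectSum.Decomposition 𝒬]
    (φ : P →ₗ[k] TensorProduct k M N) (hP : GrSeg.IsSegreMod ψ ℳ 𝒩 𝒬 φ) [Nontrivial P]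
    (s : ℕ) (h1s : 1 ≤ s)
    (hdM : Module.supportDim R M = 1) (hdN : Module.supportDim S N = s)
    (hMcm : ∀ (q : Ideal R) [q.IsPrime], Subsingleton (LocalizedModule q.primeCompl M) ∨
      LocCoh.IsCohenMacaulayModule (Localization.AtPrime q) (LocalizedModule q.primeCompl M))
    (hNcm : ∀ (q : Ideal S) [q.IsPrime], Subsingleton (LocalizedModule q.primeCompl N) ∨
      LocCoh.IsCohenMacaulayModule (Localization.AtPrime q) (LocalizedModule q.primeCompl N)) :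
    (2 ≤ s → ((∀ (q : Ideal T) [q.IsPrime], Subsingleton (LocalizedModule q.primeCompl P) ∨
      LocCoh.IsCohenMacaulayModule (Localization.AtPrime q) (LocalizedModule q.primeCompl P)) ↔
        ∀ d : ℤ, EM.Hcomp mR 1 d = ⊥ ∨ 𝒩 d = ⊥)) ∧
    (s = 1 → (∀ (q : Ideal T) [q.IsPrime], Subsingleton (LocalizedModule q.primeCompl P) ∨
      LocCoh.IsCohenMacaulayModule (Localization.AtPrime q)
        (LocalizedModule q.primeCompl P))) := by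
  have hdM' : Module.supportDim R M = ((1 : ℕ) : WithBot ℕ∞) := by rw [hdM]; rfl
  haveI : Nontrivial M := by
    rw [← Module.supportDim_ne_bot_iff_nontrivial R, hdM']
    exact WithBot.coe_ne_bot
  haveI : Nontrivial N := by
    rw [← Module.supportDim_ne_bot_iff_nontrivial S, hdN]
    exact WithBot.coe_ne_bot
  haveI : Nontrivial R := Module.nontrivial R M
  haveI : Nontrivial S := Module.nontrivial S N
  haveI : IsNoetherianRing R := Algebra.FiniteType.isNoetherianRing k R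
  haveI : IsNoetherianRing S := Algebra.FiniteType.isNoetherianRing k S
  haveI : IsNoetherianRing T :=
    Groth.Agent.S18646.result k R 𝒜 hposR h0R S ℬ hposS h0S T 𝒯 ψ hT.1 hT.2
  haveI : Nontrivial T := segre_nontrivial ψ
  have h0T : 𝒯 0 = Submodule.span k {(1 : T)} := segre_deg_zero hT h0R h0S
  have hposT : ∀ n : ℤ, n < 0 → 𝒯 n = ⊥ := segre_neg_eq_bot hT hposR
  haveI : Module.Finite T P := Groth.Agent.S19747.result k R 𝒜 hposR h0R S ℬ hposS h0S T 𝒯 ψ hT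
    M ℳ N 𝒩 P 𝒬 φ hP
  haveI : SetLike.GradedSMul 𝒯 𝒬 := Groth.Agent.H9.SegreBij.gradedSMul 𝒜 ℬ 𝒯 ψ ℳ 𝒩 𝒬 φ hT hP
  obtain ⟨mT, hmT⟩ := exists_irrel 𝒯
  obtain ⟨mS, hmS⟩ := exists_irrel ℬ
  letI := gradedRing_toAdd 𝒜
  letI := gradedRing_toAdd ℬ
  letI := gradedRing_toAdd 𝒯
  haveI := gradedSMul_to 𝒜 ℳ
  haveI := gradedSMul_to ℬ 𝒩
  haveI := gradedSMul_to 𝒯 𝒬
  obtain ⟨EP⟩ := nonempty_starInjRes 𝒯 𝒬
  obtain ⟨EN⟩ := nonempty_starInjRes ℬ 𝒩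
  rw [cm_iff_existsUnique 𝒯 hposT h0T mT hmT 𝒬 EP]
  have hMv := Hcomp_eq_bot_of_cm 𝒜 hposR h0R mR hmR ℳ EM 1 hdM' hMcm
  have hNv := Hcomp_eq_bot_of_cm ℬ hposS h0S mS hmS 𝒩 EN s hdN hNcm
  have hK := kunneth_cm_mod k R 𝒜 hposR h0R S ℬ hposS h0S T 𝒯 ψ hT mR hmR mS hmS mT hmT M ℳ EM
    N 𝒩 EN P 𝒬 φ hP EP 1 s le_rfl h1s hdM' hdN hMcm hNcm
  obtain ⟨-, dT, hdT⟩ := dim_segre_cm_mod k R 𝒜 hposR h0R S ℬ hposS h0S T 𝒯 ψ hT mR hmR mS hmS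
    mT hmT M ℳ EM N 𝒩 EN P 𝒬 φ hP EP 1 s le_rfl h1s hdM' hdN hMcm hNcm
  have eR : ∀ (q : ℕ) (d : ℤ), EM.Hcomp mR q d = ⊥ ↔
      Module.finrank (GrLC.deg0 𝒜) ↥(EM.Hcomp mR q d) = 0 := fun q d =>
    Hcomp_eq_bot_iff_finrank 𝒜 ℳ hposR h0R mR hmR EM q d
  have eS : ∀ (q : ℕ) (d : ℤ), EN.Hcomp mS q d = ⊥ ↔
      Module.finrank (GrLC.deg0 ℬ) ↥(EN.Hcomp mS q d) = 0 := fun q d =>
    Hcomp_eq_bot_iff_finrank ℬ 𝒩 hposS h0S mS hmS EN q d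
  have eT : ∀ (q : ℕ) (d : ℤ), EP.Hcomp mT q d = ⊥ ↔
      Module.finrank (GrLC.deg0 𝒯) ↥(EP.Hcomp mT q d) = 0 := fun q d =>
    Hcomp_eq_bot_iff_finrank 𝒯 𝒬 hposT h0T mT hmT EP q d
  have key := cm_segre_arith1_ite (fun d => Module.finrank (GrLC.deg0 𝒜) ↥(GrLC.comp 𝒜 ℳ d))
    (fun d => Module.finrank (GrLC.deg0 ℬ) ↥(GrLC.comp ℬ 𝒩 d))
    (fun q d => Module.finrank (GrLC.deg0 𝒜) ↥(EM.Hcomp mR q d))
    (fun q d => Module.finrank (GrLC.deg0 ℬ) ↥(EN.Hcomp mS q d))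
    (fun q d => Module.finrank (GrLC.deg0 𝒯) ↥(EP.Hcomp mT q d)) s h1s hK
    (fun q d hq => (eR q d).mp (hMv q d hq)) (fun q d hq => (eS q d).mp (hNv q d hq))
    ⟨dT, fun h => hdT ((eT _ _).mpr h)⟩
  have e1 : (∃! q : ℕ, ∃ d : ℤ, EP.Hcomp mT q d ≠ ⊥) ↔
      ∃! q : ℕ, ∃ d : ℤ, Module.finrank (GrLC.deg0 𝒯) ↥(EP.Hcomp mT q d) ≠ 0 :=
    existsUnique_congr fun q => exists_congr fun d => not_congr (eT q d)
  rw [e1]
  refine ⟨fun h2s => ?_, key.2⟩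
  rw [key.1 h2s]
  refine forall_congr' fun d => ?_
  change Module.finrank (GrLC.deg0 𝒜) ↥(EM.Hcomp mR 1 d) *
    Module.finrank (GrLC.deg0 ℬ) ↥(GrLC.comp ℬ 𝒩 d) = 0 ↔ _
  rw [Nat.mul_eq_zero, finrank_comp_eq_zero_iff ℬ hposS h0S mS hmS 𝒩 d, eR]

end Seg

end Groth.Agent.H6
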