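import Groth.Agent.Lib.Helper6.SegShift1
import Groth.Agent.Lib.Helper6.SegCM3
import Groth.Agent.Lib.Helper6.LCCd

/-! The dimension of a Segre product: lower bound (dimensions at least two). -/

universe u
open DirectSum TensorProduct
set_option linter.unusedSectionVars false

namespace Groth.Agent.H6

namespace Seg

open SegLA ToAdd

section Van

variable {k : Type u} [Field k] {R : Type u} [CommRing R] [Algebra k R]
  (𝒜 : ℤ → Submodule k R) [GradedAlgebra 𝒜] [GradedRing (toAdd 𝒜)]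
variable {M : Type u} [AddCommGroup M] [Module R M] (ℳ : ℤ → AddSubgroup M)
  [DirectSum.Decomposition ℳ] [SetLike.GradedSMul 𝒜 ℳ] [SetLike.GradedSMul (toAdd 𝒜) ℳ]

/-- Grothendieck vanishing for arbitrary graded modules, in terms of the dimension of the ring -/
theorem Hcomp_eq_bot_of_ringKrullDim_lt [IsNoetherianRing R]
    (E : GrLC.StarInjRes 𝒜 ℳ) (a : HomogeneousIdeal 𝒜) (n i : ℕ)
    (hn : ringKrullDim R ≤ (n : WithBot ℕ∞)) (hi : n < i) (d : ℤ) : E.Hcomp a i d = ⊥ := by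
  obtain ⟨e⟩ := Gr.nonempty_H_equiv (toAdd 𝒜) ℳ (resToM 𝒜 E) (idealTo 𝒜 a) i
  have hcd : LocCoh.CdLE R (idealTo 𝒜 a).toIdeal n := by
    apply LC.cdLE_of_ring
    intro j hj
    apply LC.subsingleton_of_supportDim_lt
    rw [Module.supportDim_self_eq_ringKrullDim]
    exact lt_of_le_of_lt hn (by exact_mod_cast hj)
  haveI : Subsingleton (LocCoh.H (idealTo 𝒜 a).toIdeal i M) := hcd M i hi
  haveI : Subsingleton ((resToM 𝒜 E).H (idealTo 𝒜 a) i) := e.toEquiv.subsingleton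
  rw [eq_bot_iff]
  intro x _
  rw [Submodule.mem_bot]
  exact Subsingleton.elim (α := (resToM 𝒜 E).H (idealTo 𝒜 a) i) x 0

end Van

section Lower

theorem Hcomp_shift_ne_bot {k : Type u} [Field k] {S : Type u} [CommRing S] [Algebra k S]
    (ℬ : ℤ → Submodule k S) [GradedAlgebra ℬ] [GradedRing (toAdd ℬ)]
    [SetLike.GradedSMul ℬ (toAdd ℬ)] (mS : HomogeneousIdeal ℬ) (J : GrLC.StarInjRes ℬ ℬ)
    (d : ℤ) (q : ℕ) (n : ℤ) (h : J.Hcomp mS q (n - d) ≠ ⊥) :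
    (Gr.shiftRes (resToM ℬ (resSelf ℬ J)) d).Hcomp (idealTo ℬ mS) q n ≠ ⊥ := by
  intro hbot
  apply h
  rw [Submodule.eq_bot_iff] at hbot ⊢
  intro x hx
  exact hbot x hx

end Lower

section Main

/-- the lower bound for the dimension of a Segre product -/
theorem le_dim_segre (k : Type u) [Field k] (R : Type u) [CommRing R] [Algebra k R]
    (𝒜 : ℤ → Submodule k R) [GradedAlgebra 𝒜] (hposR : ∀ n : ℤ, n < 0 → 𝒜 n = ⊥)
    (h0R : 𝒜 0 = Submodule.span k {(1 : R)}) [Algebra.FiniteType k R] (S : Type u) [CommRing S]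
    [Algebra k S] (ℬ : ℤ → Submodule k S) [GradedAlgebra ℬ]
    (hposS : ∀ n : ℤ, n < 0 → ℬ n = ⊥) (h0S : ℬ 0 = Submodule.span k {(1 : S)})
    [Algebra.FiniteType k S] (T : Type u) [CommRing T] [Algebra k T] (𝒯 : ℤ → Submodule k T)
    [GradedAlgebra 𝒯] (ψ : T →ₐ[k] TensorProduct k R S) (hT : GrSeg.IsSegreRing 𝒜 ℬ 𝒯 ψ)
    (r s : ℕ) (hr : ringKrullDim R = r) (hs : ringKrullDim S = s) (h2r : 2 ≤ r) (h2s : 2 ≤ s)
    (n : ℕ) (hn : ringKrullDim T ≤ (n : WithBot ℕ∞)) : r + s - 1 ≤ n := by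
  haveI : Nontrivial R := nontrivial_of_dim r hr
  haveI : Nontrivial S := nontrivial_of_dim s hs
  haveI : IsNoetherianRing R := Algebra.FiniteType.isNoetherianRing k R
  haveI : IsNoetherianRing S := Algebra.FiniteType.isNoetherianRing k S
  haveI : IsNoetherianRing T :=
    Groth.Agent.S18646.result k R 𝒜 hposR h0R S ℬ hposS h0S T 𝒯 ψ hT.1 hT.2
  haveI : Nontrivial T := segre_nontrivial ψ
  obtain ⟨mR, hmR⟩ := exists_irrel 𝒜
  obtain ⟨mS, hmS⟩ := exists_irrel ℬ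
  obtain ⟨mT, hmT⟩ := exists_irrel 𝒯
  obtain ⟨I⟩ := nonempty_starInjRes_self 𝒜
  obtain ⟨J⟩ := nonempty_starInjRes_self ℬ
  obtain ⟨dR, hdR⟩ := exists_Hcomp_top_ne_bot 𝒜 hposR h0R mR hmR r hr I
  obtain ⟨dS, hdS⟩ := exists_Hcomp_top_ne_bot ℬ hposS h0S mS hmS s hs J
  letI := gradedRing_toAdd 𝒜
  letI := gradedRing_toAdd ℬ
  letI := gradedRing_toAdd 𝒯
  haveI := gradedSMul_self 𝒜
  haveI := gradedSMul_self ℬ
  -- the shifted module
  let d : ℤ := dR - dS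
  letI := shDecomposition hT d
  haveI := sh_gradedSMul hT d
  haveI := gradedSMul_to 𝒯 (shQ hT d)
  letI := Gr.shiftDecomposition (toAdd ℬ) d
  haveI := Gr.shift_gradedSMul (toAdd ℬ) (toAdd ℬ) d
  haveI := gradedSMul_of ℬ (Gr.shiftGr (toAdd ℬ) d)
  have hP := sh_isSegreMod hT d
  obtain ⟨EP⟩ := nonempty_starInjRes 𝒯 (shQ hT d)
  let EN : GrLC.StarInjRes ℬ (Gr.shiftGr (toAdd ℬ) d) :=
    resOfM ℬ (Gr.shiftRes (resToM ℬ (resSelf ℬ J)) d)
  have key := kunneth_top_modules k R 𝒜 hposR h0R S ℬ hposS h0S T 𝒯 ψ hT mR hmR mS hmS mT hmT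
    R (toAdd 𝒜) (resSelf 𝒜 I) S (Gr.shiftGr (toAdd ℬ) d) EN (ShP hT d) (shQ hT d) (shφ hT d) hP EP
    r s h2r h2s (by rw [Module.supportDim_self_eq_ringKrullDim, hr])
    (by rw [Module.supportDim_self_eq_ringKrullDim, hs]) dR
  by_contra hlt
  rw [not_le] at hlt
  have hv := Hcomp_eq_bot_of_ringKrullDim_lt 𝒯 (shQ hT d) EP mT n (r + s - 1) hn hlt dR
  rw [hv, finrank_bot] at key
  have h1 : Module.finrank (GrLC.deg0 𝒜) ↥((resSelf 𝒜 I).Hcomp mR r dR) ≠ 0 := by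
    intro h
    exact hdR ((Hcomp_eq_bot_iff_finrank 𝒜 (toAdd 𝒜) hposR h0R mR hmR (resSelf 𝒜 I) r dR).mpr h)
  have h2 : Module.finrank (GrLC.deg0 ℬ) ↥(EN.Hcomp mS s dR) ≠ 0 := by
    intro h
    have h3 := (Hcomp_eq_bot_iff_finrank ℬ (Gr.shiftGr (toAdd ℬ) d) hposS h0S mS hmS EN s dR).mpr h
    have h4 : J.Hcomp mS s (dR - d) ≠ ⊥ := by
      have : dR - d = dS := by simp only [d]; ring
      rw [this]
      exact hdS
    apply Hcomp_shift_ne_bot ℬ mS J d s dR h4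
    rw [Submodule.eq_bot_iff] at h3 ⊢
    intro x hx
    exact h3 x hx
  exact Nat.mul_ne_zero h1 h2 key.symm

end Main

end Seg

end Groth.Agent.H6
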