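import Groth.Agent.Lib.Helper6.SegDim1
import Groth.Agent.Lib.Helper6.GrDim

/-! The dimension of a Segre product (dimensions at least two). -/

universe u
open DirectSum TensorProduct
set_option linter.unusedSectionVars false

namespace Groth.Agent.H6

namespace Gr

theorem exists_ringKrullDim_eq {R : Type u} [CommRing R] [IsNoetherianRing R] [Nontrivial R]
    (𝒜 : ℤ → AddSubgroup R) [GradedRing 𝒜] (hpos : ∀ n : ℤ, n < 0 → 𝒜 n = ⊥)
    (h0 : IsField (GrLC.deg0 𝒜)) : ∃ n : ℕ, ringKrullDim R = (n : WithBot ℕ∞) := by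
  haveI hft := finiteType_deg0 𝒜 hpos _ rfl
  obtain ⟨n, f, hf⟩ := Algebra.FiniteType.iff_quotient_mvPolynomial''.mp hft
  have h1 : ringKrullDim R ≤ ringKrullDim (MvPolynomial (Fin n) (GrLC.deg0 𝒜)) :=
    ringKrullDim_le_of_surjective f.toRingHom hf
  letI := h0.toField
  haveI : IsNoetherianRing (GrLC.deg0 𝒜) := inferInstance
  rw [MvPolynomial.ringKrullDim_of_isNoetherianRing, ringKrullDim_eq_zero_of_isField h0,
    zero_add, Nat.card_eq_fintype_card, Fintype.card_fin] at h1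
  have h2 : ringKrullDim R ≠ ⊥ := by
    intro h
    have := ringKrullDim_nonneg_of_nontrivial (R := R)
    rw [h] at this
    exact absurd this (by decide)
  obtain ⟨x, hx⟩ := WithBot.ne_bot_iff_exists.mp h2
  rw [← hx] at h1 ⊢
  have h3 : x ≤ (n : ℕ∞) := by exact_mod_cast h1
  have h4 : x ≠ ⊤ := ne_top_of_le_ne_top (ENat.natCast_ne_top n) h3
  obtain ⟨m, rfl⟩ := ENat.ne_top_iff_exists.mp h4
  exact ⟨m, rfl⟩

end Gr

namespace Seg

open SegLA ToAdd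

theorem isSegreMod_self {k : Type u} [Field k] {R S T : Type u} [CommRing R] [CommRing S]
    [CommRing T] [Algebra k R] [Algebra k S] [Algebra k T]
    {𝒜 : ℤ → Submodule k R} [GradedAlgebra 𝒜] {ℬ : ℤ → Submodule k S} [GradedAlgebra ℬ]
    {𝒯 : ℤ → Submodule k T} [GradedAlgebra 𝒯] {ψ : T →ₐ[k] R ⊗[k] S}
    (hT : GrSeg.IsSegreRing 𝒜 ℬ 𝒯 ψ) [GradedRing (toAdd 𝒯)] :
    GrSeg.IsSegreMod ψ (toAdd 𝒜) (toAdd ℬ) (toAdd 𝒯) ψ.toLinearMap := by
  refine ⟨hT.1, ?_, ?_⟩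
  · intro n
    have h1 := congrArg (fun W : Submodule k (R ⊗[k] S) => (W : Set (R ⊗[k] S))) (hT.2 n)
    exact h1
  · intro t p
    change ψ (t * p) = _
    rw [map_mul, act_self]
    rfl

/-- vanishing of the local cohomology of a Segre product above `r + s - 1` -/
theorem Hcomp_segre_eq_bot (k : Type u) [Field k] (R : Type u) [CommRing R] [Algebra k R]
    (𝒜 : ℤ → Submodule k R) [GradedAlgebra 𝒜] (hposR : ∀ n : ℤ, n < 0 → 𝒜 n = ⊥)
    (h0R : 𝒜 0 = Submodule.span k {(1 : R)}) [Algebra.FiniteType k R] (S : Type u) [CommRing S]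
    [Algebra k S] (ℬ : ℤ → Submodule k S) [GradedAlgebra ℬ]
    (hposS : ∀ n : ℤ, n < 0 → ℬ n = ⊥) (h0S : ℬ 0 = Submodule.span k {(1 : S)})
    [Algebra.FiniteType k S] (T : Type u) [CommRing T] [Algebra k T] (𝒯 : ℤ → Submodule k T)
    [GradedAlgebra 𝒯] (ψ : T →ₐ[k] TensorProduct k R S) (hT : GrSeg.IsSegreRing 𝒜 ℬ 𝒯 ψ)
    (mT : HomogeneousIdeal 𝒯)
    (hmT : mT.toIdeal = Ideal.span (⋃ n ∈ Set.Ioi (0 : ℤ), (𝒯 n : Set T)))
    (IT : GrLC.StarInjRes 𝒯 𝒯)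
    (r s : ℕ) (hr : ringKrullDim R = r) (hs : ringKrullDim S = s) (h2r : 2 ≤ r) (h2s : 2 ≤ s)
    (q : ℕ) (hq : r + s ≤ q) (d : ℤ) : IT.Hcomp mT q d = ⊥ := by
  haveI : Nontrivial R := nontrivial_of_dim r hr
  haveI : Nontrivial S := nontrivial_of_dim s hs
  haveI : IsNoetherianRing R := Algebra.FiniteType.isNoetherianRing k R
  haveI : IsNoetherianRing S := Algebra.FiniteType.isNoetherianRing k S
  haveI : IsNoetherianRing T :=
    Groth.Agent.S18646.result k R 𝒜 hposR h0R S ℬ hposS h0S T 𝒯 ψ hT.1 hT.2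
  haveI : Nontrivial T := segre_nontrivial ψ
  have h0T : 𝒯 0 = Submodule.span k {(1 : T)} := segre_deg_zero hT h0R h0S
  have hposT : ∀ n : ℤ, n < 0 → 𝒯 n = ⊥ := segre_neg_eq_bot hT hposR
  obtain ⟨mR, hmR⟩ := exists_irrel 𝒜
  obtain ⟨mS, hmS⟩ := exists_irrel ℬ
  obtain ⟨I⟩ := nonempty_starInjRes_self 𝒜
  obtain ⟨J⟩ := nonempty_starInjRes_self ℬ
  letI := gradedRing_toAdd 𝒜
  letI := gradedRing_toAdd ℬ
  letI := gradedRing_toAdd 𝒯
  haveI := gradedSMul_self 𝒜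
  haveI := gradedSMul_self ℬ
  haveI := gradedSMul_self 𝒯
  obtain ⟨s', hs'⟩ : ∃ s', q = r + s' - 1 := ⟨q - r + 1, by omega⟩
  have hss' : s < s' := by omega
  have key := kunneth_top_modules k R 𝒜 hposR h0R S ℬ hposS h0S T 𝒯 ψ hT mR hmR mS hmS mT hmT
    R (toAdd 𝒜) (resSelf 𝒜 I) S (toAdd ℬ) (resSelf ℬ J) T (toAdd 𝒯) ψ.toLinearMap
    (isSegreMod_self hT) (resSelf 𝒯 IT)
    r s' h2r (by omega) (by rw [Module.supportDim_self_eq_ringKrullDim, hr])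
    (by rw [Module.supportDim_self_eq_ringKrullDim, hs]; exact_mod_cast hss'.le) d
  have hv : (resSelf ℬ J).Hcomp mS s' d = ⊥ := by
    apply Hcomp_eq_bot_of_supportDim_lt ℬ (toAdd ℬ) (resSelf ℬ J) mS s'
    rw [Module.supportDim_self_eq_ringKrullDim, hs]
    exact_mod_cast hss'
  rw [hv, finrank_bot, mul_zero, ← hs'] at key
  exact (Hcomp_eq_bot_iff_finrank 𝒯 (toAdd 𝒯) hposT h0T mT hmT (resSelf 𝒯 IT) q d).mpr key

/-- the dimension of a Segre product of graded rings of dimensions at least two -/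
theorem dim_segre_of_two_le (k : Type u) [Field k] (R : Type u) [CommRing R] [Algebra k R]
    (𝒜 : ℤ → Submodule k R) [GradedAlgebra 𝒜] (hposR : ∀ n : ℤ, n < 0 → 𝒜 n = ⊥)
    (h0R : 𝒜 0 = Submodule.span k {(1 : R)}) [Algebra.FiniteType k R] (S : Type u) [CommRing S]
    [Algebra k S] (ℬ : ℤ → Submodule k S) [GradedAlgebra ℬ]
    (hposS : ∀ n : ℤ, n < 0 → ℬ n = ⊥) (h0S : ℬ 0 = Submodule.span k {(1 : S)})
    [Algebra.FiniteType k S] (T : Type u) [CommRing T] [Algebra k T] (𝒯 : ℤ → Submodule k T)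
    [GradedAlgebra 𝒯] (ψ : T →ₐ[k] TensorProduct k R S) (hT : GrSeg.IsSegreRing 𝒜 ℬ 𝒯 ψ)
    (r s : ℕ) (hr : ringKrullDim R = r) (hs : ringKrullDim S = s) (h2r : 2 ≤ r) (h2s : 2 ≤ s) :
    ringKrullDim T = ((r + s - 1 : ℕ) : WithBot ℕ∞) := by
  haveI : Nontrivial R := nontrivial_of_dim r hr
  haveI : Nontrivial S := nontrivial_of_dim s hs
  haveI : IsNoetherianRing T :=
    Groth.Agent.S18646.result k R 𝒜 hposR h0R S ℬ hposS h0S T 𝒯 ψ hT.1 hT.2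
  haveI : Nontrivial T := segre_nontrivial ψ
  have h0T : 𝒯 0 = Submodule.span k {(1 : T)} := segre_deg_zero hT h0R h0S
  have hposT : ∀ n : ℤ, n < 0 → 𝒯 n = ⊥ := segre_neg_eq_bot hT hposR
  obtain ⟨mT, hmT⟩ := exists_irrel 𝒯
  obtain ⟨IT⟩ := nonempty_starInjRes_self 𝒯
  letI := gradedRing_toAdd 𝒯
  obtain ⟨n, hn⟩ := Gr.exists_ringKrullDim_eq (toAdd 𝒯) (toAdd_neg_eq_bot 𝒯 hposT)
    (isField_deg0 𝒯 h0T)
  have h1 := le_dim_segre k R 𝒜 hposR h0R S ℬ hposS h0S T 𝒯 ψ hT r s hr hs h2r h2s n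
    (le_of_eq hn)
  obtain ⟨d, hd⟩ := exists_Hcomp_top_ne_bot 𝒯 hposT h0T mT hmT n hn IT
  have h2 : n < r + s := by
    by_contra hlt
    rw [not_lt] at hlt
    exact hd (Hcomp_segre_eq_bot k R 𝒜 hposR h0R S ℬ hposS h0S T 𝒯 ψ hT mT hmT IT r s hr hs
      h2r h2s n hlt d)
  rw [hn]
  have : n = r + s - 1 := by omega
  rw [this]

end Seg

end Groth.Agent.H6
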