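import Groth.Agent.Lib.Helper6.SegBig8
import Groth.Agent.Lib.Helper6.SegDim2

/-! Vanishing and non-vanishing of the local cohomology of Segre products of modules, without
depth hypotheses, and the dimension of a Segre product of rings. -/

universe u
open DirectSum TensorProduct
set_option linter.unusedSectionVars false

namespace Groth.Agent.H6

namespace Seg

open SegLA ToAdd

/-- non-vanishing of the local cohomology of a Segre product of modules in degree `r + s - 1` -/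
theorem Hcomp_segre_ne_bot (k : Type u) [Field k] (R : Type u) [CommRing R] [Nontrivial R]
    [Algebra k R] (𝒜 : ℤ → Submodule k R) [GradedAlgebra 𝒜] (hposR : ∀ n : ℤ, n < 0 → 𝒜 n = ⊥)
    (h0R : 𝒜 0 = Submodule.span k {(1 : R)}) [Algebra.FiniteType k R] (S : Type u) [CommRing S]
    [Nontrivial S] [Algebra k S] (ℬ : ℤ → Submodule k S) [GradedAlgebra ℬ]
    (hposS : ∀ n : ℤ, n < 0 → ℬ n = ⊥) (h0S : ℬ 0 = Submodule.span k {(1 : S)})
    [Algebra.FiniteType k S] (T : Type u) [CommRing T] [Algebra k T] (𝒯 : ℤ → Submodule k T)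
    [GradedAlgebra 𝒯] (ψ : T →ₐ[k] TensorProduct k R S) (hT : GrSeg.IsSegreRing 𝒜 ℬ 𝒯 ψ)
    (mR : HomogeneousIdeal 𝒜)
    (hmR : mR.toIdeal = Ideal.span (⋃ n ∈ Set.Ioi (0 : ℤ), (𝒜 n : Set R)))
    (mS : HomogeneousIdeal ℬ)
    (hmS : mS.toIdeal = Ideal.span (⋃ n ∈ Set.Ioi (0 : ℤ), (ℬ n : Set S)))
    (mT : HomogeneousIdeal 𝒯)
    (hmT : mT.toIdeal = Ideal.span (⋃ n ∈ Set.Ioi (0 : ℤ), (𝒯 n : Set T)))
    (M : Type u) [AddCommGroup M] [Module R M] [Module k M] [IsScalarTower k R M]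
    (ℳ : ℤ → AddSubgroup M) [DirectSum.Decomposition ℳ] [SetLike.GradedSMul 𝒜 ℳ]
    [Module.Finite R M] (EM : GrLC.StarInjRes 𝒜 ℳ)
    (N : Type u) [AddCommGroup N] [Module S N] [Module k N] [IsScalarTower k S N]
    (𝒩 : ℤ → AddSubgroup N) [DirectSum.Decomposition 𝒩] [SetLike.GradedSMul ℬ 𝒩]
    [Module.Finite S N] (EN : GrLC.StarInjRes ℬ 𝒩)
    (P : Type u) [AddCommGroup P] [Module T P] [Module k P] [IsScalarTower k T P]
    (𝒬 : ℤ → AddSubgroup P) [DirectSum.Decomposition 𝒬] [SetLike.GradedSMul 𝒯 𝒬]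
    (φ : P →ₗ[k] TensorProduct k M N) (hP : GrSeg.IsSegreMod ψ ℳ 𝒩 𝒬 φ)
    (EP : GrLC.StarInjRes 𝒯 𝒬) (r s : ℕ) (h1r : 1 ≤ r) (h1s : 1 ≤ s) (hrs : 3 ≤ r + s)
    (d : ℤ) (hM : EM.Hcomp mR r d ≠ ⊥) (hN : EN.Hcomp mS s d ≠ ⊥) :
    EP.Hcomp mT (r + s - 1) d ≠ ⊥ := by
  haveI : IsNoetherianRing R := Algebra.FiniteType.isNoetherianRing k R
  haveI : IsNoetherianRing S := Algebra.FiniteType.isNoetherianRing k S
  haveI : IsNoetherianRing T :=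
    Groth.Agent.S18646.result k R 𝒜 hposR h0R S ℬ hposS h0S T 𝒯 ψ hT.1 hT.2
  haveI : Nontrivial T := segre_nontrivial ψ
  have h0T : 𝒯 0 = Submodule.span k {(1 : T)} := segre_deg_zero hT h0R h0S
  letI := gradedRing_toAdd 𝒜
  letI := gradedRing_toAdd ℬ
  letI := gradedRing_toAdd 𝒯
  haveI := gradedSMul_to 𝒜 ℳ
  haveI := gradedSMul_to ℬ 𝒩
  haveI := gradedSMul_to 𝒯 𝒬
  letI : Module k (BigX 𝒜 EM) := Module.compHom _ (algebraMap k R)
  haveI : IsScalarTower k R (BigX 𝒜 EM) := compHom_tower R _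
  letI := bigDecomposition 𝒜 EM
  haveI := big_gradedSMul 𝒜 EM
  letI : Module k (BigX ℬ EN) := Module.compHom _ (algebraMap k S)
  haveI : IsScalarTower k S (BigX ℬ EN) := compHom_tower S _
  letI := bigDecomposition ℬ EN
  haveI := big_gradedSMul ℬ EN
  exact Hcomp_tot_ne_bot 𝒯 ψ hT (bigOf 𝒜 EM) (bigOf ℬ EN) hP mR hmR mS hmS mT hmT EP
    h0R h0S h0T r s h1r h1s hrs d (finite_comp_of_pos 𝒜 ℳ hposR mR hmR d)
    (fun i => finite_Hcomp_of_pos 𝒜 ℳ hposR mR hmR EM i d)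
    (finite_comp_of_pos ℬ 𝒩 hposS mS hmS d)
    (fun i => finite_Hcomp_of_pos ℬ 𝒩 hposS mS hmS EN i d) hM hN

/-- vanishing of the local cohomology of a Segre product of modules in degrees `≥ r + s` -/
theorem finrank_Hcomp_segre_eq_zero (k : Type u) [Field k] (R : Type u) [CommRing R]
    [Nontrivial R]
    [Algebra k R] (𝒜 : ℤ → Submodule k R) [GradedAlgebra 𝒜] (hposR : ∀ n : ℤ, n < 0 → 𝒜 n = ⊥)
    (h0R : 𝒜 0 = Submodule.span k {(1 : R)}) [Algebra.FiniteType k R] (S : Type u) [CommRing S]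
    [Nontrivial S] [Algebra k S] (ℬ : ℤ → Submodule k S) [GradedAlgebra ℬ]
    (hposS : ∀ n : ℤ, n < 0 → ℬ n = ⊥) (h0S : ℬ 0 = Submodule.span k {(1 : S)})
    [Algebra.FiniteType k S] (T : Type u) [CommRing T] [Algebra k T] (𝒯 : ℤ → Submodule k T)
    [GradedAlgebra 𝒯] (ψ : T →ₐ[k] TensorProduct k R S) (hT : GrSeg.IsSegreRing 𝒜 ℬ 𝒯 ψ)
    (mR : HomogeneousIdeal 𝒜)
    (hmR : mR.toIdeal = Ideal.span (⋃ n ∈ Set.Ioi (0 : ℤ), (𝒜 n : Set R)))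
    (mS : HomogeneousIdeal ℬ)
    (hmS : mS.toIdeal = Ideal.span (⋃ n ∈ Set.Ioi (0 : ℤ), (ℬ n : Set S)))
    (mT : HomogeneousIdeal 𝒯)
    (hmT : mT.toIdeal = Ideal.span (⋃ n ∈ Set.Ioi (0 : ℤ), (𝒯 n : Set T)))
    (M : Type u) [AddCommGroup M] [Module R M] [Module k M] [IsScalarTower k R M]
    (ℳ : ℤ → AddSubgroup M) [DirectSum.Decomposition ℳ] [SetLike.GradedSMul 𝒜 ℳ]
    [Module.Finite R M] (EM : GrLC.StarInjRes 𝒜 ℳ)
    (N : Type u) [AddCommGroup N] [Module S N] [Module k N] [IsScalarTower k S N]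
    (𝒩 : ℤ → AddSubgroup N) [DirectSum.Decomposition 𝒩] [SetLike.GradedSMul ℬ 𝒩]
    [Module.Finite S N] (EN : GrLC.StarInjRes ℬ 𝒩)
    (P : Type u) [AddCommGroup P] [Module T P] [Module k P] [IsScalarTower k T P]
    (𝒬 : ℤ → AddSubgroup P) [DirectSum.Decomposition 𝒬] [SetLike.GradedSMul 𝒯 𝒬]
    (φ : P →ₗ[k] TensorProduct k M N) (hP : GrSeg.IsSegreMod ψ ℳ 𝒩 𝒬 φ)
    (EP : GrLC.StarInjRes 𝒯 𝒬) (r s : ℕ) (h1r : 1 ≤ r) (h1s : 1 ≤ s)
    (hdM : Module.supportDim R M ≤ (r : WithBot ℕ∞))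
    (hdN : Module.supportDim S N ≤ (s : WithBot ℕ∞)) (q : ℕ) (hq : r + s ≤ q) (d : ℤ) :
    Module.finrank (GrLC.deg0 𝒯) ↥(EP.Hcomp mT q d) = 0 := by
  haveI : IsNoetherianRing R := Algebra.FiniteType.isNoetherianRing k R
  haveI : IsNoetherianRing S := Algebra.FiniteType.isNoetherianRing k S
  haveI : IsNoetherianRing T :=
    Groth.Agent.S18646.result k R 𝒜 hposR h0R S ℬ hposS h0S T 𝒯 ψ hT.1 hT.2
  haveI : Nontrivial T := segre_nontrivial ψ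
  have h0T : 𝒯 0 = Submodule.span k {(1 : T)} := segre_deg_zero hT h0R h0S
  letI := gradedRing_toAdd 𝒜
  letI := gradedRing_toAdd ℬ
  letI := gradedRing_toAdd 𝒯
  haveI := gradedSMul_to 𝒜 ℳ
  haveI := gradedSMul_to ℬ 𝒩
  haveI := gradedSMul_to 𝒯 𝒬
  letI : Module k (BigX 𝒜 EM) := Module.compHom _ (algebraMap k R)
  haveI : IsScalarTower k R (BigX 𝒜 EM) := compHom_tower R _
  letI := bigDecomposition 𝒜 EM
  haveI := big_gradedSMul 𝒜 EM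
  letI : Module k (BigX ℬ EN) := Module.compHom _ (algebraMap k S)
  haveI : IsScalarTower k S (BigX ℬ EN) := compHom_tower S _
  letI := bigDecomposition ℬ EN
  haveI := big_gradedSMul ℬ EN
  have hvM : ∀ i, r < i → EM.Hcomp mR i d = ⊥ := by
    intro i hi
    apply Hcomp_eq_bot_of_supportDim_lt 𝒜 ℳ EM mR i
    exact lt_of_le_of_lt hdM (by exact_mod_cast hi)
  have hvN : ∀ i, s < i → EN.Hcomp mS i d = ⊥ := by
    intro i hi
    apply Hcomp_eq_bot_of_supportDim_lt ℬ 𝒩 EN mS i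
    exact lt_of_le_of_lt hdN (by exact_mod_cast hi)
  exact finrank_Hcomp_tot_eq_zero 𝒯 ψ hT (bigOf 𝒜 EM) (bigOf ℬ EN) hP mR hmR mS hmS mT hmT EP
    h0R h0S h0T r s h1r h1s q hq d (finite_comp_of_pos 𝒜 ℳ hposR mR hmR d)
    (fun i => finite_Hcomp_of_pos 𝒜 ℳ hposR mR hmR EM i d)
    (finite_comp_of_pos ℬ 𝒩 hposS mS hmS d)
    (fun i => finite_Hcomp_of_pos ℬ 𝒩 hposS mS hmS EN i d) hvM hvN

section Dim

/-- the lower bound for the dimension of a Segre product, `(r, s) ≠ (1, 1)` -/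
theorem le_dim_segre' (k : Type u) [Field k] (R : Type u) [CommRing R] [Algebra k R]
    (𝒜 : ℤ → Submodule k R) [GradedAlgebra 𝒜] (hposR : ∀ n : ℤ, n < 0 → 𝒜 n = ⊥)
    (h0R : 𝒜 0 = Submodule.span k {(1 : R)}) [Algebra.FiniteType k R] (S : Type u) [CommRing S]
    [Algebra k S] (ℬ : ℤ → Submodule k S) [GradedAlgebra ℬ]
    (hposS : ∀ n : ℤ, n < 0 → ℬ n = ⊥) (h0S : ℬ 0 = Submodule.span k {(1 : S)})
    [Algebra.FiniteType k S] (T : Type u) [CommRing T] [Algebra k T] (𝒯 : ℤ → Submodule k T)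
    [GradedAlgebra 𝒯] (ψ : T →ₐ[k] TensorProduct k R S) (hT : GrSeg.IsSegreRing 𝒜 ℬ 𝒯 ψ)
    (r s : ℕ) (hr : ringKrullDim R = r) (hs : ringKrullDim S = s) (h1r : 1 ≤ r) (h1s : 1 ≤ s)
    (hrs : 3 ≤ r + s)
    (n : ℕ) (hn : ringKrullDim T ≤ (n : WithBot ℕ∞)) : r + s - 1 ≤ n := by
  haveI : Nontrivial R := nontrivial_of_dim r hr
  haveI : Nontrivial S := nontrivial_of_dim s hs
  haveI : IsNoetherianRing R := Algebra.FiniteType.isNoetherianRing k R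
  haveI : IsNoetherianRing S := Algebra.FiniteType.isNoetherianRing k S
  haveI : IsNoetherianRing T :=
    Groth.Agent.S18646.result k R 𝒜 hposR h0R S ℬ hposS h0S T 𝒯 ψ hT.1 hT.2
  haveI : Nontrivial T := segre_nontrivial ψ
  obtain ⟨mR, hmR⟩ := exists_irrel 𝒜
  obtain ⟨mS, hmS⟩ := exists_irrel ℬ
  obtain ⟨mT, hmT⟩ := exists_irrel 𝒯
  obtain ⟨I⟩ := nonempty_starInjRes_self 𝒜
  obtain ⟨J⟩ := nonempty_starInjRes_self ℬ
  obtain ⟨dR, hdR⟩ := exists_Hcomp_top_ne_bot 𝒜 hposR h0R mR hmR r hr I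
  obtain ⟨dS, hdS⟩ := exists_Hcomp_top_ne_bot ℬ hposS h0S mS hmS s hs J
  letI := gradedRing_toAdd 𝒜
  letI := gradedRing_toAdd ℬ
  letI := gradedRing_toAdd 𝒯
  haveI := gradedSMul_self 𝒜
  haveI := gradedSMul_self ℬ
  -- the shifted module
  let d : ℤ := dR - dS
  letI := shDecomposition hT d
  haveI := sh_gradedSMul hT d
  haveI := gradedSMul_to 𝒯 (shQ hT d)
  letI := Gr.shiftDecomposition (toAdd ℬ) d
  haveI := Gr.shift_gradedSMul (toAdd ℬ) (toAdd ℬ) d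
  haveI := gradedSMul_of ℬ (Gr.shiftGr (toAdd ℬ) d)
  have hP := sh_isSegreMod hT d
  obtain ⟨EP⟩ := nonempty_starInjRes 𝒯 (shQ hT d)
  let EN : GrLC.StarInjRes ℬ (Gr.shiftGr (toAdd ℬ) d) :=
    resOfM ℬ (Gr.shiftRes (resToM ℬ (resSelf ℬ J)) d)
  have h2 : EN.Hcomp mS s dR ≠ ⊥ := by
    intro h3
    have h4 : J.Hcomp mS s (dR - d) ≠ ⊥ := by
      have : dR - d = dS := by simp only [d]; ring
      rw [this]
      exact hdS
    apply Hcomp_shift_ne_bot ℬ mS J d s dR h4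
    rw [Submodule.eq_bot_iff] at h3 ⊢
    intro x hx
    exact h3 x hx
  have key := Hcomp_segre_ne_bot k R 𝒜 hposR h0R S ℬ hposS h0S T 𝒯 ψ hT mR hmR mS hmS mT hmT
    R (toAdd 𝒜) (resSelf 𝒜 I) S (Gr.shiftGr (toAdd ℬ) d) EN (ShP hT d) (shQ hT d) (shφ hT d) hP EP
    r s h1r h1s hrs dR hdR h2
  by_contra hlt
  rw [not_le] at hlt
  exact key (Hcomp_eq_bot_of_ringKrullDim_lt 𝒯 (shQ hT d) EP mT n (r + s - 1) hn hlt dR)

/-- vanishing of the local cohomology of a Segre product above `r + s - 1` -/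
theorem Hcomp_segre_eq_bot' (k : Type u) [Field k] (R : Type u) [CommRing R] [Algebra k R]
    (𝒜 : ℤ → Submodule k R) [GradedAlgebra 𝒜] (hposR : ∀ n : ℤ, n < 0 → 𝒜 n = ⊥)
    (h0R : 𝒜 0 = Submodule.span k {(1 : R)}) [Algebra.FiniteType k R] (S : Type u) [CommRing S]
    [Algebra k S] (ℬ : ℤ → Submodule k S) [GradedAlgebra ℬ]
    (hposS : ∀ n : ℤ, n < 0 → ℬ n = ⊥) (h0S : ℬ 0 = Submodule.span k {(1 : S)})
    [Algebra.FiniteType k S] (T : Type u) [CommRing T] [Algebra k T] (𝒯 : ℤ → Submodule k T)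
    [GradedAlgebra 𝒯] (ψ : T →ₐ[k] TensorProduct k R S) (hT : GrSeg.IsSegreRing 𝒜 ℬ 𝒯 ψ)
    (mT : HomogeneousIdeal 𝒯)
    (hmT : mT.toIdeal = Ideal.span (⋃ n ∈ Set.Ioi (0 : ℤ), (𝒯 n : Set T)))
    (IT : GrLC.StarInjRes 𝒯 𝒯)
    (r s : ℕ) (hr : ringKrullDim R = r) (hs : ringKrullDim S = s) (h1r : 1 ≤ r) (h1s : 1 ≤ s)
    (q : ℕ) (hq : r + s ≤ q) (d : ℤ) : IT.Hcomp mT q d = ⊥ := by
  haveI : Nontrivial R := nontrivial_of_dim r hr
  haveI : Nontrivial S := nontrivial_of_dim s hs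
  haveI : IsNoetherianRing R := Algebra.FiniteType.isNoetherianRing k R
  haveI : IsNoetherianRing S := Algebra.FiniteType.isNoetherianRing k S
  haveI : IsNoetherianRing T :=
    Groth.Agent.S18646.result k R 𝒜 hposR h0R S ℬ hposS h0S T 𝒯 ψ hT.1 hT.2
  haveI : Nontrivial T := segre_nontrivial ψ
  have h0T : 𝒯 0 = Submodule.span k {(1 : T)} := segre_deg_zero hT h0R h0S
  have hposT : ∀ n : ℤ, n < 0 → 𝒯 n = ⊥ := segre_neg_eq_bot hT hposR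
  obtain ⟨mR, hmR⟩ := exists_irrel 𝒜
  obtain ⟨mS, hmS⟩ := exists_irrel ℬ
  obtain ⟨I⟩ := nonempty_starInjRes_self 𝒜
  obtain ⟨J⟩ := nonempty_starInjRes_self ℬ
  letI := gradedRing_toAdd 𝒜
  letI := gradedRing_toAdd ℬ
  letI := gradedRing_toAdd 𝒯
  haveI := gradedSMul_self 𝒜
  haveI := gradedSMul_self ℬ
  haveI := gradedSMul_self 𝒯
  have key := finrank_Hcomp_segre_eq_zero k R 𝒜 hposR h0R S ℬ hposS h0S T 𝒯 ψ hT mR hmR mS hmS
    mT hmT R (toAdd 𝒜) (resSelf 𝒜 I) S (toAdd ℬ) (resSelf ℬ J) T (toAdd 𝒯) ψ.toLinearMap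
    (isSegreMod_self hT) (resSelf 𝒯 IT)
    r s h1r h1s (by rw [Module.supportDim_self_eq_ringKrullDim, hr])
    (by rw [Module.supportDim_self_eq_ringKrullDim, hs]) q hq d
  exact (Hcomp_eq_bot_iff_finrank 𝒯 (toAdd 𝒯) hposT h0T mT hmT (resSelf 𝒯 IT) q d).mpr key

end Dim

end Seg

end Groth.Agent.H6
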