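import Groth.Agent.Lib.Helper6.GrTopDiv
import Groth.Agent.Lib.Helper6.GrRegVanish
import Groth.Agent.Lib.Helper6.SegDim3
import Groth.Agent.Lib.Helper9.Segre.Shift

/-! The dimension of the Segre product of finitely generated graded modules over standard graded
rings. -/

universe u
open DirectSum TensorProduct
set_option linter.unusedSectionVars false

namespace Groth.Agent.H6

namespace Seg

open SegLA ToAdd

section Pieces

variable {k : Type u} [Field k] {R : Type u} [CommRing R] [Nontrivial R] [Algebra k R]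
  (𝒜 : ℤ → Submodule k R) [GradedAlgebra 𝒜] [IsNoetherianRing R]
  (hpos : ∀ n : ℤ, n < 0 → 𝒜 n = ⊥) (h0 : 𝒜 0 = Submodule.span k {(1 : R)})
  (m : HomogeneousIdeal 𝒜)
  (hm : m.toIdeal = Ideal.span (⋃ n ∈ Set.Ioi (0 : ℤ), (𝒜 n : Set R)))
  (hstd : Ideal.span (⋃ n ∈ Set.Ioi (0 : ℤ), (𝒜 n : Set R)) =
    Ideal.span ((𝒜 1 : Submodule k R) : Set R))
variable {M : Type u} [AddCommGroup M] [Module R M] (ℳ : ℤ → AddSubgroup M)
  [DirectSum.Decomposition ℳ] [SetLike.GradedSMul 𝒜 ℳ] [Module.Finite R M]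

include hstd in
/-- over a standard graded ring, the vanishing of a piece of a finitely generated graded module
beyond the degrees of its generators propagates upwards -/
theorem exists_piece_succ_eq_bot :
    ∃ d0 : ℤ, ∀ d : ℤ, d0 ≤ d → ℳ d = ⊥ → ℳ (d + 1) = ⊥ := by
  classical
  obtain ⟨G, α, hα, hG⟩ := Groth.Agent.H9.GrProj.exists_homogeneous_gens 𝒜 ℳ
  obtain ⟨d0, hd0⟩ := (G.image α).exists_le
  refine ⟨d0, fun d hd hbot => ?_⟩
  rw [AddSubgroup.eq_bot_iff_forall]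
  intro x hx
  obtain ⟨r, hr, rfl⟩ := hG (d + 1) x hx
  refine Finset.sum_eq_zero fun g hg => ?_
  have hαg : α g ≤ d := (hd0 _ (Finset.mem_image_of_mem α hg)).trans hd
  have h1 := Groth.Agent.H9.SegreShift.le_mul_of_std 𝒜 hstd (m := d + 1 - α g) (by omega) (hr g hg)
  have key : ∀ c ∈ 𝒜 (d + 1 - α g - 1) * 𝒜 1, c • g = 0 := by
    intro c hc
    induction hc using Submodule.mul_induction_on' with
    | mem_mul_mem u hu v hv =>
      have h2 : u • g ∈ ℳ (d + 1 - α g - 1 + α g) :=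
        SetLike.GradedSMul.smul_mem hu (hα g hg)
      have h3 : d + 1 - α g - 1 + α g = d := by ring
      rw [h3, hbot, AddSubgroup.mem_bot] at h2
      rw [mul_comm, mul_smul, h2, smul_zero]
    | add x _ y _ hx hy => rw [add_smul, hx, hy, add_zero]
  exact key _ h1

include hpos h0 hm hstd in
/-- a finitely generated graded module of positive dimension over a standard graded ring is
nonzero in all large degrees -/
theorem exists_forall_piece_ne_bot (n : ℕ) (h1 : 1 ≤ n) (hn : Module.supportDim R M = n) :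
    ∃ d0 : ℤ, ∀ d : ℤ, d0 ≤ d → ℳ d ≠ ⊥ := by
  obtain ⟨d0, hd0⟩ := exists_piece_succ_eq_bot 𝒜 hstd ℳ
  refine ⟨d0, fun d hd hbot => ?_⟩
  have hall : ∀ j : ℕ, ℳ (d + j) = ⊥ := by
    intro j
    induction j with
    | zero => simpa using hbot
    | succ j ih =>
      have := hd0 (d + j) (by omega) ih
      rw [add_assoc] at this
      exact_mod_cast this
  have hev : ∀ e : ℤ, d ≤ e → ℳ e = ⊥ := by
    intro e he
    have := hall (e - d).toNat
    rwa [Int.toNat_of_nonneg (by omega), add_sub_cancel] at this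
  letI := gradedRing_toAdd 𝒜
  haveI := gradedSMul_to 𝒜 ℳ
  have h0' := isField_deg0 𝒜 h0
  have hpos' := toAdd_neg_eq_bot 𝒜 hpos
  haveI hmax : (idealTo 𝒜 m).toIdeal.IsMaximal :=
    GrCM.isMaximal_irrelevant (toAdd 𝒜) hpos' h0' (idealTo 𝒜 m) hm
  have hsub := RegVan.subsingleton_of_eventually_bot hpos' (idealTo 𝒜 m) hm ℳ d hev n h1
  have hnt := GrMD.nontrivial_H_top (toAdd 𝒜) hpos' h0' (idealTo 𝒜 m).toIdeal hm ℳ n hn
  exact not_subsingleton _ hsub

end Pieces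

/-- **S19753**: the dimension of the Segre product of finitely generated graded modules of
positive dimension over standard graded rings -/
theorem dim_segre_std_mod (k : Type u) [Field k] (R : Type u) [CommRing R] [Algebra k R]
    (𝒜 : ℤ → Submodule k R) [GradedAlgebra 𝒜] (hposR : ∀ n : ℤ, n < 0 → 𝒜 n = ⊥)
    (h0R : 𝒜 0 = Submodule.span k {(1 : R)}) [Algebra.FiniteType k R] (S : Type u) [CommRing S]
    [Algebra k S] (ℬ : ℤ → Submodule k S) [GradedAlgebra ℬ]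
    (hposS : ∀ n : ℤ, n < 0 → ℬ n = ⊥) (h0S : ℬ 0 = Submodule.span k {(1 : S)})
    [Algebra.FiniteType k S] (T : Type u) [CommRing T] [Algebra k T] (𝒯 : ℤ → Submodule k T)
    [GradedAlgebra 𝒯] (ψ : T →ₐ[k] TensorProduct k R S) (hT : GrSeg.IsSegreRing 𝒜 ℬ 𝒯 ψ)
    (hstdR : Ideal.span (⋃ n ∈ Set.Ioi (0 : ℤ), (𝒜 n : Set R)) =
      Ideal.span ((𝒜 1 : Submodule k R) : Set R))
    (hstdS : Ideal.span (⋃ n ∈ Set.Ioi (0 : ℤ), (ℬ n : Set S)) =
      Ideal.span ((ℬ 1 : Submodule k S) : Set S))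
    (M : Type u) [AddCommGroup M] [Module R M] [Module k M] [IsScalarTower k R M]
    (ℳ : ℤ → AddSubgroup M) [DirectSum.Decomposition ℳ] [SetLike.GradedSMul 𝒜 ℳ]
    [Module.Finite R M]
    (N : Type u) [AddCommGroup N] [Module S N] [Module k N] [IsScalarTower k S N]
    (𝒩 : ℤ → AddSubgroup N) [DirectSum.Decomposition 𝒩] [SetLike.GradedSMul ℬ 𝒩]
    [Module.Finite S N]
    (P : Type u) [AddCommGroup P] [Module T P] [Module k P] [IsScalarTower k T P]
    (𝒬 : ℤ → AddSubgroup P) [DirectSum.Decomposition 𝒬]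
    (φ : P →ₗ[k] TensorProduct k M N) (hP : GrSeg.IsSegreMod ψ ℳ 𝒩 𝒬 φ)
    (dM dN : ℕ) (hdM : Module.supportDim R M = dM) (hdN : Module.supportDim S N = dN)
    (hMA : ¬ IsArtinian R M) (hNA : ¬ IsArtinian S N) :
    Module.supportDim T P = ((dM + dN - 1 : ℕ) : WithBot ℕ∞) := by
  haveI : Nontrivial M := by
    rw [← Module.supportDim_ne_bot_iff_nontrivial R, hdM]
    exact WithBot.coe_ne_bot
  haveI : Nontrivial N := by
    rw [← Module.supportDim_ne_bot_iff_nontrivial S, hdN]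
    exact WithBot.coe_ne_bot
  haveI : Nontrivial R := Module.nontrivial R M
  haveI : Nontrivial S := Module.nontrivial S N
  haveI : IsNoetherianRing R := Algebra.FiniteType.isNoetherianRing k R
  haveI : IsNoetherianRing S := Algebra.FiniteType.isNoetherianRing k S
  haveI : IsNoetherianRing T :=
    Groth.Agent.S18646.result k R 𝒜 hposR h0R S ℬ hposS h0S T 𝒯 ψ hT.1 hT.2
  haveI : Nontrivial T := segre_nontrivial ψ
  have h0T : 𝒯 0 = Submodule.span k {(1 : T)} := segre_deg_zero hT h0R h0S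
  have hposT : ∀ n : ℤ, n < 0 → 𝒯 n = ⊥ := segre_neg_eq_bot hT hposR
  haveI : Module.Finite T P := Groth.Agent.S19747.result k R 𝒜 hposR h0R S ℬ hposS h0S T 𝒯 ψ hT
    M ℳ N 𝒩 P 𝒬 φ hP
  haveI : SetLike.GradedSMul 𝒯 𝒬 := Groth.Agent.H9.SegreBij.gradedSMul 𝒜 ℬ 𝒯 ψ ℳ 𝒩 𝒬 φ hT hP
  have h1M : 1 ≤ dM := by
    by_contra h
    have h0 : dM = 0 := by omega
    subst h0
    exact hMA (LC.isArtinian_of_supportDim_le_zero' M (le_of_eq hdM))
  have h1N : 1 ≤ dN := by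
    by_contra h
    have h0 : dN = 0 := by omega
    subst h0
    exact hNA (LC.isArtinian_of_supportDim_le_zero' N (le_of_eq hdN))
  obtain ⟨mR, hmR⟩ := exists_irrel 𝒜
  obtain ⟨mS, hmS⟩ := exists_irrel ℬ
  obtain ⟨mT, hmT⟩ := exists_irrel 𝒯
  letI := gradedRing_toAdd 𝒜
  letI := gradedRing_toAdd ℬ
  letI := gradedRing_toAdd 𝒯
  haveI := gradedSMul_to 𝒜 ℳ
  haveI := gradedSMul_to ℬ 𝒩
  haveI := gradedSMul_to 𝒯 𝒬
  obtain ⟨EM⟩ := nonempty_starInjRes 𝒜 ℳ
  obtain ⟨EN⟩ := nonempty_starInjRes ℬ 𝒩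
  obtain ⟨EP⟩ := nonempty_starInjRes 𝒯 𝒬
  -- the lower bound
  have hlow : Nontrivial P ∧ ∀ n : ℕ, Module.supportDim T P = n → dM + dN - 1 ≤ n := by
    by_cases hrs : 3 ≤ dM + dN
    · obtain ⟨d1, hd1⟩ := exists_Hcomp_top_ne_bot_mod 𝒜 hposR h0R mR hmR ℳ EM dM hdM
      obtain ⟨d2, hd2⟩ := exists_Hcomp_top_ne_bot_mod ℬ hposS h0S mS hmS 𝒩 EN dN hdN
      have hM' := Hcomp_top_ne_bot_of_le_mod 𝒜 mR hmR hstdR ℳ EM dM h1M hdM.le d1 (min d1 d2)
        (min_le_left _ _) hd1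
      have hN' := Hcomp_top_ne_bot_of_le_mod ℬ mS hmS hstdS 𝒩 EN dN h1N hdN.le d2 (min d1 d2)
        (min_le_right _ _) hd2
      have hne := Hcomp_segre_ne_bot k R 𝒜 hposR h0R S ℬ hposS h0S T 𝒯 ψ hT mR hmR mS hmS mT hmT
        M ℳ EM N 𝒩 EN P 𝒬 φ hP EP dM dN h1M h1N hrs (min d1 d2) hM' hN'
      have hnot : ¬ Module.supportDim T P < ((dM + dN - 1 : ℕ) : WithBot ℕ∞) := fun h =>
        hne (Hcomp_eq_bot_of_supportDim_lt 𝒯 𝒬 EP mT _ h _)
      constructor
      · by_contra hnt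
        rw [not_nontrivial_iff_subsingleton] at hnt
        apply hnot
        rw [Module.supportDim_eq_bot_of_subsingleton]
        exact WithBot.bot_lt_coe _
      · intro n hn
        by_contra hlt
        apply hnot
        rw [hn]
        exact_mod_cast (by omega : n < dM + dN - 1)
    · obtain ⟨rfl, rfl⟩ : dM = 1 ∧ dN = 1 := by omega
      obtain ⟨e1, he1⟩ := exists_forall_piece_ne_bot 𝒜 hposR h0R mR hmR hstdR ℳ 1 le_rfl hdM
      obtain ⟨e2, he2⟩ := exists_forall_piece_ne_bot ℬ hposS h0S mS hmS hstdS 𝒩 1 le_rfl hdN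
      have hQ : ∀ d : ℤ, max e1 e2 ≤ d → 𝒬 d ≠ ⊥ := by
        intro d hd hbot
        obtain ⟨⟨x, hx⟩, hx0'⟩ := (AddSubgroup.ne_bot_iff_exists_ne_zero).mp
          (he1 d ((le_max_left _ _).trans hd))
        obtain ⟨⟨y, hy⟩, hy0'⟩ := (AddSubgroup.ne_bot_iff_exists_ne_zero).mp
          (he2 d ((le_max_right _ _).trans hd))
        have hx0 : x ≠ 0 := fun h => hx0' (Subtype.ext h)
        have hy0 : y ≠ 0 := fun h => hy0' (Subtype.ext h)
        have h3 : x ⊗ₜ[k] y ≠ 0 := tmul_ne_zero_of_field hx0 hy0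
        have h4 : x ⊗ₜ[k] y ∈ (GrSeg.segrePiece k ℳ 𝒩 d : Set (M ⊗[k] N)) :=
          Submodule.subset_span ⟨x, hx, y, hy, rfl⟩
        rw [← hP.image_piece d] at h4
        obtain ⟨p, hp, hpe⟩ := h4
        rw [hbot] at hp
        have hp0 : p = 0 := hp
        rw [hp0, map_zero] at hpe
        exact h3 hpe.symm
      have hntP : Nontrivial P := by
        obtain ⟨⟨p, hp⟩, hp0⟩ := (AddSubgroup.ne_bot_iff_exists_ne_zero).mp
          (hQ (max e1 e2) le_rfl)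
        exact ⟨⟨p, 0, fun h => hp0 (Subtype.ext h)⟩⟩
      refine ⟨hntP, fun n hn => ?_⟩
      by_contra hlt
      have hn0 : n = 0 := by omega
      have hvan : ∀ i : ℕ, 1 ≤ i → Subsingleton (LocCoh.H (idealTo 𝒯 mT).toIdeal i P) := by
        intro i hi
        apply LC.subsingleton_of_supportDim_lt
        rw [hn, hn0]
        exact_mod_cast hi
      obtain ⟨n0, hn0'⟩ := RegVan.eventually_bot_of_subsingleton (toAdd_neg_eq_bot 𝒯 hposT)
        (idealTo 𝒯 mT) hmT 𝒬 hvan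
      exact hQ (max (max e1 e2) n0) (le_max_left _ _) (hn0' _ (le_max_right _ _))
  obtain ⟨hntP, hlow⟩ := hlow
  obtain ⟨δ, hδ⟩ : ∃ n : ℕ, Module.supportDim T P = (n : WithBot ℕ∞) := by
    obtain ⟨n, hn⟩ := Gr.exists_ringKrullDim_eq (toAdd 𝒯) (toAdd_neg_eq_bot 𝒯 hposT)
      (isField_deg0 𝒯 h0T)
    exact exists_supportDim_eq_of_le n hn.le P
  have hup : δ < dM + dN := by
    obtain ⟨d1, hd1⟩ := exists_Hcomp_top_ne_bot_mod 𝒯 hposT h0T mT hmT 𝒬 EP δ hδ
    by_contra hge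
    have := finrank_Hcomp_segre_eq_zero k R 𝒜 hposR h0R S ℬ hposS h0S T 𝒯 ψ hT mR hmR mS hmS mT
      hmT M ℳ EM N 𝒩 EN P 𝒬 φ hP EP dM dN h1M h1N hdM.le hdN.le δ (by omega) d1
    exact hd1 ((Hcomp_eq_bot_iff_finrank 𝒯 𝒬 hposT h0T mT hmT EP δ d1).mpr this)
  have h2 := hlow δ hδ
  have h3 : δ = dM + dN - 1 := by omega
  rw [hδ, h3]

end Seg

end Groth.Agent.H6
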