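import Groth.Agent.Lib.Helper6.SegInst
import Groth.Agent.Lib.Helper6.GrFinite
import Groth.Agent.S18646

/-! The Künneth formula for the graded local cohomology of Segre products: final assembly. -/

universe u
open DirectSum TensorProduct
set_option linter.unusedSectionVars false

namespace Groth.Agent.H6

namespace Seg

open SegLA ToAdd

section Fin

variable {k : Type u} [Field k] {R : Type u} [CommRing R] [Algebra k R]
  (𝒜 : ℤ → Submodule k R) [GradedAlgebra 𝒜] [GradedRing (toAdd 𝒜)]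
variable {M : Type u} [AddCommGroup M] [Module R M] (ℳ : ℤ → AddSubgroup M)
  [DirectSum.Decomposition ℳ] [SetLike.GradedSMul 𝒜 ℳ] [SetLike.GradedSMul (toAdd 𝒜) ℳ]

theorem finite_comp_of_pos [IsNoetherianRing R] (hpos : ∀ n : ℤ, n < 0 → 𝒜 n = ⊥)
    (a : HomogeneousIdeal 𝒜)
    (ha : a.toIdeal = Ideal.span (⋃ n ∈ Set.Ioi (0 : ℤ), (𝒜 n : Set R))) [Module.Finite R M]
    (d : ℤ) : Module.Finite (GrLC.deg0 𝒜) ↥(GrLC.comp 𝒜 ℳ d) := by
  have hpos' : ∀ n : ℤ, n < 0 → toAdd 𝒜 n = ⊥ := by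
    intro n hn
    ext x
    rw [mem_toAdd, hpos n hn]
    rfl
  have ha' : (idealTo 𝒜 a).toIdeal =
      Ideal.span (⋃ n ∈ Set.Ioi (0 : ℤ), ((toAdd 𝒜 n : AddSubgroup R) : Set R)) := ha
  obtain ⟨G⟩ := Gr.exists_posGens (toAdd 𝒜) (idealTo 𝒜 a).toIdeal ha'
  have h1 := G.comp_module_fg ℳ hpos' (fun n hn y hy => Gr.mem_irrelevant_of_pos (idealTo 𝒜 a) ha' hn hy) d
  exact Module.Finite.iff_fg.mpr h1

theorem finite_Hcomp_of_pos [IsNoetherianRing R] (hpos : ∀ n : ℤ, n < 0 → 𝒜 n = ⊥)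
    (a : HomogeneousIdeal 𝒜)
    (ha : a.toIdeal = Ideal.span (⋃ n ∈ Set.Ioi (0 : ℤ), (𝒜 n : Set R))) [Module.Finite R M]
    (E : GrLC.StarInjRes 𝒜 ℳ) (i : ℕ) (d : ℤ) :
    Module.Finite (GrLC.deg0 𝒜) ↥(E.Hcomp a i d) := by
  have hpos' : ∀ n : ℤ, n < 0 → toAdd 𝒜 n = ⊥ := by
    intro n hn
    ext x
    rw [mem_toAdd, hpos n hn]
    rfl
  have ha' : (idealTo 𝒜 a).toIdeal =
      Ideal.span (⋃ n ∈ Set.Ioi (0 : ℤ), ((toAdd 𝒜 n : AddSubgroup R) : Set R)) := ha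
  have h1 := (Gr.finVan hpos' (idealTo 𝒜 a) ha' i M ℳ (resToM 𝒜 E)).1 d
  exact Module.Finite.iff_fg.mpr h1

end Fin

section Deg0

variable {k : Type u} [Field k] {R S T : Type u} [CommRing R] [CommRing S] [CommRing T]
  [Algebra k R] [Algebra k S] [Algebra k T]
  {𝒜 : ℤ → Submodule k R} [GradedAlgebra 𝒜] {ℬ : ℤ → Submodule k S} [GradedAlgebra ℬ]
  {𝒯 : ℤ → Submodule k T} [GradedAlgebra 𝒯]
  {ψ : T →ₐ[k] R ⊗[k] S}

theorem segre_nontrivial [Nontrivial R] [Nontrivial S] (ψ : T →ₐ[k] R ⊗[k] S) : Nontrivial T := by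
  haveI : Nontrivial (R ⊗[k] S) :=
    Algebra.TensorProduct.nontrivial_of_algebraMap_injective_of_flat_left k R S
      (algebraMap k S).injective
  exact ψ.toRingHom.domain_nontrivial

theorem segre_deg_zero (hT : GrSeg.IsSegreRing 𝒜 ℬ 𝒯 ψ)
    (h0R : 𝒜 0 = Submodule.span k {(1 : R)}) (h0S : ℬ 0 = Submodule.span k {(1 : S)}) :
    𝒯 0 = Submodule.span k {(1 : T)} := by
  apply le_antisymm
  · intro t ht
    have h1 : ψ t ∈ GrSeg.segrePiece k 𝒜 ℬ 0 := by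
      rw [← hT.2 0]
      exact ⟨t, ht, rfl⟩
    have h2 : GrSeg.segrePiece k 𝒜 ℬ 0 ≤ Submodule.span k {(1 : R ⊗[k] S)} := by
      rw [GrSeg.segrePiece]
      apply Submodule.span_le.mpr
      rintro x ⟨a, ha, b, hb, rfl⟩
      rw [h0R] at ha
      rw [h0S] at hb
      obtain ⟨c, rfl⟩ := Submodule.mem_span_singleton.mp ha
      obtain ⟨c', rfl⟩ := Submodule.mem_span_singleton.mp hb
      rw [TensorProduct.smul_tmul_smul]
      exact Submodule.smul_mem _ _ (Submodule.subset_span rfl)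
    obtain ⟨c, hc⟩ := Submodule.mem_span_singleton.mp (h2 h1)
    have h3 : ψ (c • (1 : T)) = ψ t := by
      rw [map_smul, map_one, hc]
    rw [← hT.1 h3]
    exact Submodule.smul_mem _ _ (Submodule.subset_span rfl)
  · apply Submodule.span_le.mpr
    rintro x rfl
    exact SetLike.GradedOne.one_mem (A := 𝒯)

end Deg0

/-- **the Künneth formula for the local cohomology of Segre products of modules**, degree by
degree -/
theorem kunneth_modules (k : Type u) [Field k] (R : Type u) [CommRing R] [Nontrivial R]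
    [Algebra k R] (𝒜 : ℤ → Submodule k R) [GradedAlgebra 𝒜] (hposR : ∀ n : ℤ, n < 0 → 𝒜 n = ⊥)
    (h0R : 𝒜 0 = Submodule.span k {(1 : R)}) [Algebra.FiniteType k R] (S : Type u) [CommRing S]
    [Nontrivial S] [Algebra k S] (ℬ : ℤ → Submodule k S) [GradedAlgebra ℬ]
    (hposS : ∀ n : ℤ, n < 0 → ℬ n = ⊥) (h0S : ℬ 0 = Submodule.span k {(1 : S)})
    [Algebra.FiniteType k S] (T : Type u) [CommRing T] [Algebra k T] (𝒯 : ℤ → Submodule k T)
    [GradedAlgebra 𝒯] (ψ : T →ₐ[k] TensorProduct k R S) (hT : GrSeg.IsSegreRing 𝒜 ℬ 𝒯 ψ)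
    (mR : HomogeneousIdeal 𝒜)
    (hmR : mR.toIdeal = Ideal.span (⋃ n ∈ Set.Ioi (0 : ℤ), (𝒜 n : Set R)))
    (mS : HomogeneousIdeal ℬ)
    (hmS : mS.toIdeal = Ideal.span (⋃ n ∈ Set.Ioi (0 : ℤ), (ℬ n : Set S)))
    (mT : HomogeneousIdeal 𝒯)
    (hmT : mT.toIdeal = Ideal.span (⋃ n ∈ Set.Ioi (0 : ℤ), (𝒯 n : Set T)))
    (M : Type u) [AddCommGroup M] [Module R M] [Module k M] [IsScalarTower k R M]
    (ℳ : ℤ → AddSubgroup M) [DirectSum.Decomposition ℳ] [SetLike.GradedSMul 𝒜 ℳ]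
    [Module.Finite R M] (EM : GrLC.StarInjRes 𝒜 ℳ)
    (N : Type u) [AddCommGroup N] [Module S N] [Module k N] [IsScalarTower k S N]
    (𝒩 : ℤ → AddSubgroup N) [DirectSum.Decomposition 𝒩] [SetLike.GradedSMul ℬ 𝒩]
    [Module.Finite S N] (EN : GrLC.StarInjRes ℬ 𝒩)
    (P : Type u) [AddCommGroup P] [Module T P] [Module k P] [IsScalarTower k T P]
    (𝒬 : ℤ → AddSubgroup P) [DirectSum.Decomposition 𝒬] [SetLike.GradedSMul 𝒯 𝒬]
    (φ : P →ₗ[k] TensorProduct k M N) (hP : GrSeg.IsSegreMod ψ ℳ 𝒩 𝒬 φ)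
    (EP : GrLC.StarInjRes 𝒯 𝒬)
    (hM : ∀ (q : ℕ) (d : ℤ), q ≤ 1 → EM.Hcomp mR q d = ⊥)
    (hN : ∀ (q : ℕ) (d : ℤ), q ≤ 1 → EN.Hcomp mS q d = ⊥) (q : ℕ) (d : ℤ) :
    Module.finrank (GrLC.deg0 𝒯) (EP.Hcomp mT q d) =
      Module.finrank (GrLC.deg0 𝒜) (GrLC.comp 𝒜 ℳ d) *
          Module.finrank (GrLC.deg0 ℬ) (EN.Hcomp mS q d) +
        Module.finrank (GrLC.deg0 𝒜) (EM.Hcomp mR q d) *
          Module.finrank (GrLC.deg0 ℬ) (GrLC.comp ℬ 𝒩 d) +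
        (Finset.range (q + 2)).sum (fun i => Module.finrank (GrLC.deg0 𝒜) (EM.Hcomp mR i d) *
          Module.finrank (GrLC.deg0 ℬ) (EN.Hcomp mS (q + 1 - i) d)) := by
  haveI : IsNoetherianRing R := Algebra.FiniteType.isNoetherianRing k R
  haveI : IsNoetherianRing S := Algebra.FiniteType.isNoetherianRing k S
  haveI : IsNoetherianRing T :=
    Groth.Agent.S18646.result k R 𝒜 hposR h0R S ℬ hposS h0S T 𝒯 ψ hT.1 hT.2
  haveI : Nontrivial T := segre_nontrivial ψ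
  have h0T : 𝒯 0 = Submodule.span k {(1 : T)} := segre_deg_zero hT h0R h0S
  letI := gradedRing_toAdd 𝒜
  letI := gradedRing_toAdd ℬ
  letI := gradedRing_toAdd 𝒯
  haveI := gradedSMul_to 𝒜 ℳ
  haveI := gradedSMul_to ℬ 𝒩
  haveI := gradedSMul_to 𝒯 𝒬
  letI : Module k (BigX 𝒜 EM) := Module.compHom _ (algebraMap k R)
  haveI : IsScalarTower k R (BigX 𝒜 EM) := compHom_tower R _
  letI := bigDecomposition 𝒜 EM
  haveI := big_gradedSMul 𝒜 EM
  letI : Module k (BigX ℬ EN) := Module.compHom _ (algebraMap k S)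
  haveI : IsScalarTower k S (BigX ℬ EN) := compHom_tower S _
  letI := bigDecomposition ℬ EN
  haveI := big_gradedSMul ℬ EN
  exact finrank_Hcomp_tot 𝒯 ψ hT (bigOf 𝒜 EM) (bigOf ℬ EN) hP mR hmR mS hmS mT hmT EP h0R h0S h0T
    hM hN (fun d => finite_comp_of_pos 𝒜 ℳ hposR mR hmR d)
    (fun i d => finite_Hcomp_of_pos 𝒜 ℳ hposR mR hmR EM i d)
    (fun d => finite_comp_of_pos ℬ 𝒩 hposS mS hmS d)
    (fun i d => finite_Hcomp_of_pos ℬ 𝒩 hposS mS hmS EN i d) q d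

end Seg

end Groth.Agent.H6
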