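import Groth.Agent.Lib.Helper6.SegTor
import Groth.Agent.Lib.Helper6.GamStep
import Groth.Agent.Lib.Helper6.GrVan

/-! Segre products of *injective modules are acyclic for the irrelevant ideal of the Segre
product. -/

universe u
open DirectSum TensorProduct
set_option linter.unusedSectionVars false

namespace Groth.Agent.H6

namespace Seg

open SegLA ToAdd

section SegGood

variable {k : Type u} [Field k] {R S T : Type u} [CommRing R] [CommRing S] [CommRing T]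
  [Algebra k R] [Algebra k S] [Algebra k T]
  (𝒜 : ℤ → Submodule k R) [GradedAlgebra 𝒜] (ℬ : ℤ → Submodule k S) [GradedAlgebra ℬ]
  (𝒯 : ℤ → Submodule k T) [GradedAlgebra 𝒯]
  (ψ : T →ₐ[k] R ⊗[k] S) (hT : GrSeg.IsSegreRing 𝒜 ℬ 𝒯 ψ)
  [GradedRing (toAdd 𝒜)] [GradedRing (toAdd ℬ)] [GradedRing (toAdd 𝒯)]
variable {X : Type u} [AddCommGroup X] [Module R X] [Module k X] [IsScalarTower k R X]
  (𝒳 : ℤ → AddSubgroup X) [DirectSum.Decomposition 𝒳] [SetLike.GradedSMul 𝒜 𝒳]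
variable {Y : Type u} [AddCommGroup Y] [Module S Y] [Module k Y] [IsScalarTower k S Y]
  (𝒴 : ℤ → AddSubgroup Y) [DirectSum.Decomposition 𝒴] [SetLike.GradedSMul ℬ 𝒴]

/-- the Segre product as a bundled graded module -/
noncomputable def segG : GrLC.GMod.{u} (toAdd 𝒯) := (TSub.full 𝒜 ℬ 𝒯 ψ 𝒳 𝒴 hT).toGMod 𝒯 hT

theorem isSegreMod_full :
    letI := (TSub.full 𝒜 ℬ 𝒯 ψ 𝒳 𝒴 hT).decomposition
    GrSeg.IsSegreMod ψ 𝒳 𝒴 (TSub.full 𝒜 ℬ 𝒯 ψ 𝒳 𝒴 hT).gr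
      (TSub.full 𝒜 ℬ 𝒯 ψ 𝒳 𝒴 hT).U.subtype := by
  letI := (TSub.full 𝒜 ℬ 𝒯 ψ 𝒳 𝒴 hT).decomposition
  refine ⟨Subtype.val_injective, ?_, fun t p => rfl⟩
  intro n
  ext w
  constructor
  · rintro ⟨u, hu, rfl⟩
    exact hu
  · intro hw
    exact ⟨⟨w, piece_le_seg 𝒳 𝒴 n hw⟩, hw, rfl⟩

variable (mT : HomogeneousIdeal (toAdd 𝒯))
  (hmT : mT.toIdeal = Ideal.span (⋃ n ∈ Set.Ioi (0 : ℤ), (𝒯 n : Set T)))

include hmT in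
theorem van_of_bij [IsNoetherianRing T] {d : ℤ} (hd : 0 < d) {x : R} (hx : x ∈ 𝒜 d)
    (hbx : Function.Bijective (fun u : X => x • u)) {e : ℤ} (he : 0 < e) {y : S} (hy : y ∈ ℬ e)
    (hby : Function.Bijective (fun u : Y => y • u)) :
    Gr.Van mT (segG 𝒜 ℬ 𝒯 ψ hT 𝒳 𝒴) := by
  letI := (TSub.full 𝒜 ℬ 𝒯 ψ 𝒳 𝒴 hT).decomposition
  have hd' : ((d.toNat : ℕ) : ℤ) = d := Int.toNat_of_nonneg hd.le
  have he' : ((e.toNat : ℕ) : ℤ) = e := Int.toNat_of_nonneg he.le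
  obtain ⟨c, t, hc, ht, hbij⟩ := Groth.Agent.H9.SegreBij.exists_bijective 𝒜 ℬ 𝒯 ψ 𝒳 𝒴
    (TSub.full 𝒜 ℬ 𝒯 ψ 𝒳 𝒴 hT).gr (TSub.full 𝒜 ℬ 𝒯 ψ 𝒳 𝒴 hT).U.subtype hT
    (isSegreMod_full 𝒜 ℬ 𝒯 ψ hT 𝒳 𝒴) d.toNat (by omega) x (by rw [hd']; exact hx) hbx
    e.toNat (by omega) y (by rw [he']; exact hy) hby
  have htm : t ∈ mT.toIdeal := by
    rw [hmT]
    apply Ideal.subset_span
    simp only [Set.mem_iUnion, Set.mem_Ioi, SetLike.mem_coe, exists_prop]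
    exact ⟨c, hc, ht⟩
  exact Gr.Van.of_bijective (segG 𝒜 ℬ 𝒯 ψ hT 𝒳 𝒴) htm hbij

variable {X' : Type u} [AddCommGroup X'] [Module R X'] [Module k X'] [IsScalarTower k R X']
  (𝒳' : ℤ → AddSubgroup X') [DirectSum.Decomposition 𝒳'] [SetLike.GradedSMul 𝒜 𝒳']
variable {Y' : Type u} [AddCommGroup Y'] [Module S Y'] [Module k Y'] [IsScalarTower k S Y']
  (𝒴' : ℤ → AddSubgroup Y') [DirectSum.Decomposition 𝒴'] [SetLike.GradedSMul ℬ 𝒴']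

/-- the map of Segre products induced by graded maps -/
noncomputable def segMap {f : X →ₗ[R] X'} {g : Y →ₗ[S] Y'} (hf : GrLC.IsGrHom 𝒳 𝒳' f)
    (hg : GrLC.IsGrHom 𝒴 𝒴' g) :
    (segG 𝒜 ℬ 𝒯 ψ hT 𝒳 𝒴).carrier →ₗ[T] (segG 𝒜 ℬ 𝒯 ψ hT 𝒳' 𝒴').carrier :=
  TSub.map (TSub.full 𝒜 ℬ 𝒯 ψ 𝒳 𝒴 hT) (TSub.full 𝒜 ℬ 𝒯 ψ 𝒳' 𝒴' hT) f g
    (fun _ hu => tmap_mem_seg hf hg hu)

theorem coe_segMap {f : X →ₗ[R] X'} {g : Y →ₗ[S] Y'} (hf : GrLC.IsGrHom 𝒳 𝒳' f)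
    (hg : GrLC.IsGrHom 𝒴 𝒴' g) (u : (segG 𝒜 ℬ 𝒯 ψ hT 𝒳 𝒴).carrier) :
    (segMap 𝒜 ℬ 𝒯 ψ hT 𝒳 𝒴 𝒳' 𝒴' hf hg u : ↥(seg 𝒳' 𝒴')).1 =
      tmap f g (u : ↥(seg 𝒳 𝒴)).1 := rfl

theorem segMap_isGrHom {f : X →ₗ[R] X'} {g : Y →ₗ[S] Y'} (hf : GrLC.IsGrHom 𝒳 𝒳' f)
    (hg : GrLC.IsGrHom 𝒴 𝒴' g) :
    GrLC.IsGrHom (segG 𝒜 ℬ 𝒯 ψ hT 𝒳 𝒴).gr (segG 𝒜 ℬ 𝒯 ψ hT 𝒳' 𝒴').gr
      (segMap 𝒜 ℬ 𝒯 ψ hT 𝒳 𝒴 𝒳' 𝒴' hf hg) :=
  fun _ _ hu => tmap_mem_piece hf hg hu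

theorem segMap_injective {f : X →ₗ[R] X'} {g : Y →ₗ[S] Y'} (hf : GrLC.IsGrHom 𝒳 𝒳' f)
    (hg : GrLC.IsGrHom 𝒴 𝒴' g) (hfi : Function.Injective f) (hgi : Function.Injective g) :
    Function.Injective (segMap 𝒜 ℬ 𝒯 ψ hT 𝒳 𝒴 𝒳' 𝒴' hf hg) := by
  intro u v huv
  apply Subtype.ext
  apply tmap_injective (k := k) hfi hgi
  exact congrArg Subtype.val huv

theorem segMap_surjective {f : X →ₗ[R] X'} {g : Y →ₗ[S] Y'} (hf : GrLC.IsGrHom 𝒳 𝒳' f)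
    (hg : GrLC.IsGrHom 𝒴 𝒴' g) (hfs : Function.Surjective f) (hgs : Function.Surjective g) :
    Function.Surjective (segMap 𝒜 ℬ 𝒯 ψ hT 𝒳 𝒴 𝒳' 𝒴' hf hg) := by
  intro u'
  obtain ⟨w, hw, hww⟩ := exists_tmap_eq 𝒳 𝒴 hf hg hfs hgs (u' : ↥(seg 𝒳' 𝒴')).2
  exact ⟨(⟨w, hw⟩ : ↥(seg 𝒳 𝒴)), Subtype.ext hww⟩

variable {X'' : Type u} [AddCommGroup X''] [Module R X''] [Module k X''] [IsScalarTower k R X'']
  (𝒳'' : ℤ → AddSubgroup X'') [DirectSum.Decomposition 𝒳''] [SetLike.GradedSMul 𝒜 𝒳'']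
variable {Y'' : Type u} [AddCommGroup Y''] [Module S Y''] [Module k Y''] [IsScalarTower k S Y'']
  (𝒴'' : ℤ → AddSubgroup Y'') [DirectSum.Decomposition 𝒴''] [SetLike.GradedSMul ℬ 𝒴'']

theorem isGrHom_id' {M : Type u} [AddCommGroup M] {A : Type u} [CommRing A] [Module A M]
    (ℳ : ℤ → AddSubgroup M) : GrLC.IsGrHom ℳ ℳ (LinearMap.id : M →ₗ[A] M) := fun _ _ h => h

/-- exactness of the Segre product in the first variable -/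
theorem ses_left {i : X' →ₗ[R] X} {p : X →ₗ[R] X''} (hS : Gr.GrSES 𝒳' 𝒳 𝒳'' i p) :
    Gr.GrSES (segG 𝒜 ℬ 𝒯 ψ hT 𝒳' 𝒴).gr (segG 𝒜 ℬ 𝒯 ψ hT 𝒳 𝒴).gr (segG 𝒜 ℬ 𝒯 ψ hT 𝒳'' 𝒴).gr
      (segMap 𝒜 ℬ 𝒯 ψ hT 𝒳' 𝒴 𝒳 𝒴 hS.hi (isGrHom_id' 𝒴))
      (segMap 𝒜 ℬ 𝒯 ψ hT 𝒳 𝒴 𝒳'' 𝒴 hS.hp (isGrHom_id' 𝒴)) where
  hi := segMap_isGrHom 𝒜 ℬ 𝒯 ψ hT 𝒳' 𝒴 𝒳 𝒴 hS.hi (isGrHom_id' 𝒴)
  hp := segMap_isGrHom 𝒜 ℬ 𝒯 ψ hT 𝒳 𝒴 𝒳'' 𝒴 hS.hp (isGrHom_id' 𝒴)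
  inj := segMap_injective 𝒜 ℬ 𝒯 ψ hT 𝒳' 𝒴 𝒳 𝒴 hS.hi (isGrHom_id' 𝒴) hS.inj Function.injective_id
  surj := segMap_surjective 𝒜 ℬ 𝒯 ψ hT 𝒳 𝒴 𝒳'' 𝒴 hS.hp (isGrHom_id' 𝒴) hS.surj
    Function.surjective_id
  exact := by
    intro u
    constructor
    · intro hu
      have h0 : tmap p (LinearMap.id : Y →ₗ[S] Y) (u : ↥(seg 𝒳 𝒴)).1 = 0 :=
        congrArg Subtype.val hu
      obtain ⟨w', hw', hww⟩ := exact_left 𝒜 ℬ hS (u : ↥(seg 𝒳 𝒴)).2 h0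
      exact ⟨(⟨w', hw'⟩ : ↥(seg 𝒳' 𝒴)), Subtype.ext hww⟩
    · rintro ⟨u', rfl⟩
      apply Subtype.ext
      change tmap p (LinearMap.id : Y →ₗ[S] Y) (tmap i (LinearMap.id : Y →ₗ[S] Y)
        (u' : ↥(seg 𝒳' 𝒴)).1) = 0
      generalize (u' : ↥(seg 𝒳' 𝒴)).1 = w
      induction w using TensorProduct.induction_on with
      | zero => simp
      | tmul x y =>
        rw [tmap_tmul, tmap_tmul, (hS.exact (i x)).mpr ⟨x, rfl⟩, zero_tmul]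
      | add a b ha hb => rw [map_add, map_add, ha, hb, add_zero]

/-- exactness of the Segre product in the second variable -/
theorem ses_right {i : Y' →ₗ[S] Y} {p : Y →ₗ[S] Y''} (hS : Gr.GrSES 𝒴' 𝒴 𝒴'' i p) :
    Gr.GrSES (segG 𝒜 ℬ 𝒯 ψ hT 𝒳 𝒴').gr (segG 𝒜 ℬ 𝒯 ψ hT 𝒳 𝒴).gr (segG 𝒜 ℬ 𝒯 ψ hT 𝒳 𝒴'').gr
      (segMap 𝒜 ℬ 𝒯 ψ hT 𝒳 𝒴' 𝒳 𝒴 (isGrHom_id' 𝒳) hS.hi)
      (segMap 𝒜 ℬ 𝒯 ψ hT 𝒳 𝒴 𝒳 𝒴'' (isGrHom_id' 𝒳) hS.hp) where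
  hi := segMap_isGrHom 𝒜 ℬ 𝒯 ψ hT 𝒳 𝒴' 𝒳 𝒴 (isGrHom_id' 𝒳) hS.hi
  hp := segMap_isGrHom 𝒜 ℬ 𝒯 ψ hT 𝒳 𝒴 𝒳 𝒴'' (isGrHom_id' 𝒳) hS.hp
  inj := segMap_injective 𝒜 ℬ 𝒯 ψ hT 𝒳 𝒴' 𝒳 𝒴 (isGrHom_id' 𝒳) hS.hi Function.injective_id hS.inj
  surj := segMap_surjective 𝒜 ℬ 𝒯 ψ hT 𝒳 𝒴 𝒳 𝒴'' (isGrHom_id' 𝒳) hS.hp Function.surjective_id
    hS.surj
  exact := by
    intro u
    constructor
    · intro hu
      have h0 : tmap (LinearMap.id : X →ₗ[R] X) p (u : ↥(seg 𝒳 𝒴)).1 = 0 :=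
        congrArg Subtype.val hu
      obtain ⟨w', hw', hww⟩ := exact_right 𝒜 ℬ hS (u : ↥(seg 𝒳 𝒴)).2 h0
      exact ⟨(⟨w', hw'⟩ : ↥(seg 𝒳 𝒴')), Subtype.ext hww⟩
    · rintro ⟨u', rfl⟩
      apply Subtype.ext
      change tmap (LinearMap.id : X →ₗ[R] X) p (tmap (LinearMap.id : X →ₗ[R] X) i
        (u' : ↥(seg 𝒳 𝒴')).1) = 0
      generalize (u' : ↥(seg 𝒳 𝒴')).1 = w
      induction w using TensorProduct.induction_on with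
      | zero => simp
      | tmul x y =>
        rw [tmap_tmul, tmap_tmul, (hS.exact (i y)).mpr ⟨y, rfl⟩, tmul_zero]
      | add a b ha hb => rw [map_add, map_add, ha, hb, add_zero]

end SegGood

section Bundled

variable {k : Type u} [Field k] {R S T : Type u} [CommRing R] [CommRing S] [CommRing T]
  [Algebra k R] [Algebra k S] [Algebra k T]
  (𝒜 : ℤ → Submodule k R) [GradedAlgebra 𝒜] (ℬ : ℤ → Submodule k S) [GradedAlgebra ℬ]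
  (𝒯 : ℤ → Submodule k T) [GradedAlgebra 𝒯]
  (ψ : T →ₐ[k] R ⊗[k] S) (hT : GrSeg.IsSegreRing 𝒜 ℬ 𝒯 ψ)
  [GradedRing (toAdd 𝒜)] [GradedRing (toAdd ℬ)] [GradedRing (toAdd 𝒯)]

/-- the Segre product of bundled graded modules -/
noncomputable def segB (U : GrLC.GMod.{u} (toAdd 𝒜)) (W : GrLC.GMod.{u} (toAdd ℬ))
    [Module k U.carrier] [IsScalarTower k R U.carrier] [Module k W.carrier]
    [IsScalarTower k S W.carrier] : GrLC.GMod.{u} (toAdd 𝒯) :=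
  letI := gradedSMul_of 𝒜 U.gr
  letI := gradedSMul_of ℬ W.gr
  segG 𝒜 ℬ 𝒯 ψ hT U.gr W.gr

variable (mT : HomogeneousIdeal (toAdd 𝒯))
  (hmT : mT.toIdeal = Ideal.span (⋃ n ∈ Set.Ioi (0 : ℤ), (𝒯 n : Set T)))

theorem compHom_tower (A : Type u) [CommRing A] [Algebra k A] (M : Type u) [AddCommGroup M]
    [Module A M] :
    letI : Module k M := Module.compHom M (algebraMap k A)
    IsScalarTower k A M := by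
  letI : Module k M := Module.compHom M (algebraMap k A)
  exact IsScalarTower.of_algebraMap_smul fun _ _ => rfl

include hmT in
theorem van_of_good [IsNoetherianRing T] {U : GrLC.GMod.{u} (toAdd 𝒜)}
    (hU : Gr.Good (toAdd 𝒜) U) :
    ∀ (_ : Module k U.carrier) (_ : IsScalarTower k R U.carrier) (W : GrLC.GMod.{u} (toAdd ℬ))
      (_ : Gr.Good (toAdd ℬ) W) (_ : Module k W.carrier) (_ : IsScalarTower k S W.carrier),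
      Gr.Van mT (segB 𝒜 ℬ 𝒯 ψ hT U W) := by
  induction hU with
  | bij U d hd x hx hb =>
    intro _ _ W hW
    induction hW with
    | bij W e he y hy hb' =>
      intro _ _
      letI := gradedSMul_of 𝒜 U.gr
      letI := gradedSMul_of ℬ W.gr
      exact van_of_bij 𝒜 ℬ 𝒯 ψ hT U.gr W.gr mT hmT hd hx hb he hy hb'
    | ses W' W W'' i p hS h' h'' ih' ih'' =>
      intro _ _
      letI : Module k W'.carrier := Module.compHom _ (algebraMap k S)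
      haveI : IsScalarTower k S W'.carrier := compHom_tower S W'.carrier
      letI : Module k W''.carrier := Module.compHom _ (algebraMap k S)
      haveI : IsScalarTower k S W''.carrier := compHom_tower S W''.carrier
      letI := gradedSMul_of 𝒜 U.gr
      letI := gradedSMul_of ℬ W.gr
      letI := gradedSMul_of ℬ W'.gr
      letI := gradedSMul_of ℬ W''.gr
      exact Gr.Van.of_ses (U' := segB 𝒜 ℬ 𝒯 ψ hT U W') (U := segB 𝒜 ℬ 𝒯 ψ hT U W)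
        (U'' := segB 𝒜 ℬ 𝒯 ψ hT U W'') (ses_right 𝒜 ℬ 𝒯 ψ hT U.gr W.gr W'.gr W''.gr hS)
        (ih' _ _) (ih'' _ _)
  | ses U' U U'' i p hS h' h'' ih' ih'' =>
    intro _ _ W hW _ _
    letI : Module k U'.carrier := Module.compHom _ (algebraMap k R)
    haveI : IsScalarTower k R U'.carrier := compHom_tower R U'.carrier
    letI : Module k U''.carrier := Module.compHom _ (algebraMap k R)
    haveI : IsScalarTower k R U''.carrier := compHom_tower R U''.carrier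
    letI := gradedSMul_of 𝒜 U.gr
    letI := gradedSMul_of 𝒜 U'.gr
    letI := gradedSMul_of 𝒜 U''.gr
    letI := gradedSMul_of ℬ W.gr
    exact Gr.Van.of_ses (U' := segB 𝒜 ℬ 𝒯 ψ hT U' W) (U := segB 𝒜 ℬ 𝒯 ψ hT U W)
      (U'' := segB 𝒜 ℬ 𝒯 ψ hT U'' W) (ses_left 𝒜 ℬ 𝒯 ψ hT U.gr W.gr U'.gr U''.gr hS)
      (ih' _ _ W hW _ _) (ih'' _ _ W hW _ _)

end Bundled

section Acyc

variable {k : Type u} [Field k] {R S T : Type u} [CommRing R] [CommRing S] [CommRing T]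
  [Algebra k R] [Algebra k S] [Algebra k T]
  (𝒜 : ℤ → Submodule k R) [GradedAlgebra 𝒜] (ℬ : ℤ → Submodule k S) [GradedAlgebra ℬ]
  (𝒯 : ℤ → Submodule k T) [GradedAlgebra 𝒯]
  (ψ : T →ₐ[k] R ⊗[k] S) (hT : GrSeg.IsSegreRing 𝒜 ℬ 𝒯 ψ)
  [GradedRing (toAdd 𝒜)] [GradedRing (toAdd ℬ)] [GradedRing (toAdd 𝒯)]
variable {X : Type u} [AddCommGroup X] [Module R X] [Module k X] [IsScalarTower k R X]
  (𝒳 : ℤ → AddSubgroup X) [DirectSum.Decomposition 𝒳] [SetLike.GradedSMul 𝒜 𝒳]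
variable {Y : Type u} [AddCommGroup Y] [Module S Y] [Module k Y] [IsScalarTower k S Y]
  (𝒴 : ℤ → AddSubgroup Y) [DirectSum.Decomposition 𝒴] [SetLike.GradedSMul ℬ 𝒴]
variable {X' : Type u} [AddCommGroup X'] [Module R X'] [Module k X'] [IsScalarTower k R X']
variable {Y' : Type u} [AddCommGroup Y'] [Module S Y'] [Module k Y'] [IsScalarTower k S Y']

/-- the kernel of the tensor product of two surjections with kernels the torsion is the kernel of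
`qq` -/
theorem tmap_eq_zero_iff_qq (mR : Ideal R) (mS : Ideal S) {q : X →ₗ[R] X'} {q' : Y →ₗ[S] Y'}
    (hkq : LinearMap.ker q = GrLC.gam mR X) (hkq' : LinearMap.ker q' = GrLC.gam mS Y)
    (w : X ⊗[k] Y) : tmap q q' w = 0 ↔ qq mR mS w = 0 := by
  let f : (X ⧸ GrLC.gam mR X) →ₗ[R] X' := (GrLC.gam mR X).liftQ q hkq.ge
  let f' : (Y ⧸ GrLC.gam mS Y) →ₗ[S] Y' := (GrLC.gam mS Y).liftQ q' hkq'.ge
  have hf : Function.Injective f := by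
    rw [← LinearMap.ker_eq_bot]
    exact Submodule.ker_liftQ_eq_bot _ _ _ hkq.le
  have hf' : Function.Injective f' := by
    rw [← LinearMap.ker_eq_bot]
    exact Submodule.ker_liftQ_eq_bot _ _ _ hkq'.le
  have h1 : ∀ w : X ⊗[k] Y, tmap q q' w = tmap f f' (qq mR mS w) := by
    intro w
    induction w using TensorProduct.induction_on with
    | zero => simp
    | tmul x y => rfl
    | add a b ha hb => rw [map_add, map_add, map_add, ha, hb]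
  rw [h1]
  constructor
  · intro h
    apply tmap_injective (k := k) hf hf'
    rw [h, map_zero]
  · intro h
    rw [h, map_zero]

variable (mR : HomogeneousIdeal (toAdd 𝒜))
  (hmR : mR.toIdeal = Ideal.span (⋃ n ∈ Set.Ioi (0 : ℤ), (𝒜 n : Set R)))
  (mS : HomogeneousIdeal (toAdd ℬ))
  (hmS : mS.toIdeal = Ideal.span (⋃ n ∈ Set.Ioi (0 : ℤ), (ℬ n : Set S)))
  (mT : HomogeneousIdeal (toAdd 𝒯))
  (hmT : mT.toIdeal = Ideal.span (⋃ n ∈ Set.Ioi (0 : ℤ), (𝒯 n : Set T)))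

include hmR hmS hmT in
/-- the Segre product of *injective modules is acyclic -/
theorem acyc_seg [IsNoetherianRing R] [IsNoetherianRing S] [IsNoetherianRing T]
    (hX : GrLC.IsStarInj 𝒜 𝒳) (hY : GrLC.IsStarInj ℬ 𝒴) :
    Gr.Acyc mT (segG 𝒜 ℬ 𝒯 ψ hT 𝒳 𝒴) := by
  letI := gradedSMul_to 𝒜 𝒳
  letI := gradedSMul_to ℬ 𝒴
  have hX' : GrLC.IsStarInj (toAdd 𝒜) 𝒳 := isStarInj_to 𝒜 𝒳 hX
  have hY' : GrLC.IsStarInj (toAdd ℬ) 𝒴 := isStarInj_to ℬ 𝒴 hY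
  have hU : Gr.Good (toAdd 𝒜) (Gr.gamQuot (toAdd 𝒜) 𝒳 mR) :=
    Gr.good_irrelevant (toAdd 𝒜) 𝒳 hX' mR hmR
  have hW : Gr.Good (toAdd ℬ) (Gr.gamQuot (toAdd ℬ) 𝒴 mS) :=
    Gr.good_irrelevant (toAdd ℬ) 𝒴 hY' mS hmS
  letI : Module k (Gr.gamQuot (toAdd 𝒜) 𝒳 mR).carrier := Module.compHom _ (algebraMap k R)
  haveI : IsScalarTower k R (Gr.gamQuot (toAdd 𝒜) 𝒳 mR).carrier := compHom_tower R _
  letI : Module k (Gr.gamQuot (toAdd ℬ) 𝒴 mS).carrier := Module.compHom _ (algebraMap k S)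
  haveI : IsScalarTower k S (Gr.gamQuot (toAdd ℬ) 𝒴 mS).carrier := compHom_tower S _
  have hvan : Gr.Van mT (segB 𝒜 ℬ 𝒯 ψ hT (Gr.gamQuot (toAdd 𝒜) 𝒳 mR)
      (Gr.gamQuot (toAdd ℬ) 𝒴 mS)) :=
    van_of_good 𝒜 ℬ 𝒯 ψ hT mT hmT hU inferInstance inferInstance _ hW inferInstance
      inferInstance
  letI := gradedSMul_of 𝒜 (Gr.gamQuot (toAdd 𝒜) 𝒳 mR).gr
  letI := gradedSMul_of ℬ (Gr.gamQuot (toAdd ℬ) 𝒴 mS).gr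
  let P := segMap 𝒜 ℬ 𝒯 ψ hT 𝒳 𝒴 (Gr.gamQuot (toAdd 𝒜) 𝒳 mR).gr (Gr.gamQuot (toAdd ℬ) 𝒴 mS).gr
    (Gr.gamQuotMk_isGrHom (toAdd 𝒜) 𝒳 mR) (Gr.gamQuotMk_isGrHom (toAdd ℬ) 𝒴 mS)
  have hP : GrLC.IsGrHom (segG 𝒜 ℬ 𝒯 ψ hT 𝒳 𝒴).gr
      (segB 𝒜 ℬ 𝒯 ψ hT (Gr.gamQuot (toAdd 𝒜) 𝒳 mR) (Gr.gamQuot (toAdd ℬ) 𝒴 mS)).gr P :=
    segMap_isGrHom 𝒜 ℬ 𝒯 ψ hT 𝒳 𝒴 _ _ _ _
  have hK : (LinearMap.ker P).IsHomogeneous (segG 𝒜 ℬ 𝒯 ψ hT 𝒳 𝒴).gr :=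
    Gr.ker_isHomogeneous (segG 𝒜 ℬ 𝒯 ψ hT 𝒳 𝒴).gr
      (segB 𝒜 ℬ 𝒯 ψ hT (Gr.gamQuot (toAdd 𝒜) 𝒳 mR) (Gr.gamQuot (toAdd ℬ) 𝒴 mS)).gr hP
  let U₀ : GrLC.GMod.{u} (toAdd 𝒯) := Gr.GMod.ofSub (toAdd 𝒯) (segG 𝒜 ℬ 𝒯 ψ hT 𝒳 𝒴).gr hK
  let i : U₀.carrier →ₗ[T] (segG 𝒜 ℬ 𝒯 ψ hT 𝒳 𝒴).carrier := (LinearMap.ker P).subtype
  have hS : Gr.GrSES U₀.gr (segG 𝒜 ℬ 𝒯 ψ hT 𝒳 𝒴).gr
      (segB 𝒜 ℬ 𝒯 ψ hT (Gr.gamQuot (toAdd 𝒜) 𝒳 mR) (Gr.gamQuot (toAdd ℬ) 𝒴 mS)).gr i P :=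
    { hi := fun g z hz => hz
      hp := hP
      inj := Subtype.val_injective
      surj := segMap_surjective 𝒜 ℬ 𝒯 ψ hT 𝒳 𝒴 _ _ _ _
        (Gr.gamQuotMk_surjective (toAdd 𝒜) 𝒳 mR) (Gr.gamQuotMk_surjective (toAdd ℬ) 𝒴 mS)
      exact := by
        intro m
        constructor
        · intro hm
          exact ⟨⟨m, hm⟩, rfl⟩
        · rintro ⟨m', rfl⟩
          exact m'.2 }
  have htor : GrLC.gam mT.toIdeal U₀.carrier = ⊤ := by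
    rw [eq_top_iff]
    intro u _
    have h1 : P (i u) = 0 := u.2
    have h2 : tmap (Gr.gamQuotMk (toAdd 𝒜) 𝒳 mR) (Gr.gamQuotMk (toAdd ℬ) 𝒴 mS)
        (i u : ↥(seg 𝒳 𝒴)).1 = 0 := congrArg Subtype.val h1
    rw [tmap_eq_zero_iff_qq mR.toIdeal mS.toIdeal (Gr.ker_gamQuotMk (toAdd 𝒜) 𝒳 mR)
      (Gr.ker_gamQuotMk (toAdd ℬ) 𝒴 mS)] at h2
    have h3 := (mem_gam_iff 𝒜 ℬ 𝒯 ψ hT mR.toIdeal hmR mS.toIdeal hmS mT.toIdeal hmT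
      (TSub.full 𝒜 ℬ 𝒯 ψ 𝒳 𝒴 hT) (i u)).mpr h2
    obtain ⟨n, hn⟩ := h3
    exact ⟨n, fun r hr => Subtype.ext (hn r hr)⟩
  exact Gr.Acyc.of_ses hS (Gr.Acyc.of_torsion U₀ htor) hvan.acyc

end Acyc

end Seg

end Groth.Agent.H6
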