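import Groth.Agent.Lib.Helper6.SegCMMod2

/-! Segre products `R(a) # S(b)` of shifts of Cohen–Macaulay graded rings: the Künneth formula and
the dimension. -/

universe u
open DirectSum TensorProduct
set_option linter.unusedSectionVars false

namespace Groth.Agent.H6

namespace Seg

open SegLA ToAdd

section Bridge

variable {k : Type u} [Field k] {R : Type u} [CommRing R] [Nontrivial R] [Algebra k R]
  (𝒜 : ℤ → Submodule k R) [GradedAlgebra 𝒜] [GradedRing (toAdd 𝒜)]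
  [SetLike.GradedSMul 𝒜 (toAdd 𝒜)] (a : ℤ)
  [DirectSum.Decomposition (Gr.shiftGr (toAdd 𝒜) (-a))]
  [SetLike.GradedSMul (toAdd 𝒜) (Gr.shiftGr (toAdd 𝒜) (-a))]
  [SetLike.GradedSMul 𝒜 (Gr.shiftGr (toAdd 𝒜) (-a))]

theorem finrank_comp_shift (h0 : 𝒜 0 = Submodule.span k {(1 : R)}) (d : ℤ) :
    Module.finrank (GrLC.deg0 𝒜) ↥(GrLC.comp 𝒜 (Gr.shiftGr (toAdd 𝒜) (-a)) d) =
      Module.finrank k ↥(𝒜 (d + a)) := by
  have h1 := finrank_comp_self 𝒜 h0 (d - -a)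
  rw [sub_neg_eq_add] at h1
  rw [← h1]
  have h2 : d + a = d - -a := (sub_neg_eq_add d a).symm
  rw [h2]
  rfl

end Bridge


section ShiftCM

variable (k : Type u) [Field k] (R : Type u) [CommRing R] [Nontrivial R]
    [Algebra k R] (𝒜 : ℤ → Submodule k R) [GradedAlgebra 𝒜] (hposR : ∀ n : ℤ, n < 0 → 𝒜 n = ⊥)
    (h0R : 𝒜 0 = Submodule.span k {(1 : R)}) [Algebra.FiniteType k R] (S : Type u) [CommRing S]
    [Nontrivial S] [Algebra k S] (ℬ : ℤ → Submodule k S) [GradedAlgebra ℬ]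
    (hposS : ∀ n : ℤ, n < 0 → ℬ n = ⊥) (h0S : ℬ 0 = Submodule.span k {(1 : S)})
    [Algebra.FiniteType k S] (T : Type u) [CommRing T] [Algebra k T] (𝒯 : ℤ → Submodule k T)
    [GradedAlgebra 𝒯] (ψ : T →ₐ[k] TensorProduct k R S) (hT : GrSeg.IsSegreRing 𝒜 ℬ 𝒯 ψ)
    [LocCoh.IsCohenMacaulayRing R] [LocCoh.IsCohenMacaulayRing S]
    (mR : HomogeneousIdeal 𝒜)
    (hmR : mR.toIdeal = Ideal.span (⋃ n ∈ Set.Ioi (0 : ℤ), (𝒜 n : Set R)))
    (mS : HomogeneousIdeal ℬ)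
    (hmS : mS.toIdeal = Ideal.span (⋃ n ∈ Set.Ioi (0 : ℤ), (ℬ n : Set S)))
    (mT : HomogeneousIdeal 𝒯)
    (hmT : mT.toIdeal = Ideal.span (⋃ n ∈ Set.Ioi (0 : ℤ), (𝒯 n : Set T)))
    (I : GrLC.StarInjRes 𝒜 𝒜) (J : GrLC.StarInjRes ℬ ℬ) (a b : ℤ)
    (P : Type u) [AddCommGroup P] [Module T P] [Module k P] [IsScalarTower k T P]
    (𝒬 : ℤ → AddSubgroup P) [DirectSum.Decomposition 𝒬] [SetLike.GradedSMul 𝒯 𝒬]
    (φ : P →ₗ[k] TensorProduct k R S)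
    (hP : GrSeg.IsSegreMod ψ (fun n : ℤ => 𝒜 (n + a)) (fun n : ℤ => ℬ (n + b)) 𝒬 φ)
    (EP : GrLC.StarInjRes 𝒯 𝒬) (r s : ℕ) (h1r : 1 ≤ r) (h1s : 1 ≤ s)
    (hr : ringKrullDim R = r) (hs : ringKrullDim S = s)

omit [Nontrivial R] [Nontrivial S] [Algebra.FiniteType k R] [Algebra.FiniteType k S]
  [LocCoh.IsCohenMacaulayRing R] [LocCoh.IsCohenMacaulayRing S] [SetLike.GradedSMul 𝒯 𝒬] in
include hP in
/-- the Segre module structure in terms of the shifted gradings by additive subgroups -/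
theorem isSegreMod_shift [GradedRing (toAdd 𝒜)] [GradedRing (toAdd ℬ)] :
    GrSeg.IsSegreMod ψ (Gr.shiftGr (toAdd 𝒜) (-a)) (Gr.shiftGr (toAdd ℬ) (-b)) 𝒬 φ := by
  refine ⟨hP.injective, fun n => ?_, hP.map_smul⟩
  rw [hP.image_piece n]
  congr 1
  unfold GrSeg.segrePiece
  congr 1
  ext x
  simp only [Set.mem_setOf_eq]
  constructor
  · rintro ⟨u, hu, v, hv, rfl⟩
    refine ⟨u, ?_, v, ?_, rfl⟩
    · change u ∈ 𝒜 (n - -a)
      rw [sub_neg_eq_add]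
      exact hu
    · change v ∈ ℬ (n - -b)
      rw [sub_neg_eq_add]
      exact hv
  · rintro ⟨u, hu, v, hv, rfl⟩
    refine ⟨u, ?_, v, ?_, rfl⟩
    · have : u ∈ 𝒜 (n - -a) := hu
      rwa [sub_neg_eq_add] at this
    · have : v ∈ ℬ (n - -b) := hv
      rwa [sub_neg_eq_add] at this

set_option maxHeartbeats 1600000 in
include hposR h0R hposS h0S hT hmR hmS hmT hP h1r h1s hr hs in
/-- the vanishing of the graded local cohomology and the dimension for `R(a) # S(b)`, `R` and `S`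
Cohen–Macaulay of positive dimension -/
theorem kunneth_shift [Nontrivial P] [Module.Finite T P] :
    (∀ (q : ℕ) (d : ℤ), EP.Hcomp mT q d = ⊥ ↔
      (𝒜 (d + a) = ⊥ ∨ J.Hcomp mS q (d + b) = ⊥) ∧ (I.Hcomp mR q (d + a) = ⊥ ∨ ℬ (d + b) = ⊥) ∧
        (q + 1 = r + s → I.Hcomp mR r (d + a) = ⊥ ∨ J.Hcomp mS s (d + b) = ⊥)) ∧
    Module.supportDim T P = ((r + s - 1 : ℕ) : WithBot ℕ∞) ∧
      ∃ d : ℤ, EP.Hcomp mT (r + s - 1) d ≠ ⊥ := by
  haveI : IsNoetherianRing R := Algebra.FiniteType.isNoetherianRing k R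
  haveI : IsNoetherianRing S := Algebra.FiniteType.isNoetherianRing k S
  haveI : IsNoetherianRing T :=
    Groth.Agent.S18646.result k R 𝒜 hposR h0R S ℬ hposS h0S T 𝒯 ψ hT.1 hT.2
  haveI : Nontrivial T := segre_nontrivial ψ
  have h0T : 𝒯 0 = Submodule.span k {(1 : T)} := segre_deg_zero hT h0R h0S
  have hposT : ∀ n : ℤ, n < 0 → 𝒯 n = ⊥ := segre_neg_eq_bot hT hposR
  letI := gradedRing_toAdd 𝒜
  letI := gradedRing_toAdd ℬ
  haveI := gradedSMul_self 𝒜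
  haveI := gradedSMul_self ℬ
  letI := Gr.shiftDecomposition (toAdd 𝒜) (-a)
  haveI := Gr.shift_gradedSMul (toAdd 𝒜) (toAdd 𝒜) (-a)
  haveI := gradedSMul_of 𝒜 (Gr.shiftGr (toAdd 𝒜) (-a))
  letI := Gr.shiftDecomposition (toAdd ℬ) (-b)
  haveI := Gr.shift_gradedSMul (toAdd ℬ) (toAdd ℬ) (-b)
  haveI := gradedSMul_of ℬ (Gr.shiftGr (toAdd ℬ) (-b))
  let EM : GrLC.StarInjRes 𝒜 (Gr.shiftGr (toAdd 𝒜) (-a)) :=
    resOfM 𝒜 (Gr.shiftRes (resToM 𝒜 (resSelf 𝒜 I)) (-a))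
  let EN : GrLC.StarInjRes ℬ (Gr.shiftGr (toAdd ℬ) (-b)) :=
    resOfM ℬ (Gr.shiftRes (resToM ℬ (resSelf ℬ J)) (-b))
  have hP' := isSegreMod_shift k R 𝒜 S ℬ T ψ a b P 𝒬 φ hP
  have hMcm := GrCM.cmRing_iff_module.mp (inferInstance : LocCoh.IsCohenMacaulayRing R)
  have hNcm := GrCM.cmRing_iff_module.mp (inferInstance : LocCoh.IsCohenMacaulayRing S)
  have hdM : Module.supportDim R R = r := by rw [Module.supportDim_self_eq_ringKrullDim, hr]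
  have hdN : Module.supportDim S S = s := by rw [Module.supportDim_self_eq_ringKrullDim, hs]
  have hK := kunneth_cm_mod k R 𝒜 hposR h0R S ℬ hposS h0S T 𝒯 ψ hT mR hmR mS hmS mT hmT
    R (Gr.shiftGr (toAdd 𝒜) (-a)) EM S (Gr.shiftGr (toAdd ℬ) (-b)) EN P 𝒬 φ hP' EP r s h1r h1s
    hdM hdN hMcm hNcm
  have hD := dim_segre_cm_mod k R 𝒜 hposR h0R S ℬ hposS h0S T 𝒯 ψ hT mR hmR mS hmS mT hmT
    R (Gr.shiftGr (toAdd 𝒜) (-a)) EM S (Gr.shiftGr (toAdd ℬ) (-b)) EN P 𝒬 φ hP' EP r s h1r h1s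
    hdM hdN hMcm hNcm
  refine ⟨fun q d => ?_, hD⟩
  have eT := Hcomp_eq_bot_iff_finrank 𝒯 𝒬 hposT h0T mT hmT EP q d
  have eM : ∀ q : ℕ, Module.finrank (GrLC.deg0 𝒜) ↥(EM.Hcomp mR q d) = 0 ↔
      I.Hcomp mR q (d + a) = ⊥ := by
    intro q
    rw [← Hcomp_eq_bot_iff_finrank 𝒜 (Gr.shiftGr (toAdd 𝒜) (-a)) hposR h0R mR hmR EM q d]
    have h2 : d + a = d - -a := (sub_neg_eq_add d a).symm
    rw [h2]
    rw [Submodule.eq_bot_iff, Submodule.eq_bot_iff]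
    exact ⟨fun h x hx => h x hx, fun h x hx => h x hx⟩
  have eN : ∀ q : ℕ, Module.finrank (GrLC.deg0 ℬ) ↥(EN.Hcomp mS q d) = 0 ↔
      J.Hcomp mS q (d + b) = ⊥ := by
    intro q
    rw [← Hcomp_eq_bot_iff_finrank ℬ (Gr.shiftGr (toAdd ℬ) (-b)) hposS h0S mS hmS EN q d]
    have h2 : d + b = d - -b := (sub_neg_eq_add d b).symm
    rw [h2]
    rw [Submodule.eq_bot_iff, Submodule.eq_bot_iff]
    exact ⟨fun h x hx => h x hx, fun h x hx => h x hx⟩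
  have cM : Module.finrank (GrLC.deg0 𝒜) ↥(GrLC.comp 𝒜 (Gr.shiftGr (toAdd 𝒜) (-a)) d) = 0 ↔
      𝒜 (d + a) = ⊥ := by
    rw [finrank_comp_shift 𝒜 a h0R d]
    exact finrank_piece_eq_zero_iff 𝒜 hposR h0R mR hmR (d + a)
  have cN : Module.finrank (GrLC.deg0 ℬ) ↥(GrLC.comp ℬ (Gr.shiftGr (toAdd ℬ) (-b)) d) = 0 ↔
      ℬ (d + b) = ⊥ := by
    rw [finrank_comp_shift ℬ b h0S d]
    exact finrank_piece_eq_zero_iff ℬ hposS h0S mS hmS (d + b)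
  rw [eT, hK q d, Nat.add_eq_zero_iff, Nat.add_eq_zero_iff, Nat.mul_eq_zero, Nat.mul_eq_zero, cM,
    cN, eM q, eN q, and_assoc]
  refine and_congr_right fun _ => and_congr_right fun _ => ?_
  split_ifs with hq
  · rw [Nat.mul_eq_zero, eM r, eN s]
    exact ⟨fun h _ => h, fun h => h hq⟩
  · exact ⟨fun _ h => absurd h hq, fun _ => rfl⟩

end ShiftCM

end Seg

end Groth.Agent.H6
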