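import Groth.Agent.Lib.Helper6.SegGor2
import Groth.Agent.Lib.Helper6.GrNak
import Groth.Agent.Lib.Helper6.SegShiftCM
import Groth.Agent.Lib.Helper6.GrHilb
import Groth.Agent.S18640
import Groth.Agent.S18674

/-! The type of the Segre product of Gorenstein standard graded rings. -/

universe u
open DirectSum TensorProduct
set_option linter.unusedSectionVars false

namespace Groth.Agent.H6

namespace Seg

open SegLA ToAdd

section Gen

variable {k : Type u} [Field k] {R S T : Type u} [CommRing R] [CommRing S] [CommRing T]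
  [Algebra k R] [Algebra k S] [Algebra k T]
  (𝒜 : ℤ → Submodule k R) [GradedAlgebra 𝒜] (ℬ : ℤ → Submodule k S) [GradedAlgebra ℬ]
  (𝒯 : ℤ → Submodule k T) [GradedAlgebra 𝒯]
  (ψ : T →ₐ[k] R ⊗[k] S) (hT : GrSeg.IsSegreRing 𝒜 ℬ 𝒯 ψ)
  [GradedRing (toAdd 𝒜)] [GradedRing (toAdd ℬ)] [GradedRing (toAdd 𝒯)]
  (hstdR : Ideal.span (⋃ n ∈ Set.Ioi (0 : ℤ), (𝒜 n : Set R)) =
    Ideal.span ((𝒜 1 : Submodule k R) : Set R))
  (hstdS : Ideal.span (⋃ n ∈ Set.Ioi (0 : ℤ), (ℬ n : Set S)) =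
    Ideal.span ((ℬ 1 : Submodule k S) : Set S))
  (gR gS : ℤ)
  [DirectSum.Decomposition (Gr.shiftGr (toAdd 𝒜) gR)]
  [SetLike.GradedSMul 𝒜 (Gr.shiftGr (toAdd 𝒜) gR)]
  [DirectSum.Decomposition (Gr.shiftGr (toAdd ℬ) gS)]
  [SetLike.GradedSMul ℬ (Gr.shiftGr (toAdd ℬ) gS)]
  (mT : HomogeneousIdeal 𝒯)
  (hmT : mT.toIdeal = Ideal.span (⋃ n ∈ Set.Ioi (0 : ℤ), (𝒯 n : Set T)))

include hT hstdR hstdS hmT in
/-- `R(a) # S(b)` is generated in its lowest degree when `R` and `S` are standard graded -/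
theorem shift_gen (V : TSub 𝒜 ℬ ψ (Gr.shiftGr (toAdd 𝒜) gR) (Gr.shiftGr (toAdd ℬ) gS))
    (hfull : ∀ d, GrSeg.segrePiece k (Gr.shiftGr (toAdd 𝒜) gR) (Gr.shiftGr (toAdd ℬ) gS) d ≤ V.U)
    (n : ℤ) (hnR : gR < n) (hnS : gS < n) (u : ↥V.U) (hu : u ∈ V.gr n) :
    u ∈ mT.toIdeal • (⊤ : Submodule T ↥V.U) := by
  let W : Submodule k (R ⊗[k] S) :=
    ((mT.toIdeal • (⊤ : Submodule T ↥V.U)).restrictScalars k).map V.U.subtype
  have hW : ∀ (t : T), t ∈ mT.toIdeal → ∀ (w : R ⊗[k] S), w ∈ V.U → ψ t * w ∈ W := by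
    intro t ht w hw
    apply Submodule.mem_map.mpr
    have h1 : t • (⟨w, hw⟩ : ↥V.U) ∈ mT.toIdeal • (⊤ : Submodule T ↥V.U) :=
      Submodule.smul_mem_smul ht Submodule.mem_top
    refine ⟨t • (⟨w, hw⟩ : ↥V.U), h1, ?_⟩
    change actT ψ t w = ψ t * w
    exact act_self (ψ t) w
  have key : GrSeg.segrePiece k (Gr.shiftGr (toAdd 𝒜) gR) (Gr.shiftGr (toAdd ℬ) gS) n ≤ W := by
    apply Submodule.span_le.mpr
    rintro _ ⟨x, hx, y, hy, rfl⟩
    have hx' : x ∈ toAdd 𝒜 (n - gR) := hx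
    have hy' : y ∈ toAdd ℬ (n - gS) := hy
    revert y
    refine Gr.induction_std (toAdd 𝒜) hstdR (n - gR) (by omega)
      (fun x => ∀ y, y ∈ Gr.shiftGr (toAdd ℬ) gS n → y ∈ toAdd ℬ (n - gS) → x ⊗ₜ[k] y ∈ W)
      ?_ ?_ ?_ x hx'
    · intro y _ _
      rw [TensorProduct.zero_tmul]
      exact zero_mem _
    · intro x x' h1 h2 y hy hy'
      rw [TensorProduct.add_tmul]
      exact add_mem (h1 y hy hy') (h2 y hy hy')
    · intro x1 hx1 w hw y _ hy'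
      refine Gr.induction_std (toAdd ℬ) hstdS (n - gS) (by omega)
        (fun y => (w * x1) ⊗ₜ[k] y ∈ W) ?_ ?_ ?_ y hy'
      · change (w * x1) ⊗ₜ[k] (0 : S) ∈ W
        rw [TensorProduct.tmul_zero]
        exact zero_mem _
      · intro y y' h1 h2
        change (w * x1) ⊗ₜ[k] (y + y') ∈ W
        rw [TensorProduct.tmul_add]
        exact add_mem h1 h2
      · intro y1 hy1 v hv
        change (w * x1) ⊗ₜ[k] (v * y1) ∈ W
        have h1 : x1 ⊗ₜ[k] y1 ∈ (𝒯 1).map ψ.toLinearMap := by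
          rw [hT.2 1]
          exact Submodule.subset_span ⟨x1, hx1, y1, hy1, rfl⟩
        obtain ⟨t, ht, hte⟩ := h1
        have htm : t ∈ mT.toIdeal := by
          rw [hmT]
          apply Ideal.subset_span
          simp only [Set.mem_iUnion, Set.mem_Ioi, SetLike.mem_coe, exists_prop]
          exact ⟨1, one_pos, ht⟩
        have h2 : w ⊗ₜ[k] v ∈ V.U := by
          refine hfull (n - 1) (Submodule.subset_span ⟨w, ?_, v, ?_, rfl⟩)
          · change w ∈ toAdd 𝒜 (n - 1 - gR)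
            have : n - 1 - gR = n - gR - 1 := by ring
            rw [this]
            exact hw
          · change v ∈ toAdd ℬ (n - 1 - gS)
            have : n - 1 - gS = n - gS - 1 := by ring
            rw [this]
            exact hv
        have h3 := hW t htm _ h2
        have h4 : ψ t * (w ⊗ₜ[k] v) = (w * x1) ⊗ₜ[k] (v * y1) := by
          have : ψ t = x1 ⊗ₜ[k] y1 := hte
          rw [this, Algebra.TensorProduct.tmul_mul_tmul, mul_comm x1 w, mul_comm y1 v]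
        rwa [h4] at h3
  obtain ⟨u', hu', hu'e⟩ := Submodule.mem_map.mp (key hu)
  have : u' = u := Subtype.ext hu'e
  rw [← this]
  exact hu'

end Gen

set_option maxHeartbeats 3200000 in
/-- **the type of the Segre product of Gorenstein standard graded rings** -/
theorem type_segre (k : Type u) [Field k] (R : Type u) [CommRing R] [Algebra k R]
    (𝒜 : ℤ → Submodule k R) [GradedAlgebra 𝒜] (hposR : ∀ n : ℤ, n < 0 → 𝒜 n = ⊥)
    (h0R : 𝒜 0 = Submodule.span k {(1 : R)}) [Algebra.FiniteType k R] (S : Type u) [CommRing S]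
    [Algebra k S] (ℬ : ℤ → Submodule k S) [GradedAlgebra ℬ]
    (hposS : ∀ n : ℤ, n < 0 → ℬ n = ⊥) (h0S : ℬ 0 = Submodule.span k {(1 : S)})
    [Algebra.FiniteType k S] (T : Type u) [CommRing T] [Algebra k T] (𝒯 : ℤ → Submodule k T)
    [GradedAlgebra 𝒯] (ψ : T →ₐ[k] TensorProduct k R S) (hT : GrSeg.IsSegreRing 𝒜 ℬ 𝒯 ψ)
    [LocCoh.IsGorensteinRing R] [LocCoh.IsGorensteinRing S] (mR : HomogeneousIdeal 𝒜)
    (hmR : mR.toIdeal = Ideal.span (⋃ n ∈ Set.Ioi (0 : ℤ), (𝒜 n : Set R)))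
    (hstdR : Ideal.span (⋃ n ∈ Set.Ioi (0 : ℤ), (𝒜 n : Set R)) =
      Ideal.span ((𝒜 1 : Submodule k R) : Set R))
    (I : GrLC.StarInjRes 𝒜 𝒜) (mS : HomogeneousIdeal ℬ)
    (hmS : mS.toIdeal = Ideal.span (⋃ n ∈ Set.Ioi (0 : ℤ), (ℬ n : Set S)))
    (hstdS : Ideal.span (⋃ n ∈ Set.Ioi (0 : ℤ), (ℬ n : Set S)) =
      Ideal.span ((ℬ 1 : Submodule k S) : Set S))
    (J : GrLC.StarInjRes ℬ ℬ) (r s : ℕ) (hr : ringKrullDim R = r) (hs : ringKrullDim S = s)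
    (h2r : 2 ≤ r) (h2s : 2 ≤ s) (a b : ℤ)
    (ha : GrLC.endDeg (I.Hgr mR r) = ((a : WithTop ℤ) : WithBot (WithTop ℤ)))
    (hb : GrLC.endDeg (J.Hgr mS s) = ((b : WithTop ℤ) : WithBot (WithTop ℤ))) (hab : b ≤ a)
    [LocCoh.IsCohenMacaulayRing T] (mT : HomogeneousIdeal 𝒯) [mT.toIdeal.IsMaximal]
    (hmT : mT.toIdeal = Ideal.span (⋃ n ∈ Set.Ioi (0 : ℤ), (𝒯 n : Set T))) :
    GrLC.bassNum mT.toIdeal T (r + s - 1) = (Module.finrank k (𝒜 (a - b)) : ℕ∞) := by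
  haveI := nontrivial_of_dim r hr
  haveI := nontrivial_of_dim s hs
  haveI : Nontrivial T := segre_nontrivial ψ
  have h0T : 𝒯 0 = Submodule.span k {(1 : T)} := segre_deg_zero hT h0R h0S
  have hposT : ∀ n : ℤ, n < 0 → 𝒯 n = ⊥ := segre_neg_eq_bot hT hposR
  obtain ⟨IT⟩ := nonempty_starInjRes_self 𝒯
  letI := gradedRing_toAdd 𝒜
  letI := gradedRing_toAdd ℬ
  letI := gradedRing_toAdd 𝒯
  haveI := gradedSMul_self 𝒜
  haveI := gradedSMul_self ℬ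
  haveI := gradedSMul_self 𝒯
  -- the *injective envelopes
  obtain ⟨EmR, eR, heR'⟩ := Ver.exists_residue_hull (toAdd 𝒜) (idealTo 𝒜 mR)
  obtain ⟨EmS, eS, heS'⟩ := Ver.exists_residue_hull (toAdd ℬ) (idealTo ℬ mS)
  obtain ⟨EmT, eT, heT'⟩ := Ver.exists_residue_hull (toAdd 𝒯) (idealTo 𝒯 mT)
  haveI := gradedSMul_of 𝒜 EmR.gr
  haveI := gradedSMul_of ℬ EmS.gr
  haveI := gradedSMul_of 𝒯 EmT.gr
  have heR := isStarInjHull_of 𝒜 mR EmR.gr eR heR'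
  have heS := isStarInjHull_of ℬ mS EmS.gr eS heS'
  have heT := isStarInjHull_of 𝒯 mT EmT.gr eT heT'
  have SR : GDual.Setting (toAdd 𝒜) (idealTo 𝒜 mR) EmR.gr eR :=
    ⟨toAdd_neg_eq_bot 𝒜 hposR, isField_deg0 𝒜 h0R, hmR, heR'⟩
  have SS : GDual.Setting (toAdd ℬ) (idealTo ℬ mS) EmS.gr eS :=
    ⟨toAdd_neg_eq_bot ℬ hposS, isField_deg0 ℬ h0S, hmS, heS'⟩
  have hlocR := isStarLocal_idealTo_irrel 𝒜 hposR h0R mR hmR
  have hlocS := isStarLocal_idealTo_irrel ℬ hposS h0S mS hmS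
  have hlocT := isStarLocal_idealTo_irrel 𝒯 hposT h0T mT hmT
  -- the top local cohomology of `R` and of `S`
  obtain ⟨gR, σR, hσR, hendR⟩ := GorCan.exists_top_equiv SR hlocR r hr (resTo 𝒜 I)
  obtain ⟨gS, σS, hσS, hendS⟩ := GorCan.exists_top_equiv SS hlocS s hs (resTo ℬ J)
  have hgR : gR = -a := by
    have h1 : GrLC.endDeg (I.Hgr mR r) = (((-gR : ℤ) : WithTop ℤ) : WithBot (WithTop ℤ)) := hendR
    rw [h1] at ha
    have h3 : (-gR : ℤ) = a := by exact_mod_cast ha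
    omega
  have hgS : gS = -b := by
    have h1 : GrLC.endDeg (J.Hgr mS s) = (((-gS : ℤ) : WithTop ℤ) : WithBot (WithTop ℤ)) := hendS
    rw [h1] at hb
    have h3 : (-gS : ℤ) = b := by exact_mod_cast hb
    omega
  subst hgR
  subst hgS
  -- the canonical modules of `R` and of `S`
  letI := Gr.shiftDecomposition (toAdd 𝒜) (-a)
  haveI := Gr.shift_gradedSMul (toAdd 𝒜) (toAdd 𝒜) (-a)
  haveI := gradedSMul_of 𝒜 (Gr.shiftGr (toAdd 𝒜) (-a))
  letI := Gr.shiftDecomposition (toAdd ℬ) (-b)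
  haveI := Gr.shift_gradedSMul (toAdd ℬ) (toAdd ℬ) (-b)
  haveI := gradedSMul_of ℬ (Gr.shiftGr (toAdd ℬ) (-b))
  have hCR : GrLC.IsStarCanonical 𝒜 (Gr.shiftGr (toAdd 𝒜) (-a)) EmR.gr mR r I :=
    isStarCanonical_of 𝒜 mR EmR.gr _ r I
      (GorCan.isStarCanonical_of_top_equiv (Gr.shiftGr (toAdd 𝒜) (-a)) r (resTo 𝒜 I) (-a) σR hσR
        LinearMap.id Function.bijective_id (fun i x hx => by
          change x ∈ toAdd 𝒜 (i + -a - -a)
          rwa [add_sub_cancel_right]))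
  have hCS : GrLC.IsStarCanonical ℬ (Gr.shiftGr (toAdd ℬ) (-b)) EmS.gr mS s J :=
    isStarCanonical_of ℬ mS EmS.gr _ s J
      (GorCan.isStarCanonical_of_top_equiv (Gr.shiftGr (toAdd ℬ) (-b)) s (resTo ℬ J) (-b) σS hσS
        LinearMap.id Function.bijective_id (fun i x hx => by
          change x ∈ toAdd ℬ (i + -b - -b)
          rwa [add_sub_cancel_right]))
  -- the Segre product of the canonical modules
  let V := TSub.full 𝒜 ℬ 𝒯 ψ (Gr.shiftGr (toAdd 𝒜) (-a)) (Gr.shiftGr (toAdd ℬ) (-b)) hT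
  letI := V.decomposition
  haveI := V.gradedSMul 𝒯 hT
  haveI := gradedSMul_of 𝒯 V.gr
  have hP : GrSeg.IsSegreMod ψ (Gr.shiftGr (toAdd 𝒜) (-a)) (Gr.shiftGr (toAdd ℬ) (-b)) V.gr
      V.U.subtype := isSegreMod_full 𝒜 ℬ 𝒯 ψ hT _ _
  have hCT := Groth.Agent.S19757.result k R 𝒜 hposR h0R S ℬ hposS h0S T 𝒯 ψ hT mR hmR I mS hmS J
    mT hmT IT r s hr hs h2r h2s EmR.carrier EmR.gr eR heR R (Gr.shiftGr (toAdd 𝒜) (-a)) hCR
    EmS.carrier EmS.gr eS heS S (Gr.shiftGr (toAdd ℬ) (-b)) hCS EmT.carrier EmT.gr eT heT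
    ↥V.U V.gr V.U.subtype hP
  have hCT' := isStarCanonical_to 𝒯 mT EmT.gr V.gr (r + s - 1) IT hCT
  have hdimT := dim_segre k R 𝒜 hposR h0R S ℬ hposS h0S T 𝒯 ψ hT r s hr hs (by omega) (by omega)
  haveI : (idealTo 𝒯 mT).toIdeal.IsMaximal := ‹mT.toIdeal.IsMaximal›
  have hbass := (Groth.Agent.S18640.result T (toAdd 𝒯) (toAdd_neg_eq_bot 𝒯 hposT)
    (isField_deg0 𝒯 h0T) (idealTo 𝒯 mT) hlocT hmT (r + s - 1) hdimT (resTo 𝒯 IT) EmT.carrier EmT.gr eT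
    heT' ↥V.U V.gr hCT').2
  have hbass' : GrLC.bassNum mT.toIdeal T (r + s - 1) =
      (Module.finrank (T ⧸ mT.toIdeal) ((T ⧸ mT.toIdeal) ⊗[T] ↥V.U) : ℕ∞) := hbass
  rw [hbass']
  congr 1
  -- graded Nakayama
  have hlow : ∀ n : ℤ, n < -b → V.gr n = ⊥ := by
    intro n hn
    rw [eq_bot_iff]
    intro u hu
    rw [AddSubgroup.mem_bot]
    apply Subtype.ext
    have h1 : GrSeg.segrePiece k (Gr.shiftGr (toAdd 𝒜) (-a)) (Gr.shiftGr (toAdd ℬ) (-b)) n = ⊥ := by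
      rw [GrSeg.segrePiece, Submodule.span_eq_bot]
      rintro _ ⟨x, -, y, hy, rfl⟩
      have hy' : y ∈ ℬ (n - -b) := hy
      rw [hposS (n - -b) (by omega), Submodule.mem_bot] at hy'
      rw [hy', TensorProduct.tmul_zero]
    have h2 : (u : R ⊗[k] S) ∈
        GrSeg.segrePiece k (Gr.shiftGr (toAdd 𝒜) (-a)) (Gr.shiftGr (toAdd ℬ) (-b)) n := hu
    rw [h1, Submodule.mem_bot] at h2
    exact h2
  have hgen : ∀ n : ℤ, -b < n → ∀ u ∈ V.gr n,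
      u ∈ (idealTo 𝒯 mT).toIdeal • (⊤ : Submodule T ↥V.U) := by
    intro n hn u hu
    exact shift_gen 𝒜 ℬ 𝒯 ψ hT hstdR hstdS (-a) (-b) mT hmT V (fun d => piece_le_seg _ _ d) n
      (by omega) hn u hu
  have hnak := GrNak.finrank_tensor_eq (toAdd 𝒯) (toAdd_neg_eq_bot 𝒯 hposT) (idealTo 𝒯 mT) hmT V.gr
    (-b) hlow hgen
  have hnak' : Module.finrank (T ⧸ mT.toIdeal) ((T ⧸ mT.toIdeal) ⊗[T] ↥V.U) =
      Module.finrank (GrLC.deg0 𝒯) ↥(GrLC.comp 𝒯 V.gr (-b)) := hnak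
  rw [hnak']
  -- the dimension of the lowest piece
  have hfr := finrank_canonical_segre k R 𝒜 hposR h0R S ℬ hposS h0S T 𝒯 ψ hT mR hmR I mS hmS J
    mT hmT IT r s hr hs h2r h2s EmR.carrier EmR.gr eR heR R (Gr.shiftGr (toAdd 𝒜) (-a)) hCR
    EmS.carrier EmS.gr eS heS S (Gr.shiftGr (toAdd ℬ) (-b)) hCS EmT.carrier EmT.gr eT heT
    ↥V.U V.gr hCT (-b)
  rw [hfr, finrank_comp_shift 𝒜 a h0R (-b), finrank_comp_shift ℬ b h0S (-b)]
  have h1 : (-b + b : ℤ) = 0 := by ring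
  have h2 : (-b + a : ℤ) = a - b := by ring
  rw [h1, h2, h0S, finrank_span_singleton one_ne_zero, mul_one]

end Seg

end Groth.Agent.H6
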