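import Groth.Agent.Lib.Helper6.SegMod2
import Groth.Agent.Lib.Helper6.GrHorseshoe

/-! Functoriality and exactness of the Segre product. -/

universe u
open DirectSum TensorProduct
set_option linter.unusedSectionVars false

namespace Groth.Agent.H6

namespace Seg

open SegLA ToAdd

section Maps

variable {k : Type u} [Field k] {R S T : Type u} [CommRing R] [CommRing S] [CommRing T]
  [Algebra k R] [Algebra k S] [Algebra k T]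
  (𝒜 : ℤ → Submodule k R) [GradedAlgebra 𝒜] (ℬ : ℤ → Submodule k S) [GradedAlgebra ℬ]
  (𝒯 : ℤ → Submodule k T) [GradedAlgebra 𝒯]
  (ψ : T →ₐ[k] R ⊗[k] S)
variable {X : Type u} [AddCommGroup X] [Module R X] [Module k X] [IsScalarTower k R X]
  (𝒳 : ℤ → AddSubgroup X) [DirectSum.Decomposition 𝒳] [SetLike.GradedSMul 𝒜 𝒳]
variable {Y : Type u} [AddCommGroup Y] [Module S Y] [Module k Y] [IsScalarTower k S Y]
  (𝒴 : ℤ → AddSubgroup Y) [DirectSum.Decomposition 𝒴] [SetLike.GradedSMul ℬ 𝒴]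
variable {X' : Type u} [AddCommGroup X'] [Module R X'] [Module k X'] [IsScalarTower k R X']
  (𝒳' : ℤ → AddSubgroup X') [DirectSum.Decomposition 𝒳'] [SetLike.GradedSMul 𝒜 𝒳']
variable {Y' : Type u} [AddCommGroup Y'] [Module S Y'] [Module k Y'] [IsScalarTower k S Y']
  (𝒴' : ℤ → AddSubgroup Y') [DirectSum.Decomposition 𝒴'] [SetLike.GradedSMul ℬ 𝒴']

/-- the tensor product of an `R`-linear and an `S`-linear map, as a `k`-linear map -/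
noncomputable def tmap (f : X →ₗ[R] X') (g : Y →ₗ[S] Y') : X ⊗[k] Y →ₗ[k] X' ⊗[k] Y' :=
  TensorProduct.map (f.restrictScalars k) (g.restrictScalars k)

theorem tmap_tmul (f : X →ₗ[R] X') (g : Y →ₗ[S] Y') (x : X) (y : Y) :
    tmap f g (x ⊗ₜ[k] y) = f x ⊗ₜ[k] g y := rfl

theorem tmap_act (f : X →ₗ[R] X') (g : Y →ₗ[S] Y') (z : R ⊗[k] S) (w : X ⊗[k] Y) :
    tmap f g (GrSeg.act k R S X Y z w) = GrSeg.act k R S X' Y' z (tmap f g w) := by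
  induction z using TensorProduct.induction_on with
  | zero => simp
  | tmul r s =>
    induction w using TensorProduct.induction_on with
    | zero => simp
    | tmul x y =>
      rw [GrSeg.act_tmul, tmap_tmul, tmap_tmul, GrSeg.act_tmul, map_smul, map_smul]
    | add u v hu hv => simp only [map_add, hu, hv]
  | add z z' hz hz' => simp only [map_add, LinearMap.add_apply, hz, hz']

theorem tmap_actT (f : X →ₗ[R] X') (g : Y →ₗ[S] Y') (t : T) (w : X ⊗[k] Y) :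
    tmap f g (actT ψ t w) = actT ψ t (tmap f g w) := tmap_act f g (ψ t) w

variable {𝒳 𝒴 𝒳' 𝒴'}

theorem tmap_mem_piece {f : X →ₗ[R] X'} {g : Y →ₗ[S] Y'} (hf : GrLC.IsGrHom 𝒳 𝒳' f)
    (hg : GrLC.IsGrHom 𝒴 𝒴' g) {d : ℤ} {w : X ⊗[k] Y} (hw : w ∈ GrSeg.segrePiece k 𝒳 𝒴 d) :
    tmap f g w ∈ GrSeg.segrePiece k 𝒳' 𝒴' d := by
  induction hw using Submodule.span_induction with
  | mem w hw =>
    obtain ⟨x, hx, y, hy, rfl⟩ := hw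
    rw [tmap_tmul]
    exact tmul_mem_piece 𝒳' 𝒴' (hf d x hx) (hg d y hy)
  | zero => rw [map_zero]; exact zero_mem _
  | add u v _ _ hu hv => rw [map_add]; exact add_mem hu hv
  | smul c u _ hu => rw [map_smul]; exact Submodule.smul_mem _ _ hu

theorem tmap_mem_seg {f : X →ₗ[R] X'} {g : Y →ₗ[S] Y'} (hf : GrLC.IsGrHom 𝒳 𝒳' f)
    (hg : GrLC.IsGrHom 𝒴 𝒴' g) {w : X ⊗[k] Y} (hw : w ∈ seg 𝒳 𝒴) :
    tmap f g w ∈ seg 𝒳' 𝒴' := by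
  induction hw using Submodule.iSup_induction' with
  | mem d w hw => exact piece_le_seg 𝒳' 𝒴' d (tmap_mem_piece hf hg hw)
  | zero => rw [map_zero]; exact zero_mem _
  | add u v _ _ hu hv => rw [map_add]; exact add_mem hu hv

theorem tmap_sp {f : X →ₗ[R] X'} {g : Y →ₗ[S] Y'} (hf : GrLC.IsGrHom 𝒳 𝒳' f)
    (hg : GrLC.IsGrHom 𝒴 𝒴' g) (d : ℤ) (w : X ⊗[k] Y) :
    tmap f g (sp 𝒜 ℬ 𝒳 𝒴 d w) = sp 𝒜 ℬ 𝒳' 𝒴' d (tmap f g w) := by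
  induction w using TensorProduct.induction_on with
  | zero => simp
  | tmul x y =>
    rw [sp_tmul, tmap_tmul, tmap_tmul, sp_tmul, prL_apply, prL_apply, prL_apply, prL_apply,
      Gr.isGrHom_proj 𝒳 𝒳' hf, Gr.isGrHom_proj 𝒴 𝒴' hg]
  | add u v hu hv => simp only [map_add, hu, hv]

variable {𝒜 ℬ ψ}

/-- the map of graded `T`-modules induced by graded maps -/
noncomputable def TSub.map (V : TSub 𝒜 ℬ ψ 𝒳 𝒴) (V' : TSub 𝒜 ℬ ψ 𝒳' 𝒴') (f : X →ₗ[R] X')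
    (g : Y →ₗ[S] Y') (h : ∀ u, u ∈ V.U → tmap f g u ∈ V'.U) : ↥V.U →ₗ[T] ↥V'.U where
  toFun u := ⟨tmap f g u.1, h u.1 u.2⟩
  map_add' u v := Subtype.ext (map_add (tmap f g) u.1 v.1)
  map_smul' t u := Subtype.ext (tmap_actT ψ f g t u.1)

theorem TSub.coe_map (V : TSub 𝒜 ℬ ψ 𝒳 𝒴) (V' : TSub 𝒜 ℬ ψ 𝒳' 𝒴') (f : X →ₗ[R] X')
    (g : Y →ₗ[S] Y') (h : ∀ u, u ∈ V.U → tmap f g u ∈ V'.U) (u : ↥V.U) :
    ((V.map V' f g h u : ↥V'.U) : X' ⊗[k] Y') = tmap f g u.1 := rfl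

theorem TSub.map_isGrHom (V : TSub 𝒜 ℬ ψ 𝒳 𝒴) (V' : TSub 𝒜 ℬ ψ 𝒳' 𝒴') {f : X →ₗ[R] X'}
    {g : Y →ₗ[S] Y'} (hf : GrLC.IsGrHom 𝒳 𝒳' f) (hg : GrLC.IsGrHom 𝒴 𝒴' g)
    (h : ∀ u, u ∈ V.U → tmap f g u ∈ V'.U) : GrLC.IsGrHom V.gr V'.gr (V.map V' f g h) :=
  fun _ _ hu => tmap_mem_piece hf hg hu

theorem tmap_injective {f : X →ₗ[R] X'} {g : Y →ₗ[S] Y'} (hf : Function.Injective f)
    (hg : Function.Injective g) : Function.Injective (tmap (k := k) f g) :=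
  TensorProduct.map_injective_of_flat_flat _ _ hf hg

variable (𝒳 𝒴) in
/-- graded surjections induce surjections of Segre products -/
theorem exists_tmap_eq {f : X →ₗ[R] X'} {g : Y →ₗ[S] Y'} (hf : GrLC.IsGrHom 𝒳 𝒳' f)
    (hg : GrLC.IsGrHom 𝒴 𝒴' g) (hfs : Function.Surjective f) (hgs : Function.Surjective g)
    {w' : X' ⊗[k] Y'} (hw' : w' ∈ seg 𝒳' 𝒴') : ∃ w, w ∈ seg 𝒳 𝒴 ∧ tmap f g w = w' := by
  induction hw' using Submodule.iSup_induction' with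
  | mem d w' hw' =>
    induction hw' using Submodule.span_induction with
    | mem w' hw' =>
      obtain ⟨x', hx', y', hy', rfl⟩ := hw'
      obtain ⟨x, rfl⟩ := hfs x'
      obtain ⟨y, rfl⟩ := hgs y'
      refine ⟨Gr.proj 𝒳 d x ⊗ₜ[k] Gr.proj 𝒴 d y,
        piece_le_seg 𝒳 𝒴 d (tmul_mem_piece 𝒳 𝒴 (Gr.proj_mem 𝒳 d x) (Gr.proj_mem 𝒴 d y)), ?_⟩
      rw [tmap_tmul, Gr.isGrHom_proj 𝒳 𝒳' hf, Gr.isGrHom_proj 𝒴 𝒴' hg, Gr.proj_of_mem 𝒳' hx',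
        Gr.proj_of_mem 𝒴' hy']
    | zero => exact ⟨0, zero_mem _, map_zero _⟩
    | add u v _ _ hu hv =>
      obtain ⟨a, ha, rfl⟩ := hu
      obtain ⟨b, hb, rfl⟩ := hv
      exact ⟨a + b, add_mem ha hb, map_add _ _ _⟩
    | smul c u _ hu =>
      obtain ⟨a, ha, rfl⟩ := hu
      exact ⟨c • a, Submodule.smul_mem _ _ ha, map_smul _ _ _⟩
  | zero => exact ⟨0, zero_mem _, map_zero _⟩
  | add u v _ _ hu hv =>
    obtain ⟨a, ha, rfl⟩ := hu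
    obtain ⟨b, hb, rfl⟩ := hv
    exact ⟨a + b, add_mem ha hb, map_add _ _ _⟩

variable (𝒜 ℬ 𝒳 𝒴 𝒳' 𝒴') in
include 𝒜 ℬ in
/-- preimages in the Segre subspace: if `tmap f g w₀` lies in the Segre subspace, so does a
preimage -/
theorem exists_seg_preimage {f : X →ₗ[R] X'} {g : Y →ₗ[S] Y'} (hf : GrLC.IsGrHom 𝒳 𝒳' f)
    (hg : GrLC.IsGrHom 𝒴 𝒴' g) (w₀ : X ⊗[k] Y) (h : tmap f g w₀ ∈ seg 𝒳' 𝒴') :
    ∃ w, w ∈ seg 𝒳 𝒴 ∧ tmap f g w = tmap f g w₀ := by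
  obtain ⟨s, -, hs⟩ := exists_sum_sp 𝒜 ℬ 𝒳' 𝒴' h
  refine ⟨∑ d ∈ s, sp 𝒜 ℬ 𝒳 𝒴 d w₀, sum_mem fun d _ => sp_mem_seg 𝒜 ℬ 𝒳 𝒴 d w₀, ?_⟩
  rw [map_sum, ← hs]
  exact Finset.sum_congr rfl fun d _ => tmap_sp 𝒜 ℬ hf hg d w₀

variable {X'' : Type u} [AddCommGroup X''] [Module R X''] [Module k X''] [IsScalarTower k R X'']
  {𝒳'' : ℤ → AddSubgroup X''} [DirectSum.Decomposition 𝒳''] [SetLike.GradedSMul 𝒜 𝒳'']
variable {Y'' : Type u} [AddCommGroup Y''] [Module S Y''] [Module k Y''] [IsScalarTower k S Y'']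
  {𝒴'' : ℤ → AddSubgroup Y''} [DirectSum.Decomposition 𝒴''] [SetLike.GradedSMul ℬ 𝒴'']

variable (𝒜 ℬ) in
include 𝒜 ℬ in
/-- exactness of the Segre product in the first variable -/
theorem exact_left {i : X' →ₗ[R] X} {p : X →ₗ[R] X''} (hS : Gr.GrSES 𝒳' 𝒳 𝒳'' i p)
    {w : X ⊗[k] Y} (hw : w ∈ seg 𝒳 𝒴)
    (h0 : tmap p (LinearMap.id : Y →ₗ[S] Y) w = 0) :
    ∃ w', w' ∈ seg 𝒳' 𝒴 ∧ tmap i (LinearMap.id : Y →ₗ[S] Y) w' = w := by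
  have hex : Function.Exact (i.restrictScalars k) (p.restrictScalars k) := by
    intro x
    constructor
    · intro hx
      obtain ⟨x', hx'⟩ := (hS.exact x).mp hx
      exact ⟨x', hx'⟩
    · rintro ⟨x', rfl⟩
      exact (hS.exact _).mpr ⟨x', rfl⟩
  have h1 := rTensor_exact Y hex hS.surj
  obtain ⟨w₀, hw₀⟩ := (h1 w).mp h0
  have h2 : tmap i (LinearMap.id : Y →ₗ[S] Y) w₀ = w := hw₀
  obtain ⟨w', hw', hww⟩ := exists_seg_preimage 𝒜 ℬ 𝒳' 𝒴 𝒳 𝒴 hS.hi (fun _ _ h => h) w₀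
    (by rw [h2]; exact hw)
  exact ⟨w', hw', hww.trans h2⟩

variable (𝒜 ℬ) in
include 𝒜 ℬ in
/-- exactness of the Segre product in the second variable -/
theorem exact_right {i : Y' →ₗ[S] Y} {p : Y →ₗ[S] Y''} (hS : Gr.GrSES 𝒴' 𝒴 𝒴'' i p)
    {w : X ⊗[k] Y} (hw : w ∈ seg 𝒳 𝒴)
    (h0 : tmap (LinearMap.id : X →ₗ[R] X) p w = 0) :
    ∃ w', w' ∈ seg 𝒳 𝒴' ∧ tmap (LinearMap.id : X →ₗ[R] X) i w' = w := by
  have hex : Function.Exact (i.restrictScalars k) (p.restrictScalars k) := by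
    intro x
    constructor
    · intro hx
      obtain ⟨x', hx'⟩ := (hS.exact x).mp hx
      exact ⟨x', hx'⟩
    · rintro ⟨x', rfl⟩
      exact (hS.exact _).mpr ⟨x', rfl⟩
  have h1 := lTensor_exact X hex hS.surj
  obtain ⟨w₀, hw₀⟩ := (h1 w).mp h0
  have h2 : tmap (LinearMap.id : X →ₗ[R] X) i w₀ = w := hw₀
  obtain ⟨w', hw', hww⟩ := exists_seg_preimage 𝒜 ℬ 𝒳 𝒴' 𝒳 𝒴 (fun _ _ h => h) hS.hi w₀
    (by rw [h2]; exact hw)
  exact ⟨w', hw', hww.trans h2⟩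

end Maps

end Seg

end Groth.Agent.H6
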