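import Groth.Agent.Lib.Helper6.SegGor3
import Groth.Agent.Lib.Helper6.GrCanEx
import Groth.Agent.Lib.Helper6.SegMod3

/-! Segre products which are Gorenstein: the factors. -/

universe u
open DirectSum TensorProduct
set_option linter.unusedSectionVars false

namespace Groth.Agent.H6

namespace Seg

open SegLA ToAdd

section Piecewise

variable {R : Type u} [CommRing R]
variable {M : Type u} [AddCommGroup M] [Module R M] (ℳ : ℤ → AddSubgroup M)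
  [DirectSum.Decomposition ℳ]
variable {N : Type u} [AddCommGroup N] [Module R N] (𝒩 : ℤ → AddSubgroup N)
  [DirectSum.Decomposition 𝒩]

/-- a homogeneous map which is bijective on every piece is bijective -/
theorem bijective_of_piecewise {f : M →ₗ[R] N} {c : ℤ} (hf : GrLC.IsGrHomDeg ℳ 𝒩 f c)
    (hinj : ∀ i, ∀ x ∈ ℳ i, f x = 0 → x = 0)
    (hsurj : ∀ i, ∀ y ∈ 𝒩 (i + c), ∃ x ∈ ℳ i, f x = y) : Function.Bijective f := by
  constructor
  · rw [injective_iff_map_eq_zero]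
    intro x hx
    apply Gr.eq_zero_of_proj_eq_zero ℳ
    intro i
    apply hinj i _ (Gr.proj_mem ℳ i x)
    rw [Gr.isGrHomDeg_proj ℳ 𝒩 hf, hx, map_zero]
  · intro y
    induction y using Gr.induction_on 𝒩 with
    | zero => exact ⟨0, map_zero _⟩
    | homogeneous n y hy =>
      have h1 : y ∈ 𝒩 (n - c + c) := by rwa [sub_add_cancel]
      obtain ⟨x, -, hx⟩ := hsurj (n - c) y h1
      exact ⟨x, hx⟩
    | add y y' h1 h2 =>
      obtain ⟨x, hx⟩ := h1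
      obtain ⟨x', hx'⟩ := h2
      exact ⟨x + x', by rw [map_add, hx, hx']⟩

end Piecewise

section Factor

variable {k : Type u} [Field k] {R S T : Type u} [CommRing R] [CommRing S] [CommRing T]
  [Algebra k R] [Algebra k S] [Algebra k T]
  {𝒜 : ℤ → Submodule k R} [GradedAlgebra 𝒜] {ℬ : ℤ → Submodule k S} [GradedAlgebra ℬ]
  {𝒯 : ℤ → Submodule k T} [GradedAlgebra 𝒯] [GradedRing (toAdd 𝒜)] [GradedRing (toAdd ℬ)]
  [GradedRing (toAdd 𝒯)]
  {ψ : T →ₐ[k] R ⊗[k] S} (hT : GrSeg.IsSegreRing 𝒜 ℬ 𝒯 ψ)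
variable {X : Type u} [AddCommGroup X] [Module R X] [Module k X] [IsScalarTower k R X]
  {𝒳 : ℤ → AddSubgroup X} [DirectSum.Decomposition 𝒳] [SetLike.GradedSMul 𝒜 𝒳]
variable {Y : Type u} [AddCommGroup Y] [Module S Y] [Module k Y] [IsScalarTower k S Y]
  {𝒴 : ℤ → AddSubgroup Y} [DirectSum.Decomposition 𝒴] [SetLike.GradedSMul ℬ 𝒴]
variable {P : Type u} [AddCommGroup P] [Module T P] [Module k P] [IsScalarTower k T P]
  {𝒬 : ℤ → AddSubgroup P} [DirectSum.Decomposition 𝒬] {φ : P →ₗ[k] X ⊗[k] Y}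
  (hP : GrSeg.IsSegreMod ψ 𝒳 𝒴 𝒬 φ)
  {c : ℤ} {f : T →ₗ[T] P} (hfb : Function.Bijective f)
  (hfc : GrLC.IsGrHomDeg (toAdd 𝒯) 𝒬 f c)
  {x : X} (hx : x ∈ 𝒳 c) {y : Y} (hy : y ∈ 𝒴 c) (hxy : φ (f 1) = x ⊗ₜ[k] y)

include hP hxy in
theorem phi_f_eq (t : T) :
    φ (f t) = tmap (LinearMap.toSpanSingleton R X x) (LinearMap.toSpanSingleton S Y y) (ψ t) := by
  have h1 : f t = t • f 1 := by rw [← map_smul, smul_eq_mul, mul_one]
  rw [h1, hP.map_smul, hxy]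
  have h2 : x ⊗ₜ[k] y =
      tmap (LinearMap.toSpanSingleton R X x) (LinearMap.toSpanSingleton S Y y)
        ((1 : R) ⊗ₜ[k] (1 : S)) := by
    rw [tmap_tmul, LinearMap.toSpanSingleton_apply, LinearMap.toSpanSingleton_apply, one_smul,
      one_smul]
  rw [h2, ← tmap_act, act_self, ← Algebra.TensorProduct.one_def, mul_one]

include hfb hfc in
theorem exists_preimage_piece {n : ℤ} {p : P} (hp : p ∈ 𝒬 n) : ∃ t ∈ 𝒯 (n - c), f t = p := by
  let σ : T ≃ₗ[T] P := LinearEquiv.ofBijective f hfb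
  have hσ : GrLC.IsGrHomDeg (toAdd 𝒯) 𝒬 σ.toLinearMap c := hfc
  have h1 := Ver.symm_mem_of_isGrHomDeg (toAdd 𝒯) 𝒬 σ hσ hp
  exact ⟨σ.symm p, h1, σ.apply_symm_apply p⟩

include hT hP hfb hxy in
theorem left_injOn (i : ℤ) (hB : ℬ i ≠ ⊥) :
    ∀ r ∈ 𝒜 i, r • x = 0 → r = 0 := by
  intro r hr hrx
  obtain ⟨s, hs, hs0⟩ := (Submodule.ne_bot_iff _).mp hB
  have h1 : r ⊗ₜ[k] s ∈ (𝒯 i).map ψ.toLinearMap := by
    rw [hT.2 i]
    exact Submodule.subset_span ⟨r, hr, s, hs, rfl⟩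
  obtain ⟨t, -, ht⟩ := h1
  have ht' : ψ t = r ⊗ₜ[k] s := ht
  have h2 : φ (f t) = 0 := by
    rw [phi_f_eq hP hxy t, ht', tmap_tmul, LinearMap.toSpanSingleton_apply, hrx,
      TensorProduct.zero_tmul]
  have h3 : f t = 0 := hP.injective (by rw [h2, map_zero])
  have h4 : t = 0 := hfb.1 (by rw [h3, map_zero])
  rw [h4, map_zero] at ht'
  by_contra hr0
  exact tmul_ne_zero_of_field hr0 hs0 ht'.symm

include hT hP hfb hxy in
theorem right_injOn (i : ℤ) (hA : 𝒜 i ≠ ⊥) : ∀ s ∈ ℬ i, s • y = 0 → s = 0 := by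
  intro s hs hsy
  obtain ⟨r, hr, hr0⟩ := (Submodule.ne_bot_iff _).mp hA
  have h1 : r ⊗ₜ[k] s ∈ (𝒯 i).map ψ.toLinearMap := by
    rw [hT.2 i]
    exact Submodule.subset_span ⟨r, hr, s, hs, rfl⟩
  obtain ⟨t, -, ht⟩ := h1
  have ht' : ψ t = r ⊗ₜ[k] s := ht
  have h2 : φ (f t) = 0 := by
    rw [phi_f_eq hP hxy t, ht', tmap_tmul, LinearMap.toSpanSingleton_apply,
      LinearMap.toSpanSingleton_apply, hsy, TensorProduct.tmul_zero]
  have h3 : f t = 0 := hP.injective (by rw [h2, map_zero])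
  have h4 : t = 0 := hfb.1 (by rw [h3, map_zero])
  rw [h4, map_zero] at ht'
  by_contra hs0
  exact tmul_ne_zero_of_field hr0 hs0 ht'.symm

/-- contraction with a functional on the right factor -/
noncomputable def contrR (θ : Y →ₗ[k] k) : X ⊗[k] Y →ₗ[k] X :=
  (TensorProduct.rid k X).toLinearMap ∘ₗ TensorProduct.map LinearMap.id θ

theorem contrR_tmul (θ : Y →ₗ[k] k) (z : X) (w : Y) : contrR θ (z ⊗ₜ[k] w) = θ w • z := by
  change TensorProduct.rid k X (z ⊗ₜ[k] θ w) = _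
  rw [TensorProduct.rid_tmul]

/-- contraction with a functional on the left factor -/
noncomputable def contrL (θ : X →ₗ[k] k) : X ⊗[k] Y →ₗ[k] Y :=
  (TensorProduct.lid k Y).toLinearMap ∘ₗ TensorProduct.map θ LinearMap.id

theorem contrL_tmul (θ : X →ₗ[k] k) (z : X) (w : Y) : contrL θ (z ⊗ₜ[k] w) = θ z • w := by
  change TensorProduct.lid k Y (θ z ⊗ₜ[k] w) = _
  rw [TensorProduct.lid_tmul]

theorem exists_functional_eq_one {V : Type u} [AddCommGroup V] [Module k V] {v : V} (hv : v ≠ 0) :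
    ∃ θ : V →ₗ[k] k, θ v = 1 := by
  obtain ⟨θ, hθ⟩ := Module.Projective.exists_dual_ne_zero k hv
  refine ⟨(θ v)⁻¹ • θ, ?_⟩
  rw [LinearMap.smul_apply, smul_eq_mul, inv_mul_cancel₀ hθ]

include hT hP hfb hfc hy hxy in
theorem left_surjOn (i : ℤ) (hA : 𝒜 i ≠ ⊥) (hB : ℬ i ≠ ⊥) :
    ∀ z ∈ 𝒳 (i + c), ∃ r ∈ 𝒜 i, r • x = z := by
  intro z hz
  obtain ⟨s, hs, hs0⟩ := (Submodule.ne_bot_iff _).mp hB
  have hsy0 : s • y ≠ 0 := fun h => hs0 (right_injOn hT hP hfb hxy i hA s hs h)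
  have hsy : s • y ∈ 𝒴 (i + c) := SetLike.GradedSMul.smul_mem (A := ℬ) (B := 𝒴) hs hy
  obtain ⟨θ, hθ⟩ := exists_functional_eq_one (k := k) hsy0
  have h1 : z ⊗ₜ[k] (s • y) ∈ (GrSeg.segrePiece k 𝒳 𝒴 (i + c) : Set (X ⊗[k] Y)) :=
    Submodule.subset_span ⟨z, hz, s • y, hsy, rfl⟩
  rw [← hP.image_piece (i + c)] at h1
  obtain ⟨p, hp, hpz⟩ := h1
  obtain ⟨t, ht, rfl⟩ := exists_preimage_piece hfb hfc hp
  rw [add_sub_cancel_right] at ht
  have h2 : ψ t ∈ GrSeg.segrePiece k 𝒜 ℬ i := by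
    rw [← hT.2 i]
    exact ⟨t, ht, rfl⟩
  have key : ∀ w ∈ GrSeg.segrePiece k 𝒜 ℬ i, ∃ r ∈ 𝒜 i, r • x =
      contrR θ (tmap (LinearMap.toSpanSingleton R X x) (LinearMap.toSpanSingleton S Y y) w) := by
    intro w hw
    induction hw using Submodule.span_induction with
    | mem w hw =>
      obtain ⟨r, hr, s', -, rfl⟩ := hw
      refine ⟨θ (s' • y) • r, Submodule.smul_mem _ _ hr, ?_⟩
      rw [tmap_tmul, contrR_tmul, LinearMap.toSpanSingleton_apply, LinearMap.toSpanSingleton_apply,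
        smul_assoc]
    | zero => exact ⟨0, zero_mem _, by rw [zero_smul, map_zero, map_zero]⟩
    | add w w' _ _ h1 h2 =>
      obtain ⟨r, hr, hrw⟩ := h1
      obtain ⟨r', hr', hrw'⟩ := h2
      exact ⟨r + r', add_mem hr hr', by rw [add_smul, hrw, hrw', map_add, map_add]⟩
    | smul a w _ h1 =>
      obtain ⟨r, hr, hrw⟩ := h1
      exact ⟨a • r, Submodule.smul_mem _ _ hr, by rw [smul_assoc, hrw, map_smul, map_smul]⟩
  obtain ⟨r, hr, hrz⟩ := key _ h2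
  refine ⟨r, hr, ?_⟩
  rw [hrz, ← phi_f_eq hP hxy t, hpz, contrR_tmul, hθ, one_smul]

include hT hP hfb hfc hx hxy in
theorem right_surjOn (i : ℤ) (hA : 𝒜 i ≠ ⊥) (hB : ℬ i ≠ ⊥) :
    ∀ z ∈ 𝒴 (i + c), ∃ s ∈ ℬ i, s • y = z := by
  intro z hz
  obtain ⟨r, hr, hr0⟩ := (Submodule.ne_bot_iff _).mp hA
  have hrx0 : r • x ≠ 0 := fun h => hr0 (left_injOn hT hP hfb hxy i hB r hr h)
  have hrx : r • x ∈ 𝒳 (i + c) := SetLike.GradedSMul.smul_mem (A := 𝒜) (B := 𝒳) hr hx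
  obtain ⟨θ, hθ⟩ := exists_functional_eq_one (k := k) hrx0
  have h1 : (r • x) ⊗ₜ[k] z ∈ (GrSeg.segrePiece k 𝒳 𝒴 (i + c) : Set (X ⊗[k] Y)) :=
    Submodule.subset_span ⟨r • x, hrx, z, hz, rfl⟩
  rw [← hP.image_piece (i + c)] at h1
  obtain ⟨p, hp, hpz⟩ := h1
  obtain ⟨t, ht, rfl⟩ := exists_preimage_piece hfb hfc hp
  rw [add_sub_cancel_right] at ht
  have h2 : ψ t ∈ GrSeg.segrePiece k 𝒜 ℬ i := by
    rw [← hT.2 i]
    exact ⟨t, ht, rfl⟩
  have key : ∀ w ∈ GrSeg.segrePiece k 𝒜 ℬ i, ∃ s ∈ ℬ i, s • y =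
      contrL θ (tmap (LinearMap.toSpanSingleton R X x) (LinearMap.toSpanSingleton S Y y) w) := by
    intro w hw
    induction hw using Submodule.span_induction with
    | mem w hw =>
      obtain ⟨r', -, s', hs', rfl⟩ := hw
      refine ⟨θ (r' • x) • s', Submodule.smul_mem _ _ hs', ?_⟩
      rw [tmap_tmul, contrL_tmul, LinearMap.toSpanSingleton_apply, LinearMap.toSpanSingleton_apply,
        smul_assoc]
    | zero => exact ⟨0, zero_mem _, by rw [zero_smul, map_zero, map_zero]⟩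
    | add w w' _ _ h1 h2 =>
      obtain ⟨s, hs, hsw⟩ := h1
      obtain ⟨s', hs', hsw'⟩ := h2
      exact ⟨s + s', add_mem hs hs', by rw [add_smul, hsw, hsw', map_add, map_add]⟩
    | smul a w _ h1 =>
      obtain ⟨s, hs, hsw⟩ := h1
      exact ⟨a • s, Submodule.smul_mem _ _ hs, by rw [smul_assoc, hsw, map_smul, map_smul]⟩
  obtain ⟨s, hs, hsz⟩ := key _ h2
  refine ⟨s, hs, ?_⟩
  rw [hsz, ← phi_f_eq hP hxy t, hpz, contrL_tmul, hθ, one_smul]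

include hT hP hfb hfc hx hy hxy in
/-- if `T(-c) ≅ X # Y` through `1 ↦ x # y`, then `R(-c) ≅ X` through `1 ↦ x` and `S(-c) ≅ Y`
through `1 ↦ y` -/
theorem factor_bijective (hA : ∀ i : ℤ, 0 ≤ i → 𝒜 i ≠ ⊥) (hB : ∀ i : ℤ, 0 ≤ i → ℬ i ≠ ⊥)
    (hA' : ∀ i : ℤ, i < 0 → 𝒜 i = ⊥) (hB' : ∀ i : ℤ, i < 0 → ℬ i = ⊥)
    (hX : ∀ i : ℤ, i < 0 → 𝒳 (i + c) = ⊥) (hY : ∀ i : ℤ, i < 0 → 𝒴 (i + c) = ⊥) :
    Function.Bijective (LinearMap.toSpanSingleton R X x) ∧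
      Function.Bijective (LinearMap.toSpanSingleton S Y y) := by
  haveI := gradedSMul_to 𝒜 𝒳
  haveI := gradedSMul_to ℬ 𝒴
  constructor
  · refine bijective_of_piecewise (toAdd 𝒜) 𝒳 (c := c) ?_ ?_ ?_
    · intro i r hr
      rw [LinearMap.toSpanSingleton_apply]
      exact SetLike.GradedSMul.smul_mem (A := 𝒜) (B := 𝒳) hr hx
    · intro i r hr hrx
      rw [LinearMap.toSpanSingleton_apply] at hrx
      rcases lt_or_ge i 0 with hi | hi
      · have : r ∈ 𝒜 i := hr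
        rwa [hA' i hi, Submodule.mem_bot] at this
      · exact left_injOn hT hP hfb hxy i (hB i hi) r hr hrx
    · intro i z hz
      rcases lt_or_ge i 0 with hi | hi
      · rw [hX i hi, AddSubgroup.mem_bot] at hz
        exact ⟨0, zero_mem _, by rw [map_zero, hz]⟩
      · obtain ⟨r, hr, hrz⟩ := left_surjOn hT hP hfb hfc hy hxy i (hA i hi) (hB i hi) z hz
        exact ⟨r, hr, by rw [LinearMap.toSpanSingleton_apply, hrz]⟩
  · refine bijective_of_piecewise (toAdd ℬ) 𝒴 (c := c) ?_ ?_ ?_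
    · intro i s hs
      rw [LinearMap.toSpanSingleton_apply]
      exact SetLike.GradedSMul.smul_mem (A := ℬ) (B := 𝒴) hs hy
    · intro i s hs hsy
      rw [LinearMap.toSpanSingleton_apply] at hsy
      rcases lt_or_ge i 0 with hi | hi
      · have : s ∈ ℬ i := hs
        rwa [hB' i hi, Submodule.mem_bot] at this
      · exact right_injOn hT hP hfb hxy i (hA i hi) s hs hsy
    · intro i z hz
      rcases lt_or_ge i 0 with hi | hi
      · rw [hY i hi, AddSubgroup.mem_bot] at hz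
        exact ⟨0, zero_mem _, by rw [map_zero, hz]⟩
      · obtain ⟨s, hs, hsz⟩ := right_surjOn hT hP hfb hfc hx hxy i (hA i hi) (hB i hi) z hz
        exact ⟨s, hs, by rw [LinearMap.toSpanSingleton_apply, hsz]⟩

end Factor

section Helpers

theorem exists_endDeg_eq {H : Type u} [AddCommGroup H] (𝒢 : ℤ → AddSubgroup H)
    (hne : ∃ d, 𝒢 d ≠ ⊥) (hbd : ∃ N : ℤ, ∀ n : ℤ, N ≤ n → 𝒢 n = ⊥) :
    ∃ a : ℤ, GrLC.endDeg 𝒢 = ((a : WithTop ℤ) : WithBot (WithTop ℤ)) := by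
  obtain ⟨N, hN⟩ := hbd
  obtain ⟨a, ha, hmax⟩ := Int.exists_greatest_of_bdd (P := fun d => 𝒢 d ≠ ⊥)
    ⟨N, fun z hz => by
      by_contra hlt
      exact hz (hN z (by omega))⟩ hne
  refine ⟨a, AInv.endDeg_eq_coe 𝒢 a ha (fun n hn => ?_)⟩
  by_contra hne'
  have := hmax n hne'
  omega

variable {k : Type u} [Field k] {R S : Type u} [CommRing R] [CommRing S]
  [Algebra k R] [Algebra k S]
  (𝒜 : ℤ → Submodule k R) [GradedAlgebra 𝒜] (ℬ : ℤ → Submodule k S) [GradedAlgebra ℬ]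
variable {X : Type u} [AddCommGroup X] [Module R X] [Module k X] [IsScalarTower k R X]
  (𝒳 : ℤ → AddSubgroup X) [DirectSum.Decomposition 𝒳] [SetLike.GradedSMul 𝒜 𝒳]
variable {Y : Type u} [AddCommGroup Y] [Module S Y] [Module k Y] [IsScalarTower k S Y]
  (𝒴 : ℤ → AddSubgroup Y) [DirectSum.Decomposition 𝒴] [SetLike.GradedSMul ℬ 𝒴]

/-- the Segre product of two lines is a line -/
theorem segrePiece_of_finrank_one (c : ℤ) (hX : Module.finrank k ↥(pcs 𝒜 𝒳 c) = 1)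
    (hY : Module.finrank k ↥(pcs ℬ 𝒴 c) = 1) {x₀ : X} (hx₀ : x₀ ∈ 𝒳 c) (hx₀0 : x₀ ≠ 0)
    {y₀ : Y} (hy₀ : y₀ ∈ 𝒴 c) (hy₀0 : y₀ ≠ 0) (w : X ⊗[k] Y)
    (hw : w ∈ GrSeg.segrePiece k 𝒳 𝒴 c) : ∃ γ : k, w = γ • (x₀ ⊗ₜ[k] y₀) := by
  have hx' : ∀ x' ∈ 𝒳 c, ∃ α : k, α • x₀ = x' := by
    intro x' hx'
    have hv : (⟨x₀, hx₀⟩ : ↥(pcs 𝒜 𝒳 c)) ≠ 0 := fun h => hx₀0 (congrArg Subtype.val h)
    obtain ⟨α, hα⟩ := exists_smul_eq_of_finrank_eq_one hX hv ⟨x', hx'⟩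
    exact ⟨α, congrArg Subtype.val hα⟩
  have hy' : ∀ y' ∈ 𝒴 c, ∃ β : k, β • y₀ = y' := by
    intro y' hy'
    have hv : (⟨y₀, hy₀⟩ : ↥(pcs ℬ 𝒴 c)) ≠ 0 := fun h => hy₀0 (congrArg Subtype.val h)
    obtain ⟨β, hβ⟩ := exists_smul_eq_of_finrank_eq_one hY hv ⟨y', hy'⟩
    exact ⟨β, congrArg Subtype.val hβ⟩
  induction hw using Submodule.span_induction with
  | mem w hw =>
    obtain ⟨x', hx'm, y', hy'm, rfl⟩ := hw
    obtain ⟨α, rfl⟩ := hx' x' hx'm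
    obtain ⟨β, rfl⟩ := hy' y' hy'm
    exact ⟨α * β, by rw [TensorProduct.smul_tmul_smul]⟩
  | zero => exact ⟨0, by rw [zero_smul]⟩
  | add w w' _ _ h1 h2 =>
    obtain ⟨γ, rfl⟩ := h1
    obtain ⟨γ', rfl⟩ := h2
    exact ⟨γ + γ', by rw [add_smul]⟩
  | smul a w _ h1 =>
    obtain ⟨γ, rfl⟩ := h1
    exact ⟨a * γ, by rw [mul_smul]⟩

end Helpers

end Seg

end Groth.Agent.H6
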