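import Groth.Agent.Lib.Helper6.SegGor5a
import Groth.Agent.S18657

/-! A Gorenstein Segre product of standard graded Cohen–Macaulay rings of dimension at least two
has Gorenstein factors with equal negative a-invariants. -/

universe u
open DirectSum TensorProduct
set_option linter.unusedSectionVars false

namespace Groth.Agent.H6

namespace Seg

open SegLA ToAdd

set_option maxHeartbeats 6400000 in
theorem gorenstein_factors (k : Type u) [Field k] (R : Type u) [CommRing R] [Algebra k R]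
    (𝒜 : ℤ → Submodule k R) [GradedAlgebra 𝒜] (hposR : ∀ n : ℤ, n < 0 → 𝒜 n = ⊥)
    (h0R : 𝒜 0 = Submodule.span k {(1 : R)}) [Algebra.FiniteType k R] (S : Type u) [CommRing S]
    [Algebra k S] (ℬ : ℤ → Submodule k S) [GradedAlgebra ℬ]
    (hposS : ∀ n : ℤ, n < 0 → ℬ n = ⊥) (h0S : ℬ 0 = Submodule.span k {(1 : S)})
    [Algebra.FiniteType k S] (T : Type u) [CommRing T] [Algebra k T] (𝒯 : ℤ → Submodule k T)
    [GradedAlgebra 𝒯] (ψ : T →ₐ[k] TensorProduct k R S) (hT : GrSeg.IsSegreRing 𝒜 ℬ 𝒯 ψ)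
    [LocCoh.IsCohenMacaulayRing R] [LocCoh.IsCohenMacaulayRing S] (mR : HomogeneousIdeal 𝒜)
    (hmR : mR.toIdeal = Ideal.span (⋃ n ∈ Set.Ioi (0 : ℤ), (𝒜 n : Set R)))
    (hstdR : Ideal.span (⋃ n ∈ Set.Ioi (0 : ℤ), (𝒜 n : Set R)) =
      Ideal.span ((𝒜 1 : Submodule k R) : Set R))
    (I : GrLC.StarInjRes 𝒜 𝒜) (mS : HomogeneousIdeal ℬ)
    (hmS : mS.toIdeal = Ideal.span (⋃ n ∈ Set.Ioi (0 : ℤ), (ℬ n : Set S)))
    (hstdS : Ideal.span (⋃ n ∈ Set.Ioi (0 : ℤ), (ℬ n : Set S)) =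
      Ideal.span ((ℬ 1 : Submodule k S) : Set S))
    (J : GrLC.StarInjRes ℬ ℬ) (r s : ℕ) (hr : ringKrullDim R = r) (hs : ringKrullDim S = s)
    (h2r : 2 ≤ r) (h2s : 2 ≤ s) [hG : LocCoh.IsGorensteinRing T] :
    LocCoh.IsGorensteinRing R ∧ LocCoh.IsGorensteinRing S ∧
      GrLC.endDeg (I.Hgr mR r) = GrLC.endDeg (J.Hgr mS s) ∧ GrLC.endDeg (I.Hgr mR r) < 0 := by
  haveI := nontrivial_of_dim r hr
  haveI := nontrivial_of_dim s hs
  haveI : IsNoetherianRing R := Algebra.FiniteType.isNoetherianRing k R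
  haveI : IsNoetherianRing S := Algebra.FiniteType.isNoetherianRing k S
  haveI : Nontrivial T := segre_nontrivial ψ
  have h0T : 𝒯 0 = Submodule.span k {(1 : T)} := segre_deg_zero hT h0R h0S
  have hposT : ∀ n : ℤ, n < 0 → 𝒯 n = ⊥ := segre_neg_eq_bot hT hposR
  obtain ⟨mT, hmT⟩ := exists_irrel 𝒯
  obtain ⟨IT⟩ := nonempty_starInjRes_self 𝒯
  letI := gradedRing_toAdd 𝒜
  letI := gradedRing_toAdd ℬ
  letI := gradedRing_toAdd 𝒯
  haveI := gradedSMul_self 𝒜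
  haveI := gradedSMul_self ℬ
  haveI := gradedSMul_self 𝒯
  -- the Segre product is Cohen–Macaulay, hence the a-invariants are negative
  haveI hCMT : LocCoh.IsCohenMacaulayRing T := ⟨fun p _ => by
    haveI := hG.isGorensteinLocalRing_localization p
    exact ⟨LDL.gor_cm⟩⟩
  have hneg := (cm_segre_std k R 𝒜 hposR h0R S ℬ hposS h0S T 𝒯 ψ hT.1 hT.2 mR hmR hstdR I mS hmS
    hstdS J r s hr hs h2r h2s).mp hCMT
  -- the *injective envelopes
  obtain ⟨EmR, eR, heR'⟩ := Ver.exists_residue_hull (toAdd 𝒜) (idealTo 𝒜 mR)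
  obtain ⟨EmS, eS, heS'⟩ := Ver.exists_residue_hull (toAdd ℬ) (idealTo ℬ mS)
  obtain ⟨EmT, eT, heT'⟩ := Ver.exists_residue_hull (toAdd 𝒯) (idealTo 𝒯 mT)
  haveI := gradedSMul_of 𝒜 EmR.gr
  haveI := gradedSMul_of ℬ EmS.gr
  haveI := gradedSMul_of 𝒯 EmT.gr
  have heR := isStarInjHull_of 𝒜 mR EmR.gr eR heR'
  have heS := isStarInjHull_of ℬ mS EmS.gr eS heS'
  have heT := isStarInjHull_of 𝒯 mT EmT.gr eT heT'
  have SR : GDual.Setting (toAdd 𝒜) (idealTo 𝒜 mR) EmR.gr eR :=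
    ⟨toAdd_neg_eq_bot 𝒜 hposR, isField_deg0 𝒜 h0R, hmR, heR'⟩
  have SS : GDual.Setting (toAdd ℬ) (idealTo ℬ mS) EmS.gr eS :=
    ⟨toAdd_neg_eq_bot ℬ hposS, isField_deg0 ℬ h0S, hmS, heS'⟩
  have hlocR := isStarLocal_idealTo_irrel 𝒜 hposR h0R mR hmR
  have hlocS := isStarLocal_idealTo_irrel ℬ hposS h0S mS hmS
  have hlocT := isStarLocal_idealTo_irrel 𝒯 hposT h0T mT hmT
  -- the canonical modules of `R` and of `S`
  obtain ⟨CR, hCR'⟩ := CanEx.exists_canonical SR hlocR.1 r (resTo 𝒜 I)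
  obtain ⟨CS, hCS'⟩ := CanEx.exists_canonical SS hlocS.1 s (resTo ℬ J)
  haveI := gradedSMul_of 𝒜 CR.gr
  haveI := gradedSMul_of ℬ CS.gr
  letI : Module k CR.carrier := Module.compHom _ (algebraMap k R)
  haveI : IsScalarTower k R CR.carrier := compHom_tower R _
  letI : Module k CS.carrier := Module.compHom _ (algebraMap k S)
  haveI : IsScalarTower k S CS.carrier := compHom_tower S _
  have hCR := isStarCanonical_of 𝒜 mR EmR.gr CR.gr r I hCR'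
  have hCS := isStarCanonical_of ℬ mS EmS.gr CS.gr s J hCS'
  -- the canonical module of `T`
  let V := TSub.full 𝒜 ℬ 𝒯 ψ CR.gr CS.gr hT
  letI := V.decomposition
  haveI := V.gradedSMul 𝒯 hT
  haveI := gradedSMul_of 𝒯 V.gr
  have hP : GrSeg.IsSegreMod ψ CR.gr CS.gr V.gr V.U.subtype := isSegreMod_full 𝒜 ℬ 𝒯 ψ hT _ _
  have hCT := Groth.Agent.S19757.result k R 𝒜 hposR h0R S ℬ hposS h0S T 𝒯 ψ hT mR hmR I mS hmS J
    mT hmT IT r s hr hs h2r h2s EmR.carrier EmR.gr eR heR CR.carrier CR.gr hCR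
    EmS.carrier EmS.gr eS heS CS.carrier CS.gr hCS EmT.carrier EmT.gr eT heT
    ↥V.U V.gr V.U.subtype hP
  have hCT' := isStarCanonical_to 𝒯 mT EmT.gr V.gr (r + s - 1) IT hCT
  have hdimT := dim_segre k R 𝒜 hposR h0R S ℬ hposS h0S T 𝒯 ψ hT r s hr hs (by omega) (by omega)
  obtain ⟨c, f, hfb, hfc⟩ := (Groth.Agent.S18638.result T (toAdd 𝒯) (toAdd_neg_eq_bot 𝒯 hposT)
    (isField_deg0 𝒯 h0T) (idealTo 𝒯 mT) hlocT hmT (r + s - 1) hdimT (resTo 𝒯 IT) EmT.carrier EmT.gr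
    eT heT' ↥V.U V.gr hCT').mp hG
  -- the a-invariants
  obtain ⟨aR, haR⟩ := exists_aInv 𝒜 hposR h0R mR hmR r hr I
  obtain ⟨aS, haS⟩ := exists_aInv ℬ hposS h0S mS hmS s hs J
  have hR0 : ∀ n : ℤ, n < -aR → CR.gr n = ⊥ := fun n hn =>
    canonical_piece_eq_bot 𝒜 hposR h0R mR hmR EmR.gr eR heR CR.gr r I hCR aR haR n hn
  have hS0 : ∀ n : ℤ, n < -aS → CS.gr n = ⊥ := fun n hn =>
    canonical_piece_eq_bot ℬ hposS h0S mS hmS EmS.gr eS heS CS.gr s J hCS aS haS n hn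
  have hR2 : ∀ n : ℤ, -aR < n →
      2 ≤ Module.finrank (GrLC.deg0 𝒜) ↥(GrLC.comp 𝒜 CR.gr n) := fun n hn =>
    Groth.Agent.S18657.result R (toAdd 𝒜) (toAdd_neg_eq_bot 𝒜 hposR) (isField_deg0 𝒜 h0R)
      (idealTo 𝒜 mR) hlocR hmR hstdR r hr h2r (resTo 𝒜 I) aR haR EmR.carrier EmR.gr eR heR'
      CR.carrier CR.gr hCR' n hn
  have hS2 : ∀ n : ℤ, -aS < n →
      2 ≤ Module.finrank (GrLC.deg0 ℬ) ↥(GrLC.comp ℬ CS.gr n) := fun n hn =>
    Groth.Agent.S18657.result S (toAdd ℬ) (toAdd_neg_eq_bot ℬ hposS) (isField_deg0 ℬ h0S)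
      (idealTo ℬ mS) hlocS hmS hstdS s hs h2s (resTo ℬ J) aS haS EmS.carrier EmS.gr eS heS'
      CS.carrier CS.gr hCS' n hn
  -- the generating degree
  have hkT : Module.finrank (GrLC.deg0 𝒯) ↥(GrLC.comp 𝒯 V.gr c) = 1 := by
    rw [← finrank_pcs_eq 𝒯 V.gr h0T c]
    exact finrank_pcs_eq_one 𝒯 h0T V.gr hfb hfc
  have hmul := finrank_canonical_segre k R 𝒜 hposR h0R S ℬ hposS h0S T 𝒯 ψ hT mR hmR I mS hmS J
    mT hmT IT r s hr hs h2r h2s EmR.carrier EmR.gr eR heR CR.carrier CR.gr hCR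
    EmS.carrier EmS.gr eS heS CS.carrier CS.gr hCS EmT.carrier EmT.gr eT heT ↥V.U V.gr hCT c
  rw [hkT] at hmul
  have hkR : Module.finrank (GrLC.deg0 𝒜) ↥(GrLC.comp 𝒜 CR.gr c) = 1 :=
    Nat.eq_one_of_mul_eq_one_right hmul.symm
  have hkS : Module.finrank (GrLC.deg0 ℬ) ↥(GrLC.comp ℬ CS.gr c) = 1 :=
    Nat.eq_one_of_mul_eq_one_left hmul.symm
  have hcR : c = -aR := by
    rcases lt_trichotomy c (-aR) with h | h | h
    · exfalso
      have h1 := hR0 c h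
      haveI : Subsingleton ↥(GrLC.comp 𝒜 CR.gr c) := ⟨fun x y => by
        have hx : (x : CR.carrier) ∈ CR.gr c := x.2
        have hy : (y : CR.carrier) ∈ CR.gr c := y.2
        rw [h1, AddSubgroup.mem_bot] at hx hy
        exact Subtype.ext (hx.trans hy.symm)⟩
      rw [Module.finrank_zero_of_subsingleton] at hkR
      omega
    · exact h
    · exfalso
      have := hR2 c h
      omega
  have hcS : c = -aS := by
    rcases lt_trichotomy c (-aS) with h | h | h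
    · exfalso
      have h1 := hS0 c h
      haveI : Subsingleton ↥(GrLC.comp ℬ CS.gr c) := ⟨fun x y => by
        have hx : (x : CS.carrier) ∈ CS.gr c := x.2
        have hy : (y : CS.carrier) ∈ CS.gr c := y.2
        rw [h1, AddSubgroup.mem_bot] at hx hy
        exact Subtype.ext (hx.trans hy.symm)⟩
      rw [Module.finrank_zero_of_subsingleton] at hkS
      omega
    · exact h
    · exfalso
      have := hS2 c h
      omega
  -- generators of the one-dimensional pieces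
  have hkR' : Module.finrank k ↥(pcs 𝒜 CR.gr c) = 1 := by
    rw [finrank_pcs_eq 𝒜 CR.gr h0R c]
    exact hkR
  have hkS' : Module.finrank k ↥(pcs ℬ CS.gr c) = 1 := by
    rw [finrank_pcs_eq ℬ CS.gr h0S c]
    exact hkS
  obtain ⟨x₀, hx₀0⟩ : ∃ x₀ : ↥(pcs 𝒜 CR.gr c), x₀ ≠ 0 := by
    haveI : Nontrivial ↥(pcs 𝒜 CR.gr c) :=
      Module.nontrivial_of_finrank_pos (R := k) (by omega)
    exact exists_ne 0
  obtain ⟨y₀, hy₀0⟩ : ∃ y₀ : ↥(pcs ℬ CS.gr c), y₀ ≠ 0 := by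
    haveI : Nontrivial ↥(pcs ℬ CS.gr c) :=
      Module.nontrivial_of_finrank_pos (R := k) (by omega)
    exact exists_ne 0
  have hw : V.U.subtype (f 1) ∈ GrSeg.segrePiece k CR.gr CS.gr c := by
    have h1 : V.U.subtype (f 1) ∈ V.U.subtype '' (V.gr c : Set ↥V.U) :=
      ⟨f 1, f_one_mem 𝒯 V.gr hfc, rfl⟩
    rw [hP.image_piece c] at h1
    exact h1
  obtain ⟨γ, hγ⟩ := segrePiece_of_finrank_one 𝒜 ℬ CR.gr CS.gr c hkR' hkS' x₀.2
    (fun h => hx₀0 (Subtype.ext h)) y₀.2 (fun h => hy₀0 (Subtype.ext h)) _ hw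
  have hxy : V.U.subtype (f 1) = (γ • (x₀ : CR.carrier)) ⊗ₜ[k] (y₀ : CS.carrier) := by
    rw [hγ, TensorProduct.smul_tmul']
  have hx : γ • (x₀ : CR.carrier) ∈ CR.gr c := smul_mem_piece 𝒜 CR.gr γ x₀.2
  have hy : (y₀ : CS.carrier) ∈ CS.gr c := y₀.2
  obtain ⟨hbR, hbS⟩ := factor_bijective hT hP hfb hfc hx hy hxy
    (fun i hi => piece_ne_bot 𝒜 hposR h0R mR hmR hstdR r hr (by omega) i hi)
    (fun i hi => piece_ne_bot ℬ hposS h0S mS hmS hstdS s hs (by omega) i hi)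
    hposR hposS
    (fun i hi => hR0 (i + c) (by omega)) (fun i hi => hS0 (i + c) (by omega))
  refine ⟨?_, ?_, ?_, hneg.1⟩
  · refine (Groth.Agent.S18638.result R (toAdd 𝒜) (toAdd_neg_eq_bot 𝒜 hposR) (isField_deg0 𝒜 h0R)
      (idealTo 𝒜 mR) hlocR hmR r hr (resTo 𝒜 I) EmR.carrier EmR.gr eR heR' CR.carrier CR.gr
      hCR').mpr ⟨c, LinearMap.toSpanSingleton R _ (γ • (x₀ : CR.carrier)), hbR, ?_⟩
    intro i a ha
    rw [LinearMap.toSpanSingleton_apply]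
    exact SetLike.GradedSMul.smul_mem (A := 𝒜) (B := CR.gr) ha hx
  · refine (Groth.Agent.S18638.result S (toAdd ℬ) (toAdd_neg_eq_bot ℬ hposS) (isField_deg0 ℬ h0S)
      (idealTo ℬ mS) hlocS hmS s hs (resTo ℬ J) EmS.carrier EmS.gr eS heS' CS.carrier CS.gr
      hCS').mpr ⟨c, LinearMap.toSpanSingleton S _ (y₀ : CS.carrier), hbS, ?_⟩
    intro i a ha
    rw [LinearMap.toSpanSingleton_apply]
    exact SetLike.GradedSMul.smul_mem (A := ℬ) (B := CS.gr) ha hy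
  · rw [haR, haS]
    have : aR = aS := by omega
    rw [this]

end Seg

end Groth.Agent.H6
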