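import Groth.Agent.Lib.Helper6.SegGor4
import Groth.Agent.S18657

universe u
open DirectSum TensorProduct
set_option linter.unusedSectionVars false

namespace Groth.Agent.H6

namespace Seg

open SegLA ToAdd

section AInv

variable {k : Type u} [Field k] {R : Type u} [CommRing R] [Nontrivial R] [Algebra k R]
  (𝒜 : ℤ → Submodule k R) [GradedAlgebra 𝒜] [IsNoetherianRing R]
  (hpos : ∀ n : ℤ, n < 0 → 𝒜 n = ⊥) (h0 : 𝒜 0 = Submodule.span k {(1 : R)})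
  (m : HomogeneousIdeal 𝒜)
  (hm : m.toIdeal = Ideal.span (⋃ n ∈ Set.Ioi (0 : ℤ), (𝒜 n : Set R)))

include hpos h0 hm in
/-- the a-invariant is an integer -/
theorem exists_aInv (r : ℕ) (hr : ringKrullDim R = r) (I : GrLC.StarInjRes 𝒜 𝒜) :
    ∃ a : ℤ, GrLC.endDeg (I.Hgr m r) = ((a : WithTop ℤ) : WithBot (WithTop ℤ)) := by
  letI := gradedRing_toAdd 𝒜
  haveI := gradedSMul_self 𝒜
  apply exists_endDeg_eq
  · obtain ⟨d, hd⟩ := exists_Hcomp_top_ne_bot 𝒜 hpos h0 m hm r hr I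
    exact ⟨d, fun h => hd ((Hgr_eq_bot_iff 𝒜 m I r d).mp h)⟩
  · have hloc := isStarLocal_idealTo_irrel 𝒜 hpos h0 m hm
    obtain ⟨N, hN⟩ := Gr.exists_Hcomp_eq_bot_of_isCoatom (toAdd_neg_eq_bot 𝒜 hpos)
      (resToM 𝒜 (resSelf 𝒜 I)) (idealTo 𝒜 m) hloc.1 r
    refine ⟨N, fun n hn => ?_⟩
    rw [Hgr_eq_bot_iff]
    exact (Hcomp_to_eq_bot_iff 𝒜 m (toAdd 𝒜) (resSelf 𝒜 I) r n).mp (hN n hn)

include hpos h0 hm in
/-- the canonical module vanishes below `-a` -/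
theorem canonical_piece_eq_bot
    {E' : Type u} [AddCommGroup E'] [Module R E'] (𝓔 : ℤ → AddSubgroup E')
    [DirectSum.Decomposition 𝓔] [SetLike.GradedSMul 𝒜 𝓔] (e : (R ⧸ m.toIdeal) →ₗ[R] E')
    (he : GrLC.IsStarInjHull 𝒜 (GrLC.quotGr 𝒜 m) 𝓔 e)
    {C : Type u} [AddCommGroup C] [Module R C] (𝒞 : ℤ → AddSubgroup C)
    [DirectSum.Decomposition 𝒞] [SetLike.GradedSMul 𝒜 𝒞] (r : ℕ) (I : GrLC.StarInjRes 𝒜 𝒜)
    (hC : GrLC.IsStarCanonical 𝒜 𝒞 𝓔 m r I) (a : ℤ)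
    (ha : GrLC.endDeg (I.Hgr m r) = ((a : WithTop ℤ) : WithBot (WithTop ℤ))) (n : ℤ)
    (hn : n < -a) : 𝒞 n = ⊥ := by
  letI := gradedRing_toAdd 𝒜
  haveI := gradedSMul_self 𝒜
  haveI : Module.Finite R C := hC.1
  have h1 := finrank_canonical 𝒜 hpos h0 m hm 𝓔 e he 𝒞 r I hC n
  have h2 : I.Hcomp m r (-n) = ⊥ := by
    by_contra hne
    have := PolyCan.le_of_endDeg_eq (I.Hgr m r) a ha (-n)
      (fun h => hne ((Hgr_eq_bot_iff 𝒜 m I r (-n)).mp h))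
    omega
  have h3 : Module.finrank (GrLC.deg0 𝒜) ↥(I.Hcomp m r (-n)) = 0 :=
    (Hcomp_eq_bot_iff_finrank 𝒜 (toAdd 𝒜) hpos h0 m hm (resSelf 𝒜 I) r (-n)).mp h2
  rw [h3] at h1
  haveI := gradedSMul_to 𝒜 𝒞
  haveI := finite_comp_of_pos 𝒜 𝒞 hpos m hm n
  rw [finrank_eq_zero_iff_of_isField (isField_deg0 𝒜 h0)] at h1
  rw [eq_bot_iff]
  intro x hx
  have : (⟨x, hx⟩ : ↥(GrLC.comp 𝒜 𝒞 n)) = 0 := Subsingleton.elim _ _
  exact congrArg Subtype.val this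

end AInv

section Free

variable {k : Type u} [Field k] {T : Type u} [CommRing T] [Nontrivial T] [Algebra k T]
  (𝒯 : ℤ → Submodule k T) [GradedAlgebra 𝒯] [GradedRing (toAdd 𝒯)]
  (h0 : 𝒯 0 = Submodule.span k {(1 : T)})
variable {P : Type u} [AddCommGroup P] [Module T P] [Module k P] [IsScalarTower k T P]
  (𝒬 : ℤ → AddSubgroup P) [DirectSum.Decomposition 𝒬] [SetLike.GradedSMul 𝒯 𝒬]
  {c : ℤ} {f : T →ₗ[T] P} (hfb : Function.Bijective f)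
  (hfc : GrLC.IsGrHomDeg (toAdd 𝒯) 𝒬 f c)

include hfc in
theorem f_one_mem : f 1 ∈ 𝒬 c := by
  have h1 := hfc 0 1 (SetLike.GradedOne.one_mem (A := 𝒯))
  rwa [zero_add] at h1

include h0 hfb hfc in
/-- a free graded module of rank one has a one-dimensional generating piece -/
theorem finrank_pcs_eq_one : Module.finrank k ↥(pcs 𝒯 𝒬 c) = 1 := by
  rw [finrank_eq_one_iff']
  refine ⟨⟨f 1, f_one_mem 𝒯 𝒬 hfc⟩, ?_, ?_⟩
  · intro h
    have h1 : f 1 = 0 := congrArg Subtype.val h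
    rw [← map_zero f] at h1
    exact one_ne_zero (hfb.1 h1)
  · rintro ⟨w, hw⟩
    obtain ⟨t, ht, rfl⟩ := exists_preimage_piece hfb hfc (show w ∈ 𝒬 c from hw)
    rw [sub_self, h0, Submodule.mem_span_singleton] at ht
    obtain ⟨α, rfl⟩ := ht
    refine ⟨α, Subtype.ext ?_⟩
    change α • f 1 = f (α • (1 : T))
    rw [← algebraMap_smul T α (f 1), ← map_smul, smul_eq_mul, ← Algebra.smul_def]

end Free

end Seg

end Groth.Agent.H6
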