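import Groth.Agent.Lib.Helper6.SegPoly1
import Groth.Agent.S18654

/-! Standard graded Cohen–Macaulay rings of dimension one over a field: further criteria for being
a polynomial ring, and monotonicity of the Hilbert function. -/

universe u
open DirectSum TensorProduct
set_option linter.unusedSectionVars false

namespace Groth.Agent.H6

namespace Seg

open SegLA ToAdd Gr

section Crit

variable (k : Type u) [Field k] (R : Type u) [CommRing R] [Nontrivial R] [Algebra k R]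
  (𝒜 : ℤ → Submodule k R) [GradedAlgebra 𝒜]
  (hpos : ∀ n : ℤ, n < 0 → 𝒜 n = ⊥) (h0 : 𝒜 0 = Submodule.span k {(1 : R)})
  [Algebra.FiniteType k R]
  (hstd : Ideal.span (⋃ n ∈ Set.Ioi (0 : ℤ), (𝒜 n : Set R)) =
    Ideal.span ((𝒜 1 : Submodule k R) : Set R))
  (m : HomogeneousIdeal 𝒜)
  (hm : m.toIdeal = Ideal.span (⋃ n ∈ Set.Ioi (0 : ℤ), (𝒜 n : Set R)))

include hpos h0 hm in
/-- the graded local cohomology of a Cohen–Macaulay graded ring of dimension one is concentrated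
in cohomological degree one -/
theorem Hcomp_eq_bot_of_ne_one [LocCoh.IsCohenMacaulayRing R]
    (hr : ringKrullDim R = 1) (I : GrLC.StarInjRes 𝒜 𝒜) (q : ℕ) (d : ℤ) (hq : q ≠ 1) :
    I.Hcomp m q d = ⊥ := by
  haveI : IsNoetherianRing R := Algebra.FiniteType.isNoetherianRing k R
  letI := gradedRing_toAdd 𝒜
  haveI := gradedSMul_self 𝒜
  have hr' : ringKrullDim R = ((1 : ℕ) : WithBot ℕ∞) := by rw [hr]; rfl
  have hRcm := (cmRing_iff_existsUnique 𝒜 hpos h0 m hm I).mp inferInstance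
  obtain ⟨dR, hdR⟩ := exists_Hcomp_top_ne_bot 𝒜 hpos h0 m hm 1 hr' I
  by_contra h
  obtain ⟨q0, _, huniq⟩ := hRcm
  have h1 := huniq q ⟨d, h⟩
  have h2 := huniq 1 ⟨dR, hdR⟩
  exact hq (h1.trans h2.symm)

include hpos h0 hstd hm in
/-- a standard graded Cohen–Macaulay ring of dimension one over a field whose first local
cohomology vanishes in degree zero is a polynomial ring -/
theorem polynomial_of_Hcomp_one_zero [LocCoh.IsCohenMacaulayRing R]
    (hr : ringKrullDim R = 1) (I : GrLC.StarInjRes 𝒜 𝒜) (hneg : I.Hcomp m 1 0 = ⊥) :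
    Nonempty (R ≃ₐ[k] Polynomial k) := by
  haveI : IsNoetherianRing R := Algebra.FiniteType.isNoetherianRing k R
  letI := gradedRing_toAdd 𝒜
  haveI := gradedSMul_self 𝒜
  have h0' := isField_deg0 𝒜 h0
  have hpos' := toAdd_neg_eq_bot 𝒜 hpos
  have hr' : ringKrullDim R = ((1 : ℕ) : WithBot ℕ∞) := by rw [hr]; rfl
  have hRv := Hcomp_eq_bot_of_ne_one k R 𝒜 hpos h0 m hm hr I
  have hH0 : Subsingleton ((resToM 𝒜 (resSelf 𝒜 I)).H (idealTo 𝒜 m) 0) := by
    by_contra hne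
    rw [not_subsingleton_iff_nontrivial, GrCM.nontrivial_H_iff (toAdd 𝒜) (toAdd 𝒜)
      (resToM 𝒜 (resSelf 𝒜 I)) (idealTo 𝒜 m) 0] at hne
    obtain ⟨d, hd⟩ := hne
    apply hd
    rw [Hcomp_to_eq_bot_iff]
    exact hRv 0 d (by omega)
  have hne : ∀ n : ℕ, 𝒜 (n : ℤ) ≠ ⊥ := fun n =>
    piece_ne_bot 𝒜 hpos h0 m hm hstd 1 hr' le_rfl n (by positivity)
  have hneg' : (resToM 𝒜 (resSelf 𝒜 I)).Hcomp (idealTo 𝒜 m) 1 0 = ⊥ := by
    rw [Hcomp_to_eq_bot_iff]
    exact hneg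
  obtain ⟨z, hz, hzr⟩ := GrPoly.isCyc_one_of_ainv_neg (toAdd 𝒜) hpos' h0' (idealTo 𝒜 m) hm hstd
    (resToM 𝒜 (resSelf 𝒜 I)) hr hH0 hneg'
  refine nonempty_algEquiv_polynomial 𝒜 hpos h0 hstd z hz (fun r hr1 => ?_) hne
  obtain ⟨c, hc, rfl⟩ := hzr r hr1
  have hc' : c ∈ 𝒜 0 := hc
  rw [h0, Submodule.mem_span_singleton] at hc'
  obtain ⟨a, rfl⟩ := hc'
  exact ⟨a, by rw [smul_mul_assoc, one_mul]⟩

include hpos h0 hstd hm in
/-- a standard graded ring of dimension one over a field with one-dimensional `R_1` is generated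
by one element of degree one, all of whose powers are nonzero -/
theorem exists_gen_of_finrank_one (hr : ringKrullDim R = 1)
    (h1 : Module.finrank k ↥(𝒜 1) = 1) :
    ∃ x ∈ 𝒜 1, (∀ r ∈ 𝒜 1, ∃ c : k, r = c • x) ∧ ∀ n : ℕ, 𝒜 (n : ℤ) ≠ ⊥ := by
  haveI : IsNoetherianRing R := Algebra.FiniteType.isNoetherianRing k R
  have hr' : ringKrullDim R = ((1 : ℕ) : WithBot ℕ∞) := by rw [hr]; rfl
  have hne : ∀ n : ℕ, 𝒜 (n : ℤ) ≠ ⊥ := fun n =>
    piece_ne_bot 𝒜 hpos h0 m hm hstd 1 hr' le_rfl n (by positivity)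
  obtain ⟨⟨x, hx⟩, -, hgen⟩ := finrank_eq_one_iff'.mp h1
  refine ⟨x, hx, fun r hr1 => ?_, hne⟩
  obtain ⟨c, hc⟩ := hgen ⟨r, hr1⟩
  exact ⟨c, (congrArg Subtype.val hc).symm⟩

include hpos h0 hstd in
/-- the Hilbert function of a standard graded Cohen–Macaulay ring of positive dimension is
nondecreasing -/
theorem finrank_piece_mono [LocCoh.IsCohenMacaulayRing R] (hr : 1 ≤ ringKrullDim R) (a : ℕ) :
    Module.finrank k ↥(𝒜 1) ≤ Module.finrank k ↥(𝒜 ((a : ℤ) + 1)) := by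
  letI := gradedRing_toAdd 𝒜
  haveI := gradedSMul_self 𝒜
  have key : ∀ n : ℤ, Module.finrank k ↥(𝒜 n) ≤ Module.finrank k ↥(𝒜 (n + 1)) := by
    intro n
    have : Module.finrank (GrLC.deg0 𝒜) ↥(GrLC.comp 𝒜 (toAdd 𝒜) n) ≤
        Module.finrank (GrLC.deg0 𝒜) ↥(GrLC.comp 𝒜 (toAdd 𝒜) (n + 1)) :=
      Groth.Agent.S18654.result R (toAdd 𝒜) (toAdd_neg_eq_bot 𝒜 hpos) (isField_deg0 𝒜 h0)
        hstd hr n
    rwa [finrank_comp_self 𝒜 h0 n, finrank_comp_self 𝒜 h0 (n + 1)] at this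
  induction a with
  | zero => simp
  | succ a ih =>
    refine ih.trans ?_
    have := key ((a : ℤ) + 1)
    push_cast
    exact this

end Crit

end Seg

end Groth.Agent.H6
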