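import Groth.Agent.Lib.Helper6.SegPoly1
import Groth.Agent.Lib.Helper6.HLVGor

/-! The Segre product of a graded ring with a polynomial ring in one variable is isomorphic to the
ring; transfer of the Gorenstein property along ring isomorphisms. -/

universe u
open DirectSum TensorProduct
set_option linter.unusedSectionVars false

namespace Groth.Agent.H6

namespace Seg

open SegLA ToAdd Gr

section Transfer

/-- the Gorenstein property is invariant under ring isomorphisms -/
theorem gorensteinRing_of_ringEquiv {A B : Type u} [CommRing A] [CommRing B] (e : A ≃+* B)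
    [hA : LocCoh.IsGorensteinRing A] : LocCoh.IsGorensteinRing B := by
  haveI : IsNoetherianRing B := isNoetherianRing_of_ringEquiv A e
  refine ⟨fun p hp => ?_⟩
  let q : Ideal A := p.comap e.toRingHom
  haveI : q.IsPrime := Ideal.comap_isPrime _ _
  haveI := hA.isGorensteinLocalRing_localization q
  have hmap : Submonoid.map (e : A →+* B) q.primeCompl = p.primeCompl := by
    ext b
    constructor
    · rintro ⟨a, ha, rfl⟩
      exact ha
    · intro hb
      refine ⟨e.symm b, ?_, by simp⟩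
      change e.symm b ∉ q
      intro h
      apply hb
      have : e (e.symm b) ∈ p := h
      rwa [e.apply_symm_apply] at this
  exact HLVGor.gorenstein_of_ringEquiv
    (IsLocalization.ringEquivOfRingEquiv (Localization.AtPrime q) (Localization.AtPrime p) e hmap)

end Transfer

section Poly

variable {k : Type u} [Field k] {R : Type u} [CommRing R] [Nontrivial R] [Algebra k R]
  (𝒜 : ℤ → Submodule k R) [GradedAlgebra 𝒜]
  (hpos : ∀ n : ℤ, n < 0 → 𝒜 n = ⊥) (h0 : 𝒜 0 = Submodule.span k {(1 : R)})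
  (hstd : Ideal.span (⋃ n ∈ Set.Ioi (0 : ℤ), (𝒜 n : Set R)) =
    Ideal.span ((𝒜 1 : Submodule k R) : Set R))

include hpos h0 hstd in
/-- a standard graded ring over `k` with `R_1` spanned by one element `x` and all `R_n ≠ 0` is a
polynomial ring in `x`, and `R_n` is spanned by `x ^ n` -/
theorem exists_algEquiv_polynomial (x : R) (hx : x ∈ 𝒜 1)
    (hgen : ∀ r ∈ 𝒜 1, ∃ c : k, r = c • x) (hne : ∀ n : ℕ, 𝒜 (n : ℤ) ≠ ⊥) :
    ∃ φ : R ≃ₐ[k] Polynomial k, φ x = Polynomial.X ∧
      ∀ n : ℕ, ∀ r ∈ 𝒜 (n : ℤ), ∃ c : k, r = c • x ^ n := by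
  classical
  letI := gradedRing_toAdd 𝒜
  have hpos' := toAdd_neg_eq_bot 𝒜 hpos
  have hpow : ∀ n : ℕ, x ^ n ∈ 𝒜 (n : ℤ) := by
    intro n
    have := SetLike.pow_mem_graded n hx
    rwa [nsmul_eq_mul, mul_one] at this
  have hspan : ∀ n : ℕ, ∀ r ∈ 𝒜 (n : ℤ), ∃ c : k, r = c • x ^ n := by
    intro n
    induction n with
    | zero =>
      intro r hr
      rw [Nat.cast_zero, h0, Submodule.mem_span_singleton] at hr
      obtain ⟨c, rfl⟩ := hr
      exact ⟨c, by rw [pow_zero]⟩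
    | succ n ih =>
      intro r hr
      refine induction_std (toAdd 𝒜) hstd ((n + 1 : ℕ) : ℤ) (by push_cast; omega)
        (fun r => ∃ c : k, r = c • x ^ (n + 1)) ⟨0, by rw [zero_smul]⟩ ?_ ?_ r hr
      · rintro a b ⟨c, rfl⟩ ⟨c', rfl⟩
        exact ⟨c + c', by rw [add_smul]⟩
      · intro y hy w hw
        obtain ⟨a, rfl⟩ := hgen y hy
        have hw' : w ∈ 𝒜 (n : ℤ) := by
          have : ((n + 1 : ℕ) : ℤ) - 1 = (n : ℤ) := by push_cast; ring
          rw [this] at hw
          exact hw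
        obtain ⟨b, rfl⟩ := ih w hw'
        exact ⟨b * a, by rw [smul_mul_smul_comm, pow_succ]⟩
  have hxne : ∀ n : ℕ, x ^ n ≠ 0 := by
    intro n hxn
    apply hne n
    rw [Submodule.eq_bot_iff]
    intro r hr
    obtain ⟨c, rfl⟩ := hspan n r hr
    rw [hxn, smul_zero]
  let f : Polynomial k →ₐ[k] R := Polynomial.aeval x
  have hsurj : Function.Surjective f := by
    intro r
    induction r using induction_on (toAdd 𝒜) with
    | zero => exact ⟨0, map_zero f⟩
    | homogeneous i r hr =>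
      rcases lt_or_ge i 0 with hlt | hge
      · rw [hpos' i hlt, AddSubgroup.mem_bot] at hr
        exact ⟨0, by rw [hr, map_zero]⟩
      · obtain ⟨n, rfl⟩ := Int.eq_ofNat_of_zero_le hge
        obtain ⟨c, rfl⟩ := hspan n r hr
        refine ⟨Polynomial.C c * Polynomial.X ^ n, ?_⟩
        simp [f, Algebra.smul_def]
    | add r r' h1 h2 =>
      obtain ⟨p, rfl⟩ := h1
      obtain ⟨p', rfl⟩ := h2
      exact ⟨p + p', map_add f p p'⟩
  have hinj : Function.Injective f := by
    rw [injective_iff_map_eq_zero]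
    intro p hp
    ext j
    rw [Polynomial.coeff_zero]
    have h1 : f p = p.sum fun i a => a • x ^ i := by
      change Polynomial.aeval x p = _
      rw [Polynomial.aeval_def, Polynomial.eval₂_eq_sum]
      refine Finset.sum_congr rfl fun i _ => ?_
      exact (Algebra.smul_def _ _).symm
    have h2 : proj (toAdd 𝒜) (j : ℤ) (f p) = p.coeff j • x ^ j := by
      rw [h1, Polynomial.sum_def, map_sum]
      rw [Finset.sum_eq_single j]
      · apply proj_of_mem (toAdd 𝒜)
        exact (𝒜 (j : ℤ)).smul_mem _ (hpow j)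
      · intro i _ hij
        apply proj_of_mem_ne (toAdd 𝒜) (g := (i : ℤ))
        · exact (𝒜 (i : ℤ)).smul_mem _ (hpow i)
        · exact_mod_cast hij
      · intro hj
        rw [Polynomial.notMem_support_iff.mp hj, zero_smul, map_zero]
    rw [hp, map_zero] at h2
    rcases smul_eq_zero.mp h2.symm with h3 | h3
    · exact h3
    · exact absurd h3 (hxne j)
  refine ⟨(AlgEquiv.ofBijective f ⟨hinj, hsurj⟩).symm, ?_, hspan⟩
  rw [AlgEquiv.symm_apply_eq]
  change x = Polynomial.aeval x Polynomial.X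
  rw [Polynomial.aeval_X]

end Poly

section Iso

variable {k : Type u} [Field k] {R S T : Type u} [CommRing R] [CommRing S] [CommRing T]
  [Algebra k R] [Algebra k S] [Algebra k T] (𝒜 : ℤ → Submodule k R) (ℬ : ℤ → Submodule k S)
  (𝒯 : ℤ → Submodule k T) [GradedAlgebra 𝒜] [GradedAlgebra ℬ] [GradedAlgebra 𝒯]
  (ψ : T →ₐ[k] R ⊗[k] S)

/-- the Segre product of `R` with a polynomial ring in one variable of degree one is isomorphic
to `R` -/
theorem nonempty_ringEquiv_of_polynomial (hposR : ∀ n : ℤ, n < 0 → 𝒜 n = ⊥)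
    (hψ : Function.Injective ψ)
    (hdegT : ∀ n : ℤ, (𝒯 n).map ψ.toLinearMap =
      Submodule.span k {x : TensorProduct k R S | ∃ a ∈ 𝒜 n, ∃ b ∈ ℬ n, x = a ⊗ₜ[k] b})
    (x : S) (ε : S →ₐ[k] k) (hε : ε x = 1)
    (hspan : ∀ n : ℕ, ∀ r ∈ ℬ (n : ℤ), ∃ c : k, r = c • x ^ n)
    (hpow : ∀ n : ℕ, x ^ n ∈ ℬ (n : ℤ)) : Nonempty (T ≃+* R) := by
  classical
  let θ' : R ⊗[k] S →ₐ[k] R :=
    (Algebra.TensorProduct.rid k k R).toAlgHom.comp (Algebra.TensorProduct.map (AlgHom.id k R) ε)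
  have hθ' : ∀ (a : R) (b : S), θ' (a ⊗ₜ[k] b) = ε b • a := by
    intro a b
    simp [θ']
  let θ : T →ₐ[k] R := θ'.comp ψ
  have hεpow : ∀ n : ℕ, ε (x ^ n) = 1 := fun n => by rw [map_pow, hε, one_pow]
  -- elements of the Segre pieces
  have hpiece : ∀ (n : ℕ) (w : R ⊗[k] S),
      w ∈ Submodule.span k {z : TensorProduct k R S | ∃ a ∈ 𝒜 n, ∃ b ∈ ℬ n, z = a ⊗ₜ[k] b} →
      θ' w ∈ 𝒜 n ∧ w = θ' w ⊗ₜ[k] (x ^ n) := by
    intro n w hw
    induction hw using Submodule.span_induction with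
    | mem z hz =>
      obtain ⟨a, ha, b, hb, rfl⟩ := hz
      obtain ⟨c, rfl⟩ := hspan n b hb
      rw [hθ', map_smul, hεpow, smul_eq_mul, mul_one]
      exact ⟨(𝒜 n).smul_mem c ha, by rw [TensorProduct.tmul_smul, TensorProduct.smul_tmul']⟩
    | zero => exact ⟨by rw [map_zero]; exact zero_mem _, by rw [map_zero, TensorProduct.zero_tmul]⟩
    | add u v _ _ hu hv =>
      refine ⟨by rw [map_add]; exact add_mem hu.1 hv.1, ?_⟩
      rw [map_add, TensorProduct.add_tmul, ← hu.2, ← hv.2]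
    | smul c u _ hu =>
      refine ⟨by rw [map_smul]; exact (𝒜 n).smul_mem c hu.1, ?_⟩
      rw [map_smul, ← TensorProduct.smul_tmul', ← hu.2]
  have hψmem : ∀ (n : ℤ) (t : T), t ∈ 𝒯 n → ψ t ∈
      Submodule.span k {z : TensorProduct k R S | ∃ a ∈ 𝒜 n, ∃ b ∈ ℬ n, z = a ⊗ₜ[k] b} := by
    intro n t ht
    rw [← hdegT n]
    exact ⟨t, ht, rfl⟩
  have hTneg : ∀ n : ℤ, n < 0 → ∀ t ∈ 𝒯 n, t = 0 := by
    intro n hn t ht
    have h1 := hψmem n t ht
    have h2 : Submodule.span k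
        {z : TensorProduct k R S | ∃ a ∈ 𝒜 n, ∃ b ∈ ℬ n, z = a ⊗ₜ[k] b} = ⊥ := by
      rw [Submodule.span_eq_bot]
      rintro z ⟨a, ha, b, hb, rfl⟩
      rw [hposR n hn, Submodule.mem_bot] at ha
      rw [ha, TensorProduct.zero_tmul]
    rw [h2, Submodule.mem_bot] at h1
    apply hψ
    rw [h1, map_zero]
  have hgr : ∀ (n : ℤ) (t : T), t ∈ 𝒯 n → θ.toLinearMap t ∈ 𝒜 n := by
    intro n t ht
    rcases lt_or_ge n 0 with hlt | hge
    · rw [hTneg n hlt t ht, map_zero]
      exact zero_mem _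
    · obtain ⟨m, rfl⟩ := Int.eq_ofNat_of_zero_le hge
      exact (hpiece m (ψ t) (hψmem _ t ht)).1
  have hinjpiece : ∀ (n : ℤ) (t : T), t ∈ 𝒯 n → θ t = 0 → t = 0 := by
    intro n t ht h0
    rcases lt_or_ge n 0 with hlt | hge
    · exact hTneg n hlt t ht
    · obtain ⟨m, rfl⟩ := Int.eq_ofNat_of_zero_le hge
      have h1 := (hpiece m (ψ t) (hψmem _ t ht)).2
      have h2 : θ' (ψ t) = 0 := h0
      rw [h2, TensorProduct.zero_tmul] at h1
      apply hψ
      rw [h1, map_zero]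
  have hinj : Function.Injective θ := by
    rw [injective_iff_map_eq_zero]
    intro t ht
    apply eq_zero_of_prk 𝒯
    intro i
    apply hinjpiece i _ (prk_mem 𝒯 i t)
    have := comm_prk_of_graded 𝒯 (𝒲 := 𝒜) (f := θ.toLinearMap) hgr i t
    change θ (prk 𝒯 i t) = prk 𝒜 i (θ t) at this
    rw [this, ht, map_zero]
  have hsurj : Function.Surjective θ := by
    intro r
    induction r using SegLA.induction_on 𝒜 with
    | zero => exact ⟨0, map_zero θ⟩
    | homogeneous n a ha =>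
      rcases lt_or_ge n 0 with hlt | hge
      · rw [hposR n hlt, Submodule.mem_bot] at ha
        exact ⟨0, by rw [ha, map_zero]⟩
      · obtain ⟨m, rfl⟩ := Int.eq_ofNat_of_zero_le hge
        have hmem : a ⊗ₜ[k] (x ^ m) ∈ (𝒯 (m : ℤ)).map ψ.toLinearMap := by
          rw [hdegT]
          exact Submodule.subset_span ⟨a, ha, x ^ m, hpow m, rfl⟩
        obtain ⟨t, -, ht⟩ := hmem
        refine ⟨t, ?_⟩
        change θ' (ψ t) = a
        have : ψ t = a ⊗ₜ[k] (x ^ m) := ht
        rw [this, hθ', hεpow, one_smul]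
    | add r r' h1 h2 =>
      obtain ⟨p, rfl⟩ := h1
      obtain ⟨p', rfl⟩ := h2
      exact ⟨p + p', map_add θ p p'⟩
  exact ⟨(AlgEquiv.ofBijective θ ⟨hinj, hsurj⟩).toRingEquiv⟩

end Iso

end Seg

end Groth.Agent.H6
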