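import Groth.Agent.Lib.Helper6.SegGor5
import Groth.Agent.Lib.Helper6.SegGorDim1a
import Groth.Agent.Lib.Helper6.SegGorDim1b
import Groth.Agent.Lib.Helper6.SegLow3

/-! A Gorenstein Segre product of two standard graded Cohen–Macaulay rings of dimension one. -/

universe u
open DirectSum TensorProduct
set_option linter.unusedSectionVars false

namespace Groth.Agent.H6

namespace Seg

open SegLA ToAdd Gr

section Free

variable {k : Type u} [Field k] {T : Type u} [CommRing T] [Nontrivial T] [Algebra k T]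
  (𝒯 : ℤ → Submodule k T) [GradedAlgebra 𝒯] [GradedRing (toAdd 𝒯)]
variable {P : Type u} [AddCommGroup P] [Module T P] [Module k P] [IsScalarTower k T P]
  (𝒬 : ℤ → AddSubgroup P) [DirectSum.Decomposition 𝒬] [SetLike.GradedSMul 𝒯 𝒬]
  {c : ℤ} {f : T →ₗ[T] P} (hfb : Function.Bijective f)
  (hfc : GrLC.IsGrHomDeg (toAdd 𝒯) 𝒬 f c)

include hfb hfc in
/-- the pieces of a free graded module of rank one -/
theorem finrank_pcs_of_free (n : ℤ) :
    Module.finrank k ↥(pcs 𝒯 𝒬 n) = Module.finrank k ↥(𝒯 (n - c)) := by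
  have hmem : ∀ t : ↥(𝒯 (n - c)), f t.1 ∈ 𝒬 n := by
    intro t
    have := hfc (n - c) t.1 t.2
    rwa [sub_add_cancel] at this
  let g : ↥(𝒯 (n - c)) →ₗ[k] ↥(pcs 𝒯 𝒬 n) :=
    { toFun := fun t => ⟨f t.1, hmem t⟩
      map_add' := fun a b => Subtype.ext (map_add f a.1 b.1)
      map_smul' := fun α a => Subtype.ext (by
        change f (α • a.1) = α • f a.1
        exact LinearMap.map_smul_of_tower f α a.1) }
  have hg : Function.Bijective g := by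
    constructor
    · intro a b hab
      apply Subtype.ext
      apply hfb.1
      exact congrArg Subtype.val hab
    · rintro ⟨p, hp⟩
      obtain ⟨t, ht, rfl⟩ := exists_preimage_piece hfb hfc (show p ∈ 𝒬 n from hp)
      exact ⟨⟨t, ht⟩, rfl⟩
  exact (LinearEquiv.ofBijective g hg).finrank_eq.symm

end Free

section GorFormula

/-- the Hilbert function of the top local cohomology of a Gorenstein graded ring defined over a
field -/
theorem finrank_Hcomp_of_gorenstein (k : Type u) [Field k] (T : Type u) [CommRing T]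
    [Nontrivial T] [Algebra k T] (𝒯 : ℤ → Submodule k T) [GradedAlgebra 𝒯]
    (hposT : ∀ n : ℤ, n < 0 → 𝒯 n = ⊥) (h0T : 𝒯 0 = Submodule.span k {(1 : T)})
    (mT : HomogeneousIdeal 𝒯)
    (hmT : mT.toIdeal = Ideal.span (⋃ n ∈ Set.Ioi (0 : ℤ), (𝒯 n : Set T)))
    (IT : GrLC.StarInjRes 𝒯 𝒯) (n : ℕ) (hn : ringKrullDim T = n)
    [hG : LocCoh.IsGorensteinRing T] :
    ∃ a : ℤ, ∀ d : ℤ, Module.finrank (GrLC.deg0 𝒯) ↥(IT.Hcomp mT n d) =
      Module.finrank k ↥(𝒯 (a - d)) := by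
  letI := gradedRing_toAdd 𝒯
  haveI := gradedSMul_self 𝒯
  haveI hCMT : LocCoh.IsCohenMacaulayRing T := ⟨fun p _ => by
    haveI := hG.isGorensteinLocalRing_localization p
    exact ⟨LDL.gor_cm⟩⟩
  obtain ⟨EmT, eT, heT'⟩ := Ver.exists_residue_hull (toAdd 𝒯) (idealTo 𝒯 mT)
  haveI := gradedSMul_of 𝒯 EmT.gr
  have heT := isStarInjHull_of 𝒯 mT EmT.gr eT heT'
  have ST : GDual.Setting (toAdd 𝒯) (idealTo 𝒯 mT) EmT.gr eT :=
    ⟨toAdd_neg_eq_bot 𝒯 hposT, isField_deg0 𝒯 h0T, hmT, heT'⟩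
  have hlocT := isStarLocal_idealTo_irrel 𝒯 hposT h0T mT hmT
  obtain ⟨CT, hCT'⟩ := CanEx.exists_canonical ST hlocT.1 n (resTo 𝒯 IT)
  haveI := gradedSMul_of 𝒯 CT.gr
  letI : Module k CT.carrier := Module.compHom _ (algebraMap k T)
  haveI : IsScalarTower k T CT.carrier := compHom_tower T _
  have hCT := isStarCanonical_of 𝒯 mT EmT.gr CT.gr n IT hCT'
  obtain ⟨c, f, hfb, hfc⟩ := (Groth.Agent.S18638.result T (toAdd 𝒯) (toAdd_neg_eq_bot 𝒯 hposT)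
    (isField_deg0 𝒯 h0T) (idealTo 𝒯 mT) hlocT hmT n hn (resTo 𝒯 IT) EmT.carrier EmT.gr
    eT heT' CT.carrier CT.gr hCT').mp hG
  refine ⟨-c, fun d => ?_⟩
  have h1 := finrank_canonical 𝒯 hposT h0T mT hmT EmT.gr eT heT CT.gr n IT hCT (-d)
  rw [neg_neg] at h1
  rw [← h1, ← finrank_pcs_eq 𝒯 CT.gr h0T (-d), finrank_pcs_of_free 𝒯 CT.gr hfb hfc (-d)]
  have : -d - c = -c - d := by ring
  rw [this]

end GorFormula

section Numeric

/-- the numerical core -/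
theorem numeric_core (a : ℤ) (t r s hR hS hT : ℤ → ℕ) (ht0 : t 0 = 1)
    (htneg : ∀ d : ℤ, d < 0 → t d = 0) (hG : ∀ d, hT d = t (a - d))
    (hK : ∀ d, hT d = r d * hS d + hR d * s d + hR d * hS d)
    (hr : ∀ d : ℤ, 0 ≤ d → 1 ≤ r d) (hs : ∀ d : ℤ, 0 ≤ d → 1 ≤ s d)
    (hR0 : 1 ≤ hR 0) (hS0 : 1 ≤ hS 0) :
    1 ≤ a ∧ (s a = 1 ∨ r a = 1) := by
  have h1 : 3 ≤ t a := by
    have := hG 0
    rw [sub_zero] at this
    rw [← this, hK 0]
    have h2 : 1 ≤ r 0 := hr 0 le_rfl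
    have h3 : 1 ≤ s 0 := hs 0 le_rfl
    have h4 : 1 ≤ hR 0 * hS 0 := Nat.mul_pos hR0 hS0
    have h5 : 1 ≤ r 0 * hS 0 := Nat.mul_pos h2 hS0
    have h6 : 1 ≤ hR 0 * s 0 := Nat.mul_pos hR0 h3
    omega
  have ha : 1 ≤ a := by
    by_contra hlt
    rcases lt_or_eq_of_le (not_lt.mp (fun h => hlt (by omega)) : a ≤ 0) with h | h
    · rw [htneg a h] at h1
      omega
    · rw [h, ht0] at h1
      omega
  refine ⟨ha, ?_⟩
  have h2 : 1 = r a * hS a + hR a * s a + hR a * hS a := by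
    have := hG a
    rw [sub_self, ht0] at this
    rw [← this, hK a]
  have hra : 1 ≤ r a := hr a (by omega)
  have hsa : 1 ≤ s a := hs a (by omega)
  rcases Nat.eq_zero_or_pos (hS a) with hz | hp
  · left
    rw [hz, mul_zero, mul_zero, zero_add, add_zero] at h2
    exact Nat.eq_one_of_mul_eq_one_left h2.symm
  · right
    have h3 : 1 ≤ r a * hS a := Nat.mul_pos hra hp
    have h4 : r a * hS a = 1 := by omega
    exact Nat.eq_one_of_mul_eq_one_right h4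

theorem sum_three (F G : ℕ → ℕ) (hF : F 0 = 0) (hG : G 0 = 0) :
    (Finset.range (1 + 2)).sum (fun i => F i * G (1 + 1 - i)) = F 1 * G 1 := by
  simp [Finset.sum_range_succ, hF, hG]

end Numeric

section Main

set_option maxHeartbeats 1600000 in
/-- **S18660** -/
theorem gorenstein_dim_one (k : Type u) [Field k] (R : Type u) [CommRing R] [Algebra k R]
    (𝒜 : ℤ → Submodule k R) [GradedAlgebra 𝒜] (hposR : ∀ n : ℤ, n < 0 → 𝒜 n = ⊥)
    (h0R : 𝒜 0 = Submodule.span k {(1 : R)}) [Algebra.FiniteType k R] (S : Type u) [CommRing S]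
    [Algebra k S] (ℬ : ℤ → Submodule k S) [GradedAlgebra ℬ]
    (hposS : ∀ n : ℤ, n < 0 → ℬ n = ⊥) (h0S : ℬ 0 = Submodule.span k {(1 : S)})
    [Algebra.FiniteType k S] (T : Type u) [CommRing T] [Algebra k T] (𝒯 : ℤ → Submodule k T)
    [GradedAlgebra 𝒯] (ψ : T →ₐ[k] TensorProduct k R S) (hψ : Function.Injective ψ)
    (hdegT : ∀ n : ℤ, (𝒯 n).map ψ.toLinearMap =
      Submodule.span k {x : TensorProduct k R S | ∃ a ∈ 𝒜 n, ∃ b ∈ ℬ n, x = a ⊗ₜ[k] b})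
    [LocCoh.IsCohenMacaulayRing R] [LocCoh.IsCohenMacaulayRing S]
    (hstdR : Ideal.span (⋃ n ∈ Set.Ioi (0 : ℤ), (𝒜 n : Set R)) =
      Ideal.span ((𝒜 1 : Submodule k R) : Set R))
    (hstdS : Ideal.span (⋃ n ∈ Set.Ioi (0 : ℤ), (ℬ n : Set S)) =
      Ideal.span ((ℬ 1 : Submodule k S) : Set S))
    (hr : ringKrullDim R = 1) (hs : ringKrullDim S = 1)
    (hR : IsEmpty (R ≃ₐ[k] Polynomial k)) [hG : LocCoh.IsGorensteinRing T] :
    Nonempty (S ≃ₐ[k] Polynomial k) ∧ LocCoh.IsGorensteinRing R := by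
  have hr' : ringKrullDim R = ((1 : ℕ) : WithBot ℕ∞) := by rw [hr]; rfl
  have hs' : ringKrullDim S = ((1 : ℕ) : WithBot ℕ∞) := by rw [hs]; rfl
  haveI : Nontrivial R := nontrivial_of_dim 1 hr'
  haveI : Nontrivial S := nontrivial_of_dim 1 hs'
  haveI : IsNoetherianRing R := Algebra.FiniteType.isNoetherianRing k R
  haveI : IsNoetherianRing S := Algebra.FiniteType.isNoetherianRing k S
  have hT : GrSeg.IsSegreRing 𝒜 ℬ 𝒯 ψ := ⟨hψ, hdegT⟩
  haveI : Nontrivial T := segre_nontrivial ψ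
  have h0T : 𝒯 0 = Submodule.span k {(1 : T)} := segre_deg_zero hT h0R h0S
  have hposT : ∀ n : ℤ, n < 0 → 𝒯 n = ⊥ := segre_neg_eq_bot hT hposR
  obtain ⟨mR, hmR⟩ := exists_irrel 𝒜
  obtain ⟨mS, hmS⟩ := exists_irrel ℬ
  obtain ⟨mT, hmT⟩ := exists_irrel 𝒯
  obtain ⟨I⟩ := nonempty_starInjRes_self 𝒜
  obtain ⟨J⟩ := nonempty_starInjRes_self ℬ
  obtain ⟨IT⟩ := nonempty_starInjRes_self 𝒯
  letI := gradedRing_toAdd 𝒜
  letI := gradedRing_toAdd ℬ
  letI := gradedRing_toAdd 𝒯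
  haveI := gradedSMul_self 𝒜
  haveI := gradedSMul_self ℬ
  haveI := gradedSMul_self 𝒯
  -- it suffices to show that `S` is a polynomial ring
  suffices hSpoly : Nonempty (S ≃ₐ[k] Polynomial k) by
    refine ⟨hSpoly, ?_⟩
    obtain ⟨φ₀⟩ := hSpoly
    obtain ⟨x, hx, hgen⟩ := exists_gen_of_algEquiv ℬ hposS h0S φ₀
    have hne : ∀ n : ℕ, ℬ (n : ℤ) ≠ ⊥ := fun n =>
      piece_ne_bot ℬ hposS h0S mS hmS hstdS 1 hs' le_rfl n (by positivity)
    obtain ⟨φ, hφx, hspan⟩ := exists_algEquiv_polynomial ℬ hposS h0S hstdS x hx hgen hne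
    have hpow : ∀ n : ℕ, x ^ n ∈ ℬ (n : ℤ) := by
      intro n
      have := SetLike.pow_mem_graded n hx
      rwa [nsmul_eq_mul, mul_one] at this
    let ε : S →ₐ[k] k := (Polynomial.aeval (1 : k)).comp φ.toAlgHom
    have hε : ε x = 1 := by
      change Polynomial.aeval (1 : k) (φ x) = 1
      rw [hφx, Polynomial.aeval_X]
    obtain ⟨e⟩ := nonempty_ringEquiv_of_polynomial 𝒜 ℬ 𝒯 ψ hposR hψ hdegT x ε hε hspan hpow
    exact gorensteinRing_of_ringEquiv e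
  by_contra hSnot
  -- the local cohomology in degree zero does not vanish
  have hR0 : I.Hcomp mR 1 0 ≠ ⊥ := fun h =>
    hR.false (polynomial_of_Hcomp_one_zero k R 𝒜 hposR h0R hstdR mR hmR hr I h).some
  have hS0 : J.Hcomp mS 1 0 ≠ ⊥ := fun h =>
    hSnot (polynomial_of_Hcomp_one_zero k S ℬ hposS h0S hstdS mS hmS hs J h)
  have hRv := Hcomp_eq_bot_of_ne_one k R 𝒜 hposR h0R mR hmR hr I
  have hSv := Hcomp_eq_bot_of_ne_one k S ℬ hposS h0S mS hmS hs J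
  have hdimT := dim_segre k R 𝒜 hposR h0R S ℬ hposS h0S T 𝒯 ψ hT 1 1 hr' hs' le_rfl le_rfl
  obtain ⟨a, ha⟩ := finrank_Hcomp_of_gorenstein k T 𝒯 hposT h0T mT hmT IT 1 hdimT
  -- the Künneth formula
  have hK : ∀ d : ℤ, Module.finrank (GrLC.deg0 𝒯) ↥(IT.Hcomp mT 1 d) =
      Module.finrank k ↥(𝒜 d) * Module.finrank (GrLC.deg0 ℬ) ↥(J.Hcomp mS 1 d) +
        Module.finrank (GrLC.deg0 𝒜) ↥(I.Hcomp mR 1 d) * Module.finrank k ↥(ℬ d) +
        Module.finrank (GrLC.deg0 𝒜) ↥(I.Hcomp mR 1 d) *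
          Module.finrank (GrLC.deg0 ℬ) ↥(J.Hcomp mS 1 d) := by
    intro d
    have key := kunneth_rings_depth1 k R 𝒜 hposR h0R S ℬ hposS h0S T 𝒯 ψ hT mR hmR I mS hmS J
      mT hmT IT d (hRv 0 d (by omega)) (hSv 0 d (by omega)) 1
    rw [key]
    congr 1
    have z0 : Module.finrank (GrLC.deg0 𝒜) ↥(I.Hcomp mR 0 d) = 0 :=
      (Hcomp_eq_bot_iff_finrank 𝒜 (toAdd 𝒜) hposR h0R mR hmR (resSelf 𝒜 I) 0 d).mp
        (hRv 0 d (by omega))
    have z2 : Module.finrank (GrLC.deg0 ℬ) ↥(J.Hcomp mS 0 d) = 0 :=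
      (Hcomp_eq_bot_iff_finrank ℬ (toAdd ℬ) hposS h0S mS hmS (resSelf ℬ J) 0 d).mp
        (hSv 0 d (by omega))
    exact sum_three (fun i => Module.finrank (GrLC.deg0 𝒜) ↥(I.Hcomp mR i d))
      (fun j => Module.finrank (GrLC.deg0 ℬ) ↥(J.Hcomp mS j d)) z0 z2
  have ht0 : Module.finrank k ↥(𝒯 0) = 1 := by
    rw [h0T]
    exact finrank_span_singleton one_ne_zero
  have htneg : ∀ d : ℤ, d < 0 → Module.finrank k ↥(𝒯 d) = 0 := by
    intro d hd
    rw [hposT d hd]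
    exact finrank_bot k T
  have hrpos : ∀ d : ℤ, 0 ≤ d → 1 ≤ Module.finrank k ↥(𝒜 d) := by
    intro d hd
    rw [Nat.one_le_iff_ne_zero, Ne, finrank_piece_eq_zero_iff 𝒜 hposR h0R mR hmR d]
    exact piece_ne_bot 𝒜 hposR h0R mR hmR hstdR 1 hr' le_rfl d hd
  have hspos : ∀ d : ℤ, 0 ≤ d → 1 ≤ Module.finrank k ↥(ℬ d) := by
    intro d hd
    rw [Nat.one_le_iff_ne_zero, Ne, finrank_piece_eq_zero_iff ℬ hposS h0S mS hmS d]
    exact piece_ne_bot ℬ hposS h0S mS hmS hstdS 1 hs' le_rfl d hd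
  have hR0' : 1 ≤ Module.finrank (GrLC.deg0 𝒜) ↥(I.Hcomp mR 1 0) := by
    rw [Nat.one_le_iff_ne_zero]
    intro h
    exact hR0 ((Hcomp_eq_bot_iff_finrank 𝒜 (toAdd 𝒜) hposR h0R mR hmR (resSelf 𝒜 I) 1 0).mpr h)
  have hS0' : 1 ≤ Module.finrank (GrLC.deg0 ℬ) ↥(J.Hcomp mS 1 0) := by
    rw [Nat.one_le_iff_ne_zero]
    intro h
    exact hS0 ((Hcomp_eq_bot_iff_finrank ℬ (toAdd ℬ) hposS h0S mS hmS (resSelf ℬ J) 1 0).mpr h)
  obtain ⟨ha1, hcase⟩ := numeric_core a (fun d => Module.finrank k ↥(𝒯 d))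
    (fun d => Module.finrank k ↥(𝒜 d)) (fun d => Module.finrank k ↥(ℬ d))
    (fun d => Module.finrank (GrLC.deg0 𝒜) ↥(I.Hcomp mR 1 d))
    (fun d => Module.finrank (GrLC.deg0 ℬ) ↥(J.Hcomp mS 1 d))
    (fun d => Module.finrank (GrLC.deg0 𝒯) ↥(IT.Hcomp mT 1 d))
    ht0 htneg ha hK hrpos hspos hR0' hS0'
  obtain ⟨a', rfl⟩ : ∃ a' : ℕ, a = (a' : ℤ) + 1 := ⟨(a - 1).toNat, by omega⟩
  rcases hcase with hc | hc
  · have h1 := finrank_piece_mono k S ℬ hposS h0S hstdS (by rw [hs]) a'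
    have h2 := hspos 1 (by omega)
    have h3 : Module.finrank k ↥(ℬ 1) = 1 := by
      have hc' : Module.finrank k ↥(ℬ ((a' : ℤ) + 1)) = 1 := hc
      omega
    obtain ⟨x, hx, hgen, hne⟩ := exists_gen_of_finrank_one k S ℬ hposS h0S hstdS mS hmS hs h3
    exact hSnot (nonempty_algEquiv_polynomial ℬ hposS h0S hstdS x hx hgen hne)
  · have h1 := finrank_piece_mono k R 𝒜 hposR h0R hstdR (by rw [hr]) a'
    have h2 := hrpos 1 (by omega)
    have h3 : Module.finrank k ↥(𝒜 1) = 1 := by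
      have hc' : Module.finrank k ↥(𝒜 ((a' : ℤ) + 1)) = 1 := hc
      omega
    obtain ⟨x, hx, hgen, hne⟩ := exists_gen_of_finrank_one k R 𝒜 hposR h0R hstdR mR hmR hr h3
    exact hR.false (nonempty_algEquiv_polynomial 𝒜 hposR h0R hstdR x hx hgen hne).some

end Main

end Seg

end Groth.Agent.H6
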