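import Groth.Agent.Lib.Helper6.SegBig6

/-! The big complex of a *injective resolution: the direct sum of its terms. -/

universe u
open DirectSum TensorProduct
set_option linter.unusedSectionVars false

namespace Groth.Agent.H6

namespace Seg

open SegLA ToAdd

section Inst

variable {k : Type u} [Field k] {R : Type u} [CommRing R] [Algebra k R]
  (𝒜 : ℤ → Submodule k R) [GradedAlgebra 𝒜]
variable {M : Type u} [AddCommGroup M] [Module R M] {ℳ : ℤ → AddSubgroup M}
  [DirectSum.Decomposition ℳ] [SetLike.GradedSMul 𝒜 ℳ]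
variable (E : GrLC.StarInjRes 𝒜 ℳ)

/-- the direct sum of the terms of a resolution -/
abbrev BigX : Type u := ⨁ p : ℕ, (E.X p).carrier

/-- the pieces of the big module -/
def bigGr (δ : ℤ) : AddSubgroup (BigX 𝒜 E) where
  carrier := {x | ∀ p, x p ∈ (E.X p).gr δ}
  zero_mem' := fun p => zero_mem _
  add_mem' := fun hx hy p => by
    rw [DirectSum.add_apply]
    exact add_mem (hx p) (hy p)
  neg_mem' := fun hx p => by
    change (-_ : BigX 𝒜 E) p ∈ _
    rw [show (-_ : BigX 𝒜 E) p = -(_ : BigX 𝒜 E) p from rfl]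
    exact neg_mem (hx p)

theorem mem_bigGr {δ : ℤ} {x : BigX 𝒜 E} : x ∈ bigGr 𝒜 E δ ↔ ∀ p, x p ∈ (E.X p).gr δ := Iff.rfl

theorem of_mem_bigGr {δ : ℤ} {p : ℕ} {u : (E.X p).carrier} (hu : u ∈ (E.X p).gr δ) :
    DirectSum.of (fun p => (E.X p).carrier) p u ∈ bigGr 𝒜 E δ := by
  intro p'
  by_cases h : p = p'
  · subst h
    rw [DirectSum.of_eq_same]
    exact hu
  · rw [DirectSum.of_eq_of_ne _ _ _ (Ne.symm h)]
    exact zero_mem _

/-- the projections of the big module -/
noncomputable def bigProj (δ : ℤ) : BigX 𝒜 E →+ BigX 𝒜 E :=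
  DirectSum.map (fun p => Gr.proj (E.X p).gr δ)

theorem bigProj_apply (δ : ℤ) (x : BigX 𝒜 E) (p : ℕ) :
    bigProj 𝒜 E δ x p = Gr.proj (E.X p).gr δ (x p) :=
  DirectSum.map_apply _ _ _

theorem big_isInternal : DirectSum.IsInternal (bigGr 𝒜 E) := by
  refine Gr.isInternal_of_proj (bigGr 𝒜 E) (bigProj 𝒜 E) ?_ ?_ ?_
  · intro δ x hx
    ext p
    rw [bigProj_apply, Gr.proj_of_mem _ (hx p)]
  · intro δ δ' x hx hne
    ext p
    rw [bigProj_apply, Gr.proj_of_mem_ne _ (hx p) hne]
    rfl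
  · intro x
    induction x using DirectSum.induction_on with
    | zero => exact zero_mem _
    | of p u =>
      obtain ⟨s, hs⟩ := Gr.exists_finset_sum_proj (E.X p).gr u
      rw [← hs, map_sum]
      refine sum_mem fun δ _ => ?_
      exact AddSubgroup.mem_iSup_of_mem δ (of_mem_bigGr 𝒜 E (Gr.proj_mem (E.X p).gr δ u))
    | add x y hx hy => exact add_mem hx hy

@[instance_reducible]
noncomputable def bigDecomposition : DirectSum.Decomposition (bigGr 𝒜 E) :=
  (big_isInternal 𝒜 E).chooseDecomposition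

theorem big_gradedSMul : SetLike.GradedSMul 𝒜 (bigGr 𝒜 E) where
  smul_mem := by
    intro i j r x hr hx p
    rw [DirectSum.smul_apply]
    exact SetLike.GradedSMul.smul_mem (A := 𝒜) (B := (E.X p).gr) hr (hx p)

theorem big_fin (x : BigX 𝒜 E) : ∃ s : Finset ℕ,
    x = ∑ p ∈ s, DirectSum.lof R ℕ (fun p => (E.X p).carrier) p
      (DirectSum.component R ℕ (fun p => (E.X p).carrier) p x) := by
  classical
  refine ⟨DFinsupp.support x, ?_⟩
  conv_lhs => rw [← DirectSum.sum_support_of x]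
  rfl

/-- the differential of the big complex -/
noncomputable def bigD : BigX 𝒜 E →ₗ[R] BigX 𝒜 E :=
  DirectSum.toModule R ℕ (BigX 𝒜 E)
    (fun p => (DirectSum.lof R ℕ (fun p => (E.X p).carrier) (p + 1)) ∘ₗ E.d p)

theorem bigD_lof (p : ℕ) (u : (E.X p).carrier) :
    bigD 𝒜 E (DirectSum.lof R ℕ (fun p => (E.X p).carrier) p u) =
      DirectSum.lof R ℕ (fun p => (E.X p).carrier) (p + 1) (E.d p u) := by
  rw [bigD, DirectSum.toModule_lof]
  rfl

/-- the sign of the big complex -/
noncomputable def bigS : BigX 𝒜 E →ₗ[R] BigX 𝒜 E :=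
  DirectSum.toModule R ℕ (BigX 𝒜 E)
    (fun p => ((-1 : R) ^ p) • DirectSum.lof R ℕ (fun p => (E.X p).carrier) p)

theorem bigS_lof (p : ℕ) (u : (E.X p).carrier) :
    bigS 𝒜 E (DirectSum.lof R ℕ (fun p => (E.X p).carrier) p u) =
      (-1 : R) ^ p • DirectSum.lof R ℕ (fun p => (E.X p).carrier) p u := by
  rw [bigS, DirectSum.toModule_lof]
  rfl

theorem big_comp_lof (p : ℕ) (u : (E.X p).carrier) :
    DirectSum.component R ℕ (fun p => (E.X p).carrier) p
      (DirectSum.lof R ℕ (fun p => (E.X p).carrier) p u) = u :=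
  DirectSum.component.lof_self R (M := fun p => (E.X p).carrier) p u

theorem big_comp_lof_ne (p q : ℕ) (u : (E.X p).carrier) (hne : p ≠ q) :
    DirectSum.component R ℕ (fun p => (E.X p).carrier) q
      (DirectSum.lof R ℕ (fun p => (E.X p).carrier) p u) = 0 := by
  rw [DirectSum.component.of, dif_neg hne]

theorem bigS_lof' [Module k (BigX 𝒜 E)] [IsScalarTower k R (BigX 𝒜 E)] (p : ℕ)
    (u : (E.X p).carrier) :
    bigS 𝒜 E (DirectSum.lof R ℕ (fun p => (E.X p).carrier) p u) =
      (-1 : k) ^ p • DirectSum.lof R ℕ (fun p => (E.X p).carrier) p u := by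
  rw [bigS_lof, ← algebraMap_smul R ((-1 : k) ^ p), map_pow, map_neg, map_one]

/-- the big complex of a resolution -/
noncomputable def bigOf :
    letI : Module k (BigX 𝒜 E) := Module.compHom _ (algebraMap k R)
    haveI : IsScalarTower k R (BigX 𝒜 E) := compHom_tower R _
    letI := bigDecomposition 𝒜 E
    haveI := big_gradedSMul 𝒜 E
    Big 𝒜 E (bigGr 𝒜 E) := by
  letI : Module k (BigX 𝒜 E) := Module.compHom _ (algebraMap k R)
  haveI : IsScalarTower k R (BigX 𝒜 E) := compHom_tower R _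
  letI := bigDecomposition 𝒜 E
  haveI := big_gradedSMul 𝒜 E
  exact
    { lof := fun p => DirectSum.lof R ℕ (fun p => (E.X p).carrier) p
      comp := fun p => DirectSum.component R ℕ (fun p => (E.X p).carrier) p
      lof_gr := fun p δ u hu => of_mem_bigGr 𝒜 E hu
      comp_gr := fun p δ x hx => hx p
      comp_lof := big_comp_lof 𝒜 E
      comp_lof_ne := big_comp_lof_ne 𝒜 E
      fin := big_fin 𝒜 E
      d := bigD 𝒜 E
      d_lof := bigD_lof 𝒜 E
      σ := bigS 𝒜 E
      σ_lof := bigS_lof' 𝒜 E }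

end Inst

end Seg

end Groth.Agent.H6
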