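import Groth.Agent.Lib.Helper6.SegLA5

/-! The Künneth product map on relative cohomology: `H^a(C/K) ⊗ H^b(C'/K') → H^{a+b}` of the
quotient of the tensor product by `K ⊗ C' + C ⊗ K'`, natural and injective. -/

universe u
open DirectSum TensorProduct

namespace Groth.Agent.H6

namespace SegLA

section ConnMap

variable {k : Type u} [Field k] (C : PCx k) (K : Submodule k C.V)

/-- the connecting map in any degree -/
noncomputable def PCx.connMap (n : ℕ) : C.Hrel K n →ₗ[k] C.Hsub K (n + 1) :=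
  sqMap C.d
    (fun z hz => ⟨⟨LinearMap.mem_ker.mpr (C.d_d z), C.d_mem _ _ hz.1⟩, hz.2⟩)
    (by
      intro z _ hb
      cases n with
      | zero => exact ⟨z, hb, rfl⟩
      | succ p =>
        obtain ⟨κ, hκ, y, hy, rfl⟩ := Submodule.mem_sup.mp hb
        obtain ⟨y', _, rfl⟩ := hy
        rw [map_add, C.d_d, add_zero]
        exact ⟨κ, hκ, rfl⟩)

theorem PCx.connMap_mk (n : ℕ) (z : ↥(C.Zrel K n)) :
    ∃ h : C.d z.1 ∈ C.Zsub K (n + 1),
      C.connMap K n (Submodule.Quotient.mk z) = Submodule.Quotient.mk ⟨C.d z.1, h⟩ :=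
  ⟨_, rfl⟩

theorem PCx.connMap_bijective (n : ℕ) (hn : 1 ≤ n) (hex : ∀ p, C.ExactAt p) :
    Function.Bijective (C.connMap K n) := by
  cases n with
  | zero => omega
  | succ m =>
    refine sqMap_bijective C.d _ _ ?_ ?_
    · intro z hz hb
      obtain ⟨κ, hκ, hκz⟩ := hb
      have h3 : C.d (z - κ) = 0 := by rw [map_sub, hκz, sub_self]
      obtain ⟨y, hy, hyz⟩ := hex m (z - κ) (sub_mem hz.1 hκ.1) h3
      have : z = κ + C.d y := by rw [hyz]; abel
      rw [this]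
      exact Submodule.add_mem_sup hκ ⟨y, hy, rfl⟩
    · intro z' hz'
      obtain ⟨z, hz, hzz⟩ := hex (m + 1) z' hz'.1.2 hz'.1.1
      refine ⟨z, ⟨hz, ?_⟩, ?_⟩
      · show z ∈ Submodule.comap C.d K
        rw [Submodule.mem_comap, hzz]; exact hz'.2
      · rw [hzz, sub_self]; exact zero_mem _

end ConnMap

section Prod

variable {k : Type u} [Field k] (C : Cx k) (K : Submodule k C.V)
  (hKp : ∀ p x, x ∈ K → prk C.gr p x ∈ K) (hKd : ∀ x, x ∈ K → C.d x ∈ K)
  (C' : Cx k) (K' : Submodule k C'.V)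
  (hKp' : ∀ p x, x ∈ K' → prk C'.gr p x ∈ K') (hKd' : ∀ x, x ∈ K' → C'.d x ∈ K')

theorem tmul_mem_Zrel {a b n : ℕ} (h : a + b = n) {y : C.V} {y' : C'.V}
    (hy : y ∈ C.toPCx.Zrel K a) (hy' : y' ∈ C'.toPCx.Zrel K' b) :
    y ⊗ₜ[k] y' ∈ (Cx.tensor C C').Zrel (KT C K hKp hKd C' K' hKp' hKd') n := by
  refine ⟨Cx.tmul_mem_tot C C' h hy.1 hy'.1, ?_⟩
  change Cx.D C C' (y ⊗ₜ[k] y') ∈ KT C K hKp hKd C' K' hKp' hKd'
  rw [Cx.D_tmul]
  exact add_mem (tmul_mem_KT_left C K hKp hKd C' K' hKp' hKd' hy.2 y')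
    (tmul_mem_KT_right C K hKp hKd C' K' hKp' hKd' (C.sgn y) hy'.2)

theorem mem_Brel_of_mem_KT {n : ℕ} {w : (Cx.tensor C C').V} (hw : w ∈ Cx.tot C C' n)
    (hK : w ∈ KT C K hKp hKd C' K' hKp' hKd') :
    w ∈ (Cx.tensor C C').Brel (KT C K hKp hKd C' K' hKp' hKd') n := by
  cases n with
  | zero => exact ⟨hw, hK⟩
  | succ n =>
    have h : w ∈ (Cx.tensor C C').gr (n + 1) ⊓ KT C K hKp hKd C' K' hKp' hKd' := ⟨hw, hK⟩
    exact Submodule.mem_sup_left h

theorem D_mem_Brel {n : ℕ} {θ : (Cx.tensor C C').V} (hθ : θ ∈ Cx.tot C C' n) :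
    (Cx.tensor C C').d θ ∈ (Cx.tensor C C').Brel (KT C K hKp hKd C' K' hKp' hKd') (n + 1) := by
  have h : (Cx.tensor C C').d θ ∈ ((Cx.tensor C C').gr n).map (Cx.tensor C C').d := ⟨θ, hθ, rfl⟩
  exact Submodule.mem_sup_right h

theorem tmul_mem_Brel_left {a b n : ℕ} (h : a + b = n) {y : C.V} {y' : C'.V}
    (hy : y ∈ C.toPCx.Brel K a) (hy' : y' ∈ C'.toPCx.Zrel K' b) :
    y ⊗ₜ[k] y' ∈ (Cx.tensor C C').Brel (KT C K hKp hKd C' K' hKp' hKd') n := by
  cases a with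
  | zero =>
    exact mem_Brel_of_mem_KT C K hKp hKd C' K' hKp' hKd' (Cx.tmul_mem_tot C C' h hy.1 hy'.1)
      (tmul_mem_KT_left C K hKp hKd C' K' hKp' hKd' hy.2 y')
  | succ p =>
    obtain ⟨κ, hκ, z, hz, rfl⟩ := Submodule.mem_sup.mp hy
    obtain ⟨x, hx, rfl⟩ := hz
    rw [TensorProduct.add_tmul]
    refine add_mem ?_ ?_
    · exact mem_Brel_of_mem_KT C K hKp hKd C' K' hKp' hKd'
        (Cx.tmul_mem_tot C C' h hκ.1 hy'.1)
        (tmul_mem_KT_left C K hKp hKd C' K' hKp' hKd' hκ.2 y')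
    · obtain ⟨m, rfl⟩ : ∃ m, n = m + 1 := ⟨p + b, by omega⟩
      have e1 : C.d x ⊗ₜ[k] y' = Cx.D C C' (x ⊗ₜ[k] y') - C.sgn x ⊗ₜ[k] C'.d y' := by
        rw [Cx.D_tmul, add_sub_cancel_right]
      rw [e1]
      refine sub_mem ?_ ?_
      · exact D_mem_Brel C K hKp hKd C' K' hKp' hKd'
          (Cx.tmul_mem_tot C C' (by omega) hx hy'.1)
      · exact mem_Brel_of_mem_KT C K hKp hKd C' K' hKp' hKd'
          (Cx.tmul_mem_tot C C' (by omega) (C.sgn_mem hx) (C'.d_mem b y' hy'.1))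
          (tmul_mem_KT_right C K hKp hKd C' K' hKp' hKd' (C.sgn x) hy'.2)

theorem tmul_mem_Brel_right {a b n : ℕ} (h : a + b = n) {y : C.V} {y' : C'.V}
    (hy : y ∈ C.toPCx.Zrel K a) (hy' : y' ∈ C'.toPCx.Brel K' b) :
    y ⊗ₜ[k] y' ∈ (Cx.tensor C C').Brel (KT C K hKp hKd C' K' hKp' hKd') n := by
  cases b with
  | zero =>
    exact mem_Brel_of_mem_KT C K hKp hKd C' K' hKp' hKd' (Cx.tmul_mem_tot C C' h hy.1 hy'.1)
      (tmul_mem_KT_right C K hKp hKd C' K' hKp' hKd' y hy'.2)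
  | succ p =>
    obtain ⟨κ, hκ, z, hz, rfl⟩ := Submodule.mem_sup.mp hy'
    obtain ⟨x, hx, rfl⟩ := hz
    rw [TensorProduct.tmul_add]
    refine add_mem ?_ ?_
    · exact mem_Brel_of_mem_KT C K hKp hKd C' K' hKp' hKd'
        (Cx.tmul_mem_tot C C' h hy.1 hκ.1)
        (tmul_mem_KT_right C K hKp hKd C' K' hKp' hKd' y hκ.2)
    · obtain ⟨m, rfl⟩ : ∃ m, n = m + 1 := ⟨a + p, by omega⟩
      -- `y ⊗ d x = ± (D (y ⊗ x) - d y ⊗ x)`
      have hs : C.sgn (C.sgn y) = y := C.sgn_sgn y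
      have e1 : y ⊗ₜ[k] C'.d x =
          Cx.D C C' (C.sgn y ⊗ₜ[k] x) - C.d (C.sgn y) ⊗ₜ[k] x := by
        rw [Cx.D_tmul, hs, add_sub_cancel_left]
      rw [e1]
      refine sub_mem ?_ ?_
      · exact D_mem_Brel C K hKp hKd C' K' hKp' hKd'
          (Cx.tmul_mem_tot C C' (by omega) (C.sgn_mem hy.1) hx)
      · have hd : C.d (C.sgn y) = - C.sgn (C.d y) := by
          have := C.sgn_d y
          rw [this, neg_neg]
        refine mem_Brel_of_mem_KT C K hKp hKd C' K' hKp' hKd'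
          (Cx.tmul_mem_tot C C' (by omega) (C.d_mem a _ (C.sgn_mem hy.1)) hx) ?_
        rw [hd, TensorProduct.neg_tmul]
        refine neg_mem (tmul_mem_KT_left C K hKp hKd C' K' hKp' hKd' ?_ x)
        -- `sgn` preserves `K`
        have hy2 : C.d y ∈ K := hy.2
        have hdy : C.d y ∈ C.gr (a + 1) := C.d_mem a y hy.1
        rw [C.sgn_of_mem hdy]
        exact K.smul_mem _ hy2


/-- the product of relative cocycles, as a class -/
noncomputable def prodZ (a b : ℕ) :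
    ↥(C.toPCx.Zrel K a) →ₗ[k] ↥(C'.toPCx.Zrel K' b) →ₗ[k]
      (Cx.tensor C C').Hrel (KT C K hKp hKd C' K' hKp' hKd') (a + b) :=
  LinearMap.mk₂ k
    (fun y y' => Submodule.Quotient.mk
      (⟨y.1 ⊗ₜ[k] y'.1, tmul_mem_Zrel C K hKp hKd C' K' hKp' hKd' rfl y.2 y'.2⟩ :
        ↥((Cx.tensor C C').Zrel (KT C K hKp hKd C' K' hKp' hKd') (a + b))))
    (by
      intro y₁ y₂ y'
      rw [← Submodule.Quotient.mk_add]
      refine congrArg Submodule.Quotient.mk (Subtype.ext ?_)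
      exact TensorProduct.add_tmul y₁.1 y₂.1 y'.1)
    (by
      intro c y y'
      rw [← Submodule.Quotient.mk_smul]
      refine congrArg Submodule.Quotient.mk (Subtype.ext ?_)
      exact (TensorProduct.smul_tmul' c y.1 y'.1).symm)
    (by
      intro y y₁' y₂'
      rw [← Submodule.Quotient.mk_add]
      refine congrArg Submodule.Quotient.mk (Subtype.ext ?_)
      exact TensorProduct.tmul_add y.1 y₁'.1 y₂'.1)
    (by
      intro c y y'
      rw [← Submodule.Quotient.mk_smul]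
      refine congrArg Submodule.Quotient.mk (Subtype.ext ?_)
      exact TensorProduct.tmul_smul c y.1 y'.1)

theorem prodZ_apply (a b : ℕ) (y : ↥(C.toPCx.Zrel K a)) (y' : ↥(C'.toPCx.Zrel K' b)) :
    prodZ C K hKp hKd C' K' hKp' hKd' a b y y' = Submodule.Quotient.mk
      (⟨y.1 ⊗ₜ[k] y'.1, tmul_mem_Zrel C K hKp hKd C' K' hKp' hKd' rfl y.2 y'.2⟩ :
        ↥((Cx.tensor C C').Zrel (KT C K hKp hKd C' K' hKp' hKd') (a + b))) := rfl

theorem prodZ_eq_zero_left (a b : ℕ) (y : ↥(C.toPCx.Zrel K a)) (hy : y.1 ∈ C.toPCx.Brel K a)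
    (y' : ↥(C'.toPCx.Zrel K' b)) : prodZ C K hKp hKd C' K' hKp' hKd' a b y y' = 0 := by
  rw [prodZ_apply, Submodule.Quotient.mk_eq_zero, Submodule.mem_comap]
  exact tmul_mem_Brel_left C K hKp hKd C' K' hKp' hKd' rfl hy y'.2

theorem prodZ_eq_zero_right (a b : ℕ) (y : ↥(C.toPCx.Zrel K a))
    (y' : ↥(C'.toPCx.Zrel K' b)) (hy' : y'.1 ∈ C'.toPCx.Brel K' b) :
    prodZ C K hKp hKd C' K' hKp' hKd' a b y y' = 0 := by
  rw [prodZ_apply, Submodule.Quotient.mk_eq_zero, Submodule.mem_comap]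
  exact tmul_mem_Brel_right C K hKp hKd C' K' hKp' hKd' rfl y.2 hy'

/-- the product, descended in the first variable -/
noncomputable def prodH1 (a b : ℕ) :
    C.toPCx.Hrel K a →ₗ[k] ↥(C'.toPCx.Zrel K' b) →ₗ[k]
      (Cx.tensor C C').Hrel (KT C K hKp hKd C' K' hKp' hKd') (a + b) :=
  Submodule.liftQ _ (prodZ C K hKp hKd C' K' hKp' hKd' a b) (by
    intro y hy
    rw [LinearMap.mem_ker]
    ext y'
    exact prodZ_eq_zero_left C K hKp hKd C' K' hKp' hKd' a b y hy y')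

theorem prodH1_mk (a b : ℕ) (y : ↥(C.toPCx.Zrel K a)) (y' : ↥(C'.toPCx.Zrel K' b)) :
    prodH1 C K hKp hKd C' K' hKp' hKd' a b (Submodule.Quotient.mk y) y' =
      prodZ C K hKp hKd C' K' hKp' hKd' a b y y' := rfl

/-- the product, descended in both variables -/
noncomputable def prodH2 (a b : ℕ) :
    C'.toPCx.Hrel K' b →ₗ[k] C.toPCx.Hrel K a →ₗ[k]
      (Cx.tensor C C').Hrel (KT C K hKp hKd C' K' hKp' hKd') (a + b) :=
  Submodule.liftQ _ (prodH1 C K hKp hKd C' K' hKp' hKd' a b).flip (by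
    intro y' hy'
    rw [LinearMap.mem_ker]
    refine LinearMap.ext fun x => ?_
    obtain ⟨y, rfl⟩ := Submodule.Quotient.mk_surjective _ x
    rw [LinearMap.flip_apply, prodH1_mk]
    exact prodZ_eq_zero_right C K hKp hKd C' K' hKp' hKd' a b y y' hy')

/-- **the Künneth product** on relative cohomology -/
noncomputable def prodRel (a b : ℕ) :
    C.toPCx.Hrel K a ⊗[k] C'.toPCx.Hrel K' b →ₗ[k]
      (Cx.tensor C C').Hrel (KT C K hKp hKd C' K' hKp' hKd') (a + b) :=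
  TensorProduct.lift (prodH2 C K hKp hKd C' K' hKp' hKd' a b).flip

theorem prodRel_mk (a b : ℕ) (y : ↥(C.toPCx.Zrel K a)) (y' : ↥(C'.toPCx.Zrel K' b)) :
    prodRel C K hKp hKd C' K' hKp' hKd' a b
      ((Submodule.Quotient.mk y : C.toPCx.Hrel K a) ⊗ₜ[k]
        (Submodule.Quotient.mk y' : C'.toPCx.Hrel K' b)) =
    Submodule.Quotient.mk
      (⟨y.1 ⊗ₜ[k] y'.1, tmul_mem_Zrel C K hKp hKd C' K' hKp' hKd' rfl y.2 y'.2⟩ :
        ↥((Cx.tensor C C').Zrel (KT C K hKp hKd C' K' hKp' hKd') (a + b))) := rfl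


theorem PCx.Quot.rel_mk {C C' : PCx k} (Q : PCx.Quot C C') (p : ℕ)
    (z : ↥(C.Zrel (LinearMap.ker Q.q) p)) :
    ∃ h : Q.q z.1 ∈ C'.Z p,
      Q.rel p (Submodule.Quotient.mk z) = Submodule.Quotient.mk ⟨Q.q z.1, h⟩ := by
  cases p <;> exact ⟨_, rfl⟩

theorem PCx.Quot.rel'_mk {C C' : PCx k} (Q : PCx.Quot C C') (K : Submodule k C.V)
    (hK : LinearMap.ker Q.q = K) (p : ℕ) (z : ↥(C.Zrel K p)) :
    ∃ h : Q.q z.1 ∈ C'.Z p,
      Q.rel' K hK p (Submodule.Quotient.mk z) = Submodule.Quotient.mk ⟨Q.q z.1, h⟩ := by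
  subst hK
  exact Q.rel_mk p z

theorem PCx.Split.equivH_mk {C : PCx k} (S : C.Split) (p : ℕ) (z : ↥(C.Z p)) :
    ((S.equivH p (Submodule.Quotient.mk z) : ↥((C.gr p).map S.e)) : C.V) = S.e z.1 := rfl

/-- the embedding of relative cohomology into the quotient complex given by a splitting -/
noncomputable def iotaRel (S : (C.quot K hKp hKd).toPCx.Split) (a : ℕ) :
    C.toPCx.Hrel K a →ₗ[k] (C.quot K hKp hKd).V :=
  (Submodule.subtype _) ∘ₗ (S.equivH a).toLinearMap ∘ₗ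
    ((Cx.toQuot C K hKp hKd).rel' K (Cx.ker_qm C K hKp hKd) a).toLinearMap

theorem iotaRel_mk (S : (C.quot K hKp hKd).toPCx.Split) (a : ℕ) (y : ↥(C.toPCx.Zrel K a)) :
    iotaRel C K hKp hKd S a (Submodule.Quotient.mk y) = S.e (Cx.qm C K hKp hKd y.1) := by
  obtain ⟨h, he⟩ := (Cx.toQuot C K hKp hKd).rel'_mk K (Cx.ker_qm C K hKp hKd) a y
  change ((S.equivH a ((Cx.toQuot C K hKp hKd).rel' K (Cx.ker_qm C K hKp hKd) a
    (Submodule.Quotient.mk y)) : ↥(((C.quot K hKp hKd).gr a).map S.e)) : (C.quot K hKp hKd).V) = _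
  rw [he, PCx.Split.equivH_mk]
  rfl

theorem iotaRel_injective (S : (C.quot K hKp hKd).toPCx.Split) (a : ℕ) :
    Function.Injective (iotaRel C K hKp hKd S a) := by
  unfold iotaRel
  exact (Submodule.injective_subtype _).comp
    ((S.equivH a).injective.comp
      ((Cx.toQuot C K hKp hKd).rel' K (Cx.ker_qm C K hKp hKd) a).injective)

/-- the embedding of the relative cohomology of the tensor product -/
noncomputable def FRel (S : (C.quot K hKp hKd).toPCx.Split) (S' : (C'.quot K' hKp' hKd').toPCx.Split)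
    (n : ℕ) : (Cx.tensor C C').Hrel (KT C K hKp hKd C' K' hKp' hKd') n →ₗ[k]
      (Cx.tensor (C.quot K hKp hKd) (C'.quot K' hKp' hKd')).V :=
  (Submodule.subtype _) ∘ₗ ((S.tensor S').equivH n).toLinearMap ∘ₗ
    ((Cx.tensorQuot C K hKp hKd C' K' hKp' hKd').rel n).toLinearMap

theorem FRel_mk (S : (C.quot K hKp hKd).toPCx.Split) (S' : (C'.quot K' hKp' hKd').toPCx.Split)
    (n : ℕ) (w : ↥((Cx.tensor C C').Zrel (KT C K hKp hKd C' K' hKp' hKd') n)) :
    FRel C K hKp hKd C' K' hKp' hKd' S S' n (Submodule.Quotient.mk w) =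
      TensorProduct.map S.e S'.e
        (TensorProduct.map (Cx.qm C K hKp hKd) (Cx.qm C' K' hKp' hKd') w.1) := by
  obtain ⟨h, he⟩ := (Cx.tensorQuot C K hKp hKd C' K' hKp' hKd').rel_mk n w
  change (((S.tensor S').equivH n ((Cx.tensorQuot C K hKp hKd C' K' hKp' hKd').rel n
    (Submodule.Quotient.mk w)) : ↥(((Cx.tensor (C.quot K hKp hKd) (C'.quot K' hKp' hKd')).gr n).map
      (S.tensor S').e)) : (Cx.tensor (C.quot K hKp hKd) (C'.quot K' hKp' hKd')).V) = _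
  rw [he, PCx.Split.equivH_mk]
  rfl

theorem FRel_injective (S : (C.quot K hKp hKd).toPCx.Split)
    (S' : (C'.quot K' hKp' hKd').toPCx.Split) (n : ℕ) :
    Function.Injective (FRel C K hKp hKd C' K' hKp' hKd' S S' n) := by
  unfold FRel
  exact (Submodule.injective_subtype _).comp
    (((S.tensor S').equivH n).injective.comp
      ((Cx.tensorQuot C K hKp hKd C' K' hKp' hKd').rel n).injective)

theorem FRel_prodRel (S : (C.quot K hKp hKd).toPCx.Split)
    (S' : (C'.quot K' hKp' hKd').toPCx.Split) (a b : ℕ)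
    (u : C.toPCx.Hrel K a ⊗[k] C'.toPCx.Hrel K' b) :
    FRel C K hKp hKd C' K' hKp' hKd' S S' (a + b) (prodRel C K hKp hKd C' K' hKp' hKd' a b u) =
      TensorProduct.map (iotaRel C K hKp hKd S a) (iotaRel C' K' hKp' hKd' S' b) u := by
  induction u using TensorProduct.induction_on with
  | zero =>
    rw [map_zero, map_zero, map_zero]
    rfl
  | tmul x x' =>
    obtain ⟨y, rfl⟩ := Submodule.Quotient.mk_surjective _ x
    obtain ⟨y', rfl⟩ := Submodule.Quotient.mk_surjective _ x'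
    rw [prodRel_mk, FRel_mk]
    simp only [TensorProduct.map_tmul]
    rw [iotaRel_mk, iotaRel_mk]
  | add u v hu hv =>
    rw [map_add, map_add, map_add, hu, hv]
    rfl

/-- **the Künneth product is injective** -/
theorem prodRel_injective (a b : ℕ) :
    Function.Injective (prodRel C K hKp hKd C' K' hKp' hKd' a b) := by
  obtain ⟨S⟩ := (C.quot K hKp hKd).exists_split
  obtain ⟨S'⟩ := (C'.quot K' hKp' hKd').exists_split
  have h1 : Function.Injective
      (TensorProduct.map (iotaRel C K hKp hKd S a) (iotaRel C' K' hKp' hKd' S' b)) :=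
    TensorProduct.map_injective_of_flat_flat _ _ (iotaRel_injective C K hKp hKd S a)
      (iotaRel_injective C' K' hKp' hKd' S' b)
  intro u v huv
  apply h1
  rw [← FRel_prodRel C K hKp hKd C' K' hKp' hKd' S S' a b u,
    ← FRel_prodRel C K hKp hKd C' K' hKp' hKd' S S' a b v, huv]


/-- **the Künneth map**: the product followed by the connecting map -/
noncomputable def kunneth (a b : ℕ) :
    C.toPCx.Hrel K a ⊗[k] C'.toPCx.Hrel K' b →ₗ[k]
      (Cx.tensor C C').Hsub (KT C K hKp hKd C' K' hKp' hKd') (a + b + 1) :=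
  (Cx.tensor C C').connMap (KT C K hKp hKd C' K' hKp' hKd') (a + b) ∘ₗ
    prodRel C K hKp hKd C' K' hKp' hKd' a b

theorem kunneth_mk (a b : ℕ) (y : ↥(C.toPCx.Zrel K a)) (y' : ↥(C'.toPCx.Zrel K' b)) :
    ∃ h : (Cx.tensor C C').d (y.1 ⊗ₜ[k] y'.1) ∈
        (Cx.tensor C C').Zsub (KT C K hKp hKd C' K' hKp' hKd') (a + b + 1),
      kunneth C K hKp hKd C' K' hKp' hKd' a b
        ((Submodule.Quotient.mk y : C.toPCx.Hrel K a) ⊗ₜ[k]
          (Submodule.Quotient.mk y' : C'.toPCx.Hrel K' b)) =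
      Submodule.Quotient.mk ⟨(Cx.tensor C C').d (y.1 ⊗ₜ[k] y'.1), h⟩ :=
  ⟨_, rfl⟩

theorem kunneth_injective (hex : ∀ p, C.toPCx.ExactAt p) (hex' : ∀ p, C'.toPCx.ExactAt p)
    (a b : ℕ) (hab : 1 ≤ a + b) :
    Function.Injective (kunneth C K hKp hKd C' K' hKp' hKd' a b) := by
  unfold kunneth
  rw [LinearMap.coe_comp]
  exact ((Cx.tensor C C').connMap_bijective (KT C K hKp hKd C' K' hKp' hKd') (a + b) hab
    (tensor_exactAt C C' hex hex')).1.comp (prodRel_injective C K hKp hKd C' K' hKp' hKd' a b)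

theorem kunneth_bijective (hex : ∀ p, C.toPCx.ExactAt p) (hex' : ∀ p, C'.toPCx.ExactAt p)
    (a b : ℕ) (hab : 1 ≤ a + b)
    [Module.Finite k (C.toPCx.Hrel K a)] [Module.Finite k (C'.toPCx.Hrel K' b)]
    [Module.Finite k ((Cx.tensor C C').Hsub (KT C K hKp hKd C' K' hKp' hKd') (a + b + 1))]
    (hdim : Module.finrank k ((Cx.tensor C C').Hsub (KT C K hKp hKd C' K' hKp' hKd') (a + b + 1)) =
      Module.finrank k (C.toPCx.Hrel K a) * Module.finrank k (C'.toPCx.Hrel K' b)) :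
    Function.Bijective (kunneth C K hKp hKd C' K' hKp' hKd' a b) := by
  have hinj := kunneth_injective C K hKp hKd C' K' hKp' hKd' hex hex' a b hab
  refine ⟨hinj, ?_⟩
  have h1 : Module.finrank k (C.toPCx.Hrel K a ⊗[k] C'.toPCx.Hrel K' b) =
      Module.finrank k ((Cx.tensor C C').Hsub (KT C K hKp hKd C' K' hKp' hKd') (a + b + 1)) := by
    rw [Module.finrank_tensorProduct, hdim]
  exact (LinearMap.injective_iff_surjective_of_finrank_eq_finrank h1).mp hinj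

end Prod

end SegLA

end Groth.Agent.H6
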