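import Groth.Agent.Lib.Helper6.SegBig8
import Groth.Agent.Lib.Helper6.SegKT1

/-! Explicit class maps from the cores of the big complexes to graded local cohomology. -/

universe u
open DirectSum TensorProduct
set_option linter.unusedSectionVars false

namespace Groth.Agent.H6

namespace Seg

open SegLA ToAdd

section Ident

variable {k : Type u} [Field k] {R : Type u} [CommRing R] [Algebra k R]
  {𝒜 : ℤ → Submodule k R} [GradedAlgebra 𝒜] [GradedRing (toAdd 𝒜)]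
variable {M : Type u} [AddCommGroup M] [Module R M] [Module k M] [IsScalarTower k R M]
  {ℳ : ℤ → AddSubgroup M} [DirectSum.Decomposition ℳ] [SetLike.GradedSMul 𝒜 ℳ]
variable {E : GrLC.StarInjRes 𝒜 ℳ}
variable {𝕏 : Type u} [AddCommGroup 𝕏] [Module R 𝕏] [Module k 𝕏] [IsScalarTower k R 𝕏]
  {𝒳 : ℤ → AddSubgroup 𝕏} [DirectSum.Decomposition 𝒳] [SetLike.GradedSMul 𝒜 𝒳]
variable (B : Big 𝒜 E 𝒳) (a : HomogeneousIdeal 𝒜)

/-- the class of a cocycle of the core -/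
noncomputable def Big.clsZ (δ : ℤ) (i : ℕ)
    (v : ↥((B.core δ).toPCx.Zsub (B.coreK a.toIdeal δ) i)) : E.H a i :=
  E.toH a i ⟨B.comp i ((v : (B.core δ).V) : ↥(pcs 𝒜 𝒳 δ)).1, B.comp_mem_cocyc a v.2⟩

theorem Big.clsZ_add (δ : ℤ) (i : ℕ) (v w : ↥((B.core δ).toPCx.Zsub (B.coreK a.toIdeal δ) i)) :
    B.clsZ a δ i (v + w) = B.clsZ a δ i v + B.clsZ a δ i w := by
  unfold Big.clsZ
  rw [← map_add]
  congr 1
  apply Subtype.ext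
  change B.comp i (((v + w : ↥((B.core δ).toPCx.Zsub (B.coreK a.toIdeal δ) i)) :
    (B.core δ).V) : ↥(pcs 𝒜 𝒳 δ)).1 = _
  exact map_add (B.comp i) _ _

theorem Big.clsZ_smul (δ : ℤ) (i : ℕ) (c : k)
    (v : ↥((B.core δ).toPCx.Zsub (B.coreK a.toIdeal δ) i)) :
    B.clsZ a δ i (c • v) = algebraMap k R c • B.clsZ a δ i v := by
  unfold Big.clsZ
  rw [← map_smul]
  congr 1
  apply Subtype.ext
  change B.comp i (c • ((v : (B.core δ).V) : ↥(pcs 𝒜 𝒳 δ)).1) = algebraMap k R c • _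
  rw [← algebraMap_smul R c, map_smul]

theorem Big.clsZ_mem (δ : ℤ) (i : ℕ) (v : ↥((B.core δ).toPCx.Zsub (B.coreK a.toIdeal δ) i)) :
    B.clsZ a δ i v ∈ E.Hcomp a i δ :=
  ⟨⟨B.comp i ((v : (B.core δ).V) : ↥(pcs 𝒜 𝒳 δ)).1, B.comp_mem_cocyc a v.2⟩,
    B.comp_gr i δ _ ((v : (B.core δ).V) : ↥(pcs 𝒜 𝒳 δ)).2, rfl⟩

theorem Big.clsZ_surj (δ : ℤ) (i : ℕ) (x : E.H a i) (hx : x ∈ E.Hcomp a i δ) :
    ∃ v, B.clsZ a δ i v = x := by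
  obtain ⟨z, hz, rfl⟩ := hx
  have hz1 : z.1 ∈ GrLC.gam a.toIdeal (E.X i).carrier := z.2.1
  have hz2 : E.d i z.1 = 0 := LinearMap.mem_ker.mp z.2.2
  have hv : (⟨B.lof i z.1, B.lof_gr i δ _ hz⟩ : ↥(pcs 𝒜 𝒳 δ)) ∈
      (B.core δ).toPCx.Zsub (B.coreK a.toIdeal δ) i := by
    refine ⟨⟨LinearMap.mem_ker.mpr (Subtype.ext ?_), B.lof_mem_co i _⟩,
      Big.map_mem_gam (B.lof i) a.toIdeal hz1⟩
    change B.d (B.lof i z.1) = 0
    rw [B.d_lof, hz2, map_zero]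
  refine ⟨⟨_, hv⟩, ?_⟩
  unfold Big.clsZ
  congr 1
  apply Subtype.ext
  exact B.comp_lof i z.1

theorem Big.clsZ_eq_zero_iff (δ : ℤ) (i : ℕ)
    (v : ↥((B.core δ).toPCx.Zsub (B.coreK a.toIdeal δ) i)) :
    B.clsZ a δ i v = 0 ↔
      (v : (B.core δ).V) ∈ (B.core δ).toPCx.Bsub (B.coreK a.toIdeal δ) i := by
  have h1 : B.clsZ a δ i v = 0 ↔
      B.comp i ((v : (B.core δ).V) : ↥(pcs 𝒜 𝒳 δ)).1 ∈ E.cobdy a i := by
    unfold Big.clsZ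
    rw [Submodule.mkQ_apply, Submodule.Quotient.mk_eq_zero, Submodule.mem_comap]
    rfl
  rw [h1]
  have hvco : ((v : (B.core δ).V) : ↥(pcs 𝒜 𝒳 δ)).1 ∈ B.co i := v.2.1.2
  cases i with
  | zero =>
    change _ ∈ (⊥ : Submodule R _) ↔ (v : (B.core δ).V) ∈ (⊥ : Submodule k _)
    rw [Submodule.mem_bot, Submodule.mem_bot]
    constructor
    · intro h
      apply Subtype.ext
      rw [← B.lof_comp_of_mem hvco, h, map_zero]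
      rfl
    · intro h
      rw [h]
      exact map_zero _
  | succ j =>
    constructor
    · rintro ⟨w, hw, hwv⟩
      have hw' := gam_proj_mem a E j δ hw
      have h2 : E.d j (Gr.proj (E.X j).gr δ w) =
          B.comp (j + 1) ((v : (B.core δ).V) : ↥(pcs 𝒜 𝒳 δ)).1 := by
        rw [Gr.isGrHom_proj (E.X j).gr (E.X (j + 1)).gr (E.d_grHom j), hwv,
          Gr.proj_of_mem _ (B.comp_gr (j + 1) δ _ ((v : (B.core δ).V) : ↥(pcs 𝒜 𝒳 δ)).2)]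
      refine ⟨(⟨B.lof j (Gr.proj (E.X j).gr δ w),
        B.lof_gr j δ _ (Gr.proj_mem (E.X j).gr δ w)⟩ : ↥(pcs 𝒜 𝒳 δ)),
        ⟨B.lof_mem_co j _, Big.map_mem_gam (B.lof j) a.toIdeal hw'⟩, ?_⟩
      apply Subtype.ext
      change B.d (B.lof j (Gr.proj (E.X j).gr δ w)) = _
      rw [B.d_lof, h2, B.lof_comp_of_mem hvco]
    · rintro ⟨y, hy, hyv⟩
      refine ⟨B.comp j (y : ↥(pcs 𝒜 𝒳 δ)).1, Big.map_mem_gam (B.comp j) a.toIdeal hy.2, ?_⟩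
      rw [← B.comp_d_succ]
      have : B.d (y : ↥(pcs 𝒜 𝒳 δ)).1 = ((v : (B.core δ).V) : ↥(pcs 𝒜 𝒳 δ)).1 :=
        congrArg Subtype.val hyv
      rw [this]


theorem Big.d_mem_Zsub (δ : ℤ) (i : ℕ)
    (y : ↥((B.core δ).toPCx.Zrel (B.coreK a.toIdeal δ) i)) :
    (B.core δ).d y.1 ∈ (B.core δ).toPCx.Zsub (B.coreK a.toIdeal δ) (i + 1) :=
  ⟨⟨LinearMap.mem_ker.mpr ((B.core δ).d_d y.1), (B.core δ).d_mem _ _ y.2.1⟩, y.2.2⟩

/-- the class in `H^{i+1}` of the differential of a relative cocycle of degree `i` -/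
noncomputable def Big.relH (δ : ℤ) (i : ℕ) [Module k (E.H a (i + 1))]
    [IsScalarTower k R (E.H a (i + 1))] :
    ↥((B.core δ).toPCx.Zrel (B.coreK a.toIdeal δ) i) →ₗ[k] E.H a (i + 1) where
  toFun y := B.clsZ a δ (i + 1) ⟨(B.core δ).d y.1, B.d_mem_Zsub a δ i y⟩
  map_add' y y' := by
    rw [← Big.clsZ_add]
    congr 1
    apply Subtype.ext
    exact map_add (B.core δ).d y.1 y'.1
  map_smul' c y := by
    rw [RingHom.id_apply]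
    have h1 : c • B.clsZ a δ (i + 1) ⟨(B.core δ).d y.1, B.d_mem_Zsub a δ i y⟩ =
        algebraMap k R c • B.clsZ a δ (i + 1) ⟨(B.core δ).d y.1, B.d_mem_Zsub a δ i y⟩ :=
      (algebraMap_smul R c _).symm
    rw [h1, ← Big.clsZ_smul]
    congr 1
    apply Subtype.ext
    exact map_smul (B.core δ).d c y.1

theorem Big.relH_apply (δ : ℤ) (i : ℕ) [Module k (E.H a (i + 1))]
    [IsScalarTower k R (E.H a (i + 1))]
    (y : ↥((B.core δ).toPCx.Zrel (B.coreK a.toIdeal δ) i)) :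
    B.relH a δ i y = B.clsZ a δ (i + 1) ⟨(B.core δ).d y.1, B.d_mem_Zsub a δ i y⟩ := rfl

theorem Big.relH_mem (δ : ℤ) (i : ℕ) [Module k (E.H a (i + 1))]
    [IsScalarTower k R (E.H a (i + 1))]
    (y : ↥((B.core δ).toPCx.Zrel (B.coreK a.toIdeal δ) i)) :
    B.relH a δ i y ∈ E.Hcomp a (i + 1) δ :=
  B.clsZ_mem a δ (i + 1) _

theorem Big.relH_surj (δ : ℤ) (i : ℕ) [Module k (E.H a (i + 1))]
    [IsScalarTower k R (E.H a (i + 1))] (x : E.H a (i + 1)) (hx : x ∈ E.Hcomp a (i + 1) δ) :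
    ∃ y, B.relH a δ i y = x := by
  obtain ⟨v, rfl⟩ := B.clsZ_surj a δ (i + 1) x hx
  obtain ⟨y, hy, hyv⟩ := B.core_exactAt δ i v.1 v.2.1.2 (LinearMap.mem_ker.mp v.2.1.1)
  have hyZ : y ∈ (B.core δ).toPCx.Zrel (B.coreK a.toIdeal δ) i := by
    refine ⟨hy, ?_⟩
    show (B.core δ).d y ∈ B.coreK a.toIdeal δ
    rw [hyv]
    exact v.2.2
  refine ⟨⟨y, hyZ⟩, ?_⟩
  rw [Big.relH_apply]
  congr 1
  exact Subtype.ext hyv

theorem Big.relH_eq_zero_iff (δ : ℤ) (j : ℕ) [Module k (E.H a (j + 1 + 1))]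
    [IsScalarTower k R (E.H a (j + 1 + 1))]
    (y : ↥((B.core δ).toPCx.Zrel (B.coreK a.toIdeal δ) (j + 1))) :
    B.relH a δ (j + 1) y = 0 ↔
      (y : (B.core δ).V) ∈ (B.core δ).toPCx.Brel (B.coreK a.toIdeal δ) (j + 1) := by
  rw [Big.relH_apply, Big.clsZ_eq_zero_iff]
  constructor
  · rintro ⟨κ, hκ, hκz⟩
    have h3 : (B.core δ).d (y.1 - κ) = 0 := by rw [map_sub, hκz, sub_self]
    obtain ⟨y₀, hy₀, hyz⟩ := B.core_exactAt δ j (y.1 - κ) (sub_mem y.2.1 hκ.1) h3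
    have : y.1 = κ + (B.core δ).d y₀ := by rw [hyz]; abel
    rw [this]
    exact Submodule.add_mem_sup hκ ⟨y₀, hy₀, rfl⟩
  · intro hb
    obtain ⟨κ, hκ, z, hz, hκz⟩ := Submodule.mem_sup.mp hb
    obtain ⟨y₀, _, rfl⟩ := hz
    refine ⟨κ, hκ, ?_⟩
    change (B.core δ).d κ = (B.core δ).d y.1
    rw [← hκz, map_add, (B.core δ).d_d, add_zero]

/-- multiplication by a homogeneous element, between cores -/
noncomputable def Big.mulC (δ e : ℤ) (r : R) (hr : r ∈ 𝒜 e) :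
    (B.core δ).V →ₗ[k] (B.core (e + δ)).V where
  toFun v := (⟨r • (v : ↥(pcs 𝒜 𝒳 δ)).1,
    SetLike.GradedSMul.smul_mem (A := 𝒜) (B := 𝒳) hr (v : ↥(pcs 𝒜 𝒳 δ)).2⟩ : ↥(pcs 𝒜 𝒳 (e + δ)))
  map_add' v w := Subtype.ext (smul_add r _ _)
  map_smul' c v := Subtype.ext (smul_comm r c _)

theorem Big.coe_mulC (δ e : ℤ) (r : R) (hr : r ∈ 𝒜 e) (v : (B.core δ).V) :
    ((B.mulC δ e r hr v : (B.core (e + δ)).V) : ↥(pcs 𝒜 𝒳 (e + δ))).1 =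
      r • (v : ↥(pcs 𝒜 𝒳 δ)).1 := rfl

theorem Big.mulC_mem_gr (δ e : ℤ) (r : R) (hr : r ∈ 𝒜 e) (p : ℕ) {v : (B.core δ).V}
    (hv : v ∈ (B.core δ).gr p) : B.mulC δ e r hr v ∈ (B.core (e + δ)).gr p :=
  Submodule.smul_mem (B.co p) r hv

theorem Big.mulC_d (δ e : ℤ) (r : R) (hr : r ∈ 𝒜 e) (v : (B.core δ).V) :
    (B.core (e + δ)).d (B.mulC δ e r hr v) = B.mulC δ e r hr ((B.core δ).d v) :=
  Subtype.ext (map_smul B.d r _)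

theorem Big.mulC_mem_K (δ e : ℤ) (r : R) (hr : r ∈ 𝒜 e) {v : (B.core δ).V}
    (hv : v ∈ B.coreK a.toIdeal δ) : B.mulC δ e r hr v ∈ B.coreK a.toIdeal (e + δ) :=
  Submodule.smul_mem (GrLC.gam a.toIdeal 𝕏) r hv

/-- multiplication by a homogeneous element on relative cocycles -/
noncomputable def Big.mulZ (δ e : ℤ) (r : R) (hr : r ∈ 𝒜 e) (i : ℕ) :
    ↥((B.core δ).toPCx.Zrel (B.coreK a.toIdeal δ) i) →ₗ[k]
      ↥((B.core (e + δ)).toPCx.Zrel (B.coreK a.toIdeal (e + δ)) i) :=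
  LinearMap.restrict (B.mulC δ e r hr) (fun v hv => ⟨B.mulC_mem_gr δ e r hr i hv.1, by
    show (B.core (e + δ)).d (B.mulC δ e r hr v) ∈ B.coreK a.toIdeal (e + δ)
    rw [Big.mulC_d]
    exact B.mulC_mem_K a δ e r hr hv.2⟩)

theorem Big.coe_mulZ (δ e : ℤ) (r : R) (hr : r ∈ 𝒜 e) (i : ℕ)
    (y : ↥((B.core δ).toPCx.Zrel (B.coreK a.toIdeal δ) i)) :
    ((B.mulZ a δ e r hr i y : (B.core (e + δ)).V) : ↥(pcs 𝒜 𝒳 (e + δ))).1 =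
      r • ((y : (B.core δ).V) : ↥(pcs 𝒜 𝒳 δ)).1 := rfl

theorem Big.relH_mulZ (δ e : ℤ) (r : R) (hr : r ∈ 𝒜 e) (i : ℕ) [Module k (E.H a (i + 1))]
    [IsScalarTower k R (E.H a (i + 1))]
    (y : ↥((B.core δ).toPCx.Zrel (B.coreK a.toIdeal δ) i)) :
    B.relH a (e + δ) i (B.mulZ a δ e r hr i y) = r • B.relH a δ i y := by
  rw [Big.relH_apply, Big.relH_apply]
  unfold Big.clsZ
  rw [← map_smul]
  congr 1
  apply Subtype.ext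
  change B.comp (i + 1) (B.d (r • ((y : (B.core δ).V) : ↥(pcs 𝒜 𝒳 δ)).1)) =
    r • B.comp (i + 1) (B.d ((y : (B.core δ).V) : ↥(pcs 𝒜 𝒳 δ)).1)
  rw [map_smul, map_smul]

end Ident

section Res

variable {k : Type u} [Field k] {R S T : Type u} [CommRing R] [CommRing S] [CommRing T]
  [Algebra k R] [Algebra k S] [Algebra k T]
  {𝒜 : ℤ → Submodule k R} [GradedAlgebra 𝒜] {ℬ : ℤ → Submodule k S} [GradedAlgebra ℬ]
  (𝒯 : ℤ → Submodule k T) [GradedAlgebra 𝒯]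
  (ψ : T →ₐ[k] R ⊗[k] S) (hT : GrSeg.IsSegreRing 𝒜 ℬ 𝒯 ψ)
  [GradedRing (toAdd 𝒜)] [GradedRing (toAdd ℬ)] [GradedRing (toAdd 𝒯)]
variable {M : Type u} [AddCommGroup M] [Module R M] [Module k M] [IsScalarTower k R M]
  {ℳ : ℤ → AddSubgroup M}
  [DirectSum.Decomposition ℳ] [SetLike.GradedSMul 𝒜 ℳ] {E : GrLC.StarInjRes 𝒜 ℳ}
variable {𝕏 : Type u} [AddCommGroup 𝕏] [Module R 𝕏] [Module k 𝕏] [IsScalarTower k R 𝕏]
  {𝒳 : ℤ → AddSubgroup 𝕏} [DirectSum.Decomposition 𝒳] [SetLike.GradedSMul 𝒜 𝒳]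
  (B : Big 𝒜 E 𝒳)
variable {N : Type u} [AddCommGroup N] [Module S N] [Module k N] [IsScalarTower k S N]
  {𝒩 : ℤ → AddSubgroup N}
  [DirectSum.Decomposition 𝒩] [SetLike.GradedSMul ℬ 𝒩] {E' : GrLC.StarInjRes ℬ 𝒩}
variable {𝕐 : Type u} [AddCommGroup 𝕐] [Module S 𝕐] [Module k 𝕐] [IsScalarTower k S 𝕐]
  {𝒴 : ℤ → AddSubgroup 𝕐} [DirectSum.Decomposition 𝒴] [SetLike.GradedSMul ℬ 𝒴]
  (B' : Big ℬ E' 𝒴)
variable {P : Type u} [AddCommGroup P] [Module T P] [Module k P] [IsScalarTower k T P]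
  {𝒬 : ℤ → AddSubgroup P} [DirectSum.Decomposition 𝒬] [SetLike.GradedSMul 𝒯 𝒬]
  {φ : P →ₗ[k] M ⊗[k] N} (hP : GrSeg.IsSegreMod ψ ℳ 𝒩 𝒬 φ)
variable (mR : HomogeneousIdeal 𝒜)
  (hmR : mR.toIdeal = Ideal.span (⋃ n ∈ Set.Ioi (0 : ℤ), (𝒜 n : Set R)))
  (mS : HomogeneousIdeal ℬ)
  (hmS : mS.toIdeal = Ideal.span (⋃ n ∈ Set.Ioi (0 : ℤ), (ℬ n : Set S)))
  (mT : HomogeneousIdeal 𝒯)
  (hmT : mT.toIdeal = Ideal.span (⋃ n ∈ Set.Ioi (0 : ℤ), (𝒯 n : Set T)))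
variable [IsNoetherianRing R] [IsNoetherianRing S] [IsNoetherianRing T]
  [SetLike.GradedSMul (toAdd 𝒯) 𝒬]
variable (EP : GrLC.StarInjRes 𝒯 𝒬)

theorem inclC_mem_WS_of_Zsub (δ : ℤ) (q : ℕ) {z : (B.core δ).V ⊗[k] (B'.core δ).V}
    (hz : z ∈ (Cx.tensor (B.core δ) (B'.core δ)).Zsub (coreKT B B' mR mS δ) q) :
    inclC B B' δ z ∈ (WS 𝒯 ψ hT B B' (An q)).U :=
  inclC_mem_WS 𝒯 ψ hT B B' δ q hz.1.2

include hmR hmS hmT in
theorem inclC_mem_cocyc (δ : ℤ) (q : ℕ) {z : (B.core δ).V ⊗[k] (B'.core δ).V}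
    (hz : z ∈ (Cx.tensor (B.core δ) (B'.core δ)).Zsub (coreKT B B' mR mS δ) q) :
    (⟨inclC B B' δ z, inclC_mem_WS_of_Zsub 𝒯 ψ hT B B' mR mS δ q hz⟩ :
      ↥(WS 𝒯 ψ hT B B' (An q)).U) ∈
      (totRes 𝒯 ψ hT B B' hP mR hmR mS hmS mT hmT).cocyc q := by
  refine ⟨(inclC_mem_gam_iff 𝒯 ψ hT B B' mR hmR mS hmS mT hmT δ q z
    (inclC_mem_WS_of_Zsub 𝒯 ψ hT B B' mR mS δ q hz)).mpr hz.2, ?_⟩
  change dT 𝒯 ψ hT B B' q ⟨inclC B B' δ z, inclC_mem_WS_of_Zsub 𝒯 ψ hT B B' mR mS δ q hz⟩ = 0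
  apply Subtype.ext
  change DD B B' (inclC B B' δ z) = 0
  rw [DD_inclC]
  have : Cx.D (B.core δ) (B'.core δ) z = 0 := LinearMap.mem_ker.mp hz.1.1
  rw [this, map_zero]

/-- the cocycle of the total complex attached to a cocycle of the tensor product of the cores -/
noncomputable def czT (δ : ℤ) (q : ℕ)
    (v : ↥((Cx.tensor (B.core δ) (B'.core δ)).Zsub (coreKT B B' mR mS δ) q)) :
    ↥((totRes 𝒯 ψ hT B B' hP mR hmR mS hmS mT hmT).cocyc q) :=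
  ⟨⟨inclC B B' δ v.1, inclC_mem_WS_of_Zsub 𝒯 ψ hT B B' mR mS δ q v.2⟩,
    inclC_mem_cocyc 𝒯 ψ hT B B' hP mR hmR mS hmS mT hmT δ q v.2⟩

theorem coe_czT (δ : ℤ) (q : ℕ)
    (v : ↥((Cx.tensor (B.core δ) (B'.core δ)).Zsub (coreKT B B' mR mS δ) q)) :
    (((czT 𝒯 ψ hT B B' hP mR hmR mS hmS mT hmT δ q v :
      ↥((totRes 𝒯 ψ hT B B' hP mR hmR mS hmS mT hmT).cocyc q)) :
      ((totRes 𝒯 ψ hT B B' hP mR hmR mS hmS mT hmT).X q).carrier) :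
      ↥(WS 𝒯 ψ hT B B' (An q)).U).1 = inclC B B' δ v.1 := rfl

theorem czT_add (δ : ℤ) (q : ℕ)
    (v w : ↥((Cx.tensor (B.core δ) (B'.core δ)).Zsub (coreKT B B' mR mS δ) q)) :
    czT 𝒯 ψ hT B B' hP mR hmR mS hmS mT hmT δ q (v + w) =
      czT 𝒯 ψ hT B B' hP mR hmR mS hmS mT hmT δ q v +
        czT 𝒯 ψ hT B B' hP mR hmR mS hmS mT hmT δ q w := by
  apply Subtype.ext
  apply Subtype.ext
  exact map_add (inclC B B' δ) v.1 w.1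

theorem czT_smul (δ : ℤ) (q : ℕ) (c : k)
    (v : ↥((Cx.tensor (B.core δ) (B'.core δ)).Zsub (coreKT B B' mR mS δ) q)) :
    czT 𝒯 ψ hT B B' hP mR hmR mS hmS mT hmT δ q (c • v) =
      algebraMap k T c • czT 𝒯 ψ hT B B' hP mR hmR mS hmS mT hmT δ q v := by
  apply Subtype.ext
  apply Subtype.ext
  change inclC B B' δ (c • v.1) = actT ψ (algebraMap k T c) (inclC B B' δ v.1)
  refine (map_smul (inclC B B' δ) c v.1).trans ?_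
  have := algebraMap_smul T c (⟨inclC B B' δ v.1,
    inclC_mem_WS_of_Zsub 𝒯 ψ hT B B' mR mS δ q v.2⟩ : ↥(WS 𝒯 ψ hT B B' (An q)).U)
  exact (congrArg (fun w : ↥(WS 𝒯 ψ hT B B' (An q)).U => w.1) this).symm

theorem czT_gr (δ : ℤ) (q : ℕ)
    (v : ↥((Cx.tensor (B.core δ) (B'.core δ)).Zsub (coreKT B B' mR mS δ) q)) :
    ((czT 𝒯 ψ hT B B' hP mR hmR mS hmS mT hmT δ q v :
      ↥((totRes 𝒯 ψ hT B B' hP mR hmR mS hmS mT hmT).cocyc q)) :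
      ((totRes 𝒯 ψ hT B B' hP mR hmR mS hmS mT hmT).X q).carrier) ∈
      ((totRes 𝒯 ψ hT B B' hP mR hmR mS hmS mT hmT).X q).gr δ :=
  inclC_mem_piece B B' δ v.1

/-- scalars of `T` move the cocycles attached to the cores -/
theorem smul_czT (t : T) (δ δ' : ℤ) (q : ℕ)
    (v : ↥((Cx.tensor (B.core δ) (B'.core δ)).Zsub (coreKT B B' mR mS δ) q))
    (v' : ↥((Cx.tensor (B.core δ') (B'.core δ')).Zsub (coreKT B B' mR mS δ') q))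
    (h : inclC B B' δ' v'.1 = actT ψ t (inclC B B' δ v.1)) :
    t • czT 𝒯 ψ hT B B' hP mR hmR mS hmS mT hmT δ q v =
      czT 𝒯 ψ hT B B' hP mR hmR mS hmS mT hmT δ' q v' := by
  apply Subtype.ext
  apply Subtype.ext
  exact h.symm


/-- a comparison map from the cocycles of the total complex to graded local cohomology -/
structure TComp (q : ℕ)
    (Φ : ↥((totRes 𝒯 ψ hT B B' hP mR hmR mS hmS mT hmT).cocyc q) →ₗ[T] EP.H mT q) : Prop where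
  ker : LinearMap.ker Φ = ((totRes 𝒯 ψ hT B B' hP mR hmR mS hmS mT hmT).cobdy q).comap
    ((totRes 𝒯 ψ hT B B' hP mR hmR mS hmS mT hmT).cocyc q).subtype
  gr : ∀ (g : ℤ) (z : (totRes 𝒯 ψ hT B B' hP mR hmR mS hmS mT hmT).cocyc q),
    z.1 ∈ ((totRes 𝒯 ψ hT B B' hP mR hmR mS hmS mT hmT).X q).gr g → Φ z ∈ EP.Hcomp mT q g
  gr' : ∀ (g : ℤ) (x : EP.H mT q), x ∈ EP.Hcomp mT q g →
    ∃ z : (totRes 𝒯 ψ hT B B' hP mR hmR mS hmS mT hmT).cocyc q,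
      z.1 ∈ ((totRes 𝒯 ψ hT B B' hP mR hmR mS hmS mT hmT).X q).gr g ∧ Φ z = x

theorem exists_TComp (q : ℕ) :
    ∃ Φ : ↥((totRes 𝒯 ψ hT B B' hP mR hmR mS hmS mT hmT).cocyc q) →ₗ[T] EP.H mT q,
      TComp 𝒯 ψ hT B B' hP mR hmR mS hmS mT hmT EP q Φ := by
  obtain ⟨Φ, -, hΦk, hΦg, hΦg'⟩ := hasComparison_tot 𝒯 ψ hT B B' hP mR hmR mS hmS mT hmT EP q
  exact ⟨Φ, ⟨hΦk, hΦg, hΦg'⟩⟩

variable {𝒯 ψ hT B B' hP mR hmR mS hmS mT hmT EP}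

theorem TComp.czT_mem {q : ℕ}
    {Φ : ↥((totRes 𝒯 ψ hT B B' hP mR hmR mS hmS mT hmT).cocyc q) →ₗ[T] EP.H mT q}
    (hΦ : TComp 𝒯 ψ hT B B' hP mR hmR mS hmS mT hmT EP q Φ) (δ : ℤ)
    (v : ↥((Cx.tensor (B.core δ) (B'.core δ)).Zsub (coreKT B B' mR mS δ) q)) :
    Φ (czT 𝒯 ψ hT B B' hP mR hmR mS hmS mT hmT δ q v) ∈ EP.Hcomp mT q δ :=
  hΦ.gr δ _ (czT_gr 𝒯 ψ hT B B' hP mR hmR mS hmS mT hmT δ q v)

include hT hmR hmS hmT hP in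
theorem TComp.czT_surj {q : ℕ}
    {Φ : ↥((totRes 𝒯 ψ hT B B' hP mR hmR mS hmS mT hmT).cocyc q) →ₗ[T] EP.H mT q}
    (hΦ : TComp 𝒯 ψ hT B B' hP mR hmR mS hmS mT hmT EP q Φ) (δ : ℤ)
    (x : EP.H mT q) (hx : x ∈ EP.Hcomp mT q δ) :
    ∃ v, Φ (czT 𝒯 ψ hT B B' hP mR hmR mS hmS mT hmT δ q v) = x := by
  obtain ⟨zc, hzc, hzx⟩ := hΦ.gr' δ x hx
  obtain ⟨z, hz, hzu⟩ := exists_tot_of_mem_WS 𝒯 ψ hT B B' δ q
    (zc.1 : ↥(WS 𝒯 ψ hT B B' (An q)).U).2 hzc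
  have hzc1 : dT 𝒯 ψ hT B B' q zc.1 = 0 := zc.2.2
  have hzc2 : DD B B' (zc.1 : ↥(WS 𝒯 ψ hT B B' (An q)).U).1 = 0 :=
    congrArg (fun w : ↥(WS 𝒯 ψ hT B B' (An (q + 1))).U => w.1) hzc1
  have hD : Cx.D (B.core δ) (B'.core δ) z = 0 := by
    apply inclC_injective B B' δ
    rw [← DD_inclC, hzu, hzc2, map_zero]
  have hzW : inclC B B' δ z ∈ (WS 𝒯 ψ hT B B' (An q)).U := inclC_mem_WS 𝒯 ψ hT B B' δ q hz
  have heq : (⟨inclC B B' δ z, hzW⟩ : ↥(WS 𝒯 ψ hT B B' (An q)).U) = zc.1 := Subtype.ext hzu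
  have hK : z ∈ coreKT B B' mR mS δ := by
    rw [← inclC_mem_gam_iff 𝒯 ψ hT B B' mR hmR mS hmS mT hmT δ q z hzW, heq]
    exact zc.2.1
  have hzZ : z ∈ (Cx.tensor (B.core δ) (B'.core δ)).Zsub (coreKT B B' mR mS δ) q :=
    ⟨⟨LinearMap.mem_ker.mpr hD, hz⟩, hK⟩
  refine ⟨⟨z, hzZ⟩, ?_⟩
  rw [← hzx]
  congr 1
  apply Subtype.ext
  exact heq

include hT hmR hmS hmT hP in
theorem TComp.czT_eq_zero_iff {q : ℕ}
    {Φ : ↥((totRes 𝒯 ψ hT B B' hP mR hmR mS hmS mT hmT).cocyc q) →ₗ[T] EP.H mT q}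
    (hΦ : TComp 𝒯 ψ hT B B' hP mR hmR mS hmS mT hmT EP q Φ) (δ : ℤ)
    (v : ↥((Cx.tensor (B.core δ) (B'.core δ)).Zsub (coreKT B B' mR mS δ) q)) :
    Φ (czT 𝒯 ψ hT B B' hP mR hmR mS hmS mT hmT δ q v) = 0 ↔
      v.1 ∈ (Cx.tensor (B.core δ) (B'.core δ)).Bsub (coreKT B B' mR mS δ) q := by
  let A := totRes 𝒯 ψ hT B B' hP mR hmR mS hmS mT hmT
  have h1 : Φ (czT 𝒯 ψ hT B B' hP mR hmR mS hmS mT hmT δ q v) = 0 ↔
      ((czT 𝒯 ψ hT B B' hP mR hmR mS hmS mT hmT δ q v : ↥(A.cocyc q)) : (A.X q).carrier) ∈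
        A.cobdy q := by
    rw [← LinearMap.mem_ker, hΦ.ker, Submodule.mem_comap]
    rfl
  rw [h1]
  have cz_gr := czT_gr 𝒯 ψ hT B B' hP mR hmR mS hmS mT hmT δ q v
  cases q with
  | zero =>
    change _ ∈ (⊥ : Submodule T _) ↔ v.1 ∈ (⊥ : Submodule k _)
    rw [Submodule.mem_bot, Submodule.mem_bot]
    constructor
    · intro h
      apply inclC_injective B B' δ
      have h' : inclC B B' δ v.1 = 0 := congrArg (fun w : ↥(WS 𝒯 ψ hT B B' (An 0)).U => w.1) h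
      exact h'.trans (map_zero (inclC B B' δ)).symm
    · intro h
      apply Subtype.ext
      change inclC B B' δ v.1 = 0
      exact (congrArg (inclC B B' δ) h).trans (map_zero _)
  | succ n =>
    constructor
    · rintro ⟨w, hw, hwv⟩
      have hw' : Gr.proj (A.X n).gr δ w ∈ GrLC.gam mT.toIdeal (A.X n).carrier :=
        Gr.gam_isHomogeneous (toAdd 𝒯) (A.X n).gr (idealTo 𝒯 mT) δ hw
      have h2 : A.d n (Gr.proj (A.X n).gr δ w) =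
          ((czT 𝒯 ψ hT B B' hP mR hmR mS hmS mT hmT δ (n + 1) v : ↥(A.cocyc (n + 1))) :
          (A.X (n + 1)).carrier) := by
        rw [Gr.isGrHom_proj (A.X n).gr (A.X (n + 1)).gr (A.d_grHom n), hwv,
          Gr.proj_of_mem _ cz_gr]
      obtain ⟨y, hy, hyw⟩ := exists_tot_of_mem_WS 𝒯 ψ hT B B' δ n
        (Gr.proj (A.X n).gr δ w : ↥(WS 𝒯 ψ hT B B' (An n)).U).2
        (Gr.proj_mem (A.X n).gr δ w)
      have hyW : inclC B B' δ y ∈ (WS 𝒯 ψ hT B B' (An n)).U :=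
        inclC_mem_WS 𝒯 ψ hT B B' δ n hy
      have heq : (⟨inclC B B' δ y, hyW⟩ : ↥(WS 𝒯 ψ hT B B' (An n)).U) =
          Gr.proj (A.X n).gr δ w := Subtype.ext hyw
      have hK : y ∈ coreKT B B' mR mS δ := by
        rw [← inclC_mem_gam_iff 𝒯 ψ hT B B' mR hmR mS hmS mT hmT δ n y hyW, heq]
        exact hw'
      refine ⟨y, ⟨hy, hK⟩, ?_⟩
      apply inclC_injective B B' δ
      change inclC B B' δ (Cx.D (B.core δ) (B'.core δ) y) = inclC B B' δ v.1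
      rw [← DD_inclC, hyw]
      exact congrArg (fun w : ↥(WS 𝒯 ψ hT B B' (An (n + 1))).U => w.1) h2
    · rintro ⟨y, hy, hyv⟩
      have hyW : inclC B B' δ y ∈ (WS 𝒯 ψ hT B B' (An n)).U :=
        inclC_mem_WS 𝒯 ψ hT B B' δ n hy.1
      refine ⟨(⟨inclC B B' δ y, hyW⟩ : ↥(WS 𝒯 ψ hT B B' (An n)).U),
        (inclC_mem_gam_iff 𝒯 ψ hT B B' mR hmR mS hmS mT hmT δ n y hyW).mpr hy.2, ?_⟩
      apply Subtype.ext
      change DD B B' (inclC B B' δ y) = inclC B B' δ v.1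
      exact (DD_inclC B B' δ y).trans (congrArg (inclC B B' δ) hyv)

end Res

end Seg

end Groth.Agent.H6
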