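import Groth.Agent.Lib.Helper6.SegKT2

/-! The degreewise Künneth relation between the top local cohomology of a Segre product and the
Segre product of the top local cohomologies. -/

universe u
open DirectSum TensorProduct
set_option linter.unusedSectionVars false

namespace Groth.Agent.H6

namespace Seg

open SegLA ToAdd

section Res

variable {k : Type u} [Field k] {R S T : Type u} [CommRing R] [CommRing S] [CommRing T]
  [Algebra k R] [Algebra k S] [Algebra k T]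
  {𝒜 : ℤ → Submodule k R} [GradedAlgebra 𝒜] {ℬ : ℤ → Submodule k S} [GradedAlgebra ℬ]
  (𝒯 : ℤ → Submodule k T) [GradedAlgebra 𝒯]
  (ψ : T →ₐ[k] R ⊗[k] S) (hT : GrSeg.IsSegreRing 𝒜 ℬ 𝒯 ψ)
  [GradedRing (toAdd 𝒜)] [GradedRing (toAdd ℬ)] [GradedRing (toAdd 𝒯)]
variable {M : Type u} [AddCommGroup M] [Module R M] [Module k M] [IsScalarTower k R M]
  {ℳ : ℤ → AddSubgroup M}
  [DirectSum.Decomposition ℳ] [SetLike.GradedSMul 𝒜 ℳ] {E : GrLC.StarInjRes 𝒜 ℳ}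
variable {𝕏 : Type u} [AddCommGroup 𝕏] [Module R 𝕏] [Module k 𝕏] [IsScalarTower k R 𝕏]
  {𝒳 : ℤ → AddSubgroup 𝕏} [DirectSum.Decomposition 𝒳] [SetLike.GradedSMul 𝒜 𝒳]
  (B : Big 𝒜 E 𝒳)
variable {N : Type u} [AddCommGroup N] [Module S N] [Module k N] [IsScalarTower k S N]
  {𝒩 : ℤ → AddSubgroup N}
  [DirectSum.Decomposition 𝒩] [SetLike.GradedSMul ℬ 𝒩] {E' : GrLC.StarInjRes ℬ 𝒩}
variable {𝕐 : Type u} [AddCommGroup 𝕐] [Module S 𝕐] [Module k 𝕐] [IsScalarTower k S 𝕐]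
  {𝒴 : ℤ → AddSubgroup 𝕐} [DirectSum.Decomposition 𝒴] [SetLike.GradedSMul ℬ 𝒴]
  (B' : Big ℬ E' 𝒴)
variable (mR : HomogeneousIdeal 𝒜) (mS : HomogeneousIdeal ℬ)

/-- tensors of relative cocycles of the two cores -/
abbrev ZZ (δ : ℤ) (a b : ℕ) : Type u :=
  ↥((B.core δ).toPCx.Zrel (B.coreK mR.toIdeal δ) a) ⊗[k]
    ↥((B'.core δ).toPCx.Zrel (B'.coreK mS.toIdeal δ) b)

/-- the inclusion into the tensor product of the cores -/
noncomputable def ιZ (δ : ℤ) (a b : ℕ) :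
    ZZ B B' mR mS δ a b →ₗ[k] (Cx.tensor (B.core δ) (B'.core δ)).V :=
  TensorProduct.map (Submodule.subtype _) (Submodule.subtype _)

theorem ιZ_tmul (δ : ℤ) (a b : ℕ)
    (y : ↥((B.core δ).toPCx.Zrel (B.coreK mR.toIdeal δ) a))
    (y' : ↥((B'.core δ).toPCx.Zrel (B'.coreK mS.toIdeal δ) b)) :
    ιZ B B' mR mS δ a b (y ⊗ₜ[k] y') = y.1 ⊗ₜ[k] y'.1 := rfl

/-- the inclusion into the tensor product of the big modules -/
noncomputable def inclZ (δ : ℤ) (a b : ℕ) : ZZ B B' mR mS δ a b →ₗ[k] 𝕏 ⊗[k] 𝕐 :=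
  inclC B B' δ ∘ₗ TensorProduct.map (Submodule.subtype _) (Submodule.subtype _)

theorem inclZ_tmul (δ : ℤ) (a b : ℕ)
    (y : ↥((B.core δ).toPCx.Zrel (B.coreK mR.toIdeal δ) a))
    (y' : ↥((B'.core δ).toPCx.Zrel (B'.coreK mS.toIdeal δ) b)) :
    inclZ B B' mR mS δ a b (y ⊗ₜ[k] y') =
      ((y : (B.core δ).V) : ↥(pcs 𝒜 𝒳 δ)).1 ⊗ₜ[k] ((y' : (B'.core δ).V) : ↥(pcs ℬ 𝒴 δ)).1 := rfl

theorem inclZ_eq (δ : ℤ) (a b : ℕ) (u : ZZ B B' mR mS δ a b) :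
    inclZ B B' mR mS δ a b u = inclC B B' δ (ιZ B B' mR mS δ a b u) := rfl

theorem D_ιZ_mem (δ : ℤ) (a b : ℕ) (u : ZZ B B' mR mS δ a b) :
    (Cx.tensor (B.core δ) (B'.core δ)).d (ιZ B B' mR mS δ a b u) ∈
      (Cx.tensor (B.core δ) (B'.core δ)).Zsub (coreKT B B' mR mS δ) (a + b + 1) := by
  induction u using TensorProduct.induction_on with
  | zero => rw [map_zero, map_zero]; exact zero_mem _
  | tmul y y' =>
    obtain ⟨h, -⟩ := kunneth_mk (B.core δ) (B.coreK mR.toIdeal δ) (B.coreK_prk mR.toIdeal δ)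
      (B.coreK_d mR.toIdeal δ) (B'.core δ) (B'.coreK mS.toIdeal δ) (B'.coreK_prk mS.toIdeal δ)
      (B'.coreK_d mS.toIdeal δ) a b y y'
    exact h
  | add u v hu hv => rw [map_add, map_add]; exact add_mem hu hv

/-- the Künneth map on tensors of relative cocycles, valued in cocycles -/
noncomputable def kunZ (δ : ℤ) (a b : ℕ) : ZZ B B' mR mS δ a b →ₗ[k]
    ↥((Cx.tensor (B.core δ) (B'.core δ)).Zsub (coreKT B B' mR mS δ) (a + b + 1)) :=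
  LinearMap.codRestrict _ ((Cx.tensor (B.core δ) (B'.core δ)).d ∘ₗ ιZ B B' mR mS δ a b)
    (D_ιZ_mem B B' mR mS δ a b)

theorem coe_kunZ (δ : ℤ) (a b : ℕ) (u : ZZ B B' mR mS δ a b) :
    ((kunZ B B' mR mS δ a b u :
      ↥((Cx.tensor (B.core δ) (B'.core δ)).Zsub (coreKT B B' mR mS δ) (a + b + 1))) :
      (Cx.tensor (B.core δ) (B'.core δ)).V) =
    (Cx.tensor (B.core δ) (B'.core δ)).d (ιZ B B' mR mS δ a b u) := rfl

/-- the quotient map to the tensor product of the relative cohomologies -/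
noncomputable def qZ (δ : ℤ) (a b : ℕ) : ZZ B B' mR mS δ a b →ₗ[k]
    (B.core δ).toPCx.Hrel (B.coreK mR.toIdeal δ) a ⊗[k]
      (B'.core δ).toPCx.Hrel (B'.coreK mS.toIdeal δ) b :=
  TensorProduct.map (Submodule.mkQ _) (Submodule.mkQ _)

theorem qZ_surjective (δ : ℤ) (a b : ℕ) : Function.Surjective (qZ B B' mR mS δ a b) :=
  TensorProduct.map_surjective (Submodule.mkQ_surjective _) (Submodule.mkQ_surjective _)

/-- the Künneth map of the cores -/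
noncomputable abbrev kunC (δ : ℤ) (a b : ℕ) :=
  kunneth (B.core δ) (B.coreK mR.toIdeal δ) (B.coreK_prk mR.toIdeal δ)
    (B.coreK_d mR.toIdeal δ) (B'.core δ) (B'.coreK mS.toIdeal δ) (B'.coreK_prk mS.toIdeal δ)
    (B'.coreK_d mS.toIdeal δ) a b

theorem kunC_qZ (δ : ℤ) (a b : ℕ) (u : ZZ B B' mR mS δ a b) :
    kunC B B' mR mS δ a b (qZ B B' mR mS δ a b u) =
      Submodule.Quotient.mk (kunZ B B' mR mS δ a b u) := by
  induction u using TensorProduct.induction_on with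
  | zero =>
    rw [map_zero, map_zero, map_zero]
    rfl
  | tmul y y' => rfl
  | add u v hu hv =>
    rw [map_add, map_add, map_add, hu, hv]
    rfl

theorem exists_kunZ_sub_mem (δ : ℤ) (a b : ℕ)
    (hsurj : Function.Surjective (kunC B B' mR mS δ a b))
    (v : ↥((Cx.tensor (B.core δ) (B'.core δ)).Zsub (coreKT B B' mR mS δ) (a + b + 1))) :
    ∃ u : ZZ B B' mR mS δ a b, ∃ w : ↥((Cx.tensor (B.core δ) (B'.core δ)).Zsub
        (coreKT B B' mR mS δ) (a + b + 1)),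
      v = kunZ B B' mR mS δ a b u + w ∧
      w.1 ∈ (Cx.tensor (B.core δ) (B'.core δ)).Bsub (coreKT B B' mR mS δ) (a + b + 1) := by
  obtain ⟨x, hx⟩ := hsurj (Submodule.Quotient.mk v)
  obtain ⟨u, rfl⟩ := qZ_surjective B B' mR mS δ a b x
  rw [kunC_qZ] at hx
  refine ⟨u, v - kunZ B B' mR mS δ a b u, by abel, ?_⟩
  have := (Submodule.Quotient.eq _).mp hx.symm
  exact this

theorem qZ_eq_zero_of_kunZ_mem (δ : ℤ) (a b : ℕ)
    (hinj : Function.Injective (kunC B B' mR mS δ a b)) (u : ZZ B B' mR mS δ a b)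
    (h : (kunZ B B' mR mS δ a b u).1 ∈
      (Cx.tensor (B.core δ) (B'.core δ)).Bsub (coreKT B B' mR mS δ) (a + b + 1)) :
    qZ B B' mR mS δ a b u = 0 := by
  apply hinj
  rw [kunC_qZ, map_zero]
  exact (Submodule.Quotient.mk_eq_zero _).mpr h

theorem kunZ_mem_of_qZ_eq_zero (δ : ℤ) (a b : ℕ) (u : ZZ B B' mR mS δ a b)
    (h : qZ B B' mR mS δ a b u = 0) :
    (kunZ B B' mR mS δ a b u).1 ∈
      (Cx.tensor (B.core δ) (B'.core δ)).Bsub (coreKT B B' mR mS δ) (a + b + 1) := by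
  have h1 := kunC_qZ B B' mR mS δ a b u
  rw [h, map_zero] at h1
  have h2 : kunZ B B' mR mS δ a b u ∈
      ((Cx.tensor (B.core δ) (B'.core δ)).Bsub (coreKT B B' mR mS δ) (a + b + 1)).comap
        ((Cx.tensor (B.core δ) (B'.core δ)).Zsub (coreKT B B' mR mS δ) (a + b + 1)).subtype :=
    (Submodule.Quotient.mk_eq_zero _).mp h1.symm
  exact h2


/-- the class map on relative cohomology of the core -/
noncomputable def relHq (δ : ℤ) (j : ℕ) [Module k (E.H mR (j + 1 + 1))]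
    [IsScalarTower k R (E.H mR (j + 1 + 1))] :
    (B.core δ).toPCx.Hrel (B.coreK mR.toIdeal δ) (j + 1) →ₗ[k] E.H mR (j + 1 + 1) :=
  Submodule.liftQ _ (B.relH mR δ (j + 1)) (fun y hy =>
    LinearMap.mem_ker.mpr ((B.relH_eq_zero_iff mR δ j y).mpr hy))

theorem relHq_mk (δ : ℤ) (j : ℕ) [Module k (E.H mR (j + 1 + 1))]
    [IsScalarTower k R (E.H mR (j + 1 + 1))]
    (y : ↥((B.core δ).toPCx.Zrel (B.coreK mR.toIdeal δ) (j + 1))) :
    relHq B mR δ j (Submodule.Quotient.mk y) = B.relH mR δ (j + 1) y := rfl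

theorem relHq_injective (δ : ℤ) (j : ℕ) [Module k (E.H mR (j + 1 + 1))]
    [IsScalarTower k R (E.H mR (j + 1 + 1))] : Function.Injective (relHq B mR δ j) := by
  rw [← LinearMap.ker_eq_bot]
  unfold relHq
  rw [Submodule.ker_liftQ_eq_bot]
  intro y hy
  exact (B.relH_eq_zero_iff mR δ j y).mp (LinearMap.mem_ker.mp hy)

variable (a b : ℕ)
  [Module k (E.H mR (a + 1 + 1))] [IsScalarTower k R (E.H mR (a + 1 + 1))]
  [Module k (E'.H mS (b + 1 + 1))] [IsScalarTower k S (E'.H mS (b + 1 + 1))]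

/-- the class map on tensors of relative cocycles -/
noncomputable def ΛZ (δ : ℤ) : ZZ B B' mR mS δ (a + 1) (b + 1) →ₗ[k]
    E.H mR (a + 1 + 1) ⊗[k] E'.H mS (b + 1 + 1) :=
  TensorProduct.map (B.relH mR δ (a + 1)) (B'.relH mS δ (b + 1))

theorem ΛZ_tmul (δ : ℤ) (y : ↥((B.core δ).toPCx.Zrel (B.coreK mR.toIdeal δ) (a + 1)))
    (y' : ↥((B'.core δ).toPCx.Zrel (B'.coreK mS.toIdeal δ) (b + 1))) :
    ΛZ B B' mR mS a b δ (y ⊗ₜ[k] y') = B.relH mR δ (a + 1) y ⊗ₜ[k] B'.relH mS δ (b + 1) y' := rfl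

theorem ΛZ_eq (δ : ℤ) (u : ZZ B B' mR mS δ (a + 1) (b + 1)) :
    ΛZ B B' mR mS a b δ u =
      TensorProduct.map (relHq B mR δ a) (relHq B' mS δ b) (qZ B B' mR mS δ (a + 1) (b + 1) u) := by
  induction u using TensorProduct.induction_on with
  | zero => rw [map_zero, map_zero, map_zero]
  | tmul y y' => rfl
  | add u v hu hv => rw [map_add, map_add, map_add, hu, hv]

theorem ΛZ_eq_zero_iff (δ : ℤ) (u : ZZ B B' mR mS δ (a + 1) (b + 1)) :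
    ΛZ B B' mR mS a b δ u = 0 ↔ qZ B B' mR mS δ (a + 1) (b + 1) u = 0 := by
  rw [ΛZ_eq]
  constructor
  · intro h
    have hinj : Function.Injective (TensorProduct.map (relHq B mR δ a) (relHq B' mS δ b)) :=
      TensorProduct.map_injective_of_flat_flat _ _ (relHq_injective B mR δ a)
        (relHq_injective B' mS δ b)
    apply hinj
    rw [h, map_zero]
  · intro h
    rw [h, map_zero]

theorem ΛZ_mem (δ : ℤ) (u : ZZ B B' mR mS δ (a + 1) (b + 1)) :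
    ΛZ B B' mR mS a b δ u ∈
      GrSeg.segrePiece k (E.Hgr mR (a + 1 + 1)) (E'.Hgr mS (b + 1 + 1)) δ := by
  induction u using TensorProduct.induction_on with
  | zero => rw [map_zero]; exact zero_mem _
  | tmul y y' =>
    rw [ΛZ_tmul]
    exact Submodule.subset_span ⟨_, B.relH_mem mR δ (a + 1) y, _, B'.relH_mem mS δ (b + 1) y', rfl⟩
  | add u v hu hv => rw [map_add]; exact add_mem hu hv

/-- the action of a bihomogeneous element of `R ⊗ S` on tensors of relative cocycles -/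
theorem exists_act (δ e : ℤ) (z : R ⊗[k] S) (hz : z ∈ GrSeg.segrePiece k 𝒜 ℬ e)
    (u : ZZ B B' mR mS δ (a + 1) (b + 1)) :
    ∃ u' : ZZ B B' mR mS (e + δ) (a + 1) (b + 1),
      inclZ B B' mR mS (e + δ) (a + 1) (b + 1) u' =
        GrSeg.act k R S 𝕏 𝕐 z (inclZ B B' mR mS δ (a + 1) (b + 1) u) ∧
      ΛZ B B' mR mS a b (e + δ) u' =
        GrSeg.act k R S (E.H mR (a + 1 + 1)) (E'.H mS (b + 1 + 1)) z (ΛZ B B' mR mS a b δ u) := by
  induction hz using Submodule.span_induction with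
  | mem z hz =>
    obtain ⟨r, hr, s, hs, rfl⟩ := hz
    refine ⟨TensorProduct.map (B.mulZ mR δ e r hr (a + 1)) (B'.mulZ mS δ e s hs (b + 1)) u, ?_, ?_⟩
    · induction u using TensorProduct.induction_on with
      | zero => simp only [map_zero]
      | tmul y y' =>
        rw [TensorProduct.map_tmul, inclZ_tmul, inclZ_tmul, GrSeg.act_tmul,
          Big.coe_mulZ, Big.coe_mulZ]
      | add u v hu hv => simp only [map_add, hu, hv]
    · induction u using TensorProduct.induction_on with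
      | zero => simp only [map_zero]
      | tmul y y' =>
        rw [TensorProduct.map_tmul, ΛZ_tmul, ΛZ_tmul, GrSeg.act_tmul, Big.relH_mulZ,
          Big.relH_mulZ]
      | add u v hu hv => simp only [map_add, hu, hv]
  | zero =>
    refine ⟨0, ?_, ?_⟩
    · simp only [map_zero, LinearMap.zero_apply]
    · simp only [map_zero, LinearMap.zero_apply]
  | add z z' _ _ hz hz' =>
    obtain ⟨u₁, h1, h1'⟩ := hz
    obtain ⟨u₂, h2, h2'⟩ := hz'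
    refine ⟨u₁ + u₂, ?_, ?_⟩
    · simp only [map_add, LinearMap.add_apply, h1, h2]
    · simp only [map_add, LinearMap.add_apply, h1', h2']
  | smul c z _ hz =>
    obtain ⟨u₁, h1, h1'⟩ := hz
    refine ⟨c • u₁, ?_, ?_⟩
    · simp only [map_smul, LinearMap.smul_apply, h1]
    · simp only [map_smul, LinearMap.smul_apply, h1']


variable {P : Type u} [AddCommGroup P] [Module T P] [Module k P] [IsScalarTower k T P]
  {𝒬 : ℤ → AddSubgroup P} [DirectSum.Decomposition 𝒬] [SetLike.GradedSMul 𝒯 𝒬]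
  {φ : P →ₗ[k] M ⊗[k] N} (hP : GrSeg.IsSegreMod ψ ℳ 𝒩 𝒬 φ)
variable
  (hmR : mR.toIdeal = Ideal.span (⋃ n ∈ Set.Ioi (0 : ℤ), (𝒜 n : Set R)))
  (hmS : mS.toIdeal = Ideal.span (⋃ n ∈ Set.Ioi (0 : ℤ), (ℬ n : Set S)))
  (mT : HomogeneousIdeal 𝒯)
  (hmT : mT.toIdeal = Ideal.span (⋃ n ∈ Set.Ioi (0 : ℤ), (𝒯 n : Set T)))
variable [IsNoetherianRing R] [IsNoetherianRing S] [IsNoetherianRing T]
  [SetLike.GradedSMul (toAdd 𝒯) 𝒬]
variable (EP : GrLC.StarInjRes 𝒯 𝒬)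
variable (Φ : ↥((totRes 𝒯 ψ hT B B' hP mR hmR mS hmS mT hmT).cocyc (a + 1 + (b + 1) + 1)) →ₗ[T]
  EP.H mT (a + 1 + (b + 1) + 1))

/-- the Künneth class of a tensor of relative cocycles -/
noncomputable def ΩZ (δ : ℤ) : ZZ B B' mR mS δ (a + 1) (b + 1) →+ EP.H mT (a + 1 + (b + 1) + 1) :=
  AddMonoidHom.mk' (fun u => Φ (czT 𝒯 ψ hT B B' hP mR hmR mS hmS mT hmT δ (a + 1 + (b + 1) + 1)
    (kunZ B B' mR mS δ (a + 1) (b + 1) u)))
    (fun u v => by rw [map_add, czT_add, map_add])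

theorem ΩZ_apply (δ : ℤ) (u : ZZ B B' mR mS δ (a + 1) (b + 1)) :
    ΩZ 𝒯 ψ hT B B' mR mS a b hP hmR hmS mT hmT EP Φ δ u =
      Φ (czT 𝒯 ψ hT B B' hP mR hmR mS hmS mT hmT δ (a + 1 + (b + 1) + 1)
        (kunZ B B' mR mS δ (a + 1) (b + 1) u)) := rfl

variable (hΦ : TComp 𝒯 ψ hT B B' hP mR hmR mS hmS mT hmT EP (a + 1 + (b + 1) + 1) Φ)

include hΦ in
theorem ΩZ_mem (δ : ℤ) (u : ZZ B B' mR mS δ (a + 1) (b + 1)) :
    ΩZ 𝒯 ψ hT B B' mR mS a b hP hmR hmS mT hmT EP Φ δ u ∈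
      EP.Hcomp mT (a + 1 + (b + 1) + 1) δ :=
  hΦ.czT_mem δ _

include hΦ in
theorem ΩZ_eq_zero_iff (δ : ℤ) (hinj : Function.Injective (kunC B B' mR mS δ (a + 1) (b + 1)))
    (u : ZZ B B' mR mS δ (a + 1) (b + 1)) :
    ΩZ 𝒯 ψ hT B B' mR mS a b hP hmR hmS mT hmT EP Φ δ u = 0 ↔
      qZ B B' mR mS δ (a + 1) (b + 1) u = 0 := by
  rw [ΩZ_apply, hΦ.czT_eq_zero_iff]
  exact ⟨qZ_eq_zero_of_kunZ_mem B B' mR mS δ (a + 1) (b + 1) hinj u,
    kunZ_mem_of_qZ_eq_zero B B' mR mS δ (a + 1) (b + 1) u⟩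

/-- **the degreewise Künneth relation** -/
def KRel (δ : ℤ) (h : EP.H mT (a + 1 + (b + 1) + 1))
    (g : E.H mR (a + 1 + 1) ⊗[k] E'.H mS (b + 1 + 1)) : Prop :=
  ∃ u : ZZ B B' mR mS δ (a + 1) (b + 1),
    ΩZ 𝒯 ψ hT B B' mR mS a b hP hmR hmS mT hmT EP Φ δ u = h ∧ ΛZ B B' mR mS a b δ u = g

variable {𝒯 ψ hT B B' mR mS a b hP hmR hmS mT hmT EP Φ}

include hΦ in
theorem KRel.mem {δ : ℤ} {h : EP.H mT (a + 1 + (b + 1) + 1)}
    {g : E.H mR (a + 1 + 1) ⊗[k] E'.H mS (b + 1 + 1)}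
    (hr : KRel 𝒯 ψ hT B B' mR mS a b hP hmR hmS mT hmT EP Φ δ h g) :
    h ∈ EP.Hcomp mT (a + 1 + (b + 1) + 1) δ := by
  obtain ⟨u, rfl, -⟩ := hr
  exact ΩZ_mem 𝒯 ψ hT B B' mR mS a b hP hmR hmS mT hmT EP Φ hΦ δ u

theorem KRel.img {δ : ℤ} {h : EP.H mT (a + 1 + (b + 1) + 1)}
    {g : E.H mR (a + 1 + 1) ⊗[k] E'.H mS (b + 1 + 1)}
    (hr : KRel 𝒯 ψ hT B B' mR mS a b hP hmR hmS mT hmT EP Φ δ h g) :
    g ∈ GrSeg.segrePiece k (E.Hgr mR (a + 1 + 1)) (E'.Hgr mS (b + 1 + 1)) δ := by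
  obtain ⟨u, -, rfl⟩ := hr
  exact ΛZ_mem B B' mR mS a b δ u

theorem KRel.add {δ : ℤ} {h h' : EP.H mT (a + 1 + (b + 1) + 1)}
    {g g' : E.H mR (a + 1 + 1) ⊗[k] E'.H mS (b + 1 + 1)}
    (hr : KRel 𝒯 ψ hT B B' mR mS a b hP hmR hmS mT hmT EP Φ δ h g)
    (hr' : KRel 𝒯 ψ hT B B' mR mS a b hP hmR hmS mT hmT EP Φ δ h' g') :
    KRel 𝒯 ψ hT B B' mR mS a b hP hmR hmS mT hmT EP Φ δ (h + h') (g + g') := by
  obtain ⟨u, rfl, rfl⟩ := hr
  obtain ⟨u', rfl, rfl⟩ := hr'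
  exact ⟨u + u', map_add _ _ _, map_add _ _ _⟩

include hΦ in
theorem KRel.uniq {δ : ℤ} (hinj : Function.Injective (kunC B B' mR mS δ (a + 1) (b + 1)))
    {h : EP.H mT (a + 1 + (b + 1) + 1)}
    {g g' : E.H mR (a + 1 + 1) ⊗[k] E'.H mS (b + 1 + 1)}
    (hr : KRel 𝒯 ψ hT B B' mR mS a b hP hmR hmS mT hmT EP Φ δ h g)
    (hr' : KRel 𝒯 ψ hT B B' mR mS a b hP hmR hmS mT hmT EP Φ δ h g') : g = g' := by
  obtain ⟨u, rfl, rfl⟩ := hr
  obtain ⟨u', hu', rfl⟩ := hr'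
  have h1 : ΩZ 𝒯 ψ hT B B' mR mS a b hP hmR hmS mT hmT EP Φ δ (u - u') = 0 := by
    rw [map_sub, hu', sub_self]
  rw [ΩZ_eq_zero_iff 𝒯 ψ hT B B' mR mS a b hP hmR hmS mT hmT EP Φ hΦ δ hinj,
    ← ΛZ_eq_zero_iff, map_sub, sub_eq_zero] at h1
  exact h1

include hΦ in
theorem KRel.uniq' {δ : ℤ} (hinj : Function.Injective (kunC B B' mR mS δ (a + 1) (b + 1)))
    {h h' : EP.H mT (a + 1 + (b + 1) + 1)}
    {g : E.H mR (a + 1 + 1) ⊗[k] E'.H mS (b + 1 + 1)}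
    (hr : KRel 𝒯 ψ hT B B' mR mS a b hP hmR hmS mT hmT EP Φ δ h g)
    (hr' : KRel 𝒯 ψ hT B B' mR mS a b hP hmR hmS mT hmT EP Φ δ h' g) : h = h' := by
  obtain ⟨u, rfl, rfl⟩ := hr
  obtain ⟨u', rfl, hu'⟩ := hr'
  have h1 : ΛZ B B' mR mS a b δ (u - u') = 0 := by
    rw [map_sub, hu', sub_self]
  rw [ΛZ_eq_zero_iff, ← ΩZ_eq_zero_iff 𝒯 ψ hT B B' mR mS a b hP hmR hmS mT hmT EP Φ hΦ δ hinj,
    map_sub, sub_eq_zero] at h1
  exact h1

include hΦ in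
theorem KRel.exists_of_mem {δ : ℤ}
    (hsurj : Function.Surjective (kunC B B' mR mS δ (a + 1) (b + 1)))
    {h : EP.H mT (a + 1 + (b + 1) + 1)} (hh : h ∈ EP.Hcomp mT (a + 1 + (b + 1) + 1) δ) :
    ∃ g, KRel 𝒯 ψ hT B B' mR mS a b hP hmR hmS mT hmT EP Φ δ h g := by
  obtain ⟨v, rfl⟩ := hΦ.czT_surj δ h hh
  obtain ⟨u, w, rfl, hw⟩ := exists_kunZ_sub_mem B B' mR mS δ (a + 1) (b + 1) hsurj v
  refine ⟨_, u, ?_, rfl⟩
  rw [ΩZ_apply, czT_add, map_add, (hΦ.czT_eq_zero_iff δ w).mpr hw, add_zero]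

theorem KRel.pure {δ : ℤ} {x : E.H mR (a + 1 + 1)} (hx : x ∈ E.Hcomp mR (a + 1 + 1) δ)
    {y : E'.H mS (b + 1 + 1)} (hy : y ∈ E'.Hcomp mS (b + 1 + 1) δ) :
    ∃ h, KRel 𝒯 ψ hT B B' mR mS a b hP hmR hmS mT hmT EP Φ δ h (x ⊗ₜ[k] y) := by
  obtain ⟨z, rfl⟩ := B.relH_surj mR δ (a + 1) x hx
  obtain ⟨z', rfl⟩ := B'.relH_surj mS δ (b + 1) y hy
  exact ⟨_, z ⊗ₜ[k] z', rfl, rfl⟩

theorem KRel.smul {δ e : ℤ} {t : T} (ht : t ∈ 𝒯 e) {h : EP.H mT (a + 1 + (b + 1) + 1)}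
    {g : E.H mR (a + 1 + 1) ⊗[k] E'.H mS (b + 1 + 1)}
    (hr : KRel 𝒯 ψ hT B B' mR mS a b hP hmR hmS mT hmT EP Φ δ h g) :
    KRel 𝒯 ψ hT B B' mR mS a b hP hmR hmS mT hmT EP Φ (e + δ) (t • h)
      (GrSeg.act k R S (E.H mR (a + 1 + 1)) (E'.H mS (b + 1 + 1)) (ψ t) g) := by
  obtain ⟨u, rfl, rfl⟩ := hr
  have hz : ψ t ∈ GrSeg.segrePiece k 𝒜 ℬ e := by
    rw [← hT.2 e]
    exact ⟨t, ht, rfl⟩
  obtain ⟨u', h1, h2⟩ := exists_act B B' mR mS a b δ e (ψ t) hz u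
  refine ⟨u', ?_, h2⟩
  rw [ΩZ_apply, ΩZ_apply, ← map_smul]
  congr 1
  symm
  apply smul_czT
  rw [coe_kunZ, coe_kunZ]
  change inclC B B' (e + δ) (Cx.D (B.core (e + δ)) (B'.core (e + δ))
    (ιZ B B' mR mS (e + δ) (a + 1) (b + 1) u')) =
    actT ψ t (inclC B B' δ (Cx.D (B.core δ) (B'.core δ) (ιZ B B' mR mS δ (a + 1) (b + 1) u)))
  calc inclC B B' (e + δ) (Cx.D (B.core (e + δ)) (B'.core (e + δ))
        (ιZ B B' mR mS (e + δ) (a + 1) (b + 1) u'))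
      = DD B B' (inclC B B' (e + δ) (ιZ B B' mR mS (e + δ) (a + 1) (b + 1) u')) :=
        (DD_inclC B B' (e + δ) _).symm
    _ = DD B B' (actT ψ t (inclC B B' δ (ιZ B B' mR mS δ (a + 1) (b + 1) u))) :=
        congrArg (DD B B') h1
    _ = actT ψ t (DD B B' (inclC B B' δ (ιZ B B' mR mS δ (a + 1) (b + 1) u))) :=
        DD_actT ψ B B' t _
    _ = actT ψ t (inclC B B' δ (Cx.D (B.core δ) (B'.core δ)
          (ιZ B B' mR mS δ (a + 1) (b + 1) u))) :=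
        congrArg (actT ψ t) (DD_inclC B B' δ _)

end Res

end Seg

end Groth.Agent.H6
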