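import Groth.Agent.Lib.Helper6.SegKT3

/-! Assembly of the degreewise Künneth relation into a `T`-linear map. -/

universe u
open DirectSum TensorProduct
set_option linter.unusedSectionVars false

namespace Groth.Agent.H6

namespace Seg

open SegLA ToAdd

section Assemble

variable {k : Type u} [Field k] {T : Type u} [CommRing T] [Algebra k T]
  (𝒯 : ℤ → Submodule k T) [GradedAlgebra 𝒯]
variable {H : Type u} [AddCommGroup H] [Module T H] (ℋ : ℤ → AddSubgroup H)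
  [DirectSum.Decomposition ℋ]
variable {G : Type u} [AddCommGroup G]

/-- a `T`-equivariant additive map assembled from a degreewise functional relation -/
theorem exists_assemble (actG : T →+ G →+ G)
    (Rel : ℤ → H → G → Prop)
    (hex : ∀ δ, ∀ h ∈ ℋ δ, ∃ g, Rel δ h g)
    (huniq : ∀ δ h g g', Rel δ h g → Rel δ h g' → g = g')
    (hadd : ∀ δ h h' g g', Rel δ h g → Rel δ h' g' → Rel δ (h + h') (g + g'))
    (hmem : ∀ δ h g, Rel δ h g → h ∈ ℋ δ)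
    (hsmul : ∀ e δ t h g, t ∈ 𝒯 e → Rel δ h g → Rel (e + δ) (t • h) (actG t g)) :
    ∃ Ξ : H →+ G, (∀ δ, ∀ h ∈ ℋ δ, Rel δ h (Ξ h)) ∧ ∀ t h, Ξ (t • h) = actG t (Ξ h) := by
  choose c hc using hex
  let γ : ∀ δ : ℤ, ℋ δ →+ G := fun δ =>
    AddMonoidHom.mk' (fun h => c δ h.1 h.2) (fun h h' =>
      huniq δ (h.1 + h'.1) _ _ (hc δ _ (add_mem h.2 h'.2)) (hadd δ _ _ _ _ (hc δ _ h.2) (hc δ _ h'.2)))
  let Ξ : H →+ G := (DirectSum.toAddMonoid γ).comp (DirectSum.decomposeAddEquiv ℋ).toAddMonoidHom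
  have hΞ : ∀ δ (h : H) (hh : h ∈ ℋ δ), Ξ h = c δ h hh := by
    intro δ h hh
    change DirectSum.toAddMonoid γ (DirectSum.decompose ℋ h) = _
    rw [DirectSum.decompose_of_mem ℋ hh, DirectSum.toAddMonoid_of]
    rfl
  have hrel : ∀ δ (h : H), h ∈ ℋ δ → Rel δ h (Ξ h) := by
    intro δ h hh
    rw [hΞ δ h hh]
    exact hc δ h hh
  refine ⟨Ξ, hrel, ?_⟩
  intro t h
  induction t using DirectSum.Decomposition.inductionOn 𝒯 with
  | zero => rw [zero_smul, map_zero, map_zero, AddMonoidHom.zero_apply]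
  | homogeneous t =>
    rename_i e
    induction h using DirectSum.Decomposition.inductionOn ℋ with
    | zero => rw [smul_zero, map_zero, map_zero]
    | homogeneous h =>
      rename_i δ
      have h1 := hsmul e δ t.1 h.1 _ t.2 (hrel δ h.1 h.2)
      have h2 := hrel (e + δ) (t.1 • h.1) (hmem _ _ _ h1)
      exact huniq _ _ _ _ h2 h1
    | add h h' ih ih' => rw [smul_add, map_add, map_add, map_add, ih, ih']
  | add t t' ih ih' => rw [add_smul, map_add, map_add, AddMonoidHom.add_apply, ih, ih']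

end Assemble

section Res

variable {k : Type u} [Field k] {R S T : Type u} [CommRing R] [CommRing S] [CommRing T]
  [Algebra k R] [Algebra k S] [Algebra k T]
  {𝒜 : ℤ → Submodule k R} [GradedAlgebra 𝒜] {ℬ : ℤ → Submodule k S} [GradedAlgebra ℬ]
  (𝒯 : ℤ → Submodule k T) [GradedAlgebra 𝒯]
  (ψ : T →ₐ[k] R ⊗[k] S) (hT : GrSeg.IsSegreRing 𝒜 ℬ 𝒯 ψ)
  [GradedRing (toAdd 𝒜)] [GradedRing (toAdd ℬ)] [GradedRing (toAdd 𝒯)]
variable {M : Type u} [AddCommGroup M] [Module R M] [Module k M] [IsScalarTower k R M]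
  {ℳ : ℤ → AddSubgroup M}
  [DirectSum.Decomposition ℳ] [SetLike.GradedSMul 𝒜 ℳ] {E : GrLC.StarInjRes 𝒜 ℳ}
variable {𝕏 : Type u} [AddCommGroup 𝕏] [Module R 𝕏] [Module k 𝕏] [IsScalarTower k R 𝕏]
  {𝒳 : ℤ → AddSubgroup 𝕏} [DirectSum.Decomposition 𝒳] [SetLike.GradedSMul 𝒜 𝒳]
  (B : Big 𝒜 E 𝒳)
variable {N : Type u} [AddCommGroup N] [Module S N] [Module k N] [IsScalarTower k S N]
  {𝒩 : ℤ → AddSubgroup N}
  [DirectSum.Decomposition 𝒩] [SetLike.GradedSMul ℬ 𝒩] {E' : GrLC.StarInjRes ℬ 𝒩}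
variable {𝕐 : Type u} [AddCommGroup 𝕐] [Module S 𝕐] [Module k 𝕐] [IsScalarTower k S 𝕐]
  {𝒴 : ℤ → AddSubgroup 𝕐} [DirectSum.Decomposition 𝒴] [SetLike.GradedSMul ℬ 𝒴]
  (B' : Big ℬ E' 𝒴)
variable {P : Type u} [AddCommGroup P] [Module T P] [Module k P] [IsScalarTower k T P]
  {𝒬 : ℤ → AddSubgroup P} [DirectSum.Decomposition 𝒬] [SetLike.GradedSMul 𝒯 𝒬]
  {φ : P →ₗ[k] M ⊗[k] N} (hP : GrSeg.IsSegreMod ψ ℳ 𝒩 𝒬 φ)
variable (mR : HomogeneousIdeal 𝒜)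
  (hmR : mR.toIdeal = Ideal.span (⋃ n ∈ Set.Ioi (0 : ℤ), (𝒜 n : Set R)))
  (mS : HomogeneousIdeal ℬ)
  (hmS : mS.toIdeal = Ideal.span (⋃ n ∈ Set.Ioi (0 : ℤ), (ℬ n : Set S)))
  (mT : HomogeneousIdeal 𝒯)
  (hmT : mT.toIdeal = Ideal.span (⋃ n ∈ Set.Ioi (0 : ℤ), (𝒯 n : Set T)))
variable [IsNoetherianRing R] [IsNoetherianRing S] [IsNoetherianRing T]
  [SetLike.GradedSMul (toAdd 𝒯) 𝒬]
variable (EP : GrLC.StarInjRes 𝒯 𝒬)

include B B' hT hmR hmS hmT hP in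
/-- the Künneth map of the cores in the top degree is bijective -/
theorem kunC_bijective_top [Nontrivial R] [Nontrivial S] [Nontrivial T]
    (h0R : 𝒜 0 = Submodule.span k {(1 : R)}) (h0S : ℬ 0 = Submodule.span k {(1 : S)})
    (h0T : 𝒯 0 = Submodule.span k {(1 : T)}) (a b : ℕ) (d : ℤ)
    (hvM : ∀ i, a + 1 + 1 < i → E.Hcomp mR i d = ⊥)
    (hvN : ∀ i, b + 1 + 1 < i → E'.Hcomp mS i d = ⊥)
    (hfMH : ∀ i, Module.Finite (GrLC.deg0 𝒜) ↥(E.Hcomp mR i d))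
    (hfNH : ∀ i, Module.Finite (GrLC.deg0 ℬ) ↥(E'.Hcomp mS i d))
    (hfPH : Module.Finite (GrLC.deg0 𝒯) ↥(EP.Hcomp mT (a + 1 + (b + 1) + 1) d)) :
    Function.Bijective (kunC B B' mR mS d (a + 1) (b + 1)) := by
  haveI := B.finite_Hrel_succ mR h0R d a (hfMH (a + 2))
  haveI := B'.finite_Hrel_succ mS h0S d b (hfNH (b + 2))
  haveI : Module.Finite k ((Cx.tensor (B.core d) (B'.core d)).Hsub
      (KT (B.core d) (B.coreK mR.toIdeal d) (B.coreK_prk mR.toIdeal d) (B.coreK_d mR.toIdeal d)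
        (B'.core d) (B'.coreK mS.toIdeal d) (B'.coreK_prk mS.toIdeal d)
        (B'.coreK_d mS.toIdeal d)) (a + 1 + (b + 1) + 1)) := by
    obtain ⟨θ, hθ⟩ := exists_semilinear_tot 𝒯 ψ hT B B' hP mR hmR mS hmS mT hmT EP d
      (a + 1 + (b + 1) + 1)
    exact (finite_iff_of_semilinear 𝒯 h0T θ hθ).mpr hfPH
  refine kunneth_bijective _ _ _ _ _ _ _ _ (B.core_exactAt d) (B'.core_exactAt d) (a + 1) (b + 1)
    (by omega) ?_
  have h1 := finrank_Hsub_tot 𝒯 ψ hT B B' hP mR hmR mS hmS mT hmT EP h0T d (a + 1 + (b + 1) + 1)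
  have h2 := finrank_Hcomp_tot_top 𝒯 ψ hT B B' hP mR hmR mS hmS mT hmT EP h0R h0S h0T
    (a + 1 + 1) (b + 1 + 1) (by omega) (by omega) d hvM hvN hfMH hfNH
  have e1 : a + 1 + 1 + (b + 1 + 1) - 1 = a + 1 + (b + 1) + 1 := by omega
  rw [e1] at h2
  rw [B.finrank_Hrel_succ mR h0R d a, B'.finrank_Hrel_succ mS h0S d b, ← h2, ← h1]
  rfl


/-- the action of `T` on a tensor product, as a biadditive map -/
noncomputable def actAdd {X : Type u} [AddCommGroup X] [Module R X] [Module k X]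
    [IsScalarTower k R X] {Y : Type u} [AddCommGroup Y] [Module S Y] [Module k Y]
    [IsScalarTower k S Y] : T →+ (X ⊗[k] Y) →+ (X ⊗[k] Y) :=
  AddMonoidHom.mk' (fun t => (GrSeg.act k R S X Y (ψ t)).toAddMonoidHom) (fun t t' => by
    ext g
    change GrSeg.act k R S X Y (ψ (t + t')) g =
      GrSeg.act k R S X Y (ψ t) g + GrSeg.act k R S X Y (ψ t') g
    rw [map_add, map_add, LinearMap.add_apply])

theorem actAdd_apply {X : Type u} [AddCommGroup X] [Module R X] [Module k X]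
    [IsScalarTower k R X] {Y : Type u} [AddCommGroup Y] [Module S Y] [Module k Y]
    [IsScalarTower k S Y] (t : T) (g : X ⊗[k] Y) :
    actAdd ψ (X := X) (Y := Y) t g = GrSeg.act k R S X Y (ψ t) g := rfl

set_option maxHeartbeats 1600000 in
include B B' hT hmR hmS hmT hP in
/-- **the `T`-linear Künneth map in the top degree** -/
theorem exists_kunneth_top_map [Nontrivial R] [Nontrivial S] [Nontrivial T]
    (h0R : 𝒜 0 = Submodule.span k {(1 : R)}) (h0S : ℬ 0 = Submodule.span k {(1 : S)})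
    (h0T : 𝒯 0 = Submodule.span k {(1 : T)}) (a b : ℕ)
    [Module k (E.H mR (a + 1 + 1))] [IsScalarTower k R (E.H mR (a + 1 + 1))]
    [Module k (E'.H mS (b + 1 + 1))] [IsScalarTower k S (E'.H mS (b + 1 + 1))]
    [Module k (EP.H mT (a + 1 + (b + 1) + 1))] [IsScalarTower k T (EP.H mT (a + 1 + (b + 1) + 1))]
    (hvM : ∀ d i, a + 1 + 1 < i → E.Hcomp mR i d = ⊥)
    (hvN : ∀ d i, b + 1 + 1 < i → E'.Hcomp mS i d = ⊥)
    (hfMH : ∀ d i, Module.Finite (GrLC.deg0 𝒜) ↥(E.Hcomp mR i d))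
    (hfNH : ∀ d i, Module.Finite (GrLC.deg0 ℬ) ↥(E'.Hcomp mS i d))
    (hfPH : ∀ d, Module.Finite (GrLC.deg0 𝒯) ↥(EP.Hcomp mT (a + 1 + (b + 1) + 1) d)) :
    ∃ Ξ : EP.H mT (a + 1 + (b + 1) + 1) →ₗ[k] E.H mR (a + 1 + 1) ⊗[k] E'.H mS (b + 1 + 1),
      (∀ t h, Ξ (t • h) =
        GrSeg.act k R S (E.H mR (a + 1 + 1)) (E'.H mS (b + 1 + 1)) (ψ t) (Ξ h)) ∧
      (∀ d h, h ∈ EP.Hcomp mT (a + 1 + (b + 1) + 1) d →
        Ξ h ∈ GrSeg.segrePiece k (E.Hgr mR (a + 1 + 1)) (E'.Hgr mS (b + 1 + 1)) d) ∧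
      (∀ d x y, x ∈ E.Hcomp mR (a + 1 + 1) d → y ∈ E'.Hcomp mS (b + 1 + 1) d →
        ∃ h ∈ EP.Hcomp mT (a + 1 + (b + 1) + 1) d, Ξ h = x ⊗ₜ[k] y) ∧
      (∀ d h, h ∈ EP.Hcomp mT (a + 1 + (b + 1) + 1) d → Ξ h = 0 → h = 0) := by
  obtain ⟨Φ, hΦ⟩ := exists_TComp 𝒯 ψ hT B B' hP mR hmR mS hmS mT hmT EP (a + 1 + (b + 1) + 1)
  have hbij : ∀ d, Function.Bijective (kunC B B' mR mS d (a + 1) (b + 1)) := fun d =>
    kunC_bijective_top 𝒯 ψ hT B B' hP mR hmR mS hmS mT hmT EP h0R h0S h0T a b d (hvM d) (hvN d)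
      (hfMH d) (hfNH d) (hfPH d)
  letI : DirectSum.Decomposition (EP.Hgr mT (a + 1 + (b + 1) + 1)) :=
    (Gr.isInternal_Hgr (toAdd 𝒯) 𝒬 (resToM 𝒯 EP) (idealTo 𝒯 mT)
      (a + 1 + (b + 1) + 1)).chooseDecomposition
  obtain ⟨Ξ₀, hrel, hlin⟩ := exists_assemble 𝒯 (EP.Hgr mT (a + 1 + (b + 1) + 1))
    (actAdd ψ (X := E.H mR (a + 1 + 1)) (Y := E'.H mS (b + 1 + 1)))
    (KRel 𝒯 ψ hT B B' mR mS a b hP hmR hmS mT hmT EP Φ)
    (fun d h hh => KRel.exists_of_mem hΦ (hbij d).2 hh)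
    (fun d h g g' hr hr' => KRel.uniq hΦ (hbij d).1 hr hr')
    (fun d h h' g g' hr hr' => KRel.add hr hr')
    (fun d h g hr => KRel.mem hΦ hr)
    (fun e d t h g ht hr => KRel.smul ht hr)
  have hsm : ∀ (c : k) (h : EP.H mT (a + 1 + (b + 1) + 1)), Ξ₀ (c • h) = c • Ξ₀ h := by
    intro c h
    have e1 : c • h = algebraMap k T c • h := (algebraMap_smul T c h).symm
    have e2 : ψ (algebraMap k T c) = c • (1 : R ⊗[k] S) := by
      rw [AlgHom.commutes, Algebra.algebraMap_eq_smul_one]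
    have e3 : GrSeg.act k R S (E.H mR (a + 1 + 1)) (E'.H mS (b + 1 + 1)) (c • (1 : R ⊗[k] S)) =
        c • GrSeg.act k R S (E.H mR (a + 1 + 1)) (E'.H mS (b + 1 + 1)) 1 :=
      LinearMap.map_smul _ c 1
    have e4 : (c • GrSeg.act k R S (E.H mR (a + 1 + 1)) (E'.H mS (b + 1 + 1)) 1) (Ξ₀ h) =
        c • (GrSeg.act k R S (E.H mR (a + 1 + 1)) (E'.H mS (b + 1 + 1)) 1 (Ξ₀ h)) := rfl
    rw [e1, hlin, actAdd_apply, e2, e3, e4, act_one]
  let Ξ : EP.H mT (a + 1 + (b + 1) + 1) →ₗ[k] E.H mR (a + 1 + 1) ⊗[k] E'.H mS (b + 1 + 1) :=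
    { toFun := Ξ₀
      map_add' := map_add Ξ₀
      map_smul' := hsm }
  refine ⟨Ξ, fun t h => hlin t h, ?_, ?_, ?_⟩
  · intro d h hh
    exact (hrel d h hh).img
  · intro d x y hx hy
    obtain ⟨h, hr⟩ := KRel.pure (𝒯 := 𝒯) (ψ := ψ) (hT := hT) (hP := hP) (hmR := hmR) (hmS := hmS)
      (mT := mT) (hmT := hmT) (EP := EP) (Φ := Φ) (B := B) (B' := B') hx hy
    have hh := KRel.mem hΦ hr
    exact ⟨h, hh, KRel.uniq hΦ (hbij d).1 (hrel d h hh) hr⟩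
  · intro d h hh h0
    have h1 := hrel d h hh
    have h2 : KRel 𝒯 ψ hT B B' mR mS a b hP hmR hmS mT hmT EP Φ d 0 0 := ⟨0, map_zero _, map_zero _⟩
    change Ξ₀ h = 0 at h0
    rw [h0] at h1
    exact KRel.uniq' hΦ (hbij d).1 h1 h2

end Res

end Seg

end Groth.Agent.H6
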