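import Groth.Agent.Lib.Helper6.SegKT4
import Groth.Agent.Lib.Helper6.GrDualCan

/-! Tensor products of perfect pairings, and perfect pairings with values in the base field. -/

universe u
open DirectSum TensorProduct
set_option linter.unusedSectionVars false

namespace Groth.Agent.H6

namespace TPerf

section LA

variable {k : Type u} [Field k] {V₁ V₂ W₁ W₂ : Type u} [AddCommGroup V₁] [AddCommGroup V₂]
  [AddCommGroup W₁] [AddCommGroup W₂] [Module k V₁] [Module k V₂] [Module k W₁] [Module k W₂]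

/-- the tensor product of two bilinear pairings -/
noncomputable def tpair (b₁ : V₁ →ₗ[k] W₁ →ₗ[k] k) (b₂ : V₂ →ₗ[k] W₂ →ₗ[k] k) :
    V₁ ⊗[k] V₂ →ₗ[k] W₁ ⊗[k] W₂ →ₗ[k] k :=
  TensorProduct.dualDistrib k W₁ W₂ ∘ₗ TensorProduct.map b₁ b₂

theorem tpair_tmul (b₁ : V₁ →ₗ[k] W₁ →ₗ[k] k) (b₂ : V₂ →ₗ[k] W₂ →ₗ[k] k) (v₁ : V₁) (v₂ : V₂)
    (w₁ : W₁) (w₂ : W₂) :
    tpair b₁ b₂ (v₁ ⊗ₜ[k] v₂) (w₁ ⊗ₜ[k] w₂) = b₁ v₁ w₁ * b₂ v₂ w₂ := rfl

/-- the tensor product of two perfect pairings of finite-dimensional spaces is perfect -/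
theorem tpair_bijective [Module.Finite k W₁] [Module.Finite k W₂]
    {b₁ : V₁ →ₗ[k] W₁ →ₗ[k] k} {b₂ : V₂ →ₗ[k] W₂ →ₗ[k] k}
    (h₁ : Function.Bijective b₁) (h₂ : Function.Bijective b₂) :
    Function.Bijective (tpair b₁ b₂) := by
  have h3 : Function.Bijective (TensorProduct.map b₁ b₂) :=
    (TensorProduct.congr (LinearEquiv.ofBijective b₁ h₁) (LinearEquiv.ofBijective b₂ h₂)).bijective
  have h4 : Function.Bijective (TensorProduct.dualDistrib k W₁ W₂) :=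
    (TensorProduct.dualDistribEquiv k W₁ W₂).bijective
  exact h4.comp h3

end LA

end TPerf

namespace Seg

open SegLA ToAdd

section KForm

variable {k : Type u} [Field k] {R : Type u} [CommRing R] [Nontrivial R] [Algebra k R]
  (𝒜 : ℤ → Submodule k R) [GradedAlgebra 𝒜] [GradedRing (toAdd 𝒜)]
variable {X : Type u} [AddCommGroup X] [Module R X] [Module k X] [IsScalarTower k R X]
  (𝒳 : ℤ → AddSubgroup X) [DirectSum.Decomposition 𝒳] [SetLike.GradedSMul 𝒜 𝒳]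
  [SetLike.GradedSMul (toAdd 𝒜) 𝒳]
variable {N : Type u} [AddCommGroup N] [Module R N] [Module k N] [IsScalarTower k R N]
  (𝒩 : ℤ → AddSubgroup N) [DirectSum.Decomposition 𝒩] [SetLike.GradedSMul 𝒜 𝒩]
  [SetLike.GradedSMul (toAdd 𝒜) 𝒩]

/-- a perfect pairing of graded modules with values in the base field -/
structure KPerf (β : X →ₗ[k] N →ₗ[k] k) : Prop where
  bal : ∀ (r : R) x y, β (r • x) y = β x (r • y)
  nondeg : ∀ j, ∀ x ∈ 𝒳 j, (∀ y ∈ 𝒩 (-j), β x y = 0) → x = 0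
  repr : ∀ j (μ : ↥(pcs 𝒜 𝒩 (-j)) →ₗ[k] k),
    ∃ x ∈ 𝒳 j, ∀ (y : N) (hy : y ∈ 𝒩 (-j)), β x y = μ ⟨y, hy⟩

variable (h0 : 𝒜 0 = Submodule.span k {(1 : R)})

/-- the inverse of `k → R_0` -/
noncomputable def κ0 : GrLC.deg0 𝒜 ≃+* k :=
  (RingEquiv.ofBijective (kToDeg0 𝒜) (kToDeg0_bijective 𝒜 h0)).symm

theorem algebraMap_κ0 (z : GrLC.deg0 𝒜) : algebraMap k R (κ0 𝒜 h0 z) = (z : R) := by
  have h1 : kToDeg0 𝒜 (κ0 𝒜 h0 z) = z :=
    (RingEquiv.ofBijective (kToDeg0 𝒜) (kToDeg0_bijective 𝒜 h0)).apply_symm_apply z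
  rw [← coe_kToDeg0 𝒜, h1]

theorem κ0_kToDeg0 (c : k) : κ0 𝒜 h0 (kToDeg0 𝒜 c) = c :=
  (RingEquiv.ofBijective (kToDeg0 𝒜) (kToDeg0_bijective 𝒜 h0)).symm_apply_apply c

theorem κ0_algebraMap (c : k) (hc : algebraMap k R c ∈ GrLC.deg0 𝒜) :
    κ0 𝒜 h0 ⟨algebraMap k R c, hc⟩ = c :=
  κ0_kToDeg0 𝒜 h0 c

include h0 in
theorem exists_algebraMap_of_mem {c : R} (hc : c ∈ 𝒜 0) : ∃ c' : k, algebraMap k R c' = c := by
  rw [h0, Submodule.mem_span_singleton] at hc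
  obtain ⟨c', rfl⟩ := hc
  exact ⟨c', by rw [Algebra.algebraMap_eq_smul_one]⟩

variable {𝒜 𝒳 𝒩}

include h0 in
/-- a `k`-valued perfect pairing is a perfect pairing with values in `R_0` -/
theorem KPerf.toPerfPair {β : X →ₗ[k] N →ₗ[k] k} (hβ : KPerf 𝒜 𝒳 𝒩 β) :
    GDual.PerfPair (toAdd 𝒜) 𝒳 𝒩 (fun x y => algebraMap k R (β x y)) where
  mem0 x y := algebraMap_mem_deg0 𝒜 _
  add_left x x' y := by
    change algebraMap k R (β (x + x') y) = _
    rw [map_add, LinearMap.add_apply, map_add]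
  add_right x y y' := by
    change algebraMap k R (β x (y + y')) = _
    rw [map_add, map_add]
  bal r x y := by
    change algebraMap k R (β (r • x) y) = algebraMap k R (β x (r • y))
    rw [hβ.bal]
  smul0 c hc x y := by
    obtain ⟨c', rfl⟩ := exists_algebraMap_of_mem 𝒜 h0 hc
    change algebraMap k R (β (algebraMap k R c' • x) y) = _
    rw [algebraMap_smul, map_smul, LinearMap.smul_apply, smul_eq_mul, map_mul]
  nondeg j x hx h := by
    apply hβ.nondeg j x hx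
    intro y hy
    have := h y hy
    exact (algebraMap k R).injective (this.trans (map_zero _).symm)
  repr j l hl0 hls := by
    let μ : ↥(pcs 𝒜 𝒩 (-j)) →ₗ[k] k :=
      { toFun := fun y => κ0 𝒜 h0 ⟨l y.1, hl0 y.1 y.2⟩
        map_add' := fun y y' => by
          rw [← map_add]
          congr 1
          apply Subtype.ext
          exact map_add l y.1 y'.1
        map_smul' := fun c y => by
          rw [RingHom.id_apply, smul_eq_mul, ← κ0_kToDeg0 𝒜 h0 c, ← map_mul, κ0_kToDeg0]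
          congr 1
          apply Subtype.ext
          change l (c • y.1) = algebraMap k R c * l y.1
          rw [← algebraMap_smul R c y.1]
          exact hls _ (algebraMap_mem_deg0 𝒜 c) y.1 y.2 }
    obtain ⟨x, hx, hxμ⟩ := hβ.repr j μ
    refine ⟨x, hx, fun y hy => ?_⟩
    change algebraMap k R (β x y) = l y
    rw [hxμ y hy]
    exact algebraMap_κ0 𝒜 h0 _

include h0 in
/-- a perfect pairing with values in `R_0` comes from a `k`-valued perfect pairing -/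
theorem KPerf.exists_of_perfPair {τ : X → N → R} (hτ : GDual.PerfPair (toAdd 𝒜) 𝒳 𝒩 τ) :
    ∃ β : X →ₗ[k] N →ₗ[k] k, KPerf 𝒜 𝒳 𝒩 β ∧ ∀ x y, algebraMap k R (β x y) = τ x y := by
  have hinj := (algebraMap k R).injective
  have hex : ∀ x y, ∃ c : k, algebraMap k R c = τ x y := fun x y =>
    exists_algebraMap_of_mem 𝒜 h0 (hτ.mem0 x y)
  choose b hb using hex
  let β : X →ₗ[k] N →ₗ[k] k := LinearMap.mk₂ k b
    (fun x x' y => by
      apply hinj
      rw [map_add, hb, hb, hb, hτ.add_left])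
    (fun c x y => by
      apply hinj
      rw [smul_eq_mul, map_mul, hb, hb, ← algebraMap_smul R c x,
        hτ.smul0 _ (algebraMap_mem_deg0 𝒜 c)])
    (fun x y y' => by
      apply hinj
      rw [map_add, hb, hb, hb, hτ.add_right])
    (fun c x y => by
      apply hinj
      rw [smul_eq_mul, map_mul, hb, hb, ← algebraMap_smul R c y,
        hτ.smul0_right _ (algebraMap_mem_deg0 𝒜 c)])
  have hβ : ∀ x y, algebraMap k R (β x y) = τ x y := fun x y => hb x y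
  refine ⟨β, ⟨?_, ?_, ?_⟩, hβ⟩
  · intro r x y
    apply hinj
    rw [hβ, hβ, hτ.bal]
  · intro j x hx h
    apply hτ.nondeg j x hx
    intro y hy
    rw [← hβ, h y hy, map_zero]
  · intro j μ
    let l : N →+ R := AddMonoidHom.mk'
      (fun y => algebraMap k R (μ ⟨Gr.proj 𝒩 (-j) y, Gr.proj_mem 𝒩 (-j) y⟩)) (fun y y' => by
        rw [← map_add, ← map_add]
        congr 2
        apply Subtype.ext
        exact map_add (Gr.proj 𝒩 (-j)) y y')
    have hl : ∀ (y : N) (hy : y ∈ 𝒩 (-j)), l y = algebraMap k R (μ ⟨y, hy⟩) := by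
      intro y hy
      change algebraMap k R (μ ⟨Gr.proj 𝒩 (-j) y, Gr.proj_mem 𝒩 (-j) y⟩) = _
      congr 2
      exact Subtype.ext (Gr.proj_of_mem 𝒩 hy)
    obtain ⟨x, hx, hxl⟩ := hτ.repr j l
      (fun y hy => by rw [hl y hy]; exact algebraMap_mem_deg0 𝒜 _)
      (fun c hc y hy => by
        obtain ⟨c', rfl⟩ := exists_algebraMap_of_mem 𝒜 h0 hc
        have hcy : algebraMap k R c' • y ∈ 𝒩 (-j) := by
          rw [algebraMap_smul]
          exact (pcs 𝒜 𝒩 (-j)).smul_mem c' hy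
        rw [hl _ hcy, hl y hy, ← map_mul]
        congr 1
        have : (⟨algebraMap k R c' • y, hcy⟩ : ↥(pcs 𝒜 𝒩 (-j))) = c' • ⟨y, hy⟩ :=
          Subtype.ext (algebraMap_smul R c' y)
        rw [this, map_smul, smul_eq_mul])
    refine ⟨x, hx, fun y hy => ?_⟩
    apply hinj
    rw [hβ, hxl y hy, hl y hy]

end KForm

section Tensor

variable {k : Type u} [Field k] {R S T : Type u} [CommRing R] [CommRing S] [CommRing T]
  [Algebra k R] [Algebra k S] [Algebra k T]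
  {𝒜 : ℤ → Submodule k R} [GradedAlgebra 𝒜] {ℬ : ℤ → Submodule k S} [GradedAlgebra ℬ]
  {𝒯 : ℤ → Submodule k T} [GradedAlgebra 𝒯]
  [GradedRing (toAdd 𝒜)] [GradedRing (toAdd ℬ)] [GradedRing (toAdd 𝒯)]
  {ψ : T →ₐ[k] R ⊗[k] S}
variable {CR : Type u} [AddCommGroup CR] [Module R CR] [Module k CR] [IsScalarTower k R CR]
  {𝒞R : ℤ → AddSubgroup CR} [DirectSum.Decomposition 𝒞R] [SetLike.GradedSMul 𝒜 𝒞R]
  [SetLike.GradedSMul (toAdd 𝒜) 𝒞R]
variable {HR : Type u} [AddCommGroup HR] [Module R HR] [Module k HR] [IsScalarTower k R HR]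
  {ℋR : ℤ → AddSubgroup HR} [DirectSum.Decomposition ℋR] [SetLike.GradedSMul 𝒜 ℋR]
  [SetLike.GradedSMul (toAdd 𝒜) ℋR]
variable {CS : Type u} [AddCommGroup CS] [Module S CS] [Module k CS] [IsScalarTower k S CS]
  {𝒞S : ℤ → AddSubgroup CS} [DirectSum.Decomposition 𝒞S] [SetLike.GradedSMul ℬ 𝒞S]
  [SetLike.GradedSMul (toAdd ℬ) 𝒞S]
variable {HS : Type u} [AddCommGroup HS] [Module S HS] [Module k HS] [IsScalarTower k S HS]
  {ℋS : ℤ → AddSubgroup HS} [DirectSum.Decomposition ℋS] [SetLike.GradedSMul ℬ ℋS]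
  [SetLike.GradedSMul (toAdd ℬ) ℋS]
variable {P : Type u} [AddCommGroup P] [Module T P] [Module k P] [IsScalarTower k T P]
  {𝒬 : ℤ → AddSubgroup P} [DirectSum.Decomposition 𝒬] [SetLike.GradedSMul 𝒯 𝒬]
  [SetLike.GradedSMul (toAdd 𝒯) 𝒬]
variable {HT : Type u} [AddCommGroup HT] [Module T HT] [Module k HT] [IsScalarTower k T HT]
  {ℋT : ℤ → AddSubgroup HT} [DirectSum.Decomposition ℋT] [SetLike.GradedSMul 𝒯 ℋT]
  [SetLike.GradedSMul (toAdd 𝒯) ℋT]
variable {βR : CR →ₗ[k] HR →ₗ[k] k} {βS : CS →ₗ[k] HS →ₗ[k] k}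

/-- the tensor product of two balanced pairings is balanced for the action of `R ⊗ S` -/
theorem tpair_act (hR : ∀ (r : R) x y, βR (r • x) y = βR x (r • y))
    (hS : ∀ (r : S) x y, βS (r • x) y = βS x (r • y)) (z : R ⊗[k] S) (w : CR ⊗[k] CS)
    (v : HR ⊗[k] HS) :
    TPerf.tpair βR βS (GrSeg.act k R S CR CS z w) v =
      TPerf.tpair βR βS w (GrSeg.act k R S HR HS z v) := by
  induction z using TensorProduct.induction_on with
  | zero => simp only [map_zero, LinearMap.zero_apply]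
  | tmul r s =>
    induction w using TensorProduct.induction_on with
    | zero => simp only [map_zero, LinearMap.zero_apply]
    | tmul x x' =>
      induction v using TensorProduct.induction_on with
      | zero => simp only [map_zero]
      | tmul y y' =>
        rw [GrSeg.act_tmul, GrSeg.act_tmul, TPerf.tpair_tmul, TPerf.tpair_tmul, hR, hS]
      | add v v' hv hv' => simp only [map_add, hv, hv']
    | add w w' hw hw' => simp only [map_add, LinearMap.add_apply, hw, hw']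
  | add z z' hz hz' => simp only [map_add, LinearMap.add_apply, hz, hz']

variable (hβR : KPerf 𝒜 𝒞R ℋR βR) (hβS : KPerf ℬ 𝒞S ℋS βS)

include hβR in
/-- the restriction of a perfect pairing to a pair of pieces of opposite degrees is perfect -/
theorem KPerf.restrict_bijective (j : ℤ) :
    Function.Bijective (βR.domRestrict₁₂ (pcs 𝒜 𝒞R j) (pcs 𝒜 ℋR (-j))) := by
  constructor
  · rw [← LinearMap.ker_eq_bot, LinearMap.ker_eq_bot']
    intro v hv
    apply Subtype.ext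
    apply hβR.nondeg j v.1 v.2
    intro y hy
    exact LinearMap.congr_fun hv ⟨y, hy⟩
  · intro μ
    obtain ⟨x, hx, hxμ⟩ := hβR.repr j μ
    exact ⟨⟨x, hx⟩, LinearMap.ext fun y => hxμ y.1 y.2⟩

/-- naturality of the tensor pairing for the inclusions of the pieces -/
theorem tpair_incl (j j' : ℤ) (w : ↥(pcs 𝒜 𝒞R j) ⊗[k] ↥(pcs ℬ 𝒞S j))
    (v : ↥(pcs 𝒜 ℋR j') ⊗[k] ↥(pcs ℬ ℋS j')) :
    TPerf.tpair βR βS (incl 𝒜 ℬ 𝒞R 𝒞S j w) (incl 𝒜 ℬ ℋR ℋS j' v) =
      TPerf.tpair (βR.domRestrict₁₂ (pcs 𝒜 𝒞R j) (pcs 𝒜 ℋR j'))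
        (βS.domRestrict₁₂ (pcs ℬ 𝒞S j) (pcs ℬ ℋS j')) w v := by
  induction w using TensorProduct.induction_on with
  | zero => simp only [map_zero, LinearMap.zero_apply]
  | tmul x x' =>
    induction v using TensorProduct.induction_on with
    | zero => simp only [map_zero]
    | tmul y y' => rfl
    | add v v' hv hv' => simp only [map_add, hv, hv']
  | add w w' hw hw' => simp only [map_add, LinearMap.add_apply, hw, hw']


variable {φ : P →ₗ[k] CR ⊗[k] CS} (hP : GrSeg.IsSegreMod ψ 𝒞R 𝒞S 𝒬 φ)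
variable (Ξ : HT →ₗ[k] HR ⊗[k] HS)
  (hΞ1 : ∀ t h, Ξ (t • h) = GrSeg.act k R S HR HS (ψ t) (Ξ h))
  (hΞ2 : ∀ d h, h ∈ ℋT d → Ξ h ∈ GrSeg.segrePiece k ℋR ℋS d)
  (hΞ3 : ∀ d x y, x ∈ ℋR d → y ∈ ℋS d → ∃ h ∈ ℋT d, Ξ h = x ⊗ₜ[k] y)
  (hΞ4 : ∀ d h, h ∈ ℋT d → Ξ h = 0 → h = 0)
  (hfR : ∀ j, Module.Finite k ↥(pcs 𝒜 ℋR j)) (hfS : ∀ j, Module.Finite k ↥(pcs ℬ ℋS j))

include hβR hβS hP hΞ1 hΞ2 hΞ3 hΞ4 hfR hfS in
/-- **the Segre product of two perfect pairings**, through a `T`-linear Künneth map -/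
theorem KPerf.tensor :
    KPerf 𝒯 𝒬 ℋT ((TPerf.tpair βR βS).compl₁₂ φ Ξ) := by
  have hbij : ∀ j, Function.Bijective (TPerf.tpair
      (βR.domRestrict₁₂ (pcs 𝒜 𝒞R j) (pcs 𝒜 ℋR (-j)))
      (βS.domRestrict₁₂ (pcs ℬ 𝒞S j) (pcs ℬ ℋS (-j)))) := by
    intro j
    haveI := hfR (-j)
    haveI := hfS (-j)
    exact TPerf.tpair_bijective (hβR.restrict_bijective j) (hβS.restrict_bijective j)
  refine ⟨?_, ?_, ?_⟩
  · intro t p h
    rw [LinearMap.compl₁₂_apply, LinearMap.compl₁₂_apply, hP.map_smul, hΞ1,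
      tpair_act hβR.bal hβS.bal]
  · intro j p hp hz
    apply hP.injective
    rw [map_zero]
    have hφp : φ p ∈ GrSeg.segrePiece k 𝒞R 𝒞S j := by
      have := hP.image_piece j
      rw [← SetLike.mem_coe, ← this]
      exact ⟨p, hp, rfl⟩
    rw [← range_incl 𝒜 ℬ 𝒞R 𝒞S j] at hφp
    obtain ⟨w, hw⟩ := hφp
    have hw0 : w = 0 := by
      apply (hbij j).1
      rw [map_zero]
      apply TensorProduct.ext'
      intro y y'
      rw [LinearMap.zero_apply]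
      obtain ⟨h, hh, hΞh⟩ := hΞ3 (-j) y.1 y'.1 y.2 y'.2
      have h1 := hz h hh
      rw [LinearMap.compl₁₂_apply, ← hw, hΞh] at h1
      rw [← tpair_incl j (-j) w (y ⊗ₜ[k] y')]
      exact h1
    rw [← hw, hw0, map_zero]
  · intro j μ
    -- the restriction of `Ξ` to the piece, as an equivalence onto the Segre piece
    let Ξj : ↥(pcs 𝒯 ℋT (-j)) →ₗ[k] ↥(GrSeg.segrePiece k ℋR ℋS (-j)) :=
      LinearMap.codRestrict _ (Ξ ∘ₗ (pcs 𝒯 ℋT (-j)).subtype) (fun h => hΞ2 (-j) h.1 h.2)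
    have hΞj : ∀ h, ((Ξj h : ↥(GrSeg.segrePiece k ℋR ℋS (-j))) : HR ⊗[k] HS) = Ξ h.1 :=
      fun h => rfl
    have hinj : Function.Injective Ξj := by
      rw [← LinearMap.ker_eq_bot, LinearMap.ker_eq_bot']
      intro h hh
      apply Subtype.ext
      apply hΞ4 (-j) h.1 h.2
      rw [← hΞj, hh]
      rfl
    have hsurj : Function.Surjective Ξj := by
      rw [← LinearMap.range_eq_top, eq_top_iff]
      rintro ⟨g, hg⟩ -
      have key : ∀ g' ∈ GrSeg.segrePiece k ℋR ℋS (-j), ∃ h : ↥(pcs 𝒯 ℋT (-j)), Ξ h.1 = g' := by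
        intro g' hg'
        rw [GrSeg.segrePiece] at hg'
        induction hg' using Submodule.span_induction with
        | mem g' hg' =>
          obtain ⟨x, hx, y, hy, rfl⟩ := hg'
          obtain ⟨h, hh, hΞh⟩ := hΞ3 (-j) x y hx hy
          exact ⟨⟨h, hh⟩, hΞh⟩
        | zero => exact ⟨0, map_zero _⟩
        | add g₁ g₂ _ _ h₁ h₂ =>
          obtain ⟨h₁, e₁⟩ := h₁
          obtain ⟨h₂, e₂⟩ := h₂
          exact ⟨h₁ + h₂, by rw [Submodule.coe_add, map_add, e₁, e₂]⟩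
        | smul c g₁ _ h₁ =>
          obtain ⟨h₁, e₁⟩ := h₁
          exact ⟨c • h₁, by rw [Submodule.coe_smul, map_smul, e₁]⟩
      obtain ⟨h, hh⟩ := key g hg
      exact ⟨h, Subtype.ext hh⟩
    let eΞ := LinearEquiv.ofBijective Ξj ⟨hinj, hsurj⟩
    let inclW : ↥(pcs 𝒜 ℋR (-j)) ⊗[k] ↥(pcs ℬ ℋS (-j)) →ₗ[k]
        ↥(GrSeg.segrePiece k ℋR ℋS (-j)) :=
      LinearMap.codRestrict _ (incl 𝒜 ℬ ℋR ℋS (-j)) (fun ω => by
        rw [← range_incl 𝒜 ℬ ℋR ℋS (-j)]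
        exact ⟨ω, rfl⟩)
    obtain ⟨w, hw⟩ := (hbij j).2 (μ ∘ₗ eΞ.symm.toLinearMap ∘ₗ inclW)
    have hmem : incl 𝒜 ℬ 𝒞R 𝒞S j w ∈ GrSeg.segrePiece k 𝒞R 𝒞S j := by
      rw [← range_incl 𝒜 ℬ 𝒞R 𝒞S j]
      exact ⟨w, rfl⟩
    rw [← SetLike.mem_coe, ← hP.image_piece j] at hmem
    obtain ⟨p, hp, hφp⟩ := hmem
    refine ⟨p, hp, fun h hh => ?_⟩
    rw [LinearMap.compl₁₂_apply, hφp]
    have hΞh := hΞ2 (-j) h hh
    rw [← range_incl 𝒜 ℬ ℋR ℋS (-j)] at hΞh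
    obtain ⟨ω, hω⟩ := hΞh
    rw [← hω, tpair_incl, hw]
    change μ (eΞ.symm (inclW ω)) = μ ⟨h, hh⟩
    congr 1
    rw [LinearEquiv.symm_apply_eq]
    apply Subtype.ext
    change incl 𝒜 ℬ ℋR ℋS (-j) ω = Ξ h
    exact hω

end Tensor

end Seg

end Groth.Agent.H6
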