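import Groth.Agent.Lib.Helper6.SegGood
import Groth.Agent.Lib.Helper6.GrAcyc

/-! The Künneth formula `H^q_{T_+}(M # N) ≅ H^q_m(M) # N` when a homogeneous element of positive
degree acts bijectively on `N`: cocycle-level statements. -/

universe u
open DirectSum TensorProduct
set_option linter.unusedSectionVars false

namespace Groth.Agent.H6

namespace Seg

open SegLA ToAdd

section ExactLeft

variable {k : Type u} [Field k] {R S : Type u} [CommRing R] [CommRing S]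
  [Algebra k R] [Algebra k S]
  (𝒜 : ℤ → Submodule k R) [GradedAlgebra 𝒜] (ℬ : ℤ → Submodule k S) [GradedAlgebra ℬ]
variable {X : Type u} [AddCommGroup X] [Module R X] [Module k X] [IsScalarTower k R X]
  {𝒳 : ℤ → AddSubgroup X} [DirectSum.Decomposition 𝒳] [SetLike.GradedSMul 𝒜 𝒳]
variable {Y : Type u} [AddCommGroup Y] [Module S Y] [Module k Y] [IsScalarTower k S Y]
  {𝒴 : ℤ → AddSubgroup Y} [DirectSum.Decomposition 𝒴] [SetLike.GradedSMul ℬ 𝒴]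
variable {X' : Type u} [AddCommGroup X'] [Module R X'] [Module k X'] [IsScalarTower k R X']
  {𝒳' : ℤ → AddSubgroup X'} [DirectSum.Decomposition 𝒳'] [SetLike.GradedSMul 𝒜 𝒳']
variable {X'' : Type u} [AddCommGroup X''] [Module R X''] [Module k X''] [IsScalarTower k R X'']

include 𝒜 ℬ in
/-- exactness of the Segre product in the first variable, for an exact pair -/
theorem exact_left' {f : X' →ₗ[R] X} {p : X →ₗ[R] X''} (hf : GrLC.IsGrHom 𝒳' 𝒳 f)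
    (hex : Function.Exact f p) {w : X ⊗[k] Y} (hw : w ∈ seg 𝒳 𝒴)
    (h0 : tmap p (LinearMap.id : Y →ₗ[S] Y) w = 0) :
    ∃ w', w' ∈ seg 𝒳' 𝒴 ∧ tmap f (LinearMap.id : Y →ₗ[S] Y) w' = w := by
  have hex' : Function.Exact (f.restrictScalars k) (p.restrictScalars k) := hex
  have h1 := Module.Flat.rTensor_exact Y hex'
  obtain ⟨w₀, hw₀⟩ := (h1 w).mp h0
  have h2 : tmap f (LinearMap.id : Y →ₗ[S] Y) w₀ = w := hw₀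
  obtain ⟨w', hw', hww⟩ := exists_seg_preimage 𝒜 ℬ 𝒳' 𝒴 𝒳 𝒴 hf (fun _ _ h => h) w₀
    (by rw [h2]; exact hw)
  exact ⟨w', hw', hww.trans h2⟩

theorem tmap_comp {X''' : Type u} [AddCommGroup X'''] [Module R X'''] [Module k X''']
    [IsScalarTower k R X'''] (f : X' →ₗ[R] X) (p : X →ₗ[R] X''') (w : X' ⊗[k] Y) :
    tmap p (LinearMap.id : Y →ₗ[S] Y) (tmap f (LinearMap.id : Y →ₗ[S] Y) w) =
      tmap (p ∘ₗ f) (LinearMap.id : Y →ₗ[S] Y) w := by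
  induction w using TensorProduct.induction_on with
  | zero => simp
  | tmul x y => rfl
  | add a b ha hb => rw [map_add, map_add, map_add, ha, hb]

theorem tmap_eq_zero_of_comp (f : X' →ₗ[R] X'') (hf : f = 0) (w : X' ⊗[k] Y) :
    tmap f (LinearMap.id : Y →ₗ[S] Y) w = 0 := by
  subst hf
  induction w using TensorProduct.induction_on with
  | zero => simp
  | tmul x y => rw [tmap_tmul, LinearMap.zero_apply, zero_tmul]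
  | add a b ha hb => rw [map_add, ha, hb, add_zero]

end ExactLeft

section Tors

variable {k : Type u} [Field k] {R S T : Type u} [CommRing R] [CommRing S] [CommRing T]
  [Algebra k R] [Algebra k S] [Algebra k T]
  (𝒜 : ℤ → Submodule k R) [GradedAlgebra 𝒜] (ℬ : ℤ → Submodule k S) [GradedAlgebra ℬ]
  (𝒯 : ℤ → Submodule k T) [GradedAlgebra 𝒯]
  (ψ : T →ₐ[k] R ⊗[k] S) (hT : GrSeg.IsSegreRing 𝒜 ℬ 𝒯 ψ)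
  (mR : Ideal R) (hmR : mR = Ideal.span (⋃ n ∈ Set.Ioi (0 : ℤ), (𝒜 n : Set R)))
  (mS : Ideal S) (hmS : mS = Ideal.span (⋃ n ∈ Set.Ioi (0 : ℤ), (ℬ n : Set S)))
  (mT : Ideal T) (hmT : mT = Ideal.span (⋃ n ∈ Set.Ioi (0 : ℤ), (𝒯 n : Set T)))
variable {X : Type u} [AddCommGroup X] [Module R X] [Module k X] [IsScalarTower k R X]
  (𝒳 : ℤ → AddSubgroup X) [DirectSum.Decomposition 𝒳] [SetLike.GradedSMul 𝒜 𝒳]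
variable {Y : Type u} [AddCommGroup Y] [Module S Y] [Module k Y] [IsScalarTower k S Y]
  (𝒴 : ℤ → AddSubgroup Y) [DirectSum.Decomposition 𝒴] [SetLike.GradedSMul ℬ 𝒴]
variable {G : Type u} [AddCommGroup G] [Module R G] [Module k G] [IsScalarTower k R G]
  (𝒢 : ℤ → AddSubgroup G) [DirectSum.Decomposition 𝒢] [SetLike.GradedSMul 𝒜 𝒢]

include hT hmR hmS hmT in
/-- torsion elements of `X # Y` come from `Γ(X) # Y` when `Y` is torsion free -/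
theorem exists_of_mem_gam [IsNoetherianRing R] [IsNoetherianRing S] (hY : GrLC.gam mS Y = ⊥)
    {j : G →ₗ[R] X} (hj : GrLC.IsGrHom 𝒢 𝒳 j) (hjr : LinearMap.range j = GrLC.gam mR X)
    (u : ↥(TSub.full 𝒜 ℬ 𝒯 ψ 𝒳 𝒴 hT).U)
    (hu : u ∈ GrLC.gam mT ↥(TSub.full 𝒜 ℬ 𝒯 ψ 𝒳 𝒴 hT).U) :
    ∃ v, v ∈ seg 𝒢 𝒴 ∧ tmap j (LinearMap.id : Y →ₗ[S] Y) v = (u : X ⊗[k] Y) := by
  have h1 := (mem_gam_iff 𝒜 ℬ 𝒯 ψ hT mR hmR mS hmS mT hmT (TSub.full 𝒜 ℬ 𝒯 ψ 𝒳 𝒴 hT) u).mp hu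
  have hinj : Function.Injective (qG (k := k) (X := Y) mS) := by
    intro a b hab
    have h2 : (GrLC.gam mS Y).mkQ (a - b) = 0 := by
      rw [map_sub]
      exact sub_eq_zero.mpr hab
    rw [← LinearMap.mem_ker, Submodule.ker_mkQ, hY, Submodule.mem_bot] at h2
    exact sub_eq_zero.mp h2
  have h3 : qq mR mS (u : X ⊗[k] Y) =
      LinearMap.lTensor (X ⧸ GrLC.gam mR X) (qG (k := k) (X := Y) mS)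
        (LinearMap.rTensor Y (qG (k := k) (X := X) mR) (u : X ⊗[k] Y)) := by
    generalize (u : X ⊗[k] Y) = w
    induction w using TensorProduct.induction_on with
    | zero => simp
    | tmul x y => rfl
    | add a b ha hb => rw [map_add, map_add, map_add, ha, hb]
  rw [h3] at h1
  have h4 : LinearMap.rTensor Y (qG (k := k) (X := X) mR) (u : X ⊗[k] Y) = 0 := by
    apply Module.Flat.lTensor_preserves_injective_linearMap (M := X ⧸ GrLC.gam mR X) _ hinj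
    rw [h1, map_zero]
  have hex : Function.Exact j (GrLC.gam mR X).mkQ := by
    intro x
    rw [← LinearMap.mem_ker, Submodule.ker_mkQ, ← hjr]
    rfl
  exact exact_left' 𝒜 ℬ hj hex (u : ↥(seg 𝒳 𝒴)).2 h4

include hT hmR hmS hmT in
/-- the image of `Γ(X) # Y` is torsion -/
theorem mem_gam_of_tmap [IsNoetherianRing R] [IsNoetherianRing S]
    {j : G →ₗ[R] X} (hjr : LinearMap.range j ≤ GrLC.gam mR X)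
    (u : ↥(TSub.full 𝒜 ℬ 𝒯 ψ 𝒳 𝒴 hT).U) (v : G ⊗[k] Y)
    (hv : tmap j (LinearMap.id : Y →ₗ[S] Y) v = (u : X ⊗[k] Y)) :
    u ∈ GrLC.gam mT ↥(TSub.full 𝒜 ℬ 𝒯 ψ 𝒳 𝒴 hT).U := by
  rw [mem_gam_iff 𝒜 ℬ 𝒯 ψ hT mR hmR mS hmS mT hmT (TSub.full 𝒜 ℬ 𝒯 ψ 𝒳 𝒴 hT) u, ← hv]
  clear hv
  induction v using TensorProduct.induction_on with
  | zero => simp
  | tmul x y =>
    rw [tmap_tmul, qq_tmul]
    have : (Submodule.Quotient.mk (j x) : X ⧸ GrLC.gam mR X) = 0 :=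
      (Submodule.Quotient.mk_eq_zero _).mpr (hjr ⟨x, rfl⟩)
    rw [this, zero_tmul]
  | add a b ha hb => rw [map_add, map_add, ha, hb, add_zero]

end Tors

section Pres

variable {k : Type u} [Field k] {R S T : Type u} [CommRing R] [CommRing S] [CommRing T]
  [Algebra k R] [Algebra k S] [Algebra k T]
  (𝒜 : ℤ → Submodule k R) [GradedAlgebra 𝒜] (ℬ : ℤ → Submodule k S) [GradedAlgebra ℬ]
  (𝒯 : ℤ → Submodule k T) [GradedAlgebra 𝒯]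
  (ψ : T →ₐ[k] R ⊗[k] S) (hT : GrSeg.IsSegreRing 𝒜 ℬ 𝒯 ψ)
  [GradedRing (toAdd 𝒜)] [GradedRing (toAdd ℬ)] [GradedRing (toAdd 𝒯)]
  (mR : Ideal R) (hmR : mR = Ideal.span (⋃ n ∈ Set.Ioi (0 : ℤ), (𝒜 n : Set R)))
  (mS : Ideal S) (hmS : mS = Ideal.span (⋃ n ∈ Set.Ioi (0 : ℤ), (ℬ n : Set S)))
  (mT : Ideal T) (hmT : mT = Ideal.span (⋃ n ∈ Set.Ioi (0 : ℤ), (𝒯 n : Set T)))
variable {Y : Type u} [AddCommGroup Y] [Module S Y] [Module k Y] [IsScalarTower k S Y]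
  (𝒴 : ℤ → AddSubgroup Y) [DirectSum.Decomposition 𝒴] [SetLike.GradedSMul ℬ 𝒴]
variable {Xm : Type u} [AddCommGroup Xm] [Module R Xm] [Module k Xm] [IsScalarTower k R Xm]
  (𝒳m : ℤ → AddSubgroup Xm) [DirectSum.Decomposition 𝒳m] [SetLike.GradedSMul 𝒜 𝒳m]
variable {X : Type u} [AddCommGroup X] [Module R X] [Module k X] [IsScalarTower k R X]
  (𝒳 : ℤ → AddSubgroup X) [DirectSum.Decomposition 𝒳] [SetLike.GradedSMul 𝒜 𝒳]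
variable {Xp : Type u} [AddCommGroup Xp] [Module R Xp] [Module k Xp] [IsScalarTower k R Xp]
  (𝒳p : ℤ → AddSubgroup Xp) [DirectSum.Decomposition 𝒳p] [SetLike.GradedSMul 𝒜 𝒳p]
variable {Gm : Type u} [AddCommGroup Gm] [Module R Gm] [Module k Gm] [IsScalarTower k R Gm]
  (𝒢m : ℤ → AddSubgroup Gm) [DirectSum.Decomposition 𝒢m] [SetLike.GradedSMul 𝒜 𝒢m]
variable {G : Type u} [AddCommGroup G] [Module R G] [Module k G] [IsScalarTower k R G]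
  (𝒢 : ℤ → AddSubgroup G) [DirectSum.Decomposition 𝒢] [SetLike.GradedSMul 𝒜 𝒢]
variable {Zc : Type u} [AddCommGroup Zc] [Module R Zc] [Module k Zc] [IsScalarTower k R Zc]
  (𝒵 : ℤ → AddSubgroup Zc) [DirectSum.Decomposition 𝒵] [SetLike.GradedSMul 𝒜 𝒵]
variable {Hc : Type u} [AddCommGroup Hc] [Module R Hc] [Module k Hc] [IsScalarTower k R Hc]
  (ℋ : ℤ → AddSubgroup Hc) [DirectSum.Decomposition ℋ] [SetLike.GradedSMul 𝒜 ℋ]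

/-- the cocycles of `Γ_{T_+}(X # Y)` -/
noncomputable def ZT {d : X →ₗ[R] Xp} (hd : GrLC.IsGrHom 𝒳 𝒳p d) :
    Submodule T (segG 𝒜 ℬ 𝒯 ψ hT 𝒳 𝒴).carrier :=
  GrLC.gam mT (segG 𝒜 ℬ 𝒯 ψ hT 𝒳 𝒴).carrier ⊓
    LinearMap.ker (segMap 𝒜 ℬ 𝒯 ψ hT 𝒳 𝒴 𝒳p 𝒴 hd (isGrHom_id' 𝒴))

/-- the coboundaries of `Γ_{T_+}(X # Y)` -/
noncomputable def BT {dm : Xm →ₗ[R] X} (hdm : GrLC.IsGrHom 𝒳m 𝒳 dm) :
    Submodule T (segG 𝒜 ℬ 𝒯 ψ hT 𝒳 𝒴).carrier :=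
  (GrLC.gam mT (segG 𝒜 ℬ 𝒯 ψ hT 𝒳m 𝒴).carrier).map
    (segMap 𝒜 ℬ 𝒯 ψ hT 𝒳m 𝒴 𝒳 𝒴 hdm (isGrHom_id' 𝒴))

include hmR hmS hmT in
/-- the cocycles of `Γ_{T_+}(X # Y)` modulo the coboundaries are `H # Y`, when `Y` is torsion
free -/
theorem exists_cocycle_pres [IsNoetherianRing R] [IsNoetherianRing S]
    (hY : GrLC.gam mS Y = ⊥)
    {dm : Xm →ₗ[R] X} (hdm : GrLC.IsGrHom 𝒳m 𝒳 dm) {d : X →ₗ[R] Xp} (hd : GrLC.IsGrHom 𝒳 𝒳p d)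
    {jm : Gm →ₗ[R] Xm} (hjm : GrLC.IsGrHom 𝒢m 𝒳m jm) (hjmr : LinearMap.range jm = GrLC.gam mR Xm)
    {j : G →ₗ[R] X} (hj : GrLC.IsGrHom 𝒢 𝒳 j) (hji : Function.Injective j)
    (hjr : LinearMap.range j = GrLC.gam mR X)
    {iZ : Zc →ₗ[R] G} (hiZ : GrLC.IsGrHom 𝒵 𝒢 iZ) (hiZi : Function.Injective iZ)
    (hiZe : Function.Exact iZ (d ∘ₗ j))
    {β : Gm →ₗ[R] Zc} (hβ : GrLC.IsGrHom 𝒢m 𝒵 β) (hβc : ∀ g, j (iZ (β g)) = dm (jm g))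
    {π : Zc →ₗ[R] Hc} (hπ : GrLC.IsGrHom 𝒵 ℋ π) (hπs : Function.Surjective π)
    (hπe : Function.Exact β π) :
    ∃ Ξ : ↥(ZT 𝒜 ℬ 𝒯 ψ hT mT 𝒴 𝒳 𝒳p hd) →ₗ[T] (segG 𝒜 ℬ 𝒯 ψ hT ℋ 𝒴).carrier,
      Function.Surjective Ξ ∧
      LinearMap.ker Ξ = (BT 𝒜 ℬ 𝒯 ψ hT mT 𝒴 𝒳m 𝒳 hdm).comap (Submodule.subtype _) ∧
      (∀ (δ : ℤ) (z : ↥(ZT 𝒜 ℬ 𝒯 ψ hT mT 𝒴 𝒳 𝒳p hd)),
        (z : (segG 𝒜 ℬ 𝒯 ψ hT 𝒳 𝒴).carrier) ∈ (segG 𝒜 ℬ 𝒯 ψ hT 𝒳 𝒴).gr δ →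
        Ξ z ∈ (segG 𝒜 ℬ 𝒯 ψ hT ℋ 𝒴).gr δ) ∧
      (∀ (δ : ℤ) h, h ∈ (segG 𝒜 ℬ 𝒯 ψ hT ℋ 𝒴).gr δ →
        ∃ z : ↥(ZT 𝒜 ℬ 𝒯 ψ hT mT 𝒴 𝒳 𝒳p hd),
          (z : (segG 𝒜 ℬ 𝒯 ψ hT 𝒳 𝒴).carrier) ∈ (segG 𝒜 ℬ 𝒯 ψ hT 𝒳 𝒴).gr δ ∧ Ξ z = h) := by
  classical
  have hjZ : GrLC.IsGrHom 𝒵 𝒳 (j ∘ₗ iZ) := fun δ z hz => hj δ _ (hiZ δ z hz)
  have hjZi : Function.Injective (j ∘ₗ iZ) := hji.comp hiZi
  have hjZr : LinearMap.range (j ∘ₗ iZ) ≤ GrLC.gam mR X := by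
    rintro _ ⟨z, rfl⟩
    rw [← hjr]
    exact ⟨iZ z, rfl⟩
  have hjmr' : LinearMap.range jm ≤ GrLC.gam mR Xm := hjmr.le
  have hdjZ : (d ∘ₗ j) ∘ₗ iZ = 0 := by
    ext z
    exact hiZe.apply_apply_eq_zero z
  have hπβ : π ∘ₗ β = 0 := by
    ext g
    exact hπe.apply_apply_eq_zero g
  have hcomm : (j ∘ₗ iZ) ∘ₗ β = dm ∘ₗ jm := by
    ext g
    exact hβc g
  let κ := segMap 𝒜 ℬ 𝒯 ψ hT 𝒵 𝒴 𝒳 𝒴 hjZ (isGrHom_id' 𝒴)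
  have hκgr := segMap_isGrHom 𝒜 ℬ 𝒯 ψ hT 𝒵 𝒴 𝒳 𝒴 hjZ (isGrHom_id' 𝒴)
  have hκi : Function.Injective κ :=
    segMap_injective 𝒜 ℬ 𝒯 ψ hT 𝒵 𝒴 𝒳 𝒴 hjZ (isGrHom_id' 𝒴) hjZi Function.injective_id
  have hκZ : ∀ v, κ v ∈ ZT 𝒜 ℬ 𝒯 ψ hT mT 𝒴 𝒳 𝒳p hd := by
    intro v
    refine Submodule.mem_inf.mpr ⟨?_, ?_⟩
    · exact mem_gam_of_tmap 𝒜 ℬ 𝒯 ψ hT mR hmR mS hmS mT hmT 𝒳 𝒴 hjZr (κ v)
        (v : ↥(seg 𝒵 𝒴)).1 rfl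
    · rw [LinearMap.mem_ker]
      apply Subtype.ext
      change tmap d (LinearMap.id : Y →ₗ[S] Y)
        (tmap (j ∘ₗ iZ) (LinearMap.id : Y →ₗ[S] Y) (v : ↥(seg 𝒵 𝒴)).1) = 0
      rw [tmap_comp]
      exact tmap_eq_zero_of_comp _ (by rw [← LinearMap.comp_assoc]; exact hdjZ) _
  have hκs : ∀ z ∈ ZT 𝒜 ℬ 𝒯 ψ hT mT 𝒴 𝒳 𝒳p hd, ∃ v, κ v = z := by
    intro z hz
    obtain ⟨hz1, hz2⟩ := Submodule.mem_inf.mp hz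
    obtain ⟨v₁, hv₁, hv₁z⟩ := exists_of_mem_gam 𝒜 ℬ 𝒯 ψ hT mR hmR mS hmS mT hmT 𝒳 𝒴 𝒢 hY hj hjr
      z hz1
    have hz2' : segMap 𝒜 ℬ 𝒯 ψ hT 𝒳 𝒴 𝒳p 𝒴 hd (isGrHom_id' 𝒴) z = 0 := hz2
    have h0 : tmap (d ∘ₗ j) (LinearMap.id : Y →ₗ[S] Y) v₁ = 0 := by
      rw [← tmap_comp, hv₁z]
      exact congrArg (fun w : ↥(seg 𝒳p 𝒴) => w.1) hz2'
    obtain ⟨v, hv, hvv⟩ := exact_left' 𝒜 ℬ hiZ hiZe hv₁ h0
    refine ⟨(⟨v, hv⟩ : ↥(seg 𝒵 𝒴)), Subtype.ext ?_⟩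
    change tmap (j ∘ₗ iZ) (LinearMap.id : Y →ₗ[S] Y) v = (z : ↥(seg 𝒳 𝒴)).1
    rw [← tmap_comp, hvv, hv₁z]
  let e : (segG 𝒜 ℬ 𝒯 ψ hT 𝒵 𝒴).carrier ≃ₗ[T] ↥(ZT 𝒜 ℬ 𝒯 ψ hT mT 𝒴 𝒳 𝒳p hd) :=
    LinearEquiv.ofBijective (κ.codRestrict _ hκZ)
      ⟨fun a b hab => hκi (congrArg Subtype.val hab), fun z => by
        obtain ⟨v, hv⟩ := hκs z.1 z.2
        exact ⟨v, Subtype.ext hv⟩⟩
  have he : ∀ v, ((e v : ↥(ZT 𝒜 ℬ 𝒯 ψ hT mT 𝒴 𝒳 𝒳p hd)) :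
      (segG 𝒜 ℬ 𝒯 ψ hT 𝒳 𝒴).carrier) = κ v := fun v => rfl
  let ρ := segMap 𝒜 ℬ 𝒯 ψ hT 𝒵 𝒴 ℋ 𝒴 hπ (isGrHom_id' 𝒴)
  have hρgr := segMap_isGrHom 𝒜 ℬ 𝒯 ψ hT 𝒵 𝒴 ℋ 𝒴 hπ (isGrHom_id' 𝒴)
  have hρs : Function.Surjective ρ :=
    segMap_surjective 𝒜 ℬ 𝒯 ψ hT 𝒵 𝒴 ℋ 𝒴 hπ (isGrHom_id' 𝒴) hπs Function.surjective_id
  refine ⟨ρ ∘ₗ e.symm.toLinearMap, hρs.comp e.symm.surjective, ?_, ?_, ?_⟩
  · ext z
    rw [LinearMap.mem_ker, Submodule.mem_comap]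
    obtain ⟨v, rfl⟩ := e.surjective z
    rw [LinearMap.comp_apply, LinearEquiv.coe_coe, LinearEquiv.symm_apply_apply]
    constructor
    · intro h
      have h0 : tmap π (LinearMap.id : Y →ₗ[S] Y) (v : ↥(seg 𝒵 𝒴)).1 = 0 :=
        congrArg (fun w : ↥(seg ℋ 𝒴) => w.1) h
      obtain ⟨w₁, hw₁, hw₁v⟩ := exact_left' 𝒜 ℬ hβ hπe (v : ↥(seg 𝒵 𝒴)).2 h0
      have hw : tmap jm (LinearMap.id : Y →ₗ[S] Y) w₁ ∈ seg 𝒳m 𝒴 :=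
        tmap_mem_seg hjm (isGrHom_id' 𝒴) hw₁
      refine Submodule.mem_map.mpr
        ⟨(⟨tmap jm (LinearMap.id : Y →ₗ[S] Y) w₁, hw⟩ : ↥(seg 𝒳m 𝒴)), ?_, Subtype.ext ?_⟩
      · exact mem_gam_of_tmap 𝒜 ℬ 𝒯 ψ hT mR hmR mS hmS mT hmT 𝒳m 𝒴 hjmr' _ w₁ rfl
      · change tmap dm (LinearMap.id : Y →ₗ[S] Y) (tmap jm (LinearMap.id : Y →ₗ[S] Y) w₁) =
          tmap (j ∘ₗ iZ) (LinearMap.id : Y →ₗ[S] Y) (v : ↥(seg 𝒵 𝒴)).1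
        rw [tmap_comp, ← hcomm, ← tmap_comp, hw₁v]
    · intro h
      obtain ⟨w, hw, hwz⟩ := Submodule.mem_map.mp h
      obtain ⟨w₁, hw₁, hw₁w⟩ := exists_of_mem_gam 𝒜 ℬ 𝒯 ψ hT mR hmR mS hmS mT hmT 𝒳m 𝒴 𝒢m hY hjm
        hjmr w hw
      have hv' : tmap β (LinearMap.id : Y →ₗ[S] Y) w₁ ∈ seg 𝒵 𝒴 :=
        tmap_mem_seg hβ (isGrHom_id' 𝒴) hw₁
      have hwz' : tmap dm (LinearMap.id : Y →ₗ[S] Y) (w : ↥(seg 𝒳m 𝒴)).1 =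
          tmap (j ∘ₗ iZ) (LinearMap.id : Y →ₗ[S] Y) (v : ↥(seg 𝒵 𝒴)).1 :=
        congrArg (fun w : ↥(seg 𝒳 𝒴) => w.1) hwz
      have hvv : v = (⟨tmap β (LinearMap.id : Y →ₗ[S] Y) w₁, hv'⟩ : ↥(seg 𝒵 𝒴)) := by
        apply hκi
        apply Subtype.ext
        change tmap (j ∘ₗ iZ) (LinearMap.id : Y →ₗ[S] Y) (v : ↥(seg 𝒵 𝒴)).1 =
          tmap (j ∘ₗ iZ) (LinearMap.id : Y →ₗ[S] Y) (tmap β (LinearMap.id : Y →ₗ[S] Y) w₁)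
        have h5 : tmap (j ∘ₗ iZ) (LinearMap.id : Y →ₗ[S] Y)
            (tmap β (LinearMap.id : Y →ₗ[S] Y) w₁) =
            tmap dm (LinearMap.id : Y →ₗ[S] Y) (w : ↥(seg 𝒳m 𝒴)).1 := by
          rw [tmap_comp, hcomm, ← hw₁w, tmap_comp]
        rw [h5, hwz']
      rw [hvv]
      apply Subtype.ext
      change tmap π (LinearMap.id : Y →ₗ[S] Y) (tmap β (LinearMap.id : Y →ₗ[S] Y) w₁) = 0
      rw [tmap_comp]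
      exact tmap_eq_zero_of_comp _ hπβ _
  · intro δ z hz
    obtain ⟨v, rfl⟩ := e.surjective z
    rw [LinearMap.comp_apply, LinearEquiv.coe_coe, LinearEquiv.symm_apply_apply]
    have hv : v ∈ (segG 𝒜 ℬ 𝒯 ψ hT 𝒵 𝒴).gr δ :=
      Gr.mem_of_map_mem_of_injective hκgr hκi hz
    exact hρgr δ v hv
  · intro δ h hh
    obtain ⟨v₀, rfl⟩ := hρs h
    have hv : Gr.proj (segG 𝒜 ℬ 𝒯 ψ hT 𝒵 𝒴).gr δ v₀ ∈ (segG 𝒜 ℬ 𝒯 ψ hT 𝒵 𝒴).gr δ :=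
      Gr.proj_mem _ δ v₀
    have hρv : ρ (Gr.proj (segG 𝒜 ℬ 𝒯 ψ hT 𝒵 𝒴).gr δ v₀) = ρ v₀ := by
      rw [Gr.isGrHom_proj _ _ hρgr, Gr.proj_of_mem _ hh]
    refine ⟨e (Gr.proj (segG 𝒜 ℬ 𝒯 ψ hT 𝒵 𝒴).gr δ v₀), hκgr δ _ hv, ?_⟩
    rw [LinearMap.comp_apply, LinearEquiv.coe_coe, LinearEquiv.symm_apply_apply, hρv]

end Pres

end Seg

end Groth.Agent.H6
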