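import Groth.Agent.Lib.Helper6.SegKun1
import Groth.Agent.Lib.Helper6.SegBig5

/-! The Künneth formula `H^q_{T_+}(M # N) ≅ H^q_m(M) # N` when a homogeneous element of positive
degree acts bijectively on `N`: the acyclic resolution. -/

universe u
open DirectSum TensorProduct
set_option linter.unusedSectionVars false

namespace Groth.Agent.H6

namespace Seg

open SegLA ToAdd

section Acyc

variable {k : Type u} [Field k] {R S T : Type u} [CommRing R] [CommRing S] [CommRing T]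
  [Algebra k R] [Algebra k S] [Algebra k T]
  (𝒜 : ℤ → Submodule k R) [GradedAlgebra 𝒜] (ℬ : ℤ → Submodule k S) [GradedAlgebra ℬ]
  (𝒯 : ℤ → Submodule k T) [GradedAlgebra 𝒯]
  (ψ : T →ₐ[k] R ⊗[k] S) (hT : GrSeg.IsSegreRing 𝒜 ℬ 𝒯 ψ)
  [GradedRing (toAdd 𝒜)] [GradedRing (toAdd ℬ)] [GradedRing (toAdd 𝒯)]
variable {X : Type u} [AddCommGroup X] [Module R X] [Module k X] [IsScalarTower k R X]
  (𝒳 : ℤ → AddSubgroup X) [DirectSum.Decomposition 𝒳] [SetLike.GradedSMul 𝒜 𝒳]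
variable {Y : Type u} [AddCommGroup Y] [Module S Y] [Module k Y] [IsScalarTower k S Y]
  (𝒴 : ℤ → AddSubgroup Y) [DirectSum.Decomposition 𝒴] [SetLike.GradedSMul ℬ 𝒴]
variable (mR : HomogeneousIdeal (toAdd 𝒜))
  (hmR : mR.toIdeal = Ideal.span (⋃ n ∈ Set.Ioi (0 : ℤ), (𝒜 n : Set R)))
  (mS : HomogeneousIdeal (toAdd ℬ))
  (hmS : mS.toIdeal = Ideal.span (⋃ n ∈ Set.Ioi (0 : ℤ), (ℬ n : Set S)))
  (mT : HomogeneousIdeal (toAdd 𝒯))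
  (hmT : mT.toIdeal = Ideal.span (⋃ n ∈ Set.Ioi (0 : ℤ), (𝒯 n : Set T)))

include hmS in
/-- a module on which a homogeneous element of positive degree acts injectively has no torsion -/
theorem gam_eq_bot_of_injective {e : ℤ} (he : 0 < e) {g : S} (hg : g ∈ ℬ e)
    (hgi : Function.Injective (fun y : Y => g • y)) : GrLC.gam mS.toIdeal Y = ⊥ := by
  rw [eq_bot_iff]
  rintro y ⟨n, hn⟩
  have hgm : g ∈ mS.toIdeal := by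
    rw [hmS]
    apply Ideal.subset_span
    simp only [Set.mem_iUnion, Set.mem_Ioi, SetLike.mem_coe, exists_prop]
    exact ⟨e, he, hg⟩
  have h1 : g ^ n • y = 0 := hn _ (Ideal.pow_mem_pow hgm n)
  rw [Submodule.mem_bot]
  exact pow_regular (fun z hz => hgi (by simpa using hz)) n y h1

include hmR hmS hmT in
/-- the Segre product of a *injective module with a module on which a homogeneous element of
positive degree acts bijectively is acyclic -/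
theorem acyc_seg_bij [IsNoetherianRing R] [IsNoetherianRing S] [IsNoetherianRing T]
    (hX : GrLC.IsStarInj 𝒜 𝒳) {e : ℤ} (he : 0 < e) {g : S} (hg : g ∈ ℬ e)
    (hgb : Function.Bijective (fun y : Y => g • y)) :
    Gr.Acyc mT (segG 𝒜 ℬ 𝒯 ψ hT 𝒳 𝒴) := by
  letI := gradedSMul_to 𝒜 𝒳
  letI := gradedSMul_to ℬ 𝒴
  have hY : GrLC.gam mS.toIdeal Y = ⊥ := gam_eq_bot_of_injective ℬ mS hmS he hg hgb.1
  have hX' : GrLC.IsStarInj (toAdd 𝒜) 𝒳 := isStarInj_to 𝒜 𝒳 hX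
  have hU : Gr.Good (toAdd 𝒜) (Gr.gamQuot (toAdd 𝒜) 𝒳 mR) :=
    Gr.good_irrelevant (toAdd 𝒜) 𝒳 hX' mR hmR
  have hW : Gr.Good (toAdd ℬ) (GrLC.GMod.of (toAdd ℬ) Y 𝒴) :=
    Gr.Good.bij (GrLC.GMod.of (toAdd ℬ) Y 𝒴) e he g hg hgb
  letI : Module k (Gr.gamQuot (toAdd 𝒜) 𝒳 mR).carrier := Module.compHom _ (algebraMap k R)
  haveI : IsScalarTower k R (Gr.gamQuot (toAdd 𝒜) 𝒳 mR).carrier := compHom_tower R _
  letI := gradedSMul_of 𝒜 (Gr.gamQuot (toAdd 𝒜) 𝒳 mR).gr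
  have hvan : Gr.Van mT (segG 𝒜 ℬ 𝒯 ψ hT (Gr.gamQuot (toAdd 𝒜) 𝒳 mR).gr 𝒴) :=
    van_of_good 𝒜 ℬ 𝒯 ψ hT mT hmT hU inferInstance inferInstance (GrLC.GMod.of (toAdd ℬ) Y 𝒴) hW
      (inferInstanceAs (Module k Y)) (inferInstanceAs (IsScalarTower k S Y))
  let P := segMap 𝒜 ℬ 𝒯 ψ hT 𝒳 𝒴 (Gr.gamQuot (toAdd 𝒜) 𝒳 mR).gr 𝒴
    (Gr.gamQuotMk_isGrHom (toAdd 𝒜) 𝒳 mR) (isGrHom_id' 𝒴)
  have hP : GrLC.IsGrHom (segG 𝒜 ℬ 𝒯 ψ hT 𝒳 𝒴).gr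
      (segG 𝒜 ℬ 𝒯 ψ hT (Gr.gamQuot (toAdd 𝒜) 𝒳 mR).gr 𝒴).gr P :=
    segMap_isGrHom 𝒜 ℬ 𝒯 ψ hT 𝒳 𝒴 _ _ _ _
  have hK : (LinearMap.ker P).IsHomogeneous (segG 𝒜 ℬ 𝒯 ψ hT 𝒳 𝒴).gr :=
    Gr.ker_isHomogeneous (segG 𝒜 ℬ 𝒯 ψ hT 𝒳 𝒴).gr
      (segG 𝒜 ℬ 𝒯 ψ hT (Gr.gamQuot (toAdd 𝒜) 𝒳 mR).gr 𝒴).gr hP
  let U₀ : GrLC.GMod.{u} (toAdd 𝒯) := Gr.GMod.ofSub (toAdd 𝒯) (segG 𝒜 ℬ 𝒯 ψ hT 𝒳 𝒴).gr hK
  let i : U₀.carrier →ₗ[T] (segG 𝒜 ℬ 𝒯 ψ hT 𝒳 𝒴).carrier := (LinearMap.ker P).subtype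
  have hS : Gr.GrSES U₀.gr (segG 𝒜 ℬ 𝒯 ψ hT 𝒳 𝒴).gr
      (segG 𝒜 ℬ 𝒯 ψ hT (Gr.gamQuot (toAdd 𝒜) 𝒳 mR).gr 𝒴).gr i P :=
    { hi := fun g z hz => hz
      hp := hP
      inj := Subtype.val_injective
      surj := segMap_surjective 𝒜 ℬ 𝒯 ψ hT 𝒳 𝒴 _ _ _ _
        (Gr.gamQuotMk_surjective (toAdd 𝒜) 𝒳 mR) Function.surjective_id
      exact := by
        intro m
        constructor
        · intro hm
          exact ⟨⟨m, hm⟩, rfl⟩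
        · rintro ⟨m', rfl⟩
          exact m'.2 }
  have htor : GrLC.gam mT.toIdeal U₀.carrier = ⊤ := by
    rw [eq_top_iff]
    intro u _
    have h1 : P (i u) = 0 := u.2
    have h2 : tmap (Gr.gamQuotMk (toAdd 𝒜) 𝒳 mR) (LinearMap.id : Y →ₗ[S] Y)
        (i u : ↥(seg 𝒳 𝒴)).1 = 0 := congrArg Subtype.val h1
    rw [tmap_eq_zero_iff_qq mR.toIdeal mS.toIdeal (Gr.ker_gamQuotMk (toAdd 𝒜) 𝒳 mR)
      (by rw [LinearMap.ker_id, hY])] at h2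
    have h3 := (mem_gam_iff 𝒜 ℬ 𝒯 ψ hT mR.toIdeal hmR mS.toIdeal hmS mT.toIdeal hmT
      (TSub.full 𝒜 ℬ 𝒯 ψ 𝒳 𝒴 hT) (i u)).mpr h2
    obtain ⟨n, hn⟩ := h3
    exact ⟨n, fun r hr => Subtype.ext (hn r hr)⟩
  exact Gr.Acyc.of_ses hS (Gr.Acyc.of_torsion U₀ htor) hvan.acyc

end Acyc

section ToSeg

variable {k : Type u} [Field k] {R S T : Type u} [CommRing R] [CommRing S] [CommRing T]
  [Algebra k R] [Algebra k S] [Algebra k T]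
  (𝒜 : ℤ → Submodule k R) [GradedAlgebra 𝒜] (ℬ : ℤ → Submodule k S) [GradedAlgebra ℬ]
  (𝒯 : ℤ → Submodule k T) [GradedAlgebra 𝒯]
  (ψ : T →ₐ[k] R ⊗[k] S) (hT : GrSeg.IsSegreRing 𝒜 ℬ 𝒯 ψ)
  [GradedRing (toAdd 𝒜)] [GradedRing (toAdd ℬ)] [GradedRing (toAdd 𝒯)]
variable {M : Type u} [AddCommGroup M] [Module R M] [Module k M] [IsScalarTower k R M]
  (ℳ : ℤ → AddSubgroup M) [DirectSum.Decomposition ℳ] [SetLike.GradedSMul 𝒜 ℳ]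
variable {N : Type u} [AddCommGroup N] [Module S N] [Module k N] [IsScalarTower k S N]
  (𝒩 : ℤ → AddSubgroup N) [DirectSum.Decomposition 𝒩] [SetLike.GradedSMul ℬ 𝒩]
variable {P : Type u} [AddCommGroup P] [Module T P] [Module k P] [IsScalarTower k T P]
  {𝒬 : ℤ → AddSubgroup P} [DirectSum.Decomposition 𝒬]
  {φ : P →ₗ[k] M ⊗[k] N} (hP : GrSeg.IsSegreMod ψ ℳ 𝒩 𝒬 φ)

/-- a Segre product as the concrete Segre product -/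
noncomputable def toSeg : P →ₗ[T] (segG 𝒜 ℬ 𝒯 ψ hT ℳ 𝒩).carrier where
  toFun p := (⟨φ p, phi_mem_seg ψ hP p⟩ : ↥(seg ℳ 𝒩))
  map_add' p p' := Subtype.ext (map_add φ p p')
  map_smul' t p := Subtype.ext (hP.map_smul t p)

theorem coe_toSeg (p : P) :
    (toSeg 𝒜 ℬ 𝒯 ψ hT ℳ 𝒩 hP p : ↥(seg ℳ 𝒩)).1 = φ p := rfl

theorem toSeg_injective : Function.Injective (toSeg 𝒜 ℬ 𝒯 ψ hT ℳ 𝒩 hP) := fun p p' h =>
  hP.injective (congrArg (fun w : ↥(seg ℳ 𝒩) => w.1) h)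

theorem toSeg_gr : GrLC.IsGrHom 𝒬 (segG 𝒜 ℬ 𝒯 ψ hT ℳ 𝒩).gr (toSeg 𝒜 ℬ 𝒯 ψ hT ℳ 𝒩 hP) :=
  fun _ _ hp => Groth.Agent.H9.SegreBij.map_mem_piece ψ ℳ 𝒩 𝒬 φ hP hp

theorem toSeg_surjective : Function.Surjective (toSeg 𝒜 ℬ 𝒯 ψ hT ℳ 𝒩 hP) := by
  rintro ⟨w, hw⟩
  suffices h : ∃ p, φ p = w by
    obtain ⟨p, hp⟩ := h
    exact ⟨p, Subtype.ext hp⟩
  have hw' : w ∈ seg ℳ 𝒩 := hw
  clear hw
  induction hw' using Submodule.iSup_induction' with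
  | mem d w hw =>
    obtain ⟨p, -, hp⟩ := Groth.Agent.H9.SegreBij.exists_of_mem_piece ψ ℳ 𝒩 𝒬 φ hP hw
    exact ⟨p, hp⟩
  | zero => exact ⟨0, map_zero _⟩
  | add a b _ _ ha hb =>
    obtain ⟨p, rfl⟩ := ha
    obtain ⟨p', rfl⟩ := hb
    exact ⟨p + p', map_add _ _ _⟩

end ToSeg

section Res

variable {k : Type u} [Field k] {R S T : Type u} [CommRing R] [CommRing S] [CommRing T]
  [Algebra k R] [Algebra k S] [Algebra k T]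
  (𝒜 : ℤ → Submodule k R) [GradedAlgebra 𝒜] (ℬ : ℤ → Submodule k S) [GradedAlgebra ℬ]
  (𝒯 : ℤ → Submodule k T) [GradedAlgebra 𝒯]
  (ψ : T →ₐ[k] R ⊗[k] S) (hT : GrSeg.IsSegreRing 𝒜 ℬ 𝒯 ψ)
  [GradedRing (toAdd 𝒜)] [GradedRing (toAdd ℬ)] [GradedRing (toAdd 𝒯)]
variable {M : Type u} [AddCommGroup M] [Module R M] [Module k M] [IsScalarTower k R M]
  {ℳ : ℤ → AddSubgroup M} [DirectSum.Decomposition ℳ] [SetLike.GradedSMul 𝒜 ℳ]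
  (E : GrLC.StarInjRes 𝒜 ℳ)
variable {N : Type u} [AddCommGroup N] [Module S N] [Module k N] [IsScalarTower k S N]
  (𝒩 : ℤ → AddSubgroup N) [DirectSum.Decomposition 𝒩] [SetLike.GradedSMul ℬ 𝒩]
variable {P : Type u} [AddCommGroup P] [Module T P] [Module k P] [IsScalarTower k T P]
  {𝒬 : ℤ → AddSubgroup P} [DirectSum.Decomposition 𝒬] [SetLike.GradedSMul (toAdd 𝒯) 𝒬]
  {φ : P →ₗ[k] M ⊗[k] N} (hP : GrSeg.IsSegreMod ψ ℳ 𝒩 𝒬 φ)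
variable (mR : HomogeneousIdeal (toAdd 𝒜))
  (hmR : mR.toIdeal = Ideal.span (⋃ n ∈ Set.Ioi (0 : ℤ), (𝒜 n : Set R)))
  (mS : HomogeneousIdeal (toAdd ℬ))
  (hmS : mS.toIdeal = Ideal.span (⋃ n ∈ Set.Ioi (0 : ℤ), (ℬ n : Set S)))
  (mT : HomogeneousIdeal (toAdd 𝒯))
  (hmT : mT.toIdeal = Ideal.span (⋃ n ∈ Set.Ioi (0 : ℤ), (𝒯 n : Set T)))

/-- the `k`-structure on the terms of a resolution -/
@[reducible] noncomputable def kModX (p : ℕ) : Module k (E.X p).carrier :=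
  Module.compHom _ (algebraMap k R)

attribute [local instance] kModX

theorem kModX_tower (p : ℕ) : IsScalarTower k R (E.X p).carrier := compHom_tower R _

attribute [local instance] kModX_tower

/-- the terms of the resolution of `M # N` -/
noncomputable def kunX (p : ℕ) : GrLC.GMod.{u} (toAdd 𝒯) :=
  segG 𝒜 ℬ 𝒯 ψ hT (E.X p).gr 𝒩

/-- the differentials -/
noncomputable def kunD (p : ℕ) :
    (kunX 𝒜 ℬ 𝒯 ψ hT E 𝒩 p).carrier →ₗ[T] (kunX 𝒜 ℬ 𝒯 ψ hT E 𝒩 (p + 1)).carrier :=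
  segMap 𝒜 ℬ 𝒯 ψ hT (E.X p).gr 𝒩 (E.X (p + 1)).gr 𝒩 (E.d_grHom p) (isGrHom_id' 𝒩)

/-- the augmentation -/
noncomputable def kunε : P →ₗ[T] (kunX 𝒜 ℬ 𝒯 ψ hT E 𝒩 0).carrier :=
  segMap 𝒜 ℬ 𝒯 ψ hT ℳ 𝒩 (E.X 0).gr 𝒩 E.ε_grHom (isGrHom_id' 𝒩) ∘ₗ toSeg 𝒜 ℬ 𝒯 ψ hT ℳ 𝒩 hP

include hmR hmS hmT in
/-- the acyclic resolution `E^• # N` of `M # N` -/
noncomputable def kunRes [IsNoetherianRing R] [IsNoetherianRing S] [IsNoetherianRing T]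
    {e : ℤ} (he : 0 < e) {g : S} (hg : g ∈ ℬ e)
    (hgb : Function.Bijective (fun y : N => g • y)) : Gr.GrAcycRes (toAdd 𝒯) 𝒬 mT where
  X := kunX 𝒜 ℬ 𝒯 ψ hT E 𝒩
  d := kunD 𝒜 ℬ 𝒯 ψ hT E 𝒩
  ε := kunε 𝒜 ℬ 𝒯 ψ hT E 𝒩 hP
  d_grHom p := segMap_isGrHom 𝒜 ℬ 𝒯 ψ hT (E.X p).gr 𝒩 (E.X (p + 1)).gr 𝒩 (E.d_grHom p)
    (isGrHom_id' 𝒩)
  ε_grHom := fun δ p hp =>
    segMap_isGrHom 𝒜 ℬ 𝒯 ψ hT ℳ 𝒩 (E.X 0).gr 𝒩 E.ε_grHom (isGrHom_id' 𝒩) δ _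
      (toSeg_gr 𝒜 ℬ 𝒯 ψ hT ℳ 𝒩 hP δ p hp)
  ε_injective :=
    (segMap_injective 𝒜 ℬ 𝒯 ψ hT ℳ 𝒩 (E.X 0).gr 𝒩 E.ε_grHom (isGrHom_id' 𝒩) E.ε_injective
      Function.injective_id).comp (toSeg_injective 𝒜 ℬ 𝒯 ψ hT ℳ 𝒩 hP)
  exact_zero := by
    apply le_antisymm
    · intro u hu
      have h0 : tmap (E.d 0) (LinearMap.id : N →ₗ[S] N) (u : ↥(seg (E.X 0).gr 𝒩)).1 = 0 :=
        congrArg (fun w : ↥(seg (E.X (0 + 1)).gr 𝒩) => w.1) hu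
      have hex : Function.Exact E.ε (E.d 0) := by
        intro x
        rw [← LinearMap.mem_ker, E.exact_zero]
        rfl
      obtain ⟨w', hw', hww⟩ := exact_left' 𝒜 ℬ E.ε_grHom hex (u : ↥(seg (E.X 0).gr 𝒩)).2 h0
      obtain ⟨p, hp⟩ := toSeg_surjective 𝒜 ℬ 𝒯 ψ hT ℳ 𝒩 hP (⟨w', hw'⟩ : ↥(seg ℳ 𝒩))
      refine ⟨p, Subtype.ext ?_⟩
      change tmap E.ε (LinearMap.id : N →ₗ[S] N)
        (toSeg 𝒜 ℬ 𝒯 ψ hT ℳ 𝒩 hP p : ↥(seg ℳ 𝒩)).1 = _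
      rw [hp]
      exact hww
    · rintro _ ⟨p, rfl⟩
      rw [LinearMap.mem_ker]
      apply Subtype.ext
      change tmap (E.d 0) (LinearMap.id : N →ₗ[S] N)
        (tmap E.ε (LinearMap.id : N →ₗ[S] N) (φ p)) = 0
      rw [tmap_comp]
      refine tmap_eq_zero_of_comp _ ?_ _
      ext x
      have : E.ε x ∈ LinearMap.ker (E.d 0) := by
        rw [E.exact_zero]
        exact ⟨x, rfl⟩
      exact this
  exact_succ p := by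
    apply le_antisymm
    · intro u hu
      have h0 : tmap (E.d (p + 1)) (LinearMap.id : N →ₗ[S] N)
          (u : ↥(seg (E.X (p + 1)).gr 𝒩)).1 = 0 :=
        congrArg (fun w : ↥(seg (E.X (p + 1 + 1)).gr 𝒩) => w.1) hu
      have hex : Function.Exact (E.d p) (E.d (p + 1)) := by
        intro x
        rw [← LinearMap.mem_ker, E.exact_succ p]
        rfl
      obtain ⟨w', hw', hww⟩ := exact_left' 𝒜 ℬ (E.d_grHom p) hex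
        (u : ↥(seg (E.X (p + 1)).gr 𝒩)).2 h0
      exact ⟨(⟨w', hw'⟩ : ↥(seg (E.X p).gr 𝒩)), Subtype.ext hww⟩
    · rintro _ ⟨w, rfl⟩
      rw [LinearMap.mem_ker]
      apply Subtype.ext
      change tmap (E.d (p + 1)) (LinearMap.id : N →ₗ[S] N)
        (tmap (E.d p) (LinearMap.id : N →ₗ[S] N) (w : ↥(seg (E.X p).gr 𝒩)).1) = 0
      rw [tmap_comp]
      refine tmap_eq_zero_of_comp _ ?_ _
      ext x
      have : E.d p x ∈ LinearMap.ker (E.d (p + 1)) := by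
        rw [E.exact_succ p]
        exact ⟨x, rfl⟩
      exact this
  acyclic p := acyc_seg_bij 𝒜 ℬ 𝒯 ψ hT (E.X p).gr 𝒩 mR hmR mS hmS mT hmT (E.starInj p) he hg hgb

end Res

end Seg

end Groth.Agent.H6
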