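import Groth.Agent.Lib.Helper6.SegKun2

/-! The Künneth formula `H^q_{T_+}(M # N) ≅ H^q_m(M) # N` when a homogeneous element of positive
degree acts bijectively on `N`. -/

universe u
open DirectSum TensorProduct
set_option linter.unusedSectionVars false

namespace Groth.Agent.H6

namespace Seg

open SegLA ToAdd

section Pres

variable {k : Type u} [Field k] {R S T : Type u} [CommRing R] [CommRing S] [CommRing T]
  [Algebra k R] [Algebra k S] [Algebra k T]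
  (𝒜 : ℤ → Submodule k R) [GradedAlgebra 𝒜] (ℬ : ℤ → Submodule k S) [GradedAlgebra ℬ]
  (𝒯 : ℤ → Submodule k T) [GradedAlgebra 𝒯]
  (ψ : T →ₐ[k] R ⊗[k] S) (hT : GrSeg.IsSegreRing 𝒜 ℬ 𝒯 ψ)
  [GradedRing (toAdd 𝒜)] [GradedRing (toAdd ℬ)] [GradedRing (toAdd 𝒯)]
variable {M : Type u} [AddCommGroup M] [Module R M] [Module k M] [IsScalarTower k R M]
  {ℳ : ℤ → AddSubgroup M} [DirectSum.Decomposition ℳ] [SetLike.GradedSMul 𝒜 ℳ]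
  (E : GrLC.StarInjRes 𝒜 ℳ)
variable {N : Type u} [AddCommGroup N] [Module S N] [Module k N] [IsScalarTower k S N]
  (𝒩 : ℤ → AddSubgroup N) [DirectSum.Decomposition 𝒩] [SetLike.GradedSMul ℬ 𝒩]
variable (mR : HomogeneousIdeal 𝒜)
  (hmR : mR.toIdeal = Ideal.span (⋃ n ∈ Set.Ioi (0 : ℤ), (𝒜 n : Set R)))
  (mS : Ideal S) (hmS : mS = Ideal.span (⋃ n ∈ Set.Ioi (0 : ℤ), (ℬ n : Set S)))
  (mT : Ideal T) (hmT : mT = Ideal.span (⋃ n ∈ Set.Ioi (0 : ℤ), (𝒯 n : Set T)))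

variable (q : ℕ) [i1 : Module k (E.H mR q)]
  [i2 : @IsScalarTower k R (E.H mR q) _ _ i1.toDistribMulAction.toMulAction.toSMul]
  [DirectSum.Decomposition (E.Hgr mR q)] [SetLike.GradedSMul 𝒜 (E.Hgr mR q)]

attribute [local instance] kModX kModX_tower

theorem sub_gradedSMul' {X : Type u} [AddCommGroup X] [Module R X] (𝒳 : ℤ → AddSubgroup X)
    [SetLike.GradedSMul 𝒜 𝒳] (P : Submodule R X) : SetLike.GradedSMul 𝒜 (Gr.subGr 𝒳 P) where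
  smul_mem := by
    intro i j r x hr hx
    exact SetLike.GradedSMul.smul_mem (A := 𝒜) (B := 𝒳) hr hx

include hmR hmS hmT in
/-- the cocycle presentation for the resolution `E^• # N` -/
theorem exists_pres_res [IsNoetherianRing R] [IsNoetherianRing S]
    (hY : GrLC.gam mS N = ⊥) (pm : ℕ)
    {dm : (E.X pm).carrier →ₗ[R] (E.X q).carrier} (hdm : GrLC.IsGrHom (E.X pm).gr (E.X q).gr dm)
    (hdd : ∀ x, E.d q (dm x) = 0)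
    (hcob : E.cobdy mR q = (GrLC.gam mR.toIdeal (E.X pm).carrier).map dm) :
    ∃ Ξ : ↥(ZT 𝒜 ℬ 𝒯 ψ hT mT 𝒩 (E.X q).gr (E.X (q + 1)).gr (E.d_grHom q)) →ₗ[T]
        (segG 𝒜 ℬ 𝒯 ψ hT (E.Hgr mR q) 𝒩).carrier,
      Function.Surjective Ξ ∧
      LinearMap.ker Ξ = (BT 𝒜 ℬ 𝒯 ψ hT mT 𝒩 (E.X pm).gr (E.X q).gr hdm).comap
        (Submodule.subtype _) ∧
      (∀ (δ : ℤ) (z : ↥(ZT 𝒜 ℬ 𝒯 ψ hT mT 𝒩 (E.X q).gr (E.X (q + 1)).gr (E.d_grHom q))),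
        (z : (segG 𝒜 ℬ 𝒯 ψ hT (E.X q).gr 𝒩).carrier) ∈ (segG 𝒜 ℬ 𝒯 ψ hT (E.X q).gr 𝒩).gr δ →
        Ξ z ∈ (segG 𝒜 ℬ 𝒯 ψ hT (E.Hgr mR q) 𝒩).gr δ) ∧
      (∀ (δ : ℤ) h, h ∈ (segG 𝒜 ℬ 𝒯 ψ hT (E.Hgr mR q) 𝒩).gr δ →
        ∃ z : ↥(ZT 𝒜 ℬ 𝒯 ψ hT mT 𝒩 (E.X q).gr (E.X (q + 1)).gr (E.d_grHom q)),
          (z : (segG 𝒜 ℬ 𝒯 ψ hT (E.X q).gr 𝒩).carrier) ∈
            (segG 𝒜 ℬ 𝒯 ψ hT (E.X q).gr 𝒩).gr δ ∧ Ξ z = h) := by
  haveI hgs : ∀ p, SetLike.GradedSMul (toAdd 𝒜) (E.X p).gr := fun p => gradedSMul_to 𝒜 (E.X p).gr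
  haveI := gradedSMul_to 𝒜 ℳ
  have hΓm : (GrLC.gam mR.toIdeal (E.X pm).carrier).IsHomogeneous (E.X pm).gr :=
    Gr.gam_isHomogeneous (toAdd 𝒜) (E.X pm).gr (idealTo 𝒜 mR)
  have hΓ : (GrLC.gam mR.toIdeal (E.X q).carrier).IsHomogeneous (E.X q).gr :=
    Gr.gam_isHomogeneous (toAdd 𝒜) (E.X q).gr (idealTo 𝒜 mR)
  have hZ : (E.cocyc mR q).IsHomogeneous (E.X q).gr :=
    Gr.cocyc_isHomogeneous (toAdd 𝒜) ℳ (resToM 𝒜 E) (idealTo 𝒜 mR) q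
  letI := Gr.subDecomposition (E.X pm).gr hΓm
  letI := Gr.subDecomposition (E.X q).gr hΓ
  letI := Gr.subDecomposition (E.X q).gr hZ
  haveI := sub_gradedSMul' 𝒜 (E.X pm).gr (GrLC.gam mR.toIdeal (E.X pm).carrier)
  haveI := sub_gradedSMul' 𝒜 (E.X q).gr (GrLC.gam mR.toIdeal (E.X q).carrier)
  haveI := sub_gradedSMul' 𝒜 (E.X q).gr (E.cocyc mR q)
  have hle : E.cocyc mR q ≤ GrLC.gam mR.toIdeal (E.X q).carrier := inf_le_left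
  have hβmem : ∀ g : ↥(GrLC.gam mR.toIdeal (E.X pm).carrier),
      (dm ∘ₗ (GrLC.gam mR.toIdeal (E.X pm).carrier).subtype) g ∈ E.cocyc mR q := by
    intro g
    refine Submodule.mem_inf.mpr ⟨?_, ?_⟩
    · obtain ⟨n, hn⟩ := g.2
      refine ⟨n, fun r hr => ?_⟩
      change r • dm g.1 = 0
      rw [← map_smul, hn r hr, map_zero]
    · rw [LinearMap.mem_ker]
      exact hdd _
  refine exists_cocycle_pres 𝒜 ℬ 𝒯 ψ hT mR.toIdeal hmR mS hmS mT hmT 𝒩 (E.X pm).gr (E.X q).gr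
    (E.X (q + 1)).gr (Gr.subGr (E.X pm).gr (GrLC.gam mR.toIdeal (E.X pm).carrier))
    (Gr.subGr (E.X q).gr (GrLC.gam mR.toIdeal (E.X q).carrier))
    (Gr.subGr (E.X q).gr (E.cocyc mR q)) (E.Hgr mR q) hY hdm (E.d_grHom q)
    (jm := (GrLC.gam mR.toIdeal (E.X pm).carrier).subtype) (fun _ _ h => h)
    (Submodule.range_subtype _)
    (j := (GrLC.gam mR.toIdeal (E.X q).carrier).subtype) (fun _ _ h => h)
    (Submodule.subtype_injective _) (Submodule.range_subtype _)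
    (iZ := Submodule.inclusion hle) (fun _ _ h => h) (Submodule.inclusion_injective hle) ?_
    (β := (dm ∘ₗ (GrLC.gam mR.toIdeal (E.X pm).carrier).subtype).codRestrict (E.cocyc mR q) hβmem)
    ?_ (fun _ => rfl) (π := E.toH mR q) ?_ (Submodule.mkQ_surjective _) ?_
  · intro g
    constructor
    · intro hg
      exact ⟨⟨g.1, Submodule.mem_inf.mpr ⟨g.2, LinearMap.mem_ker.mpr hg⟩⟩, rfl⟩
    · rintro ⟨z, rfl⟩
      exact LinearMap.mem_ker.mp (Submodule.mem_inf.mp z.2).2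
  · intro δ g hg
    exact hdm δ _ hg
  · intro δ z hz
    exact ⟨z, hz, rfl⟩
  · intro z
    rw [← LinearMap.mem_ker, Submodule.ker_mkQ, Submodule.mem_comap, hcob]
    constructor
    · intro hz
      obtain ⟨g, hg, hgz⟩ := Submodule.mem_map.mp hz
      exact ⟨⟨g, hg⟩, Subtype.ext hgz⟩
    · rintro ⟨g, rfl⟩
      exact Submodule.mem_map.mpr ⟨g.1, g.2, rfl⟩

end Pres

section Pres2

variable {k : Type u} [Field k] {R S T : Type u} [CommRing R] [CommRing S] [CommRing T]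
  [Algebra k R] [Algebra k S] [Algebra k T]
  (𝒜 : ℤ → Submodule k R) [GradedAlgebra 𝒜] (ℬ : ℤ → Submodule k S) [GradedAlgebra ℬ]
  (𝒯 : ℤ → Submodule k T) [GradedAlgebra 𝒯]
  (ψ : T →ₐ[k] R ⊗[k] S) (hT : GrSeg.IsSegreRing 𝒜 ℬ 𝒯 ψ)
  [GradedRing (toAdd 𝒜)] [GradedRing (toAdd ℬ)] [GradedRing (toAdd 𝒯)]
variable {M : Type u} [AddCommGroup M] [Module R M] [Module k M] [IsScalarTower k R M]
  {ℳ : ℤ → AddSubgroup M} [DirectSum.Decomposition ℳ] [SetLike.GradedSMul 𝒜 ℳ]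
  (E : GrLC.StarInjRes 𝒜 ℳ)
variable {N : Type u} [AddCommGroup N] [Module S N] [Module k N] [IsScalarTower k S N]
  (𝒩 : ℤ → AddSubgroup N) [DirectSum.Decomposition 𝒩] [SetLike.GradedSMul ℬ 𝒩]
variable (mR : HomogeneousIdeal 𝒜)
  (hmR : mR.toIdeal = Ideal.span (⋃ n ∈ Set.Ioi (0 : ℤ), (𝒜 n : Set R)))
  (mS : Ideal S) (hmS : mS = Ideal.span (⋃ n ∈ Set.Ioi (0 : ℤ), (ℬ n : Set S)))
  (mT : Ideal T) (hmT : mT = Ideal.span (⋃ n ∈ Set.Ioi (0 : ℤ), (𝒯 n : Set T)))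

attribute [local instance] kModX kModX_tower

/-- the coboundaries of the complex `Γ_{T_+}(E^• # N)` -/
noncomputable def cobT : (q : ℕ) → Submodule T (segG 𝒜 ℬ 𝒯 ψ hT (E.X q).gr 𝒩).carrier
  | 0 => ⊥
  | n + 1 => BT 𝒜 ℬ 𝒯 ψ hT mT 𝒩 (E.X n).gr (E.X (n + 1)).gr (E.d_grHom n)

include hmR hmS hmT in
/-- the cocycle presentation for the resolution `E^• # N`, in all degrees -/
theorem exists_pres_res' [IsNoetherianRing R] [IsNoetherianRing S]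
    (hY : GrLC.gam mS N = ⊥) : ∀ (q : ℕ) [i1 : Module k (E.H mR q)]
    [i2 : @IsScalarTower k R (E.H mR q) _ _ i1.toDistribMulAction.toMulAction.toSMul]
    [DirectSum.Decomposition (E.Hgr mR q)] [SetLike.GradedSMul 𝒜 (E.Hgr mR q)],
    ∃ Ξ : ↥(ZT 𝒜 ℬ 𝒯 ψ hT mT 𝒩 (E.X q).gr (E.X (q + 1)).gr (E.d_grHom q)) →ₗ[T]
        (segG 𝒜 ℬ 𝒯 ψ hT (E.Hgr mR q) 𝒩).carrier,
      Function.Surjective Ξ ∧
      LinearMap.ker Ξ = (cobT 𝒜 ℬ 𝒯 ψ hT E 𝒩 mT q).comap (Submodule.subtype _) ∧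
      (∀ (δ : ℤ) (z : ↥(ZT 𝒜 ℬ 𝒯 ψ hT mT 𝒩 (E.X q).gr (E.X (q + 1)).gr (E.d_grHom q))),
        (z : (segG 𝒜 ℬ 𝒯 ψ hT (E.X q).gr 𝒩).carrier) ∈ (segG 𝒜 ℬ 𝒯 ψ hT (E.X q).gr 𝒩).gr δ →
        Ξ z ∈ (segG 𝒜 ℬ 𝒯 ψ hT (E.Hgr mR q) 𝒩).gr δ) ∧
      (∀ (δ : ℤ) h, h ∈ (segG 𝒜 ℬ 𝒯 ψ hT (E.Hgr mR q) 𝒩).gr δ →
        ∃ z : ↥(ZT 𝒜 ℬ 𝒯 ψ hT mT 𝒩 (E.X q).gr (E.X (q + 1)).gr (E.d_grHom q)),
          (z : (segG 𝒜 ℬ 𝒯 ψ hT (E.X q).gr 𝒩).carrier) ∈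
            (segG 𝒜 ℬ 𝒯 ψ hT (E.X q).gr 𝒩).gr δ ∧ Ξ z = h) := by
  intro q
  cases q with
  | zero =>
    intro i1 i2 i3 i4
    have hdm : GrLC.IsGrHom (E.X 0).gr (E.X 0).gr (0 : (E.X 0).carrier →ₗ[R] (E.X 0).carrier) :=
      fun δ x _ => by rw [LinearMap.zero_apply]; exact zero_mem _
    obtain ⟨Ξ, h1, h2, h3, h4⟩ := exists_pres_res 𝒜 ℬ 𝒯 ψ hT E 𝒩 mR hmR mS hmS mT hmT 0 hY 0
      hdm (fun x => by rw [LinearMap.zero_apply, map_zero])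
      (by rw [Submodule.map_zero]; rfl)
    refine ⟨Ξ, h1, ?_, h3, h4⟩
    rw [h2]
    congr 1
    change Submodule.map _ _ = ⊥
    rw [eq_bot_iff]
    rintro _ ⟨w, -, rfl⟩
    rw [Submodule.mem_bot]
    apply Subtype.ext
    change tmap (0 : (E.X 0).carrier →ₗ[R] (E.X 0).carrier) (LinearMap.id : N →ₗ[S] N)
      (w : ↥(seg (E.X 0).gr 𝒩)).1 = 0
    exact tmap_eq_zero_of_comp _ rfl _
  | succ n =>
    intro i1 i2 i3 i4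
    exact exists_pres_res 𝒜 ℬ 𝒯 ψ hT E 𝒩 mR hmR mS hmS mT hmT (n + 1) hY n (E.d_grHom n)
      (fun x => by
        have : E.d n x ∈ LinearMap.ker (E.d (n + 1)) := by
          rw [E.exact_succ n]
          exact ⟨x, rfl⟩
        exact this) rfl

end Pres2

end Seg

end Groth.Agent.H6
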