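import Groth.Agent.Lib.Helper6.SegKun3
import Groth.Agent.Lib.Helper6.SegCM3
import Groth.Agent.S18646

/-! The Künneth formula `H^q_{T_+}(M # N) ≅ H^q_m(M) # N` when a homogeneous element of positive
degree acts bijectively on `N`: the theorem. -/

universe u
open DirectSum TensorProduct
set_option linter.unusedSectionVars false

namespace Groth.Agent.H6

namespace Seg

open SegLA ToAdd

theorem exists_equiv_of_pres {T : Type u} [CommRing T] {Z H1 H2 : Type u} [AddCommGroup Z]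
    [Module T Z] [AddCommGroup H1] [Module T H1] [AddCommGroup H2] [Module T H2]
    (Φ : Z →ₗ[T] H1) (Ξ : Z →ₗ[T] H2) (hΦ : Function.Surjective Φ) (hΞ : Function.Surjective Ξ)
    (hk : LinearMap.ker Φ = LinearMap.ker Ξ) : ∃ χ : H1 ≃ₗ[T] H2, ∀ z, χ (Φ z) = Ξ z := by
  refine ⟨(Φ.quotKerEquivOfSurjective hΦ).symm ≪≫ₗ (Submodule.quotEquivOfEq _ _ hk) ≪≫ₗ
    (Ξ.quotKerEquivOfSurjective hΞ), fun z => ?_⟩
  have h1 : (Φ.quotKerEquivOfSurjective hΦ).symm (Φ z) = Submodule.Quotient.mk z := by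
    rw [LinearEquiv.symm_apply_eq]
    rfl
  rw [LinearEquiv.trans_apply, LinearEquiv.trans_apply, h1]
  rfl

attribute [local instance] kModX kModX_tower in
set_option maxHeartbeats 1600000 in
/-- **Künneth formula**: `H^q_{T_+}(M # N) ≅ H^q_m(M) # N` when a homogeneous element of positive
degree acts bijectively on `N` -/
theorem kunneth_of_bijective (k : Type u) [Field k] (R : Type u) [CommRing R] [Algebra k R]
    (𝒜 : ℤ → Submodule k R) [GradedAlgebra 𝒜] (hposR : ∀ n : ℤ, n < 0 → 𝒜 n = ⊥)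
    (h0R : 𝒜 0 = Submodule.span k {(1 : R)}) [Algebra.FiniteType k R] (S : Type u) [CommRing S]
    [Algebra k S] (ℬ : ℤ → Submodule k S) [GradedAlgebra ℬ]
    (hposS : ∀ n : ℤ, n < 0 → ℬ n = ⊥) (h0S : ℬ 0 = Submodule.span k {(1 : S)})
    [Algebra.FiniteType k S] (T : Type u) [CommRing T] [Algebra k T] (𝒯 : ℤ → Submodule k T)
    [GradedAlgebra 𝒯] (ψ : T →ₐ[k] TensorProduct k R S) (hT : GrSeg.IsSegreRing 𝒜 ℬ 𝒯 ψ)
    (mR : HomogeneousIdeal 𝒜)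
    (hmR : mR.toIdeal = Ideal.span (⋃ n ∈ Set.Ioi (0 : ℤ), (𝒜 n : Set R)))
    (mT : HomogeneousIdeal 𝒯)
    (hmT : mT.toIdeal = Ideal.span (⋃ n ∈ Set.Ioi (0 : ℤ), (𝒯 n : Set T)))
    (M : Type u) [AddCommGroup M] [Module R M] [Module k M] [IsScalarTower k R M]
    (ℳ : ℤ → AddSubgroup M) [DirectSum.Decomposition ℳ] [SetLike.GradedSMul 𝒜 ℳ]
    (EM : GrLC.StarInjRes 𝒜 ℳ) (N : Type u) [AddCommGroup N] [Module S N] [Module k N]
    [IsScalarTower k S N] (𝒩 : ℤ → AddSubgroup N) [DirectSum.Decomposition 𝒩]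
    [SetLike.GradedSMul ℬ 𝒩] (e : ℕ) (he : 0 < e) (g : S) (hg : g ∈ ℬ (e : ℤ))
    (hgN : Function.Bijective (fun y : N => g • y)) (P : Type u) [AddCommGroup P] [Module T P]
    [Module k P] [IsScalarTower k T P] (𝒬 : ℤ → AddSubgroup P) [DirectSum.Decomposition 𝒬]
    [SetLike.GradedSMul 𝒯 𝒬] (φ : P →ₗ[k] TensorProduct k M N)
    (hP : GrSeg.IsSegreMod ψ ℳ 𝒩 𝒬 φ) (EP : GrLC.StarInjRes 𝒯 𝒬) (q : ℕ)
    [i1 : Module k (EM.H mR q)]
    [i2 : @IsScalarTower k R (EM.H mR q) _ _ i1.toDistribMulAction.toMulAction.toSMul]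
    [j1 : Module k (EP.H mT q)]
    [j2 : @IsScalarTower k T (EP.H mT q) _ _ j1.toDistribMulAction.toMulAction.toSMul]
    [DirectSum.Decomposition (EP.Hgr mT q)] :
    ∃ φ' : EP.H mT q →ₗ[k] TensorProduct k (EM.H mR q) N,
      GrSeg.IsSegreMod ψ (EM.Hgr mR q) 𝒩 (EP.Hgr mT q) φ' := by
  haveI : IsNoetherianRing R := Algebra.FiniteType.isNoetherianRing k R
  haveI : IsNoetherianRing S := Algebra.FiniteType.isNoetherianRing k S
  haveI : IsNoetherianRing T :=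
    Groth.Agent.S18646.result k R 𝒜 hposR h0R S ℬ hposS h0S T 𝒯 ψ hT.1 hT.2
  letI := gradedRing_toAdd 𝒜
  letI := gradedRing_toAdd ℬ
  letI := gradedRing_toAdd 𝒯
  obtain ⟨mS, hmS⟩ := exists_irrel ℬ
  haveI := gradedSMul_to 𝒯 𝒬
  haveI := gradedSMul_to 𝒜 ℳ
  have he' : (0 : ℤ) < (e : ℤ) := by exact_mod_cast he
  have hY : GrLC.gam mS.toIdeal N = ⊥ :=
    gam_eq_bot_of_injective ℬ (idealTo ℬ mS) hmS he' hg hgN.1
  letI : DirectSum.Decomposition (EM.Hgr mR q) :=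
    (Gr.isInternal_Hgr (toAdd 𝒜) ℳ (resToM 𝒜 EM) (idealTo 𝒜 mR) q).chooseDecomposition
  haveI hsm : SetLike.GradedSMul (toAdd 𝒜) (EM.Hgr mR q) :=
    Gr.Hgr_gradedSMul (resToM 𝒜 EM) (idealTo 𝒜 mR) q
  haveI : SetLike.GradedSMul 𝒜 (EM.Hgr mR q) := gradedSMul_of 𝒜 (EM.Hgr mR q)
  obtain ⟨Φ, hΦs, hΦk, hΦg, hΦg'⟩ :=
    (kunRes 𝒜 ℬ 𝒯 ψ hT EM 𝒩 hP (idealTo 𝒜 mR) hmR (idealTo ℬ mS) hmS (idealTo 𝒯 mT) hmT he' hg
      hgN).hasComparison (resToM 𝒯 EP) q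
  obtain ⟨Ξ, hΞs, hΞk, hΞg, hΞg'⟩ := exists_pres_res' 𝒜 ℬ 𝒯 ψ hT EM 𝒩 mR hmR mS.toIdeal hmS
    mT.toIdeal hmT hY q
  have hcob : (kunRes 𝒜 ℬ 𝒯 ψ hT EM 𝒩 hP (idealTo 𝒜 mR) hmR (idealTo ℬ mS) hmS (idealTo 𝒯 mT) hmT
      he' hg hgN).cobdy q = cobT 𝒜 ℬ 𝒯 ψ hT EM 𝒩 mT.toIdeal q := by
    cases q <;> rfl
  obtain ⟨χ, hχ⟩ := exists_equiv_of_pres Φ Ξ hΦs hΞs
    (by
      refine Eq.trans (show LinearMap.ker Φ = _ from hΦk) ?_
      refine Eq.trans ?_ (show _ = LinearMap.ker Ξ from hΞk.symm)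
      rw [hcob]
      rfl)
  let χf : EP.H mT q → ↥(seg (EM.Hgr mR q) 𝒩) := fun x => χ x
  have hadd : ∀ x y : EP.H mT q, χf (x + y) = χf x + χf y := fun x y => map_add χ x y
  have hTsm : ∀ (t : T) (x : EP.H mT q), χf (t • x) =
      (show ↥(TSub.full 𝒜 ℬ 𝒯 ψ (EM.Hgr mR q) 𝒩 hT).U from
        t • (show ↥(TSub.full 𝒜 ℬ 𝒯 ψ (EM.Hgr mR q) 𝒩 hT).U from χf x)) :=
    fun t x => map_smul χ t x
  let χk : EP.H mT q →ₗ[k] ↥(seg (EM.Hgr mR q) 𝒩) :=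
    { toFun := χf
      map_add' := hadd
      map_smul' := by
        intro c x
        have h1 := (algebraMap_smul T c x).symm
        rw [h1, hTsm]
        exact algebraMap_smul (M := ↥(TSub.full 𝒜 ℬ 𝒯 ψ (EM.Hgr mR q) 𝒩 hT).U) T c _ }
  refine ⟨(seg (EM.Hgr mR q) 𝒩).subtype ∘ₗ χk, ?_, ?_, ?_⟩
  · exact Subtype.val_injective.comp χ.injective
  · intro n
    ext w
    constructor
    · rintro ⟨x, hx, rfl⟩
      obtain ⟨z, hz, rfl⟩ := hΦg' n x hx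
      have h1 := hΞg n z hz
      have h2 := hχ z
      have h3 : χ (Φ z) ∈ (segG 𝒜 ℬ 𝒯 ψ hT (EM.Hgr mR q) 𝒩).gr n := by
        rw [h2]
        exact h1
      exact h3
    · intro hw
      obtain ⟨z, hz, hzw⟩ := hΞg' n ⟨w, piece_le_seg (EM.Hgr mR q) 𝒩 n hw⟩ hw
      refine ⟨Φ z, hΦg n z hz, ?_⟩
      exact congrArg Subtype.val ((hχ z).trans hzw)
  · intro t p
    exact congrArg Subtype.val (hTsm t p)

end Seg

end Groth.Agent.H6
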