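import Mathlib

/-! Linear algebra toolkit for the Künneth computation of Segre products:
subquotients, graded vector spaces, glueing of linear maps along a decomposition,
generalized inverses, and the homotopy decomposition of a complex of vector spaces. -/

universe u v w
open DirectSum

namespace Groth.Agent.H6

namespace SegLA

section SQ

variable {k : Type*} [Field k] {V : Type*} {W : Type*} [AddCommGroup V] [Module k V]
  [AddCommGroup W] [Module k W]

/-- the subquotient `Z / (Z ∩ B)` -/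
abbrev SQ (Z B : Submodule k V) : Type _ := ↥Z ⧸ (B.comap Z.subtype)

/-- the map induced on subquotients -/
noncomputable def sqMap (f : V →ₗ[k] W) {Z B : Submodule k V} {Z' B' : Submodule k W}
    (h1 : ∀ z ∈ Z, f z ∈ Z') (h2 : ∀ z ∈ Z, z ∈ B → f z ∈ B') : SQ Z B →ₗ[k] SQ Z' B' :=
  Submodule.mapQ _ _ (f.restrict h1) (by
    intro z hz
    exact h2 z.1 z.2 hz)

theorem sqMap_mk (f : V →ₗ[k] W) {Z B : Submodule k V} {Z' B' : Submodule k W}
    (h1 : ∀ z ∈ Z, f z ∈ Z') (h2 : ∀ z ∈ Z, z ∈ B → f z ∈ B') (z : Z) :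
    sqMap f h1 h2 (Submodule.Quotient.mk z) = Submodule.Quotient.mk ⟨f z.1, h1 z.1 z.2⟩ := rfl

theorem sqMap_bijective (f : V →ₗ[k] W) {Z B : Submodule k V} {Z' B' : Submodule k W}
    (h1 : ∀ z ∈ Z, f z ∈ Z') (h2 : ∀ z ∈ Z, z ∈ B → f z ∈ B')
    (h3 : ∀ z ∈ Z, f z ∈ B' → z ∈ B) (h4 : ∀ z' ∈ Z', ∃ z ∈ Z, f z - z' ∈ B') :
    Function.Bijective (sqMap f h1 h2) := by
  constructor
  · rw [injective_iff_map_eq_zero]
    intro x hx
    obtain ⟨z, rfl⟩ := Submodule.Quotient.mk_surjective _ x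
    rw [sqMap_mk, Submodule.Quotient.mk_eq_zero, Submodule.mem_comap] at hx
    rw [Submodule.Quotient.mk_eq_zero, Submodule.mem_comap]
    exact h3 z.1 z.2 hx
  · intro y
    obtain ⟨z', rfl⟩ := Submodule.Quotient.mk_surjective _ y
    obtain ⟨z, hz, hzz⟩ := h4 z'.1 z'.2
    refine ⟨Submodule.Quotient.mk ⟨z, hz⟩, ?_⟩
    rw [sqMap_mk, Submodule.Quotient.eq, Submodule.mem_comap]
    exact hzz

/-- the equivalence of subquotients induced by a linear map -/
noncomputable def sqEquiv (f : V →ₗ[k] W) {Z B : Submodule k V} {Z' B' : Submodule k W}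
    (h1 : ∀ z ∈ Z, f z ∈ Z') (h2 : ∀ z ∈ Z, z ∈ B → f z ∈ B')
    (h3 : ∀ z ∈ Z, f z ∈ B' → z ∈ B) (h4 : ∀ z' ∈ Z', ∃ z ∈ Z, f z - z' ∈ B') :
    SQ Z B ≃ₗ[k] SQ Z' B' :=
  LinearEquiv.ofBijective (sqMap f h1 h2) (sqMap_bijective f h1 h2 h3 h4)

/-- subquotients only depend on the subspaces up to the obvious equalities -/
noncomputable def sqCongr {Z B Z' B' : Submodule k V} (hZ : Z = Z')
    (hB : ∀ z ∈ Z, z ∈ B ↔ z ∈ B') : SQ Z B ≃ₗ[k] SQ Z' B' :=
  sqEquiv LinearMap.id (fun z hz => hZ ▸ hz) (fun z hz hb => (hB z hz).mp hb)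
    (fun z hz hb => (hB z hz).mpr hb)
    (fun z' hz' => ⟨z', hZ ▸ hz', by simp⟩)

/-- a subquotient with zero denominator -/
noncomputable def sqBot (Z : Submodule k V) : SQ Z ⊥ ≃ₗ[k] Z :=
  (Submodule.quotEquivOfEqBot _ (by
    rw [eq_bot_iff]
    intro z hz
    rw [Submodule.mem_comap, Submodule.mem_bot] at hz
    rw [Submodule.mem_bot]
    exact Subtype.ext hz))

end SQ



section Graded

variable {k : Type*} [Field k] {ι : Type*} [DecidableEq ι]
variable {V : Type*} [AddCommGroup V] [Module k V] (𝒱 : ι → Submodule k V)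
variable {W : Type*} [AddCommGroup W] [Module k W]

section Dec
variable [DirectSum.Decomposition 𝒱]

/-- the projection onto the `i`-th piece -/
noncomputable def prk (i : ι) : V →ₗ[k] V :=
  (𝒱 i).subtype ∘ₗ (DirectSum.component k ι (fun i => 𝒱 i) i) ∘ₗ
    (DirectSum.decomposeLinearEquiv 𝒱).toLinearMap

theorem prk_apply (i : ι) (x : V) : prk 𝒱 i x = (DirectSum.decompose 𝒱 x i : V) := rfl

theorem prk_mem (i : ι) (x : V) : prk 𝒱 i x ∈ 𝒱 i := (DirectSum.decompose 𝒱 x i).2

theorem prk_of_mem {i : ι} {x : V} (hx : x ∈ 𝒱 i) : prk 𝒱 i x = x := by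
  rw [prk_apply, DirectSum.decompose_of_mem_same 𝒱 hx]

theorem prk_of_mem_ne {i j : ι} {x : V} (hx : x ∈ 𝒱 i) (hne : i ≠ j) : prk 𝒱 j x = 0 := by
  rw [prk_apply, DirectSum.decompose_of_mem_ne 𝒱 hx hne]

theorem prk_prk_same (i : ι) (x : V) : prk 𝒱 i (prk 𝒱 i x) = prk 𝒱 i x :=
  prk_of_mem 𝒱 (prk_mem 𝒱 i x)

theorem prk_prk_ne {i j : ι} (hne : i ≠ j) (x : V) : prk 𝒱 j (prk 𝒱 i x) = 0 :=
  prk_of_mem_ne 𝒱 (prk_mem 𝒱 i x) hne

theorem induction_on {motive : V → Prop} (zero : motive 0)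
    (homogeneous : ∀ i (x : V), x ∈ 𝒱 i → motive x)
    (add : ∀ x y : V, motive x → motive y → motive (x + y)) (x : V) : motive x :=
  DirectSum.Decomposition.inductionOn 𝒱 zero (fun {i} x => homogeneous i x x.2) add x

theorem ext_of_mem {f g : V →ₗ[k] W} (h : ∀ i x, x ∈ 𝒱 i → f x = g x) : f = g := by
  apply LinearMap.ext
  intro x
  induction x using induction_on 𝒱 with
  | zero => simp
  | homogeneous i x hx => exact h i x hx
  | add x y hx hy => rw [map_add, map_add, hx, hy]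

theorem eq_zero_of_prk {x : V} (h : ∀ i, prk 𝒱 i x = 0) : x = 0 := by
  classical
  rw [← DirectSum.sum_support_decompose 𝒱 x]
  exact Finset.sum_eq_zero fun i _ => h i

/-- glueing linear maps along a decomposition -/
noncomputable def glue (F : ι → V →ₗ[k] W) : V →ₗ[k] W :=
  (DirectSum.toModule k ι W (fun i => F i ∘ₗ (𝒱 i).subtype)) ∘ₗ
    (DirectSum.decomposeLinearEquiv 𝒱).toLinearMap

theorem glue_of_mem (F : ι → V →ₗ[k] W) {i : ι} {x : V} (hx : x ∈ 𝒱 i) :
    glue 𝒱 F x = F i x := by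
  rw [glue, LinearMap.comp_apply, LinearEquiv.coe_coe, DirectSum.decomposeLinearEquiv_apply,
    DirectSum.decompose_of_mem 𝒱 hx, ← DirectSum.lof_eq_of k, DirectSum.toModule_lof]
  rfl

/-- a map commuting with projections is graded -/
theorem comm_prk_of_graded {𝒲 : ι → Submodule k W} [DirectSum.Decomposition 𝒲] {f : V →ₗ[k] W}
    (hf : ∀ i x, x ∈ 𝒱 i → f x ∈ 𝒲 i) (i : ι) (x : V) : f (prk 𝒱 i x) = prk 𝒲 i (f x) := by
  induction x using induction_on 𝒱 with
  | zero => simp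
  | homogeneous j x hx =>
    by_cases hji : j = i
    · subst hji
      rw [prk_of_mem 𝒱 hx, prk_of_mem 𝒲 (hf j x hx)]
    · rw [prk_of_mem_ne 𝒱 hx hji, prk_of_mem_ne 𝒲 (hf j x hx) hji, map_zero]
  | add x y hx hy => simp only [map_add, hx, hy]

end Dec

/-- a decomposition from a family of projections -/
theorem isInternal_of_proj (π : ι → V →ₗ[k] V) (hsame : ∀ i x, x ∈ 𝒱 i → π i x = x)
    (hne : ∀ i j x, x ∈ 𝒱 i → i ≠ j → π j x = 0) (hspan : ∀ x : V, x ∈ ⨆ i, 𝒱 i) :
    DirectSum.IsInternal 𝒱 := by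
  have key : ∀ (i : ι) (y : ⨁ i, 𝒱 i), π i (DirectSum.coeAddMonoidHom 𝒱 y) = y i := by
    intro i y
    induction y using DirectSum.induction_on with
    | zero => simp
    | of j z =>
      rw [DirectSum.coeAddMonoidHom_of]
      by_cases hji : j = i
      · subst hji
        rw [hsame j z z.2, DirectSum.of_eq_same]
      · rw [hne j i z z.2 hji, DirectSum.of_eq_of_ne _ _ _ (Ne.symm hji)]
        rfl
    | add y y' h1 h2 =>
      rw [map_add, map_add, h1, h2, DirectSum.add_apply]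
      rfl
  constructor
  · rw [injective_iff_map_eq_zero]
    intro y hy
    ext i
    have := key i y
    rw [hy, map_zero] at this
    rw [← this]
    rfl
  · intro x
    have hx := hspan x
    induction hx using Submodule.iSup_induction' with
    | mem i x hx =>
      exact ⟨DirectSum.of (fun i => 𝒱 i) i ⟨x, hx⟩, DirectSum.coeAddMonoidHom_of 𝒱 i ⟨x, hx⟩⟩
    | zero => exact ⟨0, map_zero _⟩
    | add x y _ _ hx hy =>
      obtain ⟨a, rfl⟩ := hx
      obtain ⟨b, rfl⟩ := hy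
      exact ⟨a + b, map_add _ _ _⟩

/-- for any decomposition instance, the components are computed by the given projections -/
theorem prk_eq_of_proj [DirectSum.Decomposition 𝒱] (π : ι → V →ₗ[k] V)
    (hsame : ∀ i x, x ∈ 𝒱 i → π i x = x)
    (hne : ∀ i j x, x ∈ 𝒱 i → i ≠ j → π j x = 0) (i : ι) : prk 𝒱 i = π i := by
  apply ext_of_mem 𝒱
  intro j x hx
  by_cases hji : j = i
  · subst hji
    rw [prk_of_mem 𝒱 hx, hsame j x hx]
  · rw [prk_of_mem_ne 𝒱 hx hji, hne j i x hx hji]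

end Graded



section Ginv

variable {k : Type*} [Field k] {V : Type*} {W : Type*} [AddCommGroup V] [Module k V]
  [AddCommGroup W] [Module k W]

/-- every linear map of vector spaces has a generalized inverse -/
theorem exists_ginv (f : V →ₗ[k] W) : ∃ t : W →ₗ[k] V, ∀ x, f (t (f x)) = f x := by
  obtain ⟨r, hr⟩ := f.rangeRestrict.exists_rightInverse_of_surjective
    (LinearMap.range_rangeRestrict f)
  obtain ⟨q, hq⟩ := (LinearMap.range f).subtype.exists_leftInverse_of_injective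
    (Submodule.ker_subtype _)
  refine ⟨r ∘ₗ q, fun x => ?_⟩
  have h1 : q (f x) = f.rangeRestrict x := by
    have := LinearMap.congr_fun hq (f.rangeRestrict x)
    exact this
  have h2 : f.rangeRestrict (r (f.rangeRestrict x)) = f.rangeRestrict x :=
    LinearMap.congr_fun hr (f.rangeRestrict x)
  rw [LinearMap.comp_apply, h1]
  exact congrArg Subtype.val h2

end Ginv

end SegLA

end Groth.Agent.H6
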