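import Groth.Agent.Lib.Helper6.SegLA1

/-! Complexes of vector spaces (as graded spaces with a differential), splittings, cohomology as
subquotients, the connecting isomorphism and relative cohomology. -/

universe u
open DirectSum

namespace Groth.Agent.H6

namespace SegLA

/-- an `ℕ`-graded differential vector space (no decomposition required) -/
structure PCx (k : Type u) [Field k] where
  V : Type u
  [acg : AddCommGroup V]
  [mod : Module k V]
  gr : ℕ → Submodule k V
  d : V →ₗ[k] V
  d_mem : ∀ p x, x ∈ gr p → d x ∈ gr (p + 1)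
  d_d : ∀ x, d (d x) = 0

namespace PCx

variable {k : Type u} [Field k]

instance (C : PCx k) : AddCommGroup C.V := C.acg
instance (C : PCx k) : Module k C.V := C.mod

variable (C : PCx k)

/-- cocycles of degree `p` -/
def Z (p : ℕ) : Submodule k C.V := LinearMap.ker C.d ⊓ C.gr p

/-- coboundaries of degree `p` -/
def B : ℕ → Submodule k C.V
  | 0 => ⊥
  | p + 1 => (C.gr p).map C.d

/-- cohomology -/
abbrev H (p : ℕ) : Type u := SQ (C.Z p) (C.B p)

/-- exactness in degree `p + 1` -/
def ExactAt (p : ℕ) : Prop := ∀ x, x ∈ C.gr (p + 1) → C.d x = 0 → ∃ y ∈ C.gr p, C.d y = x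

variable (K : Submodule k C.V)

/-- cocycles of the subcomplex `K` -/
def Zsub (p : ℕ) : Submodule k C.V := LinearMap.ker C.d ⊓ C.gr p ⊓ K

/-- coboundaries of the subcomplex `K` -/
def Bsub : ℕ → Submodule k C.V
  | 0 => ⊥
  | p + 1 => (C.gr p ⊓ K).map C.d

/-- cohomology of the subcomplex -/
abbrev Hsub (p : ℕ) : Type u := SQ (C.Zsub K p) (C.Bsub K p)

/-- relative cocycles -/
def Zrel (p : ℕ) : Submodule k C.V := C.gr p ⊓ K.comap C.d

/-- relative coboundaries -/
def Brel : ℕ → Submodule k C.V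
  | 0 => C.gr 0 ⊓ K
  | p + 1 => (C.gr (p + 1) ⊓ K) ⊔ (C.gr p).map C.d

/-- relative cohomology (the cohomology of the quotient complex) -/
abbrev Hrel (p : ℕ) : Type u := SQ (C.Zrel K p) (C.Brel K p)

/-- the connecting isomorphism -/
noncomputable def conn (m : ℕ) (h1 : C.ExactAt m)
    (h2 : C.ExactAt (m + 1)) : C.Hrel K (m + 1) ≃ₗ[k] C.Hsub K (m + 2) :=
  sqEquiv C.d
    (by
      intro z hz
      exact ⟨⟨LinearMap.mem_ker.mpr (C.d_d z), C.d_mem _ _ hz.1⟩, hz.2⟩)
    (by
      intro z _ hb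
      obtain ⟨κ, hκ, y, hy, rfl⟩ := Submodule.mem_sup.mp hb
      obtain ⟨y', _, rfl⟩ := hy
      rw [map_add, C.d_d, add_zero]
      exact ⟨κ, hκ, rfl⟩)
    (by
      intro z hz hb
      obtain ⟨κ, hκ, hκz⟩ := hb
      have h3 : C.d (z - κ) = 0 := by rw [map_sub, hκz, sub_self]
      obtain ⟨y, hy, hyz⟩ := h1 (z - κ) (sub_mem hz.1 hκ.1) h3
      have : z = κ + C.d y := by rw [hyz]; abel
      rw [this]
      exact Submodule.add_mem_sup hκ ⟨y, hy, rfl⟩)
    (by
      intro z' hz'
      obtain ⟨z, hz, hzz⟩ := h2 z' hz'.1.2 hz'.1.1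
      refine ⟨z, ⟨hz, ?_⟩, ?_⟩
      · show z ∈ Submodule.comap C.d K
        rw [Submodule.mem_comap, hzz]; exact hz'.2
      · rw [hzz, sub_self]; exact zero_mem _)

end PCx

/-- a morphism of differential graded spaces which is surjective on each piece -/
structure PCx.Quot {k : Type u} [Field k] (C C' : PCx k) where
  q : C.V →ₗ[k] C'.V
  comm : ∀ x, q (C.d x) = C'.d (q x)
  map_gr : ∀ p, (C.gr p).map q = C'.gr p

namespace PCx.Quot

variable {k : Type u} [Field k] {C C' : PCx k} (Q : PCx.Quot C C')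

theorem q_mem {p : ℕ} {x : C.V} (hx : x ∈ C.gr p) : Q.q x ∈ C'.gr p := by
  rw [← Q.map_gr p]; exact ⟨x, hx, rfl⟩

theorem exists_lift {p : ℕ} {y : C'.V} (hy : y ∈ C'.gr p) : ∃ x ∈ C.gr p, Q.q x = y := by
  rw [← Q.map_gr p] at hy; exact hy

/-- relative cohomology is the cohomology of the quotient -/
noncomputable def rel : ∀ p : ℕ, C.Hrel (LinearMap.ker Q.q) p ≃ₗ[k] C'.H p
  | 0 =>
    sqEquiv Q.q
      (by
        intro z hz
        refine ⟨?_, Q.q_mem hz.1⟩
        show Q.q z ∈ LinearMap.ker C'.d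
        rw [LinearMap.mem_ker, ← Q.comm]
        exact hz.2)
      (by
        intro z _ hb
        exact hb.2)
      (by
        intro z hz hb
        exact ⟨hz.1, hb⟩)
      (by
        intro z' hz'
        obtain ⟨z, hz, rfl⟩ := Q.exists_lift hz'.2
        refine ⟨z, ⟨hz, ?_⟩, by rw [sub_self]; exact zero_mem _⟩
        show z ∈ Submodule.comap C.d (LinearMap.ker Q.q)
        rw [Submodule.mem_comap, LinearMap.mem_ker, Q.comm]
        exact hz'.1)
  | p + 1 =>
    sqEquiv Q.q
      (by
        intro z hz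
        refine ⟨?_, Q.q_mem hz.1⟩
        show Q.q z ∈ LinearMap.ker C'.d
        rw [LinearMap.mem_ker, ← Q.comm]
        exact hz.2)
      (by
        intro z _ hb
        obtain ⟨κ, hκ, y, hy, rfl⟩ := Submodule.mem_sup.mp hb
        obtain ⟨y', hy', rfl⟩ := hy
        have : Q.q κ = 0 := hκ.2
        rw [map_add, this, zero_add, Q.comm]
        exact ⟨Q.q y', Q.q_mem hy', rfl⟩)
      (by
        intro z hz hb
        obtain ⟨y', hy', hyz⟩ := hb
        obtain ⟨y, hy, rfl⟩ := Q.exists_lift hy'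
        have h3 : z - C.d y ∈ LinearMap.ker Q.q := by
          rw [LinearMap.mem_ker, map_sub, Q.comm, hyz, sub_self]
        have : z = (z - C.d y) + C.d y := by abel
        rw [this]
        exact Submodule.add_mem_sup ⟨sub_mem hz.1 (C.d_mem _ _ hy), h3⟩ ⟨y, hy, rfl⟩)
      (by
        intro z' hz'
        obtain ⟨z, hz, rfl⟩ := Q.exists_lift hz'.2
        refine ⟨z, ⟨hz, ?_⟩, by rw [sub_self]; exact zero_mem _⟩
        show z ∈ Submodule.comap C.d (LinearMap.ker Q.q)
        rw [Submodule.mem_comap, LinearMap.mem_ker, Q.comm]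
        exact hz'.1)

end PCx.Quot

/-- a splitting (homotopy decomposition) of a differential graded space -/
structure PCx.Split {k : Type u} [Field k] (C : PCx k) where
  s : C.V →ₗ[k] C.V
  e : C.V →ₗ[k] C.V
  s_mem : ∀ p x, x ∈ C.gr (p + 1) → s x ∈ C.gr p
  s_zero : ∀ x, x ∈ C.gr 0 → s x = 0
  e_mem : ∀ p x, x ∈ C.gr p → e x ∈ C.gr p
  d_e : ∀ x, C.d (e x) = 0
  e_d : ∀ x, e (C.d x) = 0
  e_e : ∀ x, e (e x) = e x
  htpy : ∀ x, C.d (s x) + s (C.d x) = x - e x

namespace PCx.Split

variable {k : Type u} [Field k] {C : PCx k} (S : C.Split)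

/-- cohomology is the image of the idempotent -/
noncomputable def equivH (p : ℕ) : C.H p ≃ₗ[k] ((C.gr p).map S.e : Submodule k C.V) :=
  (sqEquiv (Z' := (C.gr p).map S.e) (B' := ⊥) S.e
    (by
      intro z hz
      exact ⟨z, hz.2, rfl⟩)
    (by
      intro z _ hb
      rw [Submodule.mem_bot]
      cases p with
      | zero =>
        have : z = 0 := hb
        rw [this, map_zero]
      | succ p =>
        obtain ⟨y, _, rfl⟩ := hb
        exact S.e_d y)
    (by
      intro z hz hb
      rw [Submodule.mem_bot] at hb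
      have h1 := S.htpy z
      have h2 : C.d z = 0 := hz.1
      rw [h2, map_zero, add_zero, hb, sub_zero] at h1
      cases p with
      | zero =>
        rw [S.s_zero z hz.2, map_zero] at h1
        exact h1.symm
      | succ p =>
        exact ⟨S.s z, S.s_mem p z hz.2, h1⟩)
    (by
      intro z' hz'
      obtain ⟨x, hx, rfl⟩ := hz'
      refine ⟨S.e x, ⟨?_, S.e_mem p x hx⟩, ?_⟩
      · exact LinearMap.mem_ker.mpr (S.d_e x)
      · rw [S.e_e, sub_self]; exact zero_mem _)).trans (sqBot _)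

/-- if the complex is exact in degree `p + 1` the idempotent vanishes there -/
theorem e_eq_zero_of_exactAt {p : ℕ} (h : C.ExactAt p) {x : C.V} (hx : x ∈ C.gr (p + 1)) :
    S.e x = 0 := by
  obtain ⟨y, _, hy⟩ := h (S.e x) (S.e_mem _ x hx) (S.d_e x)
  rw [← S.e_e, ← hy, S.e_d]

/-- exactness from the vanishing of the idempotent -/
theorem exactAt_of_e_eq_zero {p : ℕ} (h : ∀ x, x ∈ C.gr (p + 1) → S.e x = 0) : C.ExactAt p := by
  intro x hx hdx
  have h1 := S.htpy x
  rw [hdx, map_zero, add_zero, h x hx, sub_zero] at h1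
  exact ⟨S.s x, S.s_mem p x hx, h1⟩

/-- the image of the idempotent in degree zero is the space of cocycles -/
theorem map_e_zero : (C.gr 0).map S.e = C.Z 0 := by
  apply le_antisymm
  · rintro _ ⟨x, hx, rfl⟩
    exact ⟨LinearMap.mem_ker.mpr (S.d_e x), S.e_mem 0 x hx⟩
  · intro z hz
    have h1 := S.htpy z
    have h2 : C.d z = 0 := hz.1
    rw [h2, map_zero, add_zero, S.s_zero z hz.2, map_zero] at h1
    refine ⟨z, hz.2, ?_⟩
    rw [eq_comm, sub_eq_zero] at h1
    exact h1.symm

end PCx.Split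

/-- a complex: a differential graded space whose pieces form a decomposition -/
structure Cx (k : Type u) [Field k] extends PCx k where
  [dec : DirectSum.Decomposition gr]

namespace Cx

variable {k : Type u} [Field k] (C : Cx k)

instance : DirectSum.Decomposition C.gr := C.dec

theorem d_prk (p : ℕ) (x : C.V) : C.d (prk C.gr p x) = prk C.gr (p + 1) (C.d x) := by
  induction x using induction_on C.gr with
  | zero => simp
  | homogeneous j x hx =>
    by_cases hjp : j = p
    · subst hjp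
      rw [prk_of_mem C.gr hx, prk_of_mem C.gr (C.d_mem j x hx)]
    · rw [prk_of_mem_ne C.gr hx hjp, prk_of_mem_ne C.gr (C.d_mem j x hx) (by omega), map_zero]
  | add x y hx hy => simp only [map_add, hx, hy]

/-- a graded generalized inverse of the differential -/
theorem exists_graded_ginv : ∃ t : C.V →ₗ[k] C.V, (∀ p x, x ∈ C.gr (p + 1) → t x ∈ C.gr p) ∧
    (∀ x, x ∈ C.gr 0 → t x = 0) ∧ ∀ x, C.d (t (C.d x)) = C.d x := by
  obtain ⟨t0, ht0⟩ := exists_ginv C.d
  let F : ℕ → C.V →ₗ[k] C.V := fun p => match p with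
    | 0 => 0
    | p + 1 => prk C.gr p ∘ₗ t0
  refine ⟨glue C.gr F, ?_, ?_, ?_⟩
  · intro p x hx
    rw [glue_of_mem C.gr F hx]
    exact prk_mem C.gr p _
  · intro x hx
    rw [glue_of_mem C.gr F hx]
    rfl
  · intro x
    induction x using induction_on C.gr with
    | zero => simp
    | homogeneous p x hx =>
      rw [glue_of_mem C.gr F (C.d_mem p x hx)]
      change C.d (prk C.gr p (t0 (C.d x))) = _
      rw [d_prk, ht0, prk_of_mem C.gr (C.d_mem p x hx)]
    | add x y hx hy => simp only [map_add, hx, hy]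

/-- **every complex of vector spaces splits** -/
theorem exists_split : Nonempty C.toPCx.Split := by
  obtain ⟨t, ht1, ht0, htd⟩ := C.exists_graded_ginv
  have hdd := C.d_d
  let s : C.V →ₗ[k] C.V := t - t ∘ₗ t ∘ₗ C.d
  have hs : ∀ x, s x = t x - t (t (C.d x)) := fun x => rfl
  have hsd : ∀ x, s (C.d x) = t (C.d x) := by
    intro x
    rw [hs, hdd, map_zero, map_zero, sub_zero]
  have hdsd : ∀ x, C.d (s (C.d x)) = C.d x := by
    intro x
    rw [hsd, htd]
  let e : C.V →ₗ[k] C.V := LinearMap.id - C.d ∘ₗ s - s ∘ₗ C.d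
  have he : ∀ x, e x = x - C.d (s x) - s (C.d x) := fun x => rfl
  have hde : ∀ x, C.d (e x) = 0 := by
    intro x
    rw [he, map_sub, map_sub, hdd, hdsd, sub_zero, sub_self]
  have hed : ∀ x, e (C.d x) = 0 := by
    intro x
    rw [he, hdsd, hdd, map_zero, sub_zero, sub_self]
  have hs_mem : ∀ p x, x ∈ C.gr (p + 1) → s x ∈ C.gr p := by
    intro p x hx
    rw [hs]
    exact sub_mem (ht1 p x hx) (ht1 p _ (ht1 (p + 1) _ (C.d_mem _ x hx)))
  have hs_zero : ∀ x, x ∈ C.gr 0 → s x = 0 := by
    intro x hx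
    rw [hs, ht0 x hx, ht0 _ (ht1 0 _ (C.d_mem _ x hx)), sub_zero]
  refine ⟨⟨s, e, hs_mem, hs_zero, ?_, hde, hed, ?_, ?_⟩⟩
  · intro p x hx
    rw [he]
    refine sub_mem (sub_mem hx ?_) (hs_mem p _ (C.d_mem _ x hx))
    cases p with
    | zero => rw [hs_zero x hx, map_zero]; exact zero_mem _
    | succ p => exact C.d_mem _ _ (hs_mem p x hx)
  · intro x
    have h1 : C.d (s (e x)) = 0 := by
      rw [he, map_sub, map_sub, map_sub, map_sub, hdsd, hsd]
      have : s (t (C.d x)) = 0 := by
        rw [hs, htd, sub_self]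
      rw [this, map_zero, sub_zero, sub_self]
    rw [he (e x), hde, map_zero, sub_zero, h1, sub_zero]
  · intro x
    rw [he]
    abel

end Cx

end SegLA

end Groth.Agent.H6
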