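import Groth.Agent.Lib.Helper6.SegLA2

/-! The tensor product of two complexes of vector spaces and the Künneth homotopy. -/

universe u
open DirectSum TensorProduct

namespace Groth.Agent.H6

namespace SegLA

namespace Cx

variable {k : Type u} [Field k] (C : Cx k)

/-- the sign operator -/
noncomputable def sgn : C.V →ₗ[k] C.V := glue C.gr (fun p => ((-1 : k) ^ p) • LinearMap.id)

theorem sgn_of_mem {p : ℕ} {x : C.V} (hx : x ∈ C.gr p) : C.sgn x = (-1 : k) ^ p • x := by
  rw [sgn, glue_of_mem C.gr _ hx]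
  rfl

theorem sgn_mem {p : ℕ} {x : C.V} (hx : x ∈ C.gr p) : C.sgn x ∈ C.gr p := by
  rw [C.sgn_of_mem hx]
  exact Submodule.smul_mem _ _ hx

theorem sgn_sgn (x : C.V) : C.sgn (C.sgn x) = x := by
  induction x using induction_on C.gr with
  | zero => simp
  | homogeneous p x hx =>
    rw [C.sgn_of_mem hx, map_smul, C.sgn_of_mem hx, smul_smul, ← mul_pow]
    simp
  | add x y hx hy => simp only [map_add, hx, hy]

theorem sgn_d (x : C.V) : C.sgn (C.d x) = - C.d (C.sgn x) := by
  induction x using induction_on C.gr with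
  | zero => simp
  | homogeneous p x hx =>
    rw [C.sgn_of_mem hx, C.sgn_of_mem (C.d_mem p x hx), map_smul, pow_succ]
    simp
  | add x y hx hy => simp only [map_add, hx, hy, neg_add]

theorem sgn_comm {f : C.V →ₗ[k] C.V} (hf : ∀ p x, x ∈ C.gr p → f x ∈ C.gr p) (x : C.V) :
    C.sgn (f x) = f (C.sgn x) := by
  induction x using induction_on C.gr with
  | zero => simp
  | homogeneous p x hx =>
    rw [C.sgn_of_mem hx, C.sgn_of_mem (hf p x hx), map_smul]
  | add x y hx hy => simp only [map_add, hx, hy]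

theorem sgn_anti {s : C.V →ₗ[k] C.V} (hs : ∀ p x, x ∈ C.gr (p + 1) → s x ∈ C.gr p)
    (hs0 : ∀ x, x ∈ C.gr 0 → s x = 0) (x : C.V) : C.sgn (s x) = - s (C.sgn x) := by
  induction x using induction_on C.gr with
  | zero => simp
  | homogeneous p x hx =>
    cases p with
    | zero => rw [hs0 x hx, hs0 _ (C.sgn_mem hx)]; simp
    | succ p =>
      rw [C.sgn_of_mem hx, C.sgn_of_mem (hs p x hx), map_smul, pow_succ]
      simp
  | add x y hx hy => simp only [map_add, hx, hy, neg_add]

variable (C' : Cx k)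

/-- pieces of the total complex -/
def tot (n : ℕ) : Submodule k (C.V ⊗[k] C'.V) :=
  Submodule.span k {w | ∃ i j x y, i + j = n ∧ x ∈ C.gr i ∧ y ∈ C'.gr j ∧ w = x ⊗ₜ[k] y}

theorem tmul_mem_tot {i j n : ℕ} (h : i + j = n) {x : C.V} {y : C'.V} (hx : x ∈ C.gr i)
    (hy : y ∈ C'.gr j) : x ⊗ₜ[k] y ∈ tot C C' n :=
  Submodule.subset_span ⟨i, j, x, y, h, hx, hy, rfl⟩

/-- the total differential -/
noncomputable def D : C.V ⊗[k] C'.V →ₗ[k] C.V ⊗[k] C'.V :=
  TensorProduct.map C.d LinearMap.id + TensorProduct.map C.sgn C'.d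

theorem D_tmul (x : C.V) (y : C'.V) :
    D C C' (x ⊗ₜ[k] y) = C.d x ⊗ₜ[k] y + C.sgn x ⊗ₜ[k] C'.d y := rfl

theorem D_comp_D : D C C' ∘ₗ D C C' = 0 := by
  apply TensorProduct.ext'
  intro x y
  rw [LinearMap.comp_apply, D_tmul, map_add, D_tmul, D_tmul, C.d_d, C'.d_d, C.sgn_d, C.sgn_sgn]
  simp [TensorProduct.neg_tmul]

theorem map_mem_of_tot {f : C.V ⊗[k] C'.V →ₗ[k] C.V ⊗[k] C'.V} {n : ℕ}
    {P : Submodule k (C.V ⊗[k] C'.V)}
    (h : ∀ i j x y, i + j = n → x ∈ C.gr i → y ∈ C'.gr j → f (x ⊗ₜ[k] y) ∈ P)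
    {w : C.V ⊗[k] C'.V} (hw : w ∈ tot C C' n) : f w ∈ P := by
  induction hw using Submodule.span_induction with
  | mem w hw =>
    obtain ⟨i, j, x, y, hij, hx, hy, rfl⟩ := hw
    exact h i j x y hij hx hy
  | zero => rw [map_zero]; exact zero_mem _
  | add x y _ _ hx hy => rw [map_add]; exact add_mem hx hy
  | smul c x _ hx => rw [map_smul]; exact Submodule.smul_mem _ _ hx

theorem map_mem_tot {f : C.V ⊗[k] C'.V →ₗ[k] C.V ⊗[k] C'.V} {n m : ℕ}
    (h : ∀ i j x y, i + j = n → x ∈ C.gr i → y ∈ C'.gr j → f (x ⊗ₜ[k] y) ∈ tot C C' m)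
    {w : C.V ⊗[k] C'.V} (hw : w ∈ tot C C' n) : f w ∈ tot C C' m :=
  map_mem_of_tot C C' h hw

/-- the tensor product complex -/
noncomputable def tensor : PCx k where
  V := C.V ⊗[k] C'.V
  gr := tot C C'
  d := D C C'
  d_mem := by
    intro n w hw
    refine map_mem_tot C C' ?_ hw
    intro i j x y hij hx hy
    rw [D_tmul]
    exact add_mem (tmul_mem_tot C C' (by omega) (C.d_mem i x hx) hy)
      (tmul_mem_tot C C' (by omega) (C.sgn_mem hx) (C'.d_mem j y hy))
  d_d := fun w => LinearMap.congr_fun (D_comp_D C C') w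

end Cx

namespace PCx.Split

variable {k : Type u} [Field k] {C C' : Cx k} (S : C.toPCx.Split) (S' : C'.toPCx.Split)

/-- the Künneth homotopy -/
noncomputable def hT : C.V ⊗[k] C'.V →ₗ[k] C.V ⊗[k] C'.V :=
  TensorProduct.map S.s LinearMap.id + TensorProduct.map (C.sgn ∘ₗ S.e) S'.s

theorem hT_tmul (x : C.V) (y : C'.V) :
    hT S S' (x ⊗ₜ[k] y) = S.s x ⊗ₜ[k] y + C.sgn (S.e x) ⊗ₜ[k] S'.s y := rfl

/-- the tensor product of two splittings -/
noncomputable def tensor : (Cx.tensor C C').Split where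
  s := hT S S'
  e := TensorProduct.map S.e S'.e
  s_mem := by
    intro n w hw
    refine Cx.map_mem_tot C C' ?_ hw
    intro i j x y hij hx hy
    rw [hT_tmul]
    refine add_mem ?_ ?_
    · cases i with
      | zero => rw [S.s_zero x hx, TensorProduct.zero_tmul]; exact zero_mem _
      | succ i => exact Cx.tmul_mem_tot C C' (by omega) (S.s_mem i x hx) hy
    · cases j with
      | zero => rw [S'.s_zero y hy, TensorProduct.tmul_zero]; exact zero_mem _
      | succ j =>
        exact Cx.tmul_mem_tot C C' (by omega) (C.sgn_mem (S.e_mem i x hx)) (S'.s_mem j y hy)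
  s_zero := by
    intro w hw
    have : hT S S' w ∈ (⊥ : Submodule k (C.V ⊗[k] C'.V)) := by
      refine Cx.map_mem_of_tot C C' ?_ hw
      intro i j x y hij hx hy
      obtain ⟨rfl, rfl⟩ : i = 0 ∧ j = 0 := by omega
      rw [hT_tmul, S.s_zero x hx, S'.s_zero y hy]
      simp
    exact this
  e_mem := by
    intro n w hw
    refine Cx.map_mem_tot C C' ?_ hw
    intro i j x y hij hx hy
    rw [TensorProduct.map_tmul]
    exact Cx.tmul_mem_tot C C' hij (S.e_mem i x hx) (S'.e_mem j y hy)
  d_e := by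
    intro w
    have : Cx.D C C' ∘ₗ TensorProduct.map S.e S'.e = 0 := by
      apply TensorProduct.ext'
      intro x y
      rw [LinearMap.comp_apply, TensorProduct.map_tmul, Cx.D_tmul, S.d_e, S'.d_e]
      simp
    exact LinearMap.congr_fun this w
  e_d := by
    intro w
    have : TensorProduct.map S.e S'.e ∘ₗ Cx.D C C' = 0 := by
      apply TensorProduct.ext'
      intro x y
      rw [LinearMap.comp_apply, Cx.D_tmul, map_add, TensorProduct.map_tmul,
        TensorProduct.map_tmul, S.e_d, S'.e_d]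
      simp
    exact LinearMap.congr_fun this w
  e_e := by
    intro w
    have : TensorProduct.map S.e S'.e ∘ₗ TensorProduct.map S.e S'.e
        = TensorProduct.map S.e S'.e := by
      apply TensorProduct.ext'
      intro x y
      rw [LinearMap.comp_apply, TensorProduct.map_tmul, TensorProduct.map_tmul, S.e_e, S'.e_e]
    exact LinearMap.congr_fun this w
  htpy := by
    intro w
    have : Cx.D C C' ∘ₗ hT S S' + hT S S' ∘ₗ Cx.D C C'
        = LinearMap.id - TensorProduct.map S.e S'.e := by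
      apply TensorProduct.ext'
      intro x y
      have h1 : C.sgn (S.s x) = - S.s (C.sgn x) := C.sgn_anti S.s_mem S.s_zero x
      have h2 : C.sgn (S.e (C.sgn x)) = S.e x := by
        rw [← C.sgn_comm S.e_mem, C.sgn_sgn]
      have h3 : C.d (C.sgn (S.e x)) = 0 := by
        have := C.sgn_d (S.e x)
        rw [S.d_e, map_zero] at this
        rw [eq_comm, neg_eq_zero] at this
        exact this
      have h4 := S.htpy x
      have h5 := S'.htpy y
      have h6 : C.d (S.s x) = x - S.e x - S.s (C.d x) := by rw [← h4]; abel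
      have h7 : C'.d (S'.s y) = y - S'.e y - S'.s (C'.d y) := by rw [← h5]; abel
      rw [LinearMap.add_apply, LinearMap.comp_apply, LinearMap.comp_apply, hT_tmul, Cx.D_tmul,
        map_add, map_add, Cx.D_tmul, Cx.D_tmul, hT_tmul, hT_tmul, h1, h2, h3, C.sgn_sgn,
        S.e_d, LinearMap.sub_apply, LinearMap.id_apply, TensorProduct.map_tmul, h6, h7]
      simp only [TensorProduct.sub_tmul, TensorProduct.tmul_sub, TensorProduct.neg_tmul,
        TensorProduct.zero_tmul, map_zero]
      abel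
    exact LinearMap.congr_fun this w

end PCx.Split

end SegLA

end Groth.Agent.H6
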