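import Groth.Agent.Lib.Helper6.SegLA3

/-! Quotient complexes, the decomposition of the Künneth idempotent, and the core computation of
the cohomology of the subcomplex `K ⊗ B + A ⊗ K'` of a tensor product of resolutions. -/

universe u
open DirectSum TensorProduct

namespace Groth.Agent.H6

namespace SegLA

namespace Cx

variable {k : Type u} [Field k] (C : Cx k) (K : Submodule k C.V)
  (hKp : ∀ p x, x ∈ K → prk C.gr p x ∈ K) (hKd : ∀ x, x ∈ K → C.d x ∈ K)

/-- the pieces of the quotient -/
def quotGr (p : ℕ) : Submodule k (C.V ⧸ K) := (C.gr p).map K.mkQ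

include hKp in
theorem quot_isInternal : DirectSum.IsInternal (quotGr C K) := by
  refine isInternal_of_proj (quotGr C K) (fun p => K.mapQ K (prk C.gr p) (fun x hx => hKp p x hx))
    ?_ ?_ ?_
  · rintro p _ ⟨x, hx, rfl⟩
    rw [Submodule.mkQ_apply, Submodule.mapQ_apply, prk_of_mem C.gr hx]
  · rintro p q _ ⟨x, hx, rfl⟩ hpq
    rw [Submodule.mkQ_apply, Submodule.mapQ_apply, prk_of_mem_ne C.gr hx hpq,
      Submodule.Quotient.mk_zero]
  · intro y
    obtain ⟨x, rfl⟩ := Submodule.mkQ_surjective K y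
    induction x using induction_on C.gr with
    | zero => rw [map_zero]; exact zero_mem _
    | homogeneous p x hx =>
      exact Submodule.mem_iSup_of_mem p ⟨x, hx, rfl⟩
    | add x y hx hy => rw [map_add]; exact add_mem hx hy

/-- the quotient complex -/
noncomputable def quot : Cx k where
  V := C.V ⧸ K
  gr := quotGr C K
  d := K.mapQ K C.d (fun x hx => hKd x hx)
  d_mem := by
    rintro p _ ⟨x, hx, rfl⟩
    rw [Submodule.mkQ_apply, Submodule.mapQ_apply]
    exact ⟨C.d x, C.d_mem p x hx, rfl⟩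
  d_d := by
    intro y
    obtain ⟨x, rfl⟩ := Submodule.mkQ_surjective K y
    rw [Submodule.mkQ_apply, Submodule.mapQ_apply, Submodule.mapQ_apply, C.d_d,
      Submodule.Quotient.mk_zero]
  dec := (quot_isInternal C K hKp).chooseDecomposition

/-- the quotient morphism -/
noncomputable def toQuot : PCx.Quot C.toPCx (quot C K hKp hKd).toPCx where
  q := K.mkQ
  comm := fun x => rfl
  map_gr := fun p => rfl

/-- the quotient map, typed with the quotient complex -/
noncomputable def qm : C.V →ₗ[k] (quot C K hKp hKd).V := (toQuot C K hKp hKd).q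

theorem qm_surjective : Function.Surjective (qm C K hKp hKd) := Submodule.mkQ_surjective K

theorem ker_qm : LinearMap.ker (qm C K hKp hKd) = K := Submodule.ker_mkQ K

theorem qm_mem {p : ℕ} {x : C.V} (hx : x ∈ C.gr p) : qm C K hKp hKd x ∈ (quot C K hKp hKd).gr p :=
  ⟨x, hx, rfl⟩

theorem qm_sgn (x : C.V) :
    qm C K hKp hKd (C.sgn x) = (quot C K hKp hKd).sgn (qm C K hKp hKd x) := by
  induction x using induction_on C.gr with
  | zero => rw [map_zero, map_zero, map_zero]
  | homogeneous p x hx =>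
    rw [C.sgn_of_mem hx, (quot C K hKp hKd).sgn_of_mem (qm_mem C K hKp hKd hx), map_smul]
  | add x y hx hy => simp only [map_add, hx, hy]

theorem qm_d (x : C.V) : qm C K hKp hKd (C.d x) = (quot C K hKp hKd).d (qm C K hKp hKd x) :=
  (toQuot C K hKp hKd).comm x

variable (C' : Cx k) (K' : Submodule k C'.V)
  (hKp' : ∀ p x, x ∈ K' → prk C'.gr p x ∈ K') (hKd' : ∀ x, x ∈ K' → C'.d x ∈ K')

/-- the quotient morphism of tensor product complexes -/
noncomputable def tensorQuot :
    PCx.Quot (tensor C C') (tensor (quot C K hKp hKd) (quot C' K' hKp' hKd')) where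
  q := TensorProduct.map (qm C K hKp hKd) (qm C' K' hKp' hKd')
  comm := by
    intro w
    have : TensorProduct.map (qm C K hKp hKd) (qm C' K' hKp' hKd') ∘ₗ D C C'
        = D (quot C K hKp hKd) (quot C' K' hKp' hKd') ∘ₗ
          TensorProduct.map (qm C K hKp hKd) (qm C' K' hKp' hKd') := by
      apply TensorProduct.ext'
      intro x y
      rw [LinearMap.comp_apply, LinearMap.comp_apply, D_tmul, map_add, TensorProduct.map_tmul,
        TensorProduct.map_tmul, TensorProduct.map_tmul, D_tmul, qm_sgn, qm_d, qm_d]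
    exact LinearMap.congr_fun this w
  map_gr := by
    intro n
    change (tot C C' n).map _ = tot (quot C K hKp hKd) (quot C' K' hKp' hKd') n
    rw [tot, Submodule.map_span, tot]
    congr 1
    ext w
    constructor
    · rintro ⟨_, ⟨i, j, x, y, hij, hx, hy, rfl⟩, rfl⟩
      exact ⟨i, j, qm C K hKp hKd x, qm C' K' hKp' hKd' y, hij, qm_mem C K hKp hKd hx,
        qm_mem C' K' hKp' hKd' hy, rfl⟩
    · rintro ⟨i, j, _, _, hij, ⟨x, hx, rfl⟩, ⟨y, hy, rfl⟩, rfl⟩
      exact ⟨x ⊗ₜ[k] y, ⟨i, j, x, y, hij, hx, hy, rfl⟩, rfl⟩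

end Cx

section RangeDecomp

variable {k : Type u} [Field k] {C C' : Cx k} (S : C.toPCx.Split) (S' : C'.toPCx.Split)

/-- the image of the idempotent in degree `p` -/
def PCx.Split.He (p : ℕ) : Submodule k C.V := (C.gr p).map S.e

theorem PCx.Split.He_le (p : ℕ) : S.He p ≤ C.gr p := by
  rintro _ ⟨x, hx, rfl⟩
  exact S.e_mem p x hx

variable (n : ℕ)

/-- the sum of the inclusions of the `He i ⊗ He' (n - i)` -/
noncomputable def rdMap :
    (∀ i : Fin (n + 1), ↥(S.He i) ⊗[k] ↥(S'.He (n - i))) →ₗ[k] C.V ⊗[k] C'.V :=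
  LinearMap.lsum k _ k (fun i : Fin (n + 1) =>
    TensorProduct.map (S.He i).subtype (S'.He (n - i)).subtype)

theorem rdMap_apply (g : ∀ i : Fin (n + 1), ↥(S.He i) ⊗[k] ↥(S'.He (n - i))) :
    rdMap S S' n g = ∑ i : Fin (n + 1),
      TensorProduct.map (S.He i).subtype (S'.He (n - i)).subtype (g i) := by
  rw [rdMap, LinearMap.lsum_apply, LinearMap.sum_apply]
  rfl

theorem pr_map_subtype (i i₀ : Fin (n + 1)) (u : ↥(S.He i) ⊗[k] ↥(S'.He (n - i))) :
    TensorProduct.map (prk C.gr i₀) (prk C'.gr (n - i₀))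
      (TensorProduct.map (S.He i).subtype (S'.He (n - i)).subtype u)
      = if i = i₀ then TensorProduct.map (S.He i).subtype (S'.He (n - i)).subtype u else 0 := by
  induction u using TensorProduct.induction_on with
  | zero => simp
  | tmul a b =>
    rw [TensorProduct.map_tmul, TensorProduct.map_tmul]
    split_ifs with h
    · subst h
      rw [Submodule.subtype_apply, Submodule.subtype_apply,
        prk_of_mem C.gr (S.He_le _ a.2), prk_of_mem C'.gr (S'.He_le _ b.2)]
    · have : (i : ℕ) ≠ (i₀ : ℕ) := fun h' => h (Fin.ext h')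
      rw [Submodule.subtype_apply, prk_of_mem_ne C.gr (S.He_le _ a.2) this,
        TensorProduct.zero_tmul]
  | add u v hu hv =>
    rw [map_add, map_add, hu, hv]
    split_ifs <;> simp

theorem rdMap_injective : Function.Injective (rdMap S S' n) := by
  rw [injective_iff_map_eq_zero]
  intro g hg
  funext i₀
  have h1 := congrArg (TensorProduct.map (prk C.gr i₀) (prk C'.gr (n - i₀))) hg
  rw [rdMap_apply, map_sum, map_zero] at h1
  simp only [pr_map_subtype] at h1
  rw [Finset.sum_ite_eq' Finset.univ i₀, if_pos (Finset.mem_univ _)] at h1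
  have hinj : Function.Injective
      (TensorProduct.map (S.He i₀).subtype (S'.He (n - i₀)).subtype) :=
    TensorProduct.map_injective_of_flat_flat _ _ (Submodule.subtype_injective _)
      (Submodule.subtype_injective _)
  exact hinj (h1.trans (map_zero _).symm)

theorem range_rdMap :
    LinearMap.range (rdMap S S' n) = (Cx.tot C C' n).map (TensorProduct.map S.e S'.e) := by
  apply le_antisymm
  · rintro _ ⟨g, rfl⟩
    rw [rdMap_apply]
    refine Submodule.sum_mem _ fun i _ => ?_
    generalize g i = u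
    induction u using TensorProduct.induction_on with
    | zero => rw [map_zero]; exact zero_mem _
    | tmul a b =>
      obtain ⟨x, hx, hxa⟩ := a.2
      obtain ⟨y, hy, hyb⟩ := b.2
      refine ⟨x ⊗ₜ[k] y, Cx.tmul_mem_tot C C' (by omega) hx hy, ?_⟩
      rw [TensorProduct.map_tmul, TensorProduct.map_tmul, hxa, hyb]
      rfl
    | add u v hu hv => rw [map_add]; exact add_mem hu hv
  · rw [Submodule.map_le_iff_le_comap]
    intro w hw
    rw [Submodule.mem_comap]
    refine Cx.map_mem_of_tot C C' ?_ hw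
    intro i j x y hij hx hy
    have hi : i < n + 1 := by omega
    have hj : j = n - (⟨i, hi⟩ : Fin (n + 1)) := by simp; omega
    subst hj
    refine ⟨Pi.single (⟨i, hi⟩ : Fin (n + 1))
        ((⟨S.e x, ⟨x, hx, rfl⟩⟩ : S.He (⟨i, hi⟩ : Fin (n + 1))) ⊗ₜ[k]
          (⟨S'.e y, ⟨y, hy, rfl⟩⟩ : S'.He (n - (⟨i, hi⟩ : Fin (n + 1))))), ?_⟩
    rw [rdMap_apply, Finset.sum_eq_single (⟨i, hi⟩ : Fin (n + 1))]
    · rw [Pi.single_eq_same, TensorProduct.map_tmul, TensorProduct.map_tmul]
      rfl
    · intro b _ hb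
      rw [Pi.single_eq_of_ne hb, map_zero]
    · intro h
      exact absurd (Finset.mem_univ _) h

/-- the decomposition of the image of the Künneth idempotent -/
noncomputable def rdEquiv :
    (∀ i : Fin (n + 1), ↥(S.He i) ⊗[k] ↥(S'.He (n - i))) ≃ₗ[k]
      ((Cx.tot C C' n).map (TensorProduct.map S.e S'.e) : Submodule k (C.V ⊗[k] C'.V)) :=
  (LinearEquiv.ofInjective (rdMap S S' n) (rdMap_injective S S' n)).trans
    (LinearEquiv.ofEq _ _ (range_rdMap S S' n))

end RangeDecomp

end SegLA

end Groth.Agent.H6
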