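import Groth.Agent.Lib.Helper6.SegBig8

/-! The Künneth computation in low degrees, without vanishing of the first local cohomology. -/

universe u
open DirectSum TensorProduct

namespace Groth.Agent.H6

namespace SegLA

section Rank

variable {k : Type u} [Field k] (C : PCx k) (K : Submodule k C.V)

theorem PCx.conn0_z0ToRel (z : ↥(C.Z 0)) : C.conn0 K (C.z0ToRel K z) = 0 := by
  change C.conn0 K (Submodule.Quotient.mk _) = 0
  rw [PCx.conn0_mk, Submodule.Quotient.mk_eq_zero, Submodule.mem_comap]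
  change C.d z.1 ∈ C.Bsub K 1
  rw [LinearMap.mem_ker.mp z.2.1]
  exact zero_mem _

theorem PCx.ker_conn0 : LinearMap.ker (C.conn0 K) = LinearMap.range (C.z0ToRel K) := by
  apply le_antisymm (C.ker_conn0_le K)
  rintro _ ⟨z, rfl⟩
  exact LinearMap.mem_ker.mpr (C.conn0_z0ToRel K z)

theorem PCx.z0ToRel_injective (h0 : C.Zsub K 0 = ⊥) : Function.Injective (C.z0ToRel K) := by
  rw [injective_iff_map_eq_zero]
  intro z hz
  change Submodule.Quotient.mk _ = 0 at hz
  rw [Submodule.Quotient.mk_eq_zero, Submodule.mem_comap] at hz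
  have h1 : z.1 ∈ C.Brel K 0 := hz
  have h2 : z.1 ∈ C.Zsub K 0 := ⟨z.2, h1.2⟩
  rw [h0, Submodule.mem_bot] at h2
  exact Subtype.ext h2

/-- the dimension of the relative cohomology in degree zero -/
theorem PCx.finrank_Hrel_zero (h : C.ExactAt 0) (h0 : C.Zsub K 0 = ⊥)
    [Module.Finite k (C.Hrel K 0)] :
    Module.finrank k (C.Hrel K 0) =
      Module.finrank k ↥(C.Z 0) + Module.finrank k (C.Hsub K 1) := by
  have h1 := LinearMap.finrank_range_add_finrank_ker (C.conn0 K)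
  rw [LinearMap.range_eq_top.mpr (C.conn0_surjective K h), finrank_top, C.ker_conn0 K,
    LinearMap.finrank_range_of_inj (C.z0ToRel_injective K h0)] at h1
  omega

end Rank

section Core

variable {k : Type u} [Field k] (C : Cx k) (K : Submodule k C.V)
  (hKp : ∀ p x, x ∈ K → prk C.gr p x ∈ K) (hKd : ∀ x, x ∈ K → C.d x ∈ K)
  (C' : Cx k) (K' : Submodule k C'.V)
  (hKp' : ∀ p x, x ∈ K' → prk C'.gr p x ∈ K') (hKd' : ∀ x, x ∈ K' → C'.d x ∈ K')

/-- the Künneth computation for the relative cohomology, in all degrees -/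
theorem nonempty_relEquiv (p : ℕ) :
    Nonempty ((Cx.tensor C C').Hrel (KT C K hKp hKd C' K' hKp' hKd') p ≃ₗ[k]
      ∀ i : Fin (p + 1), (C.toPCx.Hrel K i ⊗[k] C'.toPCx.Hrel K' (p - i))) := by
  obtain ⟨S⟩ := (C.quot K hKp hKd).exists_split
  obtain ⟨S'⟩ := (C'.quot K' hKp' hKd').exists_split
  let e2 := (Cx.tensorQuot C K hKp hKd C' K' hKp' hKd').rel p
  let e3 := (S.tensor S').equivH p
  let e4 := (rdEquiv S S' p).symm
  let e5 : (∀ i : Fin (p + 1), ↥(S.He i) ⊗[k] ↥(S'.He (p - i))) ≃ₗ[k]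
      ∀ i : Fin (p + 1), (C.toPCx.Hrel K i ⊗[k] C'.toPCx.Hrel K' (p - i)) :=
    LinearEquiv.piCongrRight (fun i : Fin (p + 1) =>
      TensorProduct.congr
        ((S.equivH i).symm.trans
          ((Cx.toQuot C K hKp hKd).rel' K (Cx.ker_qm C K hKp hKd) i).symm)
        ((S'.equivH (p - i)).symm.trans
          ((Cx.toQuot C' K' hKp' hKd').rel' K' (Cx.ker_qm C' K' hKp' hKd') (p - i)).symm))
  exact ⟨e2.trans (e3.trans (e4.trans e5))⟩

/-- the cocycles of degree zero of the tensor product -/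
noncomputable def zzRestrict :
    (↥(C.toPCx.Z 0) ⊗[k] ↥(C'.toPCx.Z 0)) →ₗ[k] ↥((Cx.tensor C C').Z 0) :=
  LinearMap.codRestrict ((Cx.tensor C C').Z 0) (zz C C')
    (fun u => ⟨LinearMap.mem_ker.mpr (D_zz C C' u), zz_mem_tot C C' u⟩)

theorem zz_injective : Function.Injective (zz C C') :=
  TensorProduct.map_injective_of_flat_flat _ _ (Submodule.injective_subtype _)
    (Submodule.injective_subtype _)

theorem zzRestrict_bijective : Function.Bijective (zzRestrict C C') := by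
  obtain ⟨S⟩ := C.exists_split
  obtain ⟨S'⟩ := C'.exists_split
  constructor
  · intro u v h
    exact zz_injective C C' (congrArg Subtype.val h)
  · intro z
    obtain ⟨u, hu⟩ := Z_zero_le_range_zz C C' S S' z.2
    exact ⟨u, Subtype.ext hu⟩

theorem finrank_Z_zero_tensor :
    Module.finrank k ↥((Cx.tensor C C').Z 0) =
      Module.finrank k ↥(C.toPCx.Z 0) * Module.finrank k ↥(C'.toPCx.Z 0) :=
  (LinearEquiv.ofBijective (zzRestrict C C') (zzRestrict_bijective C C')).finrank_eq.symm.trans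
    Module.finrank_tensorProduct

theorem finite_Z_zero_tensor [Module.Finite k ↥(C.toPCx.Z 0)] [Module.Finite k ↥(C'.toPCx.Z 0)] :
    Module.Finite k ↥((Cx.tensor C C').Z 0) :=
  Module.Finite.equiv (LinearEquiv.ofBijective (zzRestrict C C') (zzRestrict_bijective C C'))

end Core

section Low1

variable {k : Type u} [Field k] (C : Cx k) (K : Submodule k C.V)
  (hKp : ∀ p x, x ∈ K → prk C.gr p x ∈ K) (hKd : ∀ x, x ∈ K → C.d x ∈ K)
  (C' : Cx k) (K' : Submodule k C'.V)
  (hKp' : ∀ p x, x ∈ K' → prk C'.gr p x ∈ K') (hKd' : ∀ x, x ∈ K' → C'.d x ∈ K')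

/-- the first cohomology of the subcomplex `K ⊗ B + A ⊗ K'`, when the zeroth cohomology of both
subcomplexes vanishes -/
theorem finrank_Hsub_one_tensor (hex : ∀ p, C.toPCx.ExactAt p) (hex' : ∀ p, C'.toPCx.ExactAt p)
    (h0 : C.toPCx.Zsub K 0 = ⊥) (h0' : C'.toPCx.Zsub K' 0 = ⊥)
    [Module.Finite k ↥(C.toPCx.Z 0)] [Module.Finite k (C.toPCx.Hsub K 1)]
    [Module.Finite k ↥(C'.toPCx.Z 0)] [Module.Finite k (C'.toPCx.Hsub K' 1)] :
    Module.finrank k ((Cx.tensor C C').Hsub (KT C K hKp hKd C' K' hKp' hKd') 1) =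
      Module.finrank k ↥(C.toPCx.Z 0) * Module.finrank k (C'.toPCx.Hsub K' 1) +
        Module.finrank k (C.toPCx.Hsub K 1) * Module.finrank k ↥(C'.toPCx.Z 0) +
        Module.finrank k (C.toPCx.Hsub K 1) * Module.finrank k (C'.toPCx.Hsub K' 1) := by
  haveI := C.toPCx.finite_Hrel_zero K (hex 0)
  haveI := C'.toPCx.finite_Hrel_zero K' (hex' 0)
  have r1 := C.toPCx.finrank_Hrel_zero K (hex 0) h0
  have r2 := C'.toPCx.finrank_Hrel_zero K' (hex' 0) h0'
  obtain ⟨e⟩ := nonempty_relEquiv C K hKp hKd C' K' hKp' hKd' 0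
  haveI : ∀ i : Fin (0 + 1), Module.Finite k
      (C.toPCx.Hrel K i ⊗[k] C'.toPCx.Hrel K' (0 - i)) := by
    intro i
    have hi : (i : ℕ) = 0 := by omega
    rw [hi]
    infer_instance
  haveI : Module.Finite k ((Cx.tensor C C').Hrel (KT C K hKp hKd C' K' hKp' hKd') 0) :=
    Module.Finite.equiv e.symm
  have r3 := (Cx.tensor C C').finrank_Hrel_zero (KT C K hKp hKd C' K' hKp' hKd')
    (tensor_exactAt C C' hex hex' 0) (Zsub_zero_eq_bot C K hKp hKd C' K' hKp' hKd' h0 h0')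
  rw [e.finrank_eq, Module.finrank_pi_fintype, Fin.sum_univ_one, finrank_Z_zero_tensor] at r3
  have r4 : Module.finrank k (C.toPCx.Hrel K ((0 : Fin (0 + 1)) : ℕ) ⊗[k]
      C'.toPCx.Hrel K' (0 - ((0 : Fin (0 + 1)) : ℕ))) =
      Module.finrank k (C.toPCx.Hrel K 0) * Module.finrank k (C'.toPCx.Hrel K' 0) :=
    Module.finrank_tensorProduct
  rw [r4, r1, r2] at r3
  nlinarith [r3]

end Low1

end SegLA

end Groth.Agent.H6
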