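import Groth.Agent.Lib.Helper6.SegLA1
import Groth.Agent.Lib.Helper6.GrToAdd
import Groth.Agent.Lib.Helper9.Segre.Bij
import Groth.Agent.Lib.Helper9.Segre.ModFin
import Groth.Prelude.Def_GrSeg

/-! Segre products of graded modules: the pieces as subspaces, projections, the Segre subspace of
`X ⊗ Y`, and graded maps. -/

universe u
open DirectSum TensorProduct
set_option linter.unusedSectionVars false

namespace Groth.Agent.H6

namespace Seg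

open SegLA

section Pieces

variable {k : Type u} [Field k] {R : Type u} [CommRing R] [Algebra k R]
  (𝒜 : ℤ → Submodule k R) [GradedAlgebra 𝒜]
variable {X : Type u} [AddCommGroup X] [Module R X] [Module k X] [IsScalarTower k R X]
  (𝒳 : ℤ → AddSubgroup X) [DirectSum.Decomposition 𝒳] [SetLike.GradedSMul 𝒜 𝒳]

include 𝒜 in
theorem smul_mem_piece {d : ℤ} (c : k) {x : X} (hx : x ∈ 𝒳 d) : c • x ∈ 𝒳 d := by
  have h1 : algebraMap k R c ∈ 𝒜 0 := by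
    rw [Algebra.algebraMap_eq_smul_one]
    exact Submodule.smul_mem _ _ (SetLike.GradedOne.one_mem (A := 𝒜))
  have h2 := SetLike.GradedSMul.smul_mem (A := 𝒜) (B := 𝒳) h1 hx
  rw [vadd_eq_add, zero_add, algebraMap_smul] at h2
  exact h2

/-- the pieces as `k`-subspaces -/
def pcs (d : ℤ) : Submodule k X where
  carrier := 𝒳 d
  add_mem' := add_mem
  zero_mem' := zero_mem _
  smul_mem' := fun c _ hx => smul_mem_piece 𝒜 𝒳 c hx

theorem mem_pcs {d : ℤ} {x : X} : x ∈ pcs 𝒜 𝒳 d ↔ x ∈ 𝒳 d := Iff.rfl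

/-- the projection onto a piece, `k`-linear -/
noncomputable def prL (d : ℤ) : X →ₗ[k] X where
  toFun := Gr.proj 𝒳 d
  map_add' := map_add _
  map_smul' := by
    intro c x
    simp only [RingHom.id_apply]
    induction x using Gr.induction_on 𝒳 with
    | zero => simp
    | homogeneous e x hx =>
      by_cases hed : e = d
      · subst hed
        rw [Gr.proj_of_mem 𝒳 hx, Gr.proj_of_mem 𝒳 (smul_mem_piece 𝒜 𝒳 c hx)]
      · rw [Gr.proj_of_mem_ne 𝒳 hx hed, Gr.proj_of_mem_ne 𝒳 (smul_mem_piece 𝒜 𝒳 c hx) hed,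
          smul_zero]
    | add x y hx hy => rw [smul_add, map_add, map_add, hx, hy, smul_add]

theorem prL_apply (d : ℤ) (x : X) : prL 𝒜 𝒳 d x = Gr.proj 𝒳 d x := rfl

theorem prL_mem (d : ℤ) (x : X) : prL 𝒜 𝒳 d x ∈ 𝒳 d := Gr.proj_mem 𝒳 d x

theorem prL_of_mem {d : ℤ} {x : X} (hx : x ∈ 𝒳 d) : prL 𝒜 𝒳 d x = x := Gr.proj_of_mem 𝒳 hx

theorem prL_of_mem_ne {d e : ℤ} {x : X} (hx : x ∈ 𝒳 d) (hne : d ≠ e) : prL 𝒜 𝒳 e x = 0 :=
  Gr.proj_of_mem_ne 𝒳 hx hne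

theorem pcs_isInternal : DirectSum.IsInternal (pcs 𝒜 𝒳) := by
  refine SegLA.isInternal_of_proj (pcs 𝒜 𝒳) (prL 𝒜 𝒳) ?_ ?_ ?_
  · intro d x hx
    exact prL_of_mem 𝒜 𝒳 hx
  · intro d e x hx hne
    exact prL_of_mem_ne 𝒜 𝒳 hx hne
  · intro x
    induction x using Gr.induction_on 𝒳 with
    | zero => exact zero_mem _
    | homogeneous e x hx => exact Submodule.mem_iSup_of_mem e hx
    | add x y hx hy => exact add_mem hx hy

/-- the decomposition into `k`-subspaces -/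
@[instance_reducible]
noncomputable def pcsDecomposition : DirectSum.Decomposition (pcs 𝒜 𝒳) :=
  (pcs_isInternal 𝒜 𝒳).chooseDecomposition

theorem prk_pcs [DirectSum.Decomposition (pcs 𝒜 𝒳)] (d : ℤ) :
    SegLA.prk (pcs 𝒜 𝒳) d = prL 𝒜 𝒳 d :=
  SegLA.prk_eq_of_proj (pcs 𝒜 𝒳) (prL 𝒜 𝒳) (fun _ _ hx => prL_of_mem 𝒜 𝒳 hx)
    (fun _ _ _ hx hne => prL_of_mem_ne 𝒜 𝒳 hx hne) d

end Pieces

section SegSpace

variable {k : Type u} [Field k] {R S : Type u} [CommRing R] [CommRing S] [Algebra k R] [Algebra k S]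
  (𝒜 : ℤ → Submodule k R) [GradedAlgebra 𝒜] (ℬ : ℤ → Submodule k S) [GradedAlgebra ℬ]
variable {X : Type u} [AddCommGroup X] [Module R X] [Module k X] [IsScalarTower k R X]
  (𝒳 : ℤ → AddSubgroup X) [DirectSum.Decomposition 𝒳] [SetLike.GradedSMul 𝒜 𝒳]
variable {Y : Type u} [AddCommGroup Y] [Module S Y] [Module k Y] [IsScalarTower k S Y]
  (𝒴 : ℤ → AddSubgroup Y) [DirectSum.Decomposition 𝒴] [SetLike.GradedSMul ℬ 𝒴]

/-- the Segre subspace `⊕_d X_d ⊗ Y_d` of `X ⊗ Y` -/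
def seg : Submodule k (X ⊗[k] Y) := ⨆ d, GrSeg.segrePiece k 𝒳 𝒴 d

theorem tmul_mem_piece {d : ℤ} {x : X} {y : Y} (hx : x ∈ 𝒳 d) (hy : y ∈ 𝒴 d) :
    x ⊗ₜ[k] y ∈ GrSeg.segrePiece k 𝒳 𝒴 d :=
  Submodule.subset_span ⟨x, hx, y, hy, rfl⟩

theorem piece_le_seg (d : ℤ) : GrSeg.segrePiece k 𝒳 𝒴 d ≤ seg 𝒳 𝒴 :=
  le_iSup (fun d => GrSeg.segrePiece k 𝒳 𝒴 d) d

/-- the projector onto the `d`-th Segre piece -/
noncomputable def sp (d : ℤ) : X ⊗[k] Y →ₗ[k] X ⊗[k] Y :=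
  TensorProduct.map (prL 𝒜 𝒳 d) (prL ℬ 𝒴 d)

theorem sp_tmul (d : ℤ) (x : X) (y : Y) :
    sp 𝒜 ℬ 𝒳 𝒴 d (x ⊗ₜ[k] y) = prL 𝒜 𝒳 d x ⊗ₜ[k] prL ℬ 𝒴 d y := rfl

theorem sp_mem (d : ℤ) (w : X ⊗[k] Y) : sp 𝒜 ℬ 𝒳 𝒴 d w ∈ GrSeg.segrePiece k 𝒳 𝒴 d := by
  induction w using TensorProduct.induction_on with
  | zero => rw [map_zero]; exact zero_mem _
  | tmul x y => exact tmul_mem_piece 𝒳 𝒴 (prL_mem 𝒜 𝒳 d x) (prL_mem ℬ 𝒴 d y)
  | add u v hu hv => rw [map_add]; exact add_mem hu hv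

theorem sp_of_mem {d : ℤ} {w : X ⊗[k] Y} (hw : w ∈ GrSeg.segrePiece k 𝒳 𝒴 d) :
    sp 𝒜 ℬ 𝒳 𝒴 d w = w := by
  induction hw using Submodule.span_induction with
  | mem w hw =>
    obtain ⟨x, hx, y, hy, rfl⟩ := hw
    rw [sp_tmul, prL_of_mem 𝒜 𝒳 hx, prL_of_mem ℬ 𝒴 hy]
  | zero => rw [map_zero]
  | add u v _ _ hu hv => rw [map_add, hu, hv]
  | smul c u _ hu => rw [map_smul, hu]

theorem sp_of_mem_ne {d e : ℤ} {w : X ⊗[k] Y} (hw : w ∈ GrSeg.segrePiece k 𝒳 𝒴 d)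
    (hne : d ≠ e) : sp 𝒜 ℬ 𝒳 𝒴 e w = 0 := by
  induction hw using Submodule.span_induction with
  | mem w hw =>
    obtain ⟨x, hx, y, hy, rfl⟩ := hw
    rw [sp_tmul, prL_of_mem_ne 𝒜 𝒳 hx hne, TensorProduct.zero_tmul]
  | zero => rw [map_zero]
  | add u v _ _ hu hv => rw [map_add, hu, hv, add_zero]
  | smul c u _ hu => rw [map_smul, hu, smul_zero]

/-- elements of the Segre subspace are finite sums of their components -/
theorem exists_sum_sp {w : X ⊗[k] Y} (hw : w ∈ seg 𝒳 𝒴) :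
    ∃ s : Finset ℤ, (∀ d, d ∉ s → sp 𝒜 ℬ 𝒳 𝒴 d w = 0) ∧ ∑ d ∈ s, sp 𝒜 ℬ 𝒳 𝒴 d w = w := by
  classical
  induction hw using Submodule.iSup_induction' with
  | mem d w hw =>
    refine ⟨{d}, ?_, ?_⟩
    · intro e he
      rw [Finset.mem_singleton] at he
      exact sp_of_mem_ne 𝒜 ℬ 𝒳 𝒴 hw (Ne.symm he)
    · rw [Finset.sum_singleton, sp_of_mem 𝒜 ℬ 𝒳 𝒴 hw]
  | zero => exact ⟨∅, fun d _ => map_zero _, by simp⟩
  | add u v _ _ hu hv =>
    obtain ⟨s, hs0, hs⟩ := hu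
    obtain ⟨t, ht0, ht⟩ := hv
    refine ⟨s ∪ t, ?_, ?_⟩
    · intro d hd
      rw [Finset.mem_union, not_or] at hd
      rw [map_add, hs0 d hd.1, ht0 d hd.2, add_zero]
    · simp only [map_add]
      rw [Finset.sum_add_distrib]
      congr 1
      · refine (Finset.sum_subset Finset.subset_union_left ?_).symm.trans hs
        intro d _ hd
        exact hs0 d hd
      · refine (Finset.sum_subset Finset.subset_union_right ?_).symm.trans ht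
        intro d _ hd
        exact ht0 d hd

theorem sp_mem_seg (d : ℤ) (w : X ⊗[k] Y) : sp 𝒜 ℬ 𝒳 𝒴 d w ∈ seg 𝒳 𝒴 :=
  piece_le_seg 𝒳 𝒴 d (sp_mem 𝒜 ℬ 𝒳 𝒴 d w)

end SegSpace

end Seg

end Groth.Agent.H6
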