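import Groth.Agent.Lib.Helper6.SegMod1

/-! Segre products of graded modules as graded modules over the Segre product ring. -/

universe u
open DirectSum TensorProduct
set_option linter.unusedSectionVars false

namespace Groth.Agent.H6

namespace Seg

open SegLA ToAdd

section Act

variable {k : Type u} [Field k] {R S T : Type u} [CommRing R] [CommRing S] [CommRing T]
  [Algebra k R] [Algebra k S] [Algebra k T]
  (ψ : T →ₐ[k] R ⊗[k] S)
variable {X : Type u} [AddCommGroup X] [Module R X] [Module k X] [IsScalarTower k R X]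
variable {Y : Type u} [AddCommGroup Y] [Module S Y] [Module k Y] [IsScalarTower k S Y]

/-- the action of `t ∈ T` on `X ⊗ Y` -/
noncomputable def actT (t : T) : X ⊗[k] Y →ₗ[k] X ⊗[k] Y := GrSeg.act k R S X Y (ψ t)

theorem act_one (w : X ⊗[k] Y) : GrSeg.act k R S X Y 1 w = w := by
  induction w using TensorProduct.induction_on with
  | zero => rw [map_zero]
  | tmul x y =>
    rw [Algebra.TensorProduct.one_def, GrSeg.act_tmul, one_smul, one_smul]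
  | add u v hu hv => rw [map_add, hu, hv]

theorem actT_one (w : X ⊗[k] Y) : actT ψ (1 : T) w = w := by
  rw [actT, map_one, act_one]

theorem actT_mul (t t' : T) (w : X ⊗[k] Y) : actT ψ (t * t') w = actT ψ t (actT ψ t' w) := by
  rw [actT, map_mul, Groth.Agent.H9.SegreMod.act_mul_apply]
  rfl

theorem actT_add (t t' : T) (w : X ⊗[k] Y) : actT ψ (t + t') w = actT ψ t w + actT ψ t' w := by
  rw [actT, map_add, map_add, LinearMap.add_apply]
  rfl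

theorem actT_zero (w : X ⊗[k] Y) : actT ψ (0 : T) w = 0 := by
  rw [actT, map_zero, map_zero, LinearMap.zero_apply]

theorem actT_smul (c : k) (t : T) (w : X ⊗[k] Y) : actT ψ (c • t) w = c • actT ψ t w := by
  rw [actT, map_smul, map_smul, LinearMap.smul_apply]
  rfl

end Act

section TSub

variable {k : Type u} [Field k] {R S T : Type u} [CommRing R] [CommRing S] [CommRing T]
  [Algebra k R] [Algebra k S] [Algebra k T]
  (𝒜 : ℤ → Submodule k R) [GradedAlgebra 𝒜] (ℬ : ℤ → Submodule k S) [GradedAlgebra ℬ]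
  (𝒯 : ℤ → Submodule k T) [GradedAlgebra 𝒯]
  (ψ : T →ₐ[k] R ⊗[k] S)
variable {X : Type u} [AddCommGroup X] [Module R X] [Module k X] [IsScalarTower k R X]
  (𝒳 : ℤ → AddSubgroup X) [DirectSum.Decomposition 𝒳] [SetLike.GradedSMul 𝒜 𝒳]
variable {Y : Type u} [AddCommGroup Y] [Module S Y] [Module k Y] [IsScalarTower k S Y]
  (𝒴 : ℤ → AddSubgroup Y) [DirectSum.Decomposition 𝒴] [SetLike.GradedSMul ℬ 𝒴]

theorem actT_mem_piece (hT : GrSeg.IsSegreRing 𝒜 ℬ 𝒯 ψ) {c n : ℤ} {t : T} (ht : t ∈ 𝒯 c)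
    {w : X ⊗[k] Y} (hw : w ∈ GrSeg.segrePiece k 𝒳 𝒴 n) :
    actT ψ t w ∈ GrSeg.segrePiece k 𝒳 𝒴 (c + n) :=
  Groth.Agent.H9.SegreBij.act_mem_piece 𝒜 ℬ 𝒯 ψ 𝒳 𝒴 hT ht hw

theorem actT_mem_seg (hT : GrSeg.IsSegreRing 𝒜 ℬ 𝒯 ψ) (t : T) {w : X ⊗[k] Y}
    (hw : w ∈ seg 𝒳 𝒴) : actT ψ t w ∈ seg 𝒳 𝒴 := by
  induction t using DirectSum.Decomposition.inductionOn 𝒯 with
  | zero => rw [actT_zero]; exact zero_mem _
  | homogeneous t =>
    rename_i c
    induction hw using Submodule.iSup_induction' with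
    | mem d w hw => exact piece_le_seg 𝒳 𝒴 _ (actT_mem_piece 𝒜 ℬ 𝒯 ψ 𝒳 𝒴 hT t.2 hw)
    | zero => rw [map_zero]; exact zero_mem _
    | add u v _ _ hu hv => rw [map_add]; exact add_mem hu hv
  | add t t' h1 h2 => rw [actT_add]; exact add_mem h1 h2

/-- a subspace of the Segre subspace which is stable under the ring `T` and homogeneous -/
structure TSub where
  U : Submodule k (X ⊗[k] Y)
  le_seg : U ≤ seg 𝒳 𝒴
  act_mem : ∀ (t : T) (u : X ⊗[k] Y), u ∈ U → actT ψ t u ∈ U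
  sp_mem : ∀ (d : ℤ) (u : X ⊗[k] Y), u ∈ U → sp 𝒜 ℬ 𝒳 𝒴 d u ∈ U

namespace TSub

variable {𝒜 ℬ ψ 𝒳 𝒴} (V : TSub 𝒜 ℬ ψ 𝒳 𝒴)

noncomputable instance instModuleT : Module T ↥V.U where
  smul t u := ⟨actT ψ t u.1, V.act_mem t u.1 u.2⟩
  one_smul u := Subtype.ext (actT_one ψ u.1)
  mul_smul t t' u := Subtype.ext (actT_mul ψ t t' u.1)
  smul_zero t := Subtype.ext (map_zero (actT ψ t))
  smul_add t u v := Subtype.ext (map_add (actT ψ t) u.1 v.1)
  add_smul t t' u := Subtype.ext (actT_add ψ t t' u.1)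
  zero_smul u := Subtype.ext (actT_zero ψ u.1)

theorem coe_smul (t : T) (u : ↥V.U) : ((t • u : ↥V.U) : X ⊗[k] Y) = actT ψ t u.1 := rfl

instance instIsScalarTower : IsScalarTower k T ↥V.U where
  smul_assoc c t u := Subtype.ext (actT_smul ψ c t u.1)

/-- the pieces -/
def gr (d : ℤ) : AddSubgroup ↥V.U :=
  (GrSeg.segrePiece k 𝒳 𝒴 d).toAddSubgroup.comap V.U.subtype.toAddMonoidHom

theorem mem_gr {d : ℤ} {u : ↥V.U} : u ∈ V.gr d ↔ (u : X ⊗[k] Y) ∈ GrSeg.segrePiece k 𝒳 𝒴 d :=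
  Iff.rfl

/-- the projections -/
noncomputable def pr (d : ℤ) : ↥V.U →+ ↥V.U where
  toFun u := ⟨sp 𝒜 ℬ 𝒳 𝒴 d u.1, V.sp_mem d u.1 u.2⟩
  map_zero' := Subtype.ext (map_zero _)
  map_add' u v := Subtype.ext (map_add _ u.1 v.1)

theorem isInternal : DirectSum.IsInternal V.gr := by
  refine Gr.isInternal_of_proj V.gr V.pr ?_ ?_ ?_
  · intro d u hu
    exact Subtype.ext (sp_of_mem 𝒜 ℬ 𝒳 𝒴 hu)
  · intro d e u hu hne
    exact Subtype.ext (sp_of_mem_ne 𝒜 ℬ 𝒳 𝒴 hu hne)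
  · intro u
    obtain ⟨s, -, hs⟩ := exists_sum_sp 𝒜 ℬ 𝒳 𝒴 (V.le_seg u.2)
    have : u = ∑ d ∈ s, V.pr d u := by
      apply Subtype.ext
      rw [AddSubmonoidClass.coe_finsetSum]
      exact hs.symm
    rw [this]
    refine sum_mem fun d _ => ?_
    exact AddSubgroup.mem_iSup_of_mem d (Seg.sp_mem 𝒜 ℬ 𝒳 𝒴 d u.1)

@[instance_reducible]
noncomputable def decomposition : DirectSum.Decomposition V.gr := V.isInternal.chooseDecomposition

theorem proj_eq [DirectSum.Decomposition V.gr] (d : ℤ) (u : ↥V.U) :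
    ((Gr.proj V.gr d u : ↥V.U) : X ⊗[k] Y) = sp 𝒜 ℬ 𝒳 𝒴 d u.1 := by
  have := Gr.proj_eq_of_proj V.gr V.pr (fun d u hu => Subtype.ext (sp_of_mem 𝒜 ℬ 𝒳 𝒴 hu))
    (fun d e u hu hne => Subtype.ext (sp_of_mem_ne 𝒜 ℬ 𝒳 𝒴 hu hne)) d u
  rw [this]
  rfl

theorem gradedSMul (hT : GrSeg.IsSegreRing 𝒜 ℬ 𝒯 ψ) [GradedRing (toAdd 𝒯)] :
    SetLike.GradedSMul (toAdd 𝒯) V.gr where
  smul_mem := by
    intro c n t u ht hu
    exact actT_mem_piece 𝒜 ℬ 𝒯 ψ 𝒳 𝒴 hT ht hu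

/-- the graded `T`-module -/
noncomputable def toGMod (hT : GrSeg.IsSegreRing 𝒜 ℬ 𝒯 ψ) [GradedRing (toAdd 𝒯)] :
    GrLC.GMod.{u} (toAdd 𝒯) :=
  letI := V.decomposition
  letI := V.gradedSMul 𝒯 hT
  { carrier := ↥V.U, gr := V.gr }

end TSub

/-- the full Segre product -/
def TSub.full (hT : GrSeg.IsSegreRing 𝒜 ℬ 𝒯 ψ) : TSub 𝒜 ℬ ψ 𝒳 𝒴 where
  U := seg 𝒳 𝒴
  le_seg := le_rfl
  act_mem := fun t _ hu => actT_mem_seg 𝒜 ℬ 𝒯 ψ 𝒳 𝒴 hT t hu
  sp_mem := fun d u _ => sp_mem_seg 𝒜 ℬ 𝒳 𝒴 d u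

end TSub

end Seg

end Groth.Agent.H6
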