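import Groth.Agent.Lib.Helper6.GrPoly1
import Groth.Agent.Lib.Helper6.SegCM4
import Groth.Agent.Lib.Helper6.SegCM5

/-! Standard graded Cohen–Macaulay rings of dimension one over a field: negative a-invariant iff
polynomial ring. -/

universe u
open DirectSum TensorProduct
set_option linter.unusedSectionVars false

namespace Groth.Agent.H6

namespace Seg

open SegLA ToAdd Gr

section Poly

variable {k : Type u} [Field k] {R : Type u} [CommRing R] [Nontrivial R] [Algebra k R]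
  (𝒜 : ℤ → Submodule k R) [GradedAlgebra 𝒜]
  (hpos : ∀ n : ℤ, n < 0 → 𝒜 n = ⊥) (h0 : 𝒜 0 = Submodule.span k {(1 : R)})
  (hstd : Ideal.span (⋃ n ∈ Set.Ioi (0 : ℤ), (𝒜 n : Set R)) =
    Ideal.span ((𝒜 1 : Submodule k R) : Set R))

include hpos h0 in
/-- a graded ring defined over `k` which is isomorphic to `k[X]` has `R_1` spanned by one
element -/
theorem exists_gen_of_algEquiv (φ : R ≃ₐ[k] Polynomial k) :
    ∃ x ∈ 𝒜 1, ∀ r ∈ 𝒜 1, ∃ c : k, r = c • x := by
  letI := gradedRing_toAdd 𝒜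
  have hpos' := toAdd_neg_eq_bot 𝒜 hpos
  haveI : IsPrincipalIdealRing R :=
    IsPrincipalIdealRing.of_surjective φ.symm.toRingEquiv.toRingHom φ.symm.surjective
  obtain ⟨f, hf⟩ := (IsPrincipalIdealRing.principal
    (Ideal.span (⋃ n ∈ Set.Ioi (0 : ℤ), (𝒜 n : Set R)))).principal
  obtain ⟨mI, hmI⟩ := exists_irrel 𝒜
  have hfm : f ∈ (idealTo 𝒜 mI).toIdeal := by
    change f ∈ mI.toIdeal
    rw [hmI, hf]
    exact Submodule.mem_span_singleton_self f
  have hf0 : proj (toAdd 𝒜) 0 f = 0 :=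
    GrCM.proj_zero_eq_zero_of_mem (toAdd 𝒜) hpos' (idealTo 𝒜 mI) hmI hfm
  have key : ∀ g : R, proj (toAdd 𝒜) 1 (g * f) = proj (toAdd 𝒜) 0 g * proj (toAdd 𝒜) 1 f := by
    intro g
    induction g using induction_on (toAdd 𝒜) with
    | zero => simp
    | homogeneous i g hg =>
      have h1 : proj (toAdd 𝒜) 1 (g • f) = g • proj (toAdd 𝒜) (1 - i) f :=
        proj_smul_of_mem' (toAdd 𝒜) (toAdd 𝒜) hg 1 f
      rw [smul_eq_mul, smul_eq_mul] at h1
      rw [h1]
      by_cases hi0 : i = 0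
      · subst hi0
        rw [sub_zero, proj_of_mem (toAdd 𝒜) hg]
      · rw [proj_of_mem_ne (toAdd 𝒜) hg hi0, zero_mul]
        by_cases hi1 : i = 1
        · subst hi1
          rw [sub_self, hf0, mul_zero]
        · rcases lt_or_gt_of_ne hi0 with hlt | hgt
          · have : g = 0 := by
              have h2 := hg
              rw [hpos' i hlt, AddSubgroup.mem_bot] at h2
              exact h2
            rw [this, zero_mul]
          · have h2 := proj_mem (toAdd 𝒜) (1 - i) f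
            rw [hpos' (1 - i) (by omega), AddSubgroup.mem_bot] at h2
            rw [h2, mul_zero]
    | add g g' h1 h2 => rw [add_mul, map_add, map_add, h1, h2, add_mul]
  refine ⟨proj (toAdd 𝒜) 1 f, proj_mem (toAdd 𝒜) 1 f, fun r hr => ?_⟩
  have hrm : r ∈ Ideal.span (⋃ n ∈ Set.Ioi (0 : ℤ), (𝒜 n : Set R)) := by
    apply Ideal.subset_span
    simp only [Set.mem_iUnion, Set.mem_Ioi, SetLike.mem_coe]
    exact ⟨1, one_pos, hr⟩
  rw [hf] at hrm
  obtain ⟨g, rfl⟩ := Ideal.mem_span_singleton'.mp hrm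
  have h3 : proj (toAdd 𝒜) 0 g ∈ 𝒜 0 := proj_mem (toAdd 𝒜) 0 g
  rw [h0, Submodule.mem_span_singleton] at h3
  obtain ⟨c, hc⟩ := h3
  refine ⟨c, ?_⟩
  have h4 : proj (toAdd 𝒜) 1 (g * f) = g * f := proj_of_mem (toAdd 𝒜) hr
  rw [← h4, key g, ← hc, smul_mul_assoc, one_mul]

include hpos h0 hstd in
/-- a standard graded ring over `k` with `R_1` spanned by one element and all `R_n ≠ 0` is a
polynomial ring -/
theorem nonempty_algEquiv_polynomial (x : R) (hx : x ∈ 𝒜 1)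
    (hgen : ∀ r ∈ 𝒜 1, ∃ c : k, r = c • x) (hne : ∀ n : ℕ, 𝒜 (n : ℤ) ≠ ⊥) :
    Nonempty (R ≃ₐ[k] Polynomial k) := by
  classical
  letI := gradedRing_toAdd 𝒜
  have hpos' := toAdd_neg_eq_bot 𝒜 hpos
  have hpow : ∀ n : ℕ, x ^ n ∈ 𝒜 (n : ℤ) := by
    intro n
    have := SetLike.pow_mem_graded n hx
    rwa [nsmul_eq_mul, mul_one] at this
  have hspan : ∀ n : ℕ, ∀ r ∈ 𝒜 (n : ℤ), ∃ c : k, r = c • x ^ n := by
    intro n
    induction n with
    | zero =>
      intro r hr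
      rw [Nat.cast_zero, h0, Submodule.mem_span_singleton] at hr
      obtain ⟨c, rfl⟩ := hr
      exact ⟨c, by rw [pow_zero]⟩
    | succ n ih =>
      intro r hr
      refine induction_std (toAdd 𝒜) hstd ((n + 1 : ℕ) : ℤ) (by push_cast; omega)
        (fun r => ∃ c : k, r = c • x ^ (n + 1)) ⟨0, by rw [zero_smul]⟩ ?_ ?_ r hr
      · rintro a b ⟨c, rfl⟩ ⟨c', rfl⟩
        exact ⟨c + c', by rw [add_smul]⟩
      · intro y hy w hw
        obtain ⟨a, rfl⟩ := hgen y hy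
        have hw' : w ∈ 𝒜 (n : ℤ) := by
          have : ((n + 1 : ℕ) : ℤ) - 1 = (n : ℤ) := by push_cast; ring
          rw [this] at hw
          exact hw
        obtain ⟨b, rfl⟩ := ih w hw'
        exact ⟨b * a, by rw [smul_mul_smul_comm, pow_succ]⟩
  have hxne : ∀ n : ℕ, x ^ n ≠ 0 := by
    intro n hxn
    apply hne n
    rw [Submodule.eq_bot_iff]
    intro r hr
    obtain ⟨c, rfl⟩ := hspan n r hr
    rw [hxn, smul_zero]
  let f : Polynomial k →ₐ[k] R := Polynomial.aeval x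
  have hsurj : Function.Surjective f := by
    intro r
    induction r using induction_on (toAdd 𝒜) with
    | zero => exact ⟨0, map_zero f⟩
    | homogeneous i r hr =>
      rcases lt_or_ge i 0 with hlt | hge
      · rw [hpos' i hlt, AddSubgroup.mem_bot] at hr
        exact ⟨0, by rw [hr, map_zero]⟩
      · obtain ⟨n, rfl⟩ := Int.eq_ofNat_of_zero_le hge
        obtain ⟨c, rfl⟩ := hspan n r hr
        refine ⟨Polynomial.C c * Polynomial.X ^ n, ?_⟩
        simp [f, Algebra.smul_def]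
    | add r r' h1 h2 =>
      obtain ⟨p, rfl⟩ := h1
      obtain ⟨p', rfl⟩ := h2
      exact ⟨p + p', map_add f p p'⟩
  have hinj : Function.Injective f := by
    rw [injective_iff_map_eq_zero]
    intro p hp
    ext j
    rw [Polynomial.coeff_zero]
    have h1 : f p = p.sum fun i a => a • x ^ i := by
      change Polynomial.aeval x p = _
      rw [Polynomial.aeval_def, Polynomial.eval₂_eq_sum]
      refine Finset.sum_congr rfl fun i _ => ?_
      exact (Algebra.smul_def _ _).symm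
    have h2 : proj (toAdd 𝒜) (j : ℤ) (f p) = p.coeff j • x ^ j := by
      rw [h1, Polynomial.sum_def, map_sum]
      rw [Finset.sum_eq_single j]
      · apply proj_of_mem (toAdd 𝒜)
        exact (𝒜 (j : ℤ)).smul_mem _ (hpow j)
      · intro i _ hij
        apply proj_of_mem_ne (toAdd 𝒜) (g := (i : ℤ))
        · exact (𝒜 (i : ℤ)).smul_mem _ (hpow i)
        · exact_mod_cast hij
      · intro hj
        rw [Polynomial.notMem_support_iff.mp hj, zero_smul, map_zero]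
    rw [hp, map_zero] at h2
    rcases smul_eq_zero.mp h2.symm with h3 | h3
    · exact h3
    · exact absurd h3 (hxne j)
  exact ⟨(AlgEquiv.ofBijective f ⟨hinj, hsurj⟩).symm⟩

end Poly

section Iff

variable (k : Type u) [Field k] (R : Type u) [CommRing R] [Nontrivial R] [Algebra k R]
  (𝒜 : ℤ → Submodule k R) [GradedAlgebra 𝒜]
  (hpos : ∀ n : ℤ, n < 0 → 𝒜 n = ⊥) (h0 : 𝒜 0 = Submodule.span k {(1 : R)})
  [Algebra.FiniteType k R]
  (hstd : Ideal.span (⋃ n ∈ Set.Ioi (0 : ℤ), (𝒜 n : Set R)) =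
    Ideal.span ((𝒜 1 : Submodule k R) : Set R))
  (m : HomogeneousIdeal 𝒜)
  (hm : m.toIdeal = Ideal.span (⋃ n ∈ Set.Ioi (0 : ℤ), (𝒜 n : Set R)))

include hpos h0 hstd hm in
/-- a standard graded Cohen–Macaulay ring of dimension one over a field is a polynomial ring if
and only if its a-invariant is negative -/
theorem polynomial_iff_Hcomp_one_eq_bot [LocCoh.IsCohenMacaulayRing R]
    (hr : ringKrullDim R = 1) (I : GrLC.StarInjRes 𝒜 𝒜) :
    (∀ n : ℤ, 0 ≤ n → I.Hcomp m 1 n = ⊥) ↔ Nonempty (R ≃ₐ[k] Polynomial k) := by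
  haveI : IsNoetherianRing R := Algebra.FiniteType.isNoetherianRing k R
  letI := gradedRing_toAdd 𝒜
  haveI := gradedSMul_self 𝒜
  have h0' := isField_deg0 𝒜 h0
  have hpos' := toAdd_neg_eq_bot 𝒜 hpos
  have hr' : ringKrullDim R = ((1 : ℕ) : WithBot ℕ∞) := by rw [hr]; rfl
  have hRcm := (cmRing_iff_existsUnique 𝒜 hpos h0 m hm I).mp inferInstance
  obtain ⟨dR, hdR⟩ := exists_Hcomp_top_ne_bot 𝒜 hpos h0 m hm 1 hr' I
  have hRv : ∀ (q : ℕ) (d : ℤ), q ≠ 1 → I.Hcomp m q d = ⊥ := by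
    intro q d hq
    by_contra h
    obtain ⟨q0, _, huniq⟩ := hRcm
    have h1 := huniq q ⟨d, h⟩
    have h2 := huniq 1 ⟨dR, hdR⟩
    exact hq (h1.trans h2.symm)
  have hH0 : Subsingleton ((resToM 𝒜 (resSelf 𝒜 I)).H (idealTo 𝒜 m) 0) := by
    by_contra hne
    rw [not_subsingleton_iff_nontrivial, GrCM.nontrivial_H_iff (toAdd 𝒜) (toAdd 𝒜)
      (resToM 𝒜 (resSelf 𝒜 I)) (idealTo 𝒜 m) 0] at hne
    obtain ⟨d, hd⟩ := hne
    apply hd
    rw [Hcomp_to_eq_bot_iff]
    exact hRv 0 d (by omega)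
  have hne : ∀ n : ℕ, 𝒜 (n : ℤ) ≠ ⊥ := fun n =>
    piece_ne_bot 𝒜 hpos h0 m hm hstd 1 hr' le_rfl n (by positivity)
  constructor
  · intro hneg
    have hneg' : (resToM 𝒜 (resSelf 𝒜 I)).Hcomp (idealTo 𝒜 m) 1 0 = ⊥ := by
      rw [Hcomp_to_eq_bot_iff]
      exact hneg 0 le_rfl
    obtain ⟨z, hz, hzr⟩ := GrPoly.isCyc_one_of_ainv_neg (toAdd 𝒜) hpos' h0' (idealTo 𝒜 m) hm hstd
      (resToM 𝒜 (resSelf 𝒜 I)) hr hH0 hneg'
    refine nonempty_algEquiv_polynomial 𝒜 hpos h0 hstd z hz (fun r hr1 => ?_) hne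
    obtain ⟨c, hc, rfl⟩ := hzr r hr1
    have hc' : c ∈ 𝒜 0 := hc
    rw [h0, Submodule.mem_span_singleton] at hc'
    obtain ⟨a, rfl⟩ := hc'
    exact ⟨a, by rw [smul_mul_assoc, one_mul]⟩
  · rintro ⟨φ⟩ n hn
    obtain ⟨x, hx, hgen⟩ := exists_gen_of_algEquiv 𝒜 hpos h0 φ
    haveI : IsDomain R := φ.toRingEquiv.toMulEquiv.isDomain (Polynomial k)
    have hx0 : x ≠ 0 := by
      intro hx0
      apply hne 1
      rw [Submodule.eq_bot_iff]
      intro r hr1
      obtain ⟨c, rfl⟩ := hgen r (by simpa using hr1)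
      rw [hx0, smul_zero]
    have hxreg : IsSMulRegular R x := by
      intro a b hab
      exact mul_left_cancel₀ hx0 hab
    have := GrPoly.Hcomp_one_eq_bot_of_isCyc (toAdd 𝒜) hpos' h0' (idealTo 𝒜 m) hm hstd
      (resToM 𝒜 (resSelf 𝒜 I)) hH0 x hx hxreg (fun r hr1 => by
        obtain ⟨c, rfl⟩ := hgen r hr1
        refine ⟨c • 1, ?_, by rw [smul_mul_assoc, one_mul]⟩
        change c • (1 : R) ∈ 𝒜 0
        exact (𝒜 0).smul_mem c (SetLike.GradedOne.one_mem)) n hn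
    rw [Hcomp_to_eq_bot_iff] at this
    exact this

end Iff

section Main

/-- **S18664** -/
theorem cm_segre_iff_polynomial (k : Type u) [Field k] (R : Type u) [CommRing R] [Algebra k R]
    (𝒜 : ℤ → Submodule k R) [GradedAlgebra 𝒜] (hposR : ∀ n : ℤ, n < 0 → 𝒜 n = ⊥)
    (h0R : 𝒜 0 = Submodule.span k {(1 : R)}) [Algebra.FiniteType k R] (S : Type u) [CommRing S]
    [Algebra k S] (ℬ : ℤ → Submodule k S) [GradedAlgebra ℬ]
    (hposS : ∀ n : ℤ, n < 0 → ℬ n = ⊥) (h0S : ℬ 0 = Submodule.span k {(1 : S)})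
    [Algebra.FiniteType k S] (T : Type u) [CommRing T] [Algebra k T] (𝒯 : ℤ → Submodule k T)
    [GradedAlgebra 𝒯] (ψ : T →ₐ[k] TensorProduct k R S) (hψ : Function.Injective ψ)
    (hdegT : ∀ n : ℤ, (𝒯 n).map ψ.toLinearMap =
      Submodule.span k {x : TensorProduct k R S | ∃ a ∈ 𝒜 n, ∃ b ∈ ℬ n, x = a ⊗ₜ[k] b})
    [LocCoh.IsCohenMacaulayRing R] [LocCoh.IsCohenMacaulayRing S]
    (hstdR : Ideal.span (⋃ n ∈ Set.Ioi (0 : ℤ), (𝒜 n : Set R)) =
      Ideal.span ((𝒜 1 : Submodule k R) : Set R))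
    (hstdS : Ideal.span (⋃ n ∈ Set.Ioi (0 : ℤ), (ℬ n : Set S)) =
      Ideal.span ((ℬ 1 : Submodule k S) : Set S))
    (hr : ringKrullDim R = 1) (hs : 2 ≤ ringKrullDim S) :
    LocCoh.IsCohenMacaulayRing T ↔ Nonempty (R ≃ₐ[k] Polynomial k) := by
  have hr' : ringKrullDim R = ((1 : ℕ) : WithBot ℕ∞) := by rw [hr]; rfl
  haveI : Nontrivial R := nontrivial_of_dim 1 hr'
  haveI : Nontrivial S := by
    by_contra hne
    rw [not_nontrivial_iff_subsingleton] at hne
    rw [ringKrullDim_eq_bot_of_subsingleton] at hs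
    exact absurd hs (by simp)
  haveI : IsNoetherianRing S := Algebra.FiniteType.isNoetherianRing k S
  obtain ⟨s, hs'⟩ : ∃ s : ℕ, ringKrullDim S = (s : WithBot ℕ∞) := by
    letI := gradedRing_toAdd ℬ
    exact Gr.exists_ringKrullDim_eq (toAdd ℬ) (toAdd_neg_eq_bot ℬ hposS) (isField_deg0 ℬ h0S)
  have h2s : 2 ≤ s := by
    rw [hs'] at hs
    exact_mod_cast hs
  obtain ⟨mR, hmR⟩ := exists_irrel 𝒜
  obtain ⟨mS, hmS⟩ := exists_irrel ℬ
  obtain ⟨I⟩ := nonempty_starInjRes_self 𝒜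
  rw [(cm_segre_dim1 k R 𝒜 hposR h0R S ℬ hposS h0S T 𝒯 ψ hψ hdegT mR hmR I hr s hs'
    (by omega)).1 h2s, ← polynomial_iff_Hcomp_one_eq_bot k R 𝒜 hposR h0R hstdR mR hmR hr I]
  constructor
  · intro h n hn
    rcases h n with h1 | h1
    · exact h1
    · exact absurd h1 (piece_ne_bot ℬ hposS h0S mS hmS hstdS s hs' (by omega) n hn)
  · intro h n
    rcases lt_or_ge n 0 with hlt | hge
    · exact Or.inr (hposS n hlt)
    · exact Or.inl (h n hge)

end Main

end Seg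

end Groth.Agent.H6
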