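import Groth.Agent.Lib.Helper6.SegShiftCM
import Groth.Agent.Lib.Helper6.PolyCan
import Groth.Agent.Lib.Helper6.GrIrr

/-! The standard graded polynomial ring over a field as a graded ring defined over the field:
pieces and top local cohomology. -/

universe u
open DirectSum TensorProduct
set_option linter.unusedSectionVars false
attribute [local instance] MvPolynomial.weightedGradedAlgebra

namespace Groth.Agent.H6

namespace Seg

open SegLA ToAdd

section StdPoly

variable (k : Type u) [Field k] (N : ℕ)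

/-- the standard grading of the polynomial ring -/
noncomputable abbrev stdW : ℤ → Submodule k (MvPolynomial (Fin N) k) :=
  MvPolynomial.weightedHomogeneousSubmodule k (fun _ : Fin N => (1 : ℤ))

theorem stdW_neg (n : ℤ) (hn : n < 0) : stdW k N n = ⊥ := by
  have h := PolyGr.gr_neg k N (fun _ : Fin N => (1 : ℤ)) (fun _ => one_pos) n hn
  rw [Submodule.eq_bot_iff]
  intro p hp
  have : p ∈ PolyGr.gr k N (fun _ : Fin N => (1 : ℤ)) n := hp
  rw [h, AddSubgroup.mem_bot] at this
  exact this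

theorem stdW_zero : stdW k N 0 = Submodule.span k {(1 : MvPolynomial (Fin N) k)} := by
  apply le_antisymm
  · intro p hp
    have h := PolyGr.eq_C_of_mem_zero k N (fun _ : Fin N => (1 : ℤ)) (fun _ => one_pos)
      (show p ∈ PolyGr.gr k N (fun _ : Fin N => (1 : ℤ)) 0 from hp)
    rw [h, Submodule.mem_span_singleton]
    exact ⟨MvPolynomial.coeff 0 p, by rw [MvPolynomial.smul_eq_C_mul, mul_one]⟩
  · rw [Submodule.span_le]
    intro p hp
    rw [Set.mem_singleton_iff] at hp
    rw [hp]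
    exact PolyGr.C_mem_zero k N (fun _ : Fin N => (1 : ℤ)) 1

theorem stdW_hstd : Ideal.span (⋃ n ∈ Set.Ioi (0 : ℤ), (stdW k N n : Set (MvPolynomial (Fin N) k))) =
    Ideal.span ((stdW k N 1 : Submodule k (MvPolynomial (Fin N) k)) : Set _) := by
  have h := PolyGr.span_pos_eq k N (fun _ : Fin N => (1 : ℤ)) (fun _ => one_pos)
  apply le_antisymm
  · have h' : Ideal.span (⋃ n ∈ Set.Ioi (0 : ℤ), (stdW k N n : Set (MvPolynomial (Fin N) k))) =
        Ideal.span (Set.range (MvPolynomial.X : Fin N → MvPolynomial (Fin N) k)) := h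
    rw [h', Ideal.span_le]
    rintro _ ⟨i, rfl⟩
    apply Ideal.subset_span
    exact PolyGr.X_mem k N (fun _ : Fin N => (1 : ℤ)) i
  · apply Ideal.span_mono
    intro p hp
    simp only [Set.mem_iUnion, Set.mem_Ioi]
    exact ⟨1, one_pos, hp⟩

theorem stdW_ne_bot (hN : 1 ≤ N) (n : ℤ) (hn : 0 ≤ n) : stdW k N n ≠ ⊥ := by
  obtain ⟨j, rfl⟩ := Int.eq_ofNat_of_zero_le hn
  intro h
  have hX : (MvPolynomial.X (⟨0, hN⟩ : Fin N) : MvPolynomial (Fin N) k) ^ j ∈ stdW k N (j : ℤ) := by
    have h1 := PolyGr.X_mem k N (fun _ : Fin N => (1 : ℤ)) ⟨0, hN⟩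
    have := SetLike.pow_mem_graded j (show (MvPolynomial.X (⟨0, hN⟩ : Fin N) :
      MvPolynomial (Fin N) k) ∈ stdW k N 1 from h1)
    rwa [nsmul_eq_mul, mul_one] at this
  rw [h, Submodule.mem_bot] at hX
  exact pow_ne_zero j (MvPolynomial.X_ne_zero _) hX

end StdPoly

section LC

variable (k : Type u) [Field k] (N : ℕ)

/-- the top local cohomology of the standard graded polynomial ring in `N ≥ 1` variables lives
exactly in degrees at most `-N` -/
theorem stdW_Hcomp_top_eq_bot_iff (hN : 1 ≤ N) (m : HomogeneousIdeal (stdW k N))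
    (hm : m.toIdeal = Ideal.span (⋃ n ∈ Set.Ioi (0 : ℤ),
      (stdW k N n : Set (MvPolynomial (Fin N) k))))
    (I : GrLC.StarInjRes (stdW k N) (stdW k N)) (n : ℤ) :
    I.Hcomp m N n = ⊥ ↔ -(N : ℤ) < n := by
  letI hA : GradedRing (PolyGr.gr k N (fun _ : Fin N => (1 : ℤ))) :=
    gradedRing_toAdd (stdW k N)
  haveI := gradedSMul_self (stdW k N)
  have hpos := stdW_neg k N
  have h0 := stdW_zero k N
  have hpos' := PolyGr.gr_neg k N (fun _ : Fin N => (1 : ℤ)) (fun _ => one_pos)
  have h0' := PolyGr.isField_deg0 k N (fun _ : Fin N => (1 : ℤ)) (fun _ => one_pos)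
  have hirr : idealTo (stdW k N) m = Gr.irr (PolyGr.gr k N (fun _ : Fin N => (1 : ℤ))) :=
    HomogeneousIdeal.toIdeal_injective hm
  have hloc : GrLC.IsStarLocal (PolyGr.gr k N (fun _ : Fin N => (1 : ℤ)))
      (idealTo (stdW k N) m) := by
    rw [hirr]
    exact Gr.isStarLocal_irr _ hpos' h0'
  have hend := PolyCan.endDeg_top k N (fun _ : Fin N => (1 : ℤ)) (fun _ => one_pos)
    (idealTo (stdW k N) m) hloc hm (resToM (stdW k N) (resSelf (stdW k N) I))
  have hsum : (Finset.univ : Finset (Fin N)).sum (fun _ : Fin N => (1 : ℤ)) = (N : ℤ) := by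
    simp
  rw [hsum] at hend
  have conv : ∀ n : ℤ, (resToM (stdW k N) (resSelf (stdW k N) I)).Hgr (idealTo (stdW k N) m) N n = ⊥ ↔
      I.Hcomp m N n = ⊥ := by
    intro n
    rw [AddSubgroup.eq_bot_iff_forall, Submodule.eq_bot_iff]
    exact ⟨fun h x hx => h x hx, fun h x hx => h x hx⟩
  constructor
  · intro h
    by_contra hle
    rw [not_lt] at hle
    have h1 : I.Hcomp m N (-(N : ℤ)) ≠ ⊥ := by
      intro h2
      exact PolyCan.ne_bot_of_endDeg_eq _ _ hend ((conv _).mpr h2)
    exact Hcomp_ne_bot_of_le (stdW k N) hpos h0 m hm (stdW_hstd k N) N (PolyGr.ringKrullDim_eq k N) hN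
      I (-(N : ℤ)) n hle h1 h
  · intro h
    by_contra hne
    have h1 := PolyCan.le_of_endDeg_eq _ _ hend n (fun h2 => hne ((conv n).mp h2))
    omega

end LC

end Seg

end Groth.Agent.H6
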