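import Groth.Agent.Lib.Helper6.SegPolyRing
import Groth.Agent.Lib.Helper6.DepthKit
import Groth.Agent.Lib.Helper9.Segre.Shift

/-! Segre products `R(a) # S(b)` of shifted polynomial rings: the nonvanishing local cohomology. -/

universe u
open DirectSum TensorProduct
set_option linter.unusedSectionVars false
attribute [local instance] MvPolynomial.weightedGradedAlgebra

namespace Groth.Agent.H6

namespace Seg

open SegLA ToAdd

section DepthCrit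

variable {k : Type u} [Field k] {R : Type u} [CommRing R] [Algebra k R]
  (𝒜 : ℤ → Submodule k R) [GradedAlgebra 𝒜] [IsNoetherianRing R]
  (m : HomogeneousIdeal 𝒜)
variable {M : Type u} [AddCommGroup M] [Module R M] (ℳ : ℤ → AddSubgroup M)
  [DirectSum.Decomposition ℳ] [SetLike.GradedSMul 𝒜 ℳ] [Module.Finite R M]

/-- depth in terms of the graded local cohomology -/
theorem idealDepth_eq_iff_Hcomp (E : GrLC.StarInjRes 𝒜 ℳ) (n : ℕ) :
    LocCoh.idealDepth m.toIdeal M = n ↔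
      (∀ i : ℕ, i < n → ∀ d : ℤ, E.Hcomp m i d = ⊥) ∧ ∃ d : ℤ, E.Hcomp m n d ≠ ⊥ := by
  letI := gradedRing_toAdd 𝒜
  haveI := gradedSMul_to 𝒜 ℳ
  rw [Depth.idealDepth_eq_coe_iff]
  have key : ∀ q : ℕ, Nontrivial (LocCoh.H m.toIdeal q M) ↔ ∃ d : ℤ, E.Hcomp m q d ≠ ⊥ := by
    intro q
    obtain ⟨e⟩ := Gr.nonempty_H_equiv (toAdd 𝒜) ℳ (resToM 𝒜 E) (idealTo 𝒜 m) q
    have h1 : Nontrivial (LocCoh.H m.toIdeal q M) ↔ Nontrivial ((resToM 𝒜 E).H (idealTo 𝒜 m) q) :=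
      ⟨fun h => by
          haveI : Nontrivial (LocCoh.H (idealTo 𝒜 m).toIdeal q M) := h
          exact e.toEquiv.nontrivial,
        fun h => by haveI := h; exact e.symm.toEquiv.nontrivial⟩
    rw [h1, GrCM.nontrivial_H_iff (toAdd 𝒜) ℳ (resToM 𝒜 E) (idealTo 𝒜 m) q]
    apply exists_congr
    intro d
    apply not_congr
    rw [Submodule.eq_bot_iff, Submodule.eq_bot_iff]
    exact Iff.rfl
  rw [key n]
  apply and_congr_left
  intro _
  apply forall_congr'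
  intro i
  apply forall_congr'
  intro hi
  rw [← not_nontrivial_iff_subsingleton, key i]
  push Not
  rfl

end DepthCrit

section ShiftTools

variable (k : Type u) [Field k] (R : Type u) [CommRing R]
    [Algebra k R] (𝒜 : ℤ → Submodule k R) [GradedAlgebra 𝒜] (hposR : ∀ n : ℤ, n < 0 → 𝒜 n = ⊥)
    (h0R : 𝒜 0 = Submodule.span k {(1 : R)}) [Algebra.FiniteType k R] (S : Type u) [CommRing S]
    [Algebra k S] (ℬ : ℤ → Submodule k S) [GradedAlgebra ℬ]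
    (hposS : ∀ n : ℤ, n < 0 → ℬ n = ⊥) (h0S : ℬ 0 = Submodule.span k {(1 : S)})
    [Algebra.FiniteType k S] (T : Type u) [CommRing T] [Algebra k T] (𝒯 : ℤ → Submodule k T)
    [GradedAlgebra 𝒯] (ψ : T →ₐ[k] TensorProduct k R S) (hT : GrSeg.IsSegreRing 𝒜 ℬ 𝒯 ψ)
    (a b : ℤ)
    (P : Type u) [AddCommGroup P] [Module T P] [Module k P] [IsScalarTower k T P]
    (𝒬 : ℤ → AddSubgroup P) [DirectSum.Decomposition 𝒬]
    (φ : P →ₗ[k] TensorProduct k R S)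
    (hP : GrSeg.IsSegreMod ψ (fun n : ℤ => 𝒜 (n + a)) (fun n : ℤ => ℬ (n + b)) 𝒬 φ)

include hposR h0R hposS h0S hT hP in
/-- `R(a) # S(b)` is a finitely generated module over `R # S` -/
theorem finite_shift : Module.Finite T P := by
  letI := gradedRing_toAdd 𝒜
  letI := gradedRing_toAdd ℬ
  haveI := gradedSMul_self 𝒜
  haveI := gradedSMul_self ℬ
  letI := Gr.shiftDecomposition (toAdd 𝒜) (-a)
  haveI := Gr.shift_gradedSMul (toAdd 𝒜) (toAdd 𝒜) (-a)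
  haveI := gradedSMul_of 𝒜 (Gr.shiftGr (toAdd 𝒜) (-a))
  letI := Gr.shiftDecomposition (toAdd ℬ) (-b)
  haveI := Gr.shift_gradedSMul (toAdd ℬ) (toAdd ℬ) (-b)
  haveI := gradedSMul_of ℬ (Gr.shiftGr (toAdd ℬ) (-b))
  have hP' := isSegreMod_shift k R 𝒜 S ℬ T ψ a b P 𝒬 φ hP
  exact Groth.Agent.S19747.result k R 𝒜 hposR h0R S ℬ hposS h0S T 𝒯 ψ hT
    R (Gr.shiftGr (toAdd 𝒜) (-a)) S (Gr.shiftGr (toAdd ℬ) (-b)) P 𝒬 φ hP'

include hP in
/-- `R(a) # S(b)` is nonzero as soon as one of its pieces is -/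
theorem nontrivial_shift (d : ℤ) (h1 : 𝒜 (d + a) ≠ ⊥) (h2 : ℬ (d + b) ≠ ⊥) : Nontrivial P := by
  obtain ⟨x, hx, hx0⟩ := (Submodule.ne_bot_iff _).mp h1
  obtain ⟨y, hy, hy0⟩ := (Submodule.ne_bot_iff _).mp h2
  have h3 : x ⊗ₜ[k] y ≠ 0 := tmul_ne_zero_of_field hx0 hy0
  obtain ⟨p, -, hp⟩ := Groth.Agent.H9.SegreShift.exists_of_mem_piece 𝒜 ℬ ψ 𝒬 φ a b hP
    (Groth.Agent.H9.SegreShift.mem_pc 𝒜 ℬ a b hx hy)
  refine ⟨⟨p, 0, fun h => h3 ?_⟩⟩
  rw [← hp, h, map_zero]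

end ShiftTools

section PolyShift

variable (k : Type u) [Field k] (r s : ℕ) (h1r : 1 ≤ r) (h1s : 1 ≤ s) (T : Type u) [CommRing T]
  [Algebra k T] (𝒯 : ℤ → Submodule k T) [GradedAlgebra 𝒯]
  (ψ : T →ₐ[k] TensorProduct k (MvPolynomial (Fin r) k) (MvPolynomial (Fin s) k))
  (hT : GrSeg.IsSegreRing (stdW k r) (stdW k s) 𝒯 ψ)
  (mT : HomogeneousIdeal 𝒯)
  (hmT : mT.toIdeal = Ideal.span (⋃ n ∈ Set.Ioi (0 : ℤ), (𝒯 n : Set T)))
  (a b : ℤ) (P : Type u) [AddCommGroup P] [Module T P] [Module k P] [IsScalarTower k T P]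
  (𝒬 : ℤ → AddSubgroup P) [DirectSum.Decomposition 𝒬]
  (φ : P →ₗ[k] TensorProduct k (MvPolynomial (Fin r) k) (MvPolynomial (Fin s) k))
  (hP : GrSeg.IsSegreMod ψ (fun n : ℤ => stdW k r (n + a)) (fun n : ℤ => stdW k s (n + b)) 𝒬 φ)

/-- the local cohomology of a standard graded polynomial ring -/
theorem stdW_Hcomp_eq_bot_iff (N : ℕ) (hN : 1 ≤ N) (m : HomogeneousIdeal (stdW k N))
    (hm : m.toIdeal = Ideal.span (⋃ n ∈ Set.Ioi (0 : ℤ),
      (stdW k N n : Set (MvPolynomial (Fin N) k))))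
    (I : GrLC.StarInjRes (stdW k N) (stdW k N)) (q : ℕ) (n : ℤ) :
    I.Hcomp m q n = ⊥ ↔ ¬ (q = N ∧ n ≤ -(N : ℤ)) := by
  have hpos := stdW_neg k N
  have h0 := stdW_zero k N
  haveI : IsNoetherianRing (MvPolynomial (Fin N) k) := inferInstance
  by_cases hq : q = N
  · subst hq
    rw [stdW_Hcomp_top_eq_bot_iff k q hN m hm I n]
    constructor
    · rintro h ⟨-, h2⟩
      omega
    · intro h
      by_contra h2
      exact h ⟨rfl, by omega⟩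
  · constructor
    · rintro - ⟨h1, -⟩
      exact hq h1
    · intro _
      obtain ⟨q0, _, huniq⟩ := (cmRing_iff_existsUnique (stdW k N) hpos h0 m hm I).mp (PolyGr.instCM k N)
      obtain ⟨dr, hdr⟩ := exists_Hcomp_top_ne_bot (stdW k N) hpos h0 m hm N
        (PolyGr.ringKrullDim_eq k N) I
      by_contra h
      exact hq ((huniq q ⟨n, h⟩).trans (huniq N ⟨dr, hdr⟩).symm)

theorem stdW_eq_bot_iff (N : ℕ) (hN : 1 ≤ N) (n : ℤ) : stdW k N n = ⊥ ↔ n < 0 := by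
  constructor
  · intro h
    by_contra h2
    exact stdW_ne_bot k N hN n (by omega) h
  · exact stdW_neg k N n

set_option maxHeartbeats 1600000 in
include h1r h1s hT hmT hP in
theorem poly_shift : ∃ NZ : ℕ → ℤ → Prop,
    (∀ (q : ℕ) (d : ℤ), NZ q d ↔ (0 ≤ d + a ∧ q = s ∧ d + b ≤ -(s : ℤ)) ∨
      (q = r ∧ d + a ≤ -(r : ℤ) ∧ 0 ≤ d + b) ∨
      (q + 1 = r + s ∧ d + a ≤ -(r : ℤ) ∧ d + b ≤ -(s : ℤ))) ∧
    ((∀ (q : Ideal T) [q.IsPrime], Subsingleton (LocalizedModule q.primeCompl P) ∨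
      LocCoh.IsCohenMacaulayModule (Localization.AtPrime q) (LocalizedModule q.primeCompl P)) ↔
      ∃! q : ℕ, ∃ d : ℤ, NZ q d) ∧
    (∀ n : ℕ, LocCoh.idealDepth mT.toIdeal P = n ↔
      (∀ i : ℕ, i < n → ∀ d : ℤ, ¬ NZ i d) ∧ ∃ d : ℤ, NZ n d) := by
  have hposR := stdW_neg k r
  have h0R := stdW_zero k r
  have hposS := stdW_neg k s
  have h0S := stdW_zero k s
  haveI : LocCoh.IsCohenMacaulayRing (MvPolynomial (Fin r) k) := PolyGr.instCM k r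
  haveI : LocCoh.IsCohenMacaulayRing (MvPolynomial (Fin s) k) := PolyGr.instCM k s
  haveI : IsNoetherianRing T :=
    Groth.Agent.S18646.result k _ (stdW k r) hposR h0R _ (stdW k s) hposS h0S T 𝒯 ψ hT.1 hT.2
  haveI : Nontrivial T := segre_nontrivial ψ
  have h0T : 𝒯 0 = Submodule.span k {(1 : T)} := segre_deg_zero hT h0R h0S
  have hposT : ∀ n : ℤ, n < 0 → 𝒯 n = ⊥ := segre_neg_eq_bot hT hposR
  haveI : Module.Finite T P := finite_shift k _ (stdW k r) hposR h0R _ (stdW k s) hposS h0S T 𝒯 ψ hT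
    a b P 𝒬 φ hP
  haveI : SetLike.GradedSMul 𝒯 𝒬 :=
    Groth.Agent.H9.SegreShift.gradedSMul (stdW k r) (stdW k s) 𝒯 ψ 𝒬 φ a b hT hP
  haveI : Nontrivial P := nontrivial_shift k _ (stdW k r) _ (stdW k s) T ψ a b P 𝒬 φ hP
    (max (-a) (-b)) (stdW_ne_bot k r h1r _ (by have := le_max_left (-a) (-b); omega))
    (stdW_ne_bot k s h1s _ (by have := le_max_right (-a) (-b); omega))
  obtain ⟨mR, hmR⟩ := exists_irrel (stdW k r)
  obtain ⟨mS, hmS⟩ := exists_irrel (stdW k s)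
  obtain ⟨I⟩ := nonempty_starInjRes_self (stdW k r)
  obtain ⟨J⟩ := nonempty_starInjRes_self (stdW k s)
  letI := gradedRing_toAdd 𝒯
  haveI := gradedSMul_to 𝒯 𝒬
  obtain ⟨EP⟩ := nonempty_starInjRes 𝒯 𝒬
  obtain ⟨hK, -, -⟩ := kunneth_shift k _ (stdW k r) hposR h0R _ (stdW k s) hposS h0S T 𝒯 ψ hT
    mR hmR mS hmS mT hmT I J a b P 𝒬 φ hP EP r s h1r h1s (PolyGr.ringKrullDim_eq k r)
    (PolyGr.ringKrullDim_eq k s)
  refine ⟨fun q d => EP.Hcomp mT q d ≠ ⊥, fun q d => ?_,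
    cm_iff_existsUnique 𝒯 hposT h0T mT hmT 𝒬 EP, fun n => ?_⟩
  · change ¬ (EP.Hcomp mT q d = ⊥) ↔ _
    rw [hK q d, stdW_eq_bot_iff k r h1r, stdW_eq_bot_iff k s h1s,
      stdW_Hcomp_eq_bot_iff k r h1r mR hmR I, stdW_Hcomp_eq_bot_iff k s h1s mS hmS J,
      stdW_Hcomp_eq_bot_iff k r h1r mR hmR I, stdW_Hcomp_eq_bot_iff k s h1s mS hmS J]
    omega
  · rw [idealDepth_eq_iff_Hcomp 𝒯 mT 𝒬 EP n]
    simp only [not_not]

end PolyShift

end Seg

end Groth.Agent.H6
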