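import Groth.Agent.Lib.Helper6.SegRing
import Groth.Agent.Lib.Helper6.GrShiftRes

/-! The shifted Segre product `R # S(-d) = ⊕_n R_n ⊗ S_{n-d}` as a graded module over the Segre
product `T = R # S`. -/

universe u
open DirectSum TensorProduct
set_option linter.unusedSectionVars false

namespace Groth.Agent.H6

namespace Seg

open SegLA ToAdd

section Constr

variable {k : Type u} [Field k] {R S T : Type u} [CommRing R] [CommRing S] [CommRing T]
  [Algebra k R] [Algebra k S] [Algebra k T]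

/-- `R ⊗ S` as a module over `T` through `ψ` -/
def SegX (_ψ : T →ₐ[k] R ⊗[k] S) : Type u := R ⊗[k] S

variable (ψ : T →ₐ[k] R ⊗[k] S)

instance : AddCommGroup (SegX ψ) := inferInstanceAs (AddCommGroup (R ⊗[k] S))
instance : Module k (SegX ψ) := inferInstanceAs (Module k (R ⊗[k] S))
noncomputable instance : Module T (SegX ψ) := Module.compHom (R ⊗[k] S) ψ.toRingHom

/-- the underlying element of the tensor product -/
def SegX.val {ψ : T →ₐ[k] R ⊗[k] S} (x : SegX ψ) : R ⊗[k] S := x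

theorem segX_smul_def (t : T) (x : SegX ψ) : (t • x).val = ψ t * x.val := rfl

instance : IsScalarTower k T (SegX ψ) :=
  ⟨fun c t x => by
    change ψ (c • t) * x.val = c • (ψ t * x.val)
    rw [map_smul, smul_mul_assoc]⟩

variable (𝒜 : ℤ → Submodule k R) [GradedAlgebra 𝒜] (ℬ : ℤ → Submodule k S) [GradedAlgebra ℬ]
  (𝒯 : ℤ → Submodule k T) [GradedAlgebra 𝒯]

/-- the piece `R_n ⊗ S_{n-d}` -/
def shPiece (d n : ℤ) : Submodule k (R ⊗[k] S) :=
  Submodule.span k {x : R ⊗[k] S | ∃ a ∈ 𝒜 n, ∃ b ∈ ℬ (n - d), x = a ⊗ₜ[k] b}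

theorem tmul_mem_shPiece {d n : ℤ} {a : R} (ha : a ∈ 𝒜 n) {b : S} (hb : b ∈ ℬ (n - d)) :
    a ⊗ₜ[k] b ∈ shPiece 𝒜 ℬ d n := Submodule.subset_span ⟨a, ha, b, hb, rfl⟩

theorem mul_mem_shPiece {d m n : ℤ} {x y : R ⊗[k] S} (hx : x ∈ GrSeg.segrePiece k 𝒜 ℬ m)
    (hy : y ∈ shPiece 𝒜 ℬ d n) : x * y ∈ shPiece 𝒜 ℬ d (m + n) := by
  induction hx using Submodule.span_induction with
  | mem x hx =>
    obtain ⟨a, ha, b, hb, rfl⟩ := hx
    induction hy using Submodule.span_induction with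
    | mem y hy =>
      obtain ⟨a', ha', b', hb', rfl⟩ := hy
      rw [Algebra.TensorProduct.tmul_mul_tmul]
      refine tmul_mem_shPiece 𝒜 ℬ (SetLike.GradedMul.mul_mem ha ha') ?_
      have := SetLike.GradedMul.mul_mem (A := ℬ) hb hb'
      rwa [show m + n - d = m + (n - d) by ring]
    | zero => rw [mul_zero]; exact zero_mem _
    | add y y' _ _ h1 h2 => rw [mul_add]; exact add_mem h1 h2
    | smul c y _ h1 => rw [mul_smul_comm]; exact Submodule.smul_mem _ c h1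
  | zero => rw [zero_mul]; exact zero_mem _
  | add x x' _ _ h1 h2 => rw [add_mul]; exact add_mem h1 h2
  | smul c x _ h1 => rw [smul_mul_assoc]; exact Submodule.smul_mem _ c h1

variable {𝒜 ℬ 𝒯 ψ} in
theorem psi_mem_iSup (hT : GrSeg.IsSegreRing 𝒜 ℬ 𝒯 ψ) (t : T) :
    ψ t ∈ ⨆ m, GrSeg.segrePiece k 𝒜 ℬ m := by
  classical
  rw [← DirectSum.sum_support_decompose 𝒯 t, map_sum]
  refine sum_mem fun m _ => ?_
  refine Submodule.mem_iSup_of_mem m ?_
  rw [← hT.2 m]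
  exact ⟨_, (DirectSum.decompose 𝒯 t m).2, rfl⟩

/-- the underlying space of the shifted Segre product -/
def shW (d : ℤ) : Submodule k (R ⊗[k] S) := ⨆ n, shPiece 𝒜 ℬ d n

variable {𝒜 ℬ 𝒯 ψ} in
theorem psi_mul_mem_shW (hT : GrSeg.IsSegreRing 𝒜 ℬ 𝒯 ψ) (d : ℤ) (t : T) {y : R ⊗[k] S}
    (hy : y ∈ shW 𝒜 ℬ d) : ψ t * y ∈ shW 𝒜 ℬ d := by
  have hx := psi_mem_iSup hT t
  generalize ψ t = x at hx
  induction hx using Submodule.iSup_induction' with
  | mem m x hx =>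
    induction hy using Submodule.iSup_induction' with
    | mem n y hy => exact Submodule.mem_iSup_of_mem (m + n) (mul_mem_shPiece 𝒜 ℬ hx hy)
    | zero => rw [mul_zero]; exact zero_mem _
    | add y y' _ _ h1 h2 => rw [mul_add]; exact add_mem h1 h2
  | zero => rw [zero_mul]; exact zero_mem _
  | add x x' _ _ h1 h2 => rw [add_mul]; exact add_mem h1 h2

/-- the shifted Segre product as a `T`-submodule of `R ⊗ S` -/
def shSub (hT : GrSeg.IsSegreRing 𝒜 ℬ 𝒯 ψ) (d : ℤ) : Submodule T (SegX ψ) where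
  carrier := {x | x.val ∈ shW 𝒜 ℬ d}
  add_mem' := fun {a b} ha hb => (shW 𝒜 ℬ d).add_mem ha hb
  zero_mem' := (shW 𝒜 ℬ d).zero_mem
  smul_mem' := fun t _ hx => psi_mul_mem_shW hT d t hx

end Constr

section Proj

variable {k : Type u} [Field k] {R S T : Type u} [CommRing R] [CommRing S] [CommRing T]
  [Algebra k R] [Algebra k S] [Algebra k T]
variable (𝒜 : ℤ → Submodule k R) [GradedAlgebra 𝒜] (ℬ : ℤ → Submodule k S) [GradedAlgebra ℬ]

/-- the projection onto a bihomogeneous component of `R ⊗ S` -/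
noncomputable def bp (i j : ℤ) : R ⊗[k] S →ₗ[k] R ⊗[k] S :=
  TensorProduct.map (GradedAlgebra.proj 𝒜 i) (GradedAlgebra.proj ℬ j)

theorem bp_tmul_of_mem {i j i' j' : ℤ} {a : R} (ha : a ∈ 𝒜 i') {b : S} (hb : b ∈ ℬ j') :
    bp 𝒜 ℬ i j (a ⊗ₜ[k] b) = if i' = i ∧ j' = j then a ⊗ₜ[k] b else 0 := by
  rw [bp, TensorProduct.map_tmul, GradedAlgebra.proj_apply, GradedAlgebra.proj_apply]
  split_ifs with h
  · obtain ⟨rfl, rfl⟩ := h
    rw [DirectSum.decompose_of_mem_same 𝒜 ha, DirectSum.decompose_of_mem_same ℬ hb]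
  · by_cases hi : i' = i
    · have hj : j' ≠ j := fun hj => h ⟨hi, hj⟩
      rw [DirectSum.decompose_of_mem_ne ℬ hb hj, TensorProduct.tmul_zero]
    · rw [DirectSum.decompose_of_mem_ne 𝒜 ha hi, TensorProduct.zero_tmul]

theorem bp_of_mem {d n : ℤ} {x : R ⊗[k] S} (hx : x ∈ shPiece 𝒜 ℬ d n) :
    bp 𝒜 ℬ n (n - d) x = x := by
  induction hx using Submodule.span_induction with
  | mem x hx =>
    obtain ⟨a, ha, b, hb, rfl⟩ := hx
    rw [bp_tmul_of_mem 𝒜 ℬ ha hb, if_pos ⟨rfl, rfl⟩]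
  | zero => rw [map_zero]
  | add x y _ _ h1 h2 => rw [map_add, h1, h2]
  | smul c x _ h1 => rw [map_smul, h1]

theorem bp_of_mem_ne {d n n' : ℤ} (hne : n ≠ n') {x : R ⊗[k] S} (hx : x ∈ shPiece 𝒜 ℬ d n) :
    bp 𝒜 ℬ n' (n' - d) x = 0 := by
  induction hx using Submodule.span_induction with
  | mem x hx =>
    obtain ⟨a, ha, b, hb, rfl⟩ := hx
    rw [bp_tmul_of_mem 𝒜 ℬ ha hb, if_neg (fun h => hne h.1)]
  | zero => rw [map_zero]
  | add x y _ _ h1 h2 => rw [map_add, h1, h2, add_zero]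
  | smul c x _ h1 => rw [map_smul, h1, smul_zero]

theorem bp_mem {d n : ℤ} {x : R ⊗[k] S} (hx : x ∈ shW 𝒜 ℬ d) :
    bp 𝒜 ℬ n (n - d) x ∈ shPiece 𝒜 ℬ d n := by
  induction hx using Submodule.iSup_induction' with
  | mem m x hx =>
    by_cases hmn : m = n
    · subst hmn
      rw [bp_of_mem 𝒜 ℬ hx]
      exact hx
    · rw [bp_of_mem_ne 𝒜 ℬ hmn hx]
      exact zero_mem _
  | zero => rw [map_zero]; exact zero_mem _
  | add x y _ _ h1 h2 => rw [map_add]; exact add_mem h1 h2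

theorem shPiece_le_shW (d n : ℤ) : shPiece 𝒜 ℬ d n ≤ shW 𝒜 ℬ d :=
  le_iSup (fun n => shPiece 𝒜 ℬ d n) n

end Proj

section Mod

variable {k : Type u} [Field k] {R S T : Type u} [CommRing R] [CommRing S] [CommRing T]
  [Algebra k R] [Algebra k S] [Algebra k T]
variable {𝒜 : ℤ → Submodule k R} [GradedAlgebra 𝒜] {ℬ : ℤ → Submodule k S} [GradedAlgebra ℬ]
  {𝒯 : ℤ → Submodule k T} [GradedAlgebra 𝒯] {ψ : T →ₐ[k] R ⊗[k] S}
  (hT : GrSeg.IsSegreRing 𝒜 ℬ 𝒯 ψ) (d : ℤ)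

/-- the shifted Segre product `R # S(-d)` -/
abbrev ShP : Type u := ↥(shSub ψ 𝒜 ℬ 𝒯 hT d)

/-- the inclusion into `R ⊗ S` -/
noncomputable def shφ : ShP hT d →ₗ[k] R ⊗[k] S where
  toFun x := x.1.val
  map_add' _ _ := rfl
  map_smul' _ _ := rfl

theorem shφ_injective : Function.Injective (shφ hT d) := fun _ _ h => Subtype.ext h

theorem shφ_mem (x : ShP hT d) : shφ hT d x ∈ shW 𝒜 ℬ d := x.2

theorem shφ_smul (t : T) (x : ShP hT d) : shφ hT d (t • x) = ψ t * shφ hT d x := rfl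

/-- the pieces of the shifted Segre product -/
noncomputable def shQ (n : ℤ) : AddSubgroup (ShP hT d) :=
  (shPiece 𝒜 ℬ d n).toAddSubgroup.comap (shφ hT d).toAddMonoidHom

theorem mem_shQ {n : ℤ} {x : ShP hT d} : x ∈ shQ hT d n ↔ shφ hT d x ∈ shPiece 𝒜 ℬ d n :=
  Iff.rfl

/-- the projections onto the pieces -/
noncomputable def shπ (n : ℤ) : ShP hT d →+ ShP hT d where
  toFun x := ⟨(bp 𝒜 ℬ n (n - d) (shφ hT d x) : R ⊗[k] S),
    shPiece_le_shW 𝒜 ℬ d n (bp_mem 𝒜 ℬ (shφ_mem hT d x))⟩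
  map_zero' := Subtype.ext (map_zero (bp 𝒜 ℬ n (n - d)))
  map_add' x y := Subtype.ext (by
    change bp 𝒜 ℬ n (n - d) (shφ hT d (x + y)) = _
    rw [map_add, map_add]
    rfl)

theorem shφ_shπ (n : ℤ) (x : ShP hT d) :
    shφ hT d (shπ hT d n x) = bp 𝒜 ℬ n (n - d) (shφ hT d x) := rfl

theorem sh_isInternal : DirectSum.IsInternal (shQ hT d) := by
  refine Gr.isInternal_of_proj (shQ hT d) (shπ hT d) ?_ ?_ ?_
  · intro n x hx
    apply shφ_injective hT d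
    rw [shφ_shπ, bp_of_mem 𝒜 ℬ ((mem_shQ hT d).mp hx)]
  · intro n n' x hx hne
    apply shφ_injective hT d
    rw [shφ_shπ, bp_of_mem_ne 𝒜 ℬ hne ((mem_shQ hT d).mp hx), map_zero]
  · intro x
    have key : ∀ y : R ⊗[k] S, y ∈ shW 𝒜 ℬ d → ∀ hy : y ∈ shW 𝒜 ℬ d,
        (⟨y, hy⟩ : ShP hT d) ∈ ⨆ n, shQ hT d n := by
      intro y hy
      induction hy using Submodule.iSup_induction' with
      | mem n y hy => exact fun hy' => AddSubgroup.mem_iSup_of_mem n hy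
      | zero => exact fun _ => zero_mem _
      | add y z hy hz h1 h2 =>
        intro hyz
        have : (⟨y + z, hyz⟩ : ShP hT d) = ⟨y, hy⟩ + ⟨z, hz⟩ := rfl
        rw [this]
        exact add_mem (h1 hy) (h2 hz)
    exact key x.1 x.2 x.2

/-- the decomposition of the shifted Segre product -/
@[instance_reducible]
noncomputable def shDecomposition : DirectSum.Decomposition (shQ hT d) :=
  (sh_isInternal hT d).chooseDecomposition

theorem sh_gradedSMul : SetLike.GradedSMul 𝒯 (shQ hT d) where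
  smul_mem := by
    intro m n t x ht hx
    change shφ hT d (t • x) ∈ shPiece 𝒜 ℬ d (m + n)
    rw [shφ_smul]
    refine mul_mem_shPiece 𝒜 ℬ ?_ hx
    rw [← hT.2 m]
    exact ⟨t, ht, rfl⟩

end Mod

section Segre

variable {k : Type u} [Field k] {R S T : Type u} [CommRing R] [CommRing S] [CommRing T]
  [Algebra k R] [Algebra k S] [Algebra k T]
variable {𝒜 : ℤ → Submodule k R} [GradedAlgebra 𝒜] {ℬ : ℤ → Submodule k S} [GradedAlgebra ℬ]
  {𝒯 : ℤ → Submodule k T} [GradedAlgebra 𝒯] {ψ : T →ₐ[k] R ⊗[k] S}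
  (hT : GrSeg.IsSegreRing 𝒜 ℬ 𝒯 ψ) (d : ℤ) [GradedRing (toAdd ℬ)]

theorem segrePiece_shift (n : ℤ) :
    GrSeg.segrePiece k (toAdd 𝒜) (Gr.shiftGr (toAdd ℬ) d) n = shPiece 𝒜 ℬ d n := rfl

theorem sh_isSegreMod :
    letI := shDecomposition hT d
    GrSeg.IsSegreMod ψ (toAdd 𝒜) (Gr.shiftGr (toAdd ℬ) d) (shQ hT d) (shφ hT d) := by
  letI := shDecomposition hT d
  refine ⟨shφ_injective hT d, ?_, ?_⟩
  · intro n
    rw [segrePiece_shift]
    ext x
    constructor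
    · rintro ⟨p, hp, rfl⟩
      exact hp
    · intro hx
      exact ⟨⟨x, shPiece_le_shW 𝒜 ℬ d n hx⟩, hx, rfl⟩
  · intro t p
    rw [shφ_smul, act_self]

end Segre

end Seg

end Groth.Agent.H6
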