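import Groth.Agent.Lib.Helper6.SegMod3
import Groth.Agent.Lib.Helper6.GrAvoid
import Groth.Agent.Lib.Helper6.GrGamma

/-! Torsion of Segre products with respect to the irrelevant ideal of the Segre product ring. -/

universe u
open DirectSum TensorProduct
set_option linter.unusedSectionVars false

namespace Groth.Agent.H6

namespace Seg

open SegLA ToAdd

section Tor

variable {k : Type u} [Field k] {R S T : Type u} [CommRing R] [CommRing S] [CommRing T]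
  [Algebra k R] [Algebra k S] [Algebra k T]
  (𝒜 : ℤ → Submodule k R) [GradedAlgebra 𝒜] (ℬ : ℤ → Submodule k S) [GradedAlgebra ℬ]
  (𝒯 : ℤ → Submodule k T) [GradedAlgebra 𝒯]
  (ψ : T →ₐ[k] R ⊗[k] S) (hT : GrSeg.IsSegreRing 𝒜 ℬ 𝒯 ψ)
  (mR : Ideal R) (hmR : mR = Ideal.span (⋃ n ∈ Set.Ioi (0 : ℤ), (𝒜 n : Set R)))
  (mS : Ideal S) (hmS : mS = Ideal.span (⋃ n ∈ Set.Ioi (0 : ℤ), (ℬ n : Set S)))
  (mT : Ideal T) (hmT : mT = Ideal.span (⋃ n ∈ Set.Ioi (0 : ℤ), (𝒯 n : Set T)))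
variable {X : Type u} [AddCommGroup X] [Module R X] [Module k X] [IsScalarTower k R X]
variable {Y : Type u} [AddCommGroup Y] [Module S Y] [Module k Y] [IsScalarTower k S Y]

include hT hmR hmT in
/-- `ψ` maps the irrelevant ideal of `T` into the extension of the irrelevant ideal of `R` -/
theorem psi_mem_left {t : T} (ht : t ∈ mT) :
    ψ t ∈ Ideal.map (Algebra.TensorProduct.includeLeft : R →ₐ[k] R ⊗[k] S) mR := by
  rw [hmT] at ht
  induction ht using Submodule.span_induction with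
  | mem t ht =>
    simp only [Set.mem_iUnion, Set.mem_Ioi, SetLike.mem_coe] at ht
    obtain ⟨n, hn, htn⟩ := ht
    have h1 : ψ t ∈ (𝒯 n).map ψ.toLinearMap := ⟨t, htn, rfl⟩
    rw [hT.2, GrSeg.segrePiece] at h1
    generalize ψ t = z0 at h1
    induction h1 using Submodule.span_induction with
    | mem z hz =>
      obtain ⟨a, ha, b, hb, rfl⟩ := hz
      have h2 : a ⊗ₜ[k] b = (1 ⊗ₜ[k] b : R ⊗[k] S) *
          (Algebra.TensorProduct.includeLeft : R →ₐ[k] R ⊗[k] S) a := by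
        rw [Algebra.TensorProduct.includeLeft_apply, Algebra.TensorProduct.tmul_mul_tmul,
          one_mul, mul_one]
      rw [h2]
      refine Ideal.mul_mem_left _ _ (Ideal.mem_map_of_mem _ ?_)
      rw [hmR]
      apply Ideal.subset_span
      simp only [Set.mem_iUnion, Set.mem_Ioi, SetLike.mem_coe]
      exact ⟨n, hn, ha⟩
    | zero => exact zero_mem _
    | add u v _ _ hu hv => exact add_mem hu hv
    | smul c u _ hu =>
      rw [Algebra.smul_def]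
      exact Ideal.mul_mem_left _ _ hu
  | zero => rw [map_zero]; exact zero_mem _
  | add u v _ _ hu hv => rw [map_add]; exact add_mem hu hv
  | smul c u _ hu => rw [smul_eq_mul, map_mul]; exact Ideal.mul_mem_left _ _ hu

include hT hmS hmT in
theorem psi_mem_right {t : T} (ht : t ∈ mT) :
    ψ t ∈ Ideal.map (Algebra.TensorProduct.includeRight : S →ₐ[k] R ⊗[k] S) mS := by
  rw [hmT] at ht
  induction ht using Submodule.span_induction with
  | mem t ht =>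
    simp only [Set.mem_iUnion, Set.mem_Ioi, SetLike.mem_coe] at ht
    obtain ⟨n, hn, htn⟩ := ht
    have h1 : ψ t ∈ (𝒯 n).map ψ.toLinearMap := ⟨t, htn, rfl⟩
    rw [hT.2, GrSeg.segrePiece] at h1
    generalize ψ t = z0 at h1
    induction h1 using Submodule.span_induction with
    | mem z hz =>
      obtain ⟨a, ha, b, hb, rfl⟩ := hz
      have h2 : a ⊗ₜ[k] b = (a ⊗ₜ[k] 1 : R ⊗[k] S) *
          (Algebra.TensorProduct.includeRight : S →ₐ[k] R ⊗[k] S) b := by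
        rw [Algebra.TensorProduct.includeRight_apply, Algebra.TensorProduct.tmul_mul_tmul,
          one_mul, mul_one]
      rw [h2]
      refine Ideal.mul_mem_left _ _ (Ideal.mem_map_of_mem _ ?_)
      rw [hmS]
      apply Ideal.subset_span
      simp only [Set.mem_iUnion, Set.mem_Ioi, SetLike.mem_coe]
      exact ⟨n, hn, hb⟩
    | zero => exact zero_mem _
    | add u v _ _ hu hv => exact add_mem hu hv
    | smul c u _ hu =>
      rw [Algebra.smul_def]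
      exact Ideal.mul_mem_left _ _ hu
  | zero => rw [map_zero]; exact zero_mem _
  | add u v _ _ hu hv => rw [map_add]; exact add_mem hu hv
  | smul c u _ hu => rw [smul_eq_mul, map_mul]; exact Ideal.mul_mem_left _ _ hu

include hT hmR hmT in
theorem psi_pow_mem_left (N : ℕ) {t : T} (ht : t ∈ mT ^ N) :
    ψ t ∈ Ideal.map (Algebra.TensorProduct.includeLeft : R →ₐ[k] R ⊗[k] S) (mR ^ N) := by
  have h1 : (mT ^ N).map ψ ≤
      Ideal.map (Algebra.TensorProduct.includeLeft : R →ₐ[k] R ⊗[k] S) (mR ^ N) := by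
    rw [Ideal.map_pow, Ideal.map_pow]
    apply Ideal.pow_right_mono
    rw [Ideal.map_le_iff_le_comap]
    intro t ht
    exact psi_mem_left 𝒜 ℬ 𝒯 ψ hT mR hmR mT hmT ht
  exact h1 (Ideal.mem_map_of_mem ψ ht)

include hT hmS hmT in
theorem psi_pow_mem_right (N : ℕ) {t : T} (ht : t ∈ mT ^ N) :
    ψ t ∈ Ideal.map (Algebra.TensorProduct.includeRight : S →ₐ[k] R ⊗[k] S) (mS ^ N) := by
  have h1 : (mT ^ N).map ψ ≤
      Ideal.map (Algebra.TensorProduct.includeRight : S →ₐ[k] R ⊗[k] S) (mS ^ N) := by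
    rw [Ideal.map_pow, Ideal.map_pow]
    apply Ideal.pow_right_mono
    rw [Ideal.map_le_iff_le_comap]
    intro t ht
    exact psi_mem_right 𝒜 ℬ 𝒯 ψ hT mS hmS mT hmT ht
  exact h1 (Ideal.mem_map_of_mem ψ ht)

/-- elements of the extension of `I` kill `x ⊗ y` when `I x = 0` -/
theorem act_tmul_eq_zero_left (I : Ideal R) {z : R ⊗[k] S}
    (hz : z ∈ Ideal.map (Algebra.TensorProduct.includeLeft : R →ₐ[k] R ⊗[k] S) I) {x : X}
    (hx : ∀ r ∈ I, r • x = 0) (y : Y) : GrSeg.act k R S X Y z (x ⊗ₜ[k] y) = 0 := by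
  rw [Ideal.map] at hz
  induction hz using Submodule.span_induction with
  | mem z hz =>
    obtain ⟨r, hr, rfl⟩ := hz
    rw [Algebra.TensorProduct.includeLeft_apply, GrSeg.act_tmul, hx r hr, TensorProduct.zero_tmul]
  | zero => rw [map_zero, LinearMap.zero_apply]
  | add u v _ _ hu hv => rw [map_add, LinearMap.add_apply, hu, hv, add_zero]
  | smul c u _ hu =>
    rw [smul_eq_mul, Groth.Agent.H9.SegreMod.act_mul_apply, hu, map_zero]

theorem act_tmul_eq_zero_right (I : Ideal S) {z : R ⊗[k] S}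
    (hz : z ∈ Ideal.map (Algebra.TensorProduct.includeRight : S →ₐ[k] R ⊗[k] S) I) (x : X)
    {y : Y} (hy : ∀ r ∈ I, r • y = 0) : GrSeg.act k R S X Y z (x ⊗ₜ[k] y) = 0 := by
  rw [Ideal.map] at hz
  induction hz using Submodule.span_induction with
  | mem z hz =>
    obtain ⟨r, hr, rfl⟩ := hz
    rw [Algebra.TensorProduct.includeRight_apply, GrSeg.act_tmul, hy r hr,
      TensorProduct.tmul_zero]
  | zero => rw [map_zero, LinearMap.zero_apply]
  | add u v _ _ hu hv => rw [map_add, LinearMap.add_apply, hu, hv, add_zero]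
  | smul c u _ hu =>
    rw [smul_eq_mul, Groth.Agent.H9.SegreMod.act_mul_apply, hu, map_zero]

/-- the torsion condition on `X ⊗ Y` -/
def IsTor (w : X ⊗[k] Y) : Prop := ∃ N : ℕ, ∀ t ∈ mT ^ N, actT ψ t w = 0

theorem isTor_zero : IsTor ψ mT (0 : X ⊗[k] Y) := ⟨0, fun t _ => map_zero _⟩

theorem isTor_add {w w' : X ⊗[k] Y} (h : IsTor ψ mT w) (h' : IsTor ψ mT w') :
    IsTor ψ mT (w + w') := by
  obtain ⟨N, hN⟩ := h
  obtain ⟨N', hN'⟩ := h'
  refine ⟨N + N', fun t ht => ?_⟩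
  rw [map_add, hN t (Ideal.pow_le_pow_right (Nat.le_add_right N N') ht),
    hN' t (Ideal.pow_le_pow_right (Nat.le_add_left N' N) ht), add_zero]

include hT hmR hmT in
theorem isTor_tmul_left {x : X} (hx : x ∈ GrLC.gam mR X) (y : Y) :
    IsTor ψ mT (x ⊗ₜ[k] y) := by
  obtain ⟨N, hN⟩ := hx
  refine ⟨N, fun t ht => ?_⟩
  exact act_tmul_eq_zero_left (mR ^ N) (psi_pow_mem_left 𝒜 ℬ 𝒯 ψ hT mR hmR mT hmT N ht) hN y

include hT hmS hmT in
theorem isTor_tmul_right (x : X) {y : Y} (hy : y ∈ GrLC.gam mS Y) :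
    IsTor ψ mT (x ⊗ₜ[k] y) := by
  obtain ⟨N, hN⟩ := hy
  refine ⟨N, fun t ht => ?_⟩
  exact act_tmul_eq_zero_right (mS ^ N) (psi_pow_mem_right 𝒜 ℬ 𝒯 ψ hT mS hmS mT hmT N ht) x hN

end Tor

section TorFree

variable {k : Type u} [Field k] {R S T : Type u} [CommRing R] [CommRing S] [CommRing T]
  [Algebra k R] [Algebra k S] [Algebra k T]
  (𝒜 : ℤ → Submodule k R) [GradedAlgebra 𝒜] (ℬ : ℤ → Submodule k S) [GradedAlgebra ℬ]
  (𝒯 : ℤ → Submodule k T) [GradedAlgebra 𝒯]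
  (ψ : T →ₐ[k] R ⊗[k] S) (hT : GrSeg.IsSegreRing 𝒜 ℬ 𝒯 ψ)
  (mR : Ideal R) (hmR : mR = Ideal.span (⋃ n ∈ Set.Ioi (0 : ℤ), (𝒜 n : Set R)))
  (mS : Ideal S) (hmS : mS = Ideal.span (⋃ n ∈ Set.Ioi (0 : ℤ), (ℬ n : Set S)))
  (mT : Ideal T) (hmT : mT = Ideal.span (⋃ n ∈ Set.Ioi (0 : ℤ), (𝒯 n : Set T)))
variable {X : Type u} [AddCommGroup X] [Module R X] [Module k X] [IsScalarTower k R X]
  (𝒳 : ℤ → AddSubgroup X) [DirectSum.Decomposition 𝒳] [SetLike.GradedSMul 𝒜 𝒳]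
variable {Y : Type u} [AddCommGroup Y] [Module S Y] [Module k Y] [IsScalarTower k S Y]
  (𝒴 : ℤ → AddSubgroup Y) [DirectSum.Decomposition 𝒴] [SetLike.GradedSMul ℬ 𝒴]

/-- the inclusion of `X_δ ⊗ Y_δ` -/
noncomputable def incl (δ : ℤ) : ↥(pcs 𝒜 𝒳 δ) ⊗[k] ↥(pcs ℬ 𝒴 δ) →ₗ[k] X ⊗[k] Y :=
  TensorProduct.map (pcs 𝒜 𝒳 δ).subtype (pcs ℬ 𝒴 δ).subtype

theorem incl_tmul (δ : ℤ) (a : ↥(pcs 𝒜 𝒳 δ)) (b : ↥(pcs ℬ 𝒴 δ)) :
    incl 𝒜 ℬ 𝒳 𝒴 δ (a ⊗ₜ[k] b) = (a : X) ⊗ₜ[k] (b : Y) := rfl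

theorem incl_injective (δ : ℤ) : Function.Injective (incl 𝒜 ℬ 𝒳 𝒴 δ) :=
  TensorProduct.map_injective_of_flat_flat _ _ (Submodule.subtype_injective _)
    (Submodule.subtype_injective _)

theorem range_incl (δ : ℤ) :
    LinearMap.range (incl 𝒜 ℬ 𝒳 𝒴 δ) = GrSeg.segrePiece k 𝒳 𝒴 δ := by
  apply le_antisymm
  · rintro _ ⟨z, rfl⟩
    induction z using TensorProduct.induction_on with
    | zero => rw [map_zero]; exact zero_mem _
    | tmul a b => exact tmul_mem_piece 𝒳 𝒴 a.2 b.2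
    | add u v hu hv => rw [map_add]; exact add_mem hu hv
  · rw [GrSeg.segrePiece, Submodule.span_le]
    rintro _ ⟨x, hx, y, hy, rfl⟩
    exact ⟨(⟨x, hx⟩ : pcs 𝒜 𝒳 δ) ⊗ₜ[k] (⟨y, hy⟩ : pcs ℬ 𝒴 δ), rfl⟩

/-- the quotient by the torsion, `k`-linear -/
noncomputable def qG (m : Ideal R) : X →ₗ[k] X ⧸ GrLC.gam m X :=
  (Submodule.mkQ (GrLC.gam m X)).restrictScalars k

/-- the quotient map of the tensor product by the torsion -/
noncomputable def qq : X ⊗[k] Y →ₗ[k] (X ⧸ GrLC.gam mR X) ⊗[k] (Y ⧸ GrLC.gam mS Y) :=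
  TensorProduct.map (qG mR) (qG mS)

theorem qq_tmul (x : X) (y : Y) :
    qq mR mS (x ⊗ₜ[k] y) = (Submodule.Quotient.mk x : X ⧸ GrLC.gam mR X) ⊗ₜ[k]
      (Submodule.Quotient.mk y : Y ⧸ GrLC.gam mS Y) := rfl

theorem pow_regular {N : Type u} [AddCommGroup N] [Module R N] {a : R}
    (h : ∀ n : N, a • n = 0 → n = 0) (M : ℕ) (n : N) (hn : a ^ M • n = 0) : n = 0 := by
  induction M generalizing n with
  | zero => rwa [pow_zero, one_smul] at hn
  | succ M ih =>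
    rw [pow_succ, mul_smul] at hn
    exact h n (ih _ hn)

include hT hmR hmS hmT in
/-- a homogeneous torsion element of the Segre product vanishes in the tensor product of the
torsion-free quotients -/
theorem qq_eq_zero_of_isTor [IsNoetherianRing R] [IsNoetherianRing S] {δ : ℤ} {w : X ⊗[k] Y}
    (hw : w ∈ GrSeg.segrePiece k 𝒳 𝒴 δ) (htor : IsTor ψ mT w) : qq mR mS w = 0 := by
  classical
  letI := gradedRing_toAdd 𝒜
  letI := gradedRing_toAdd ℬ
  rw [← range_incl 𝒜 ℬ 𝒳 𝒴 δ] at hw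
  obtain ⟨z, rfl⟩ := hw
  obtain ⟨F, rfl⟩ := TensorProduct.exists_finset z
  let NX : Submodule R (X ⧸ GrLC.gam mR X) := Submodule.span R
    ((fun i : ↥(pcs 𝒜 𝒳 δ) × ↥(pcs ℬ 𝒴 δ) =>
      (Submodule.Quotient.mk (i.1 : X) : X ⧸ GrLC.gam mR X)) '' (F : Set _))
  let NY : Submodule S (Y ⧸ GrLC.gam mS Y) := Submodule.span S
    ((fun i : ↥(pcs 𝒜 𝒳 δ) × ↥(pcs ℬ 𝒴 δ) =>
      (Submodule.Quotient.mk (i.2 : Y) : Y ⧸ GrLC.gam mS Y)) '' (F : Set _))
  haveI : Module.Finite R NX :=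
    Module.Finite.span_of_finite R (Set.Finite.image _ F.finite_toSet)
  haveI : Module.Finite S NY :=
    Module.Finite.span_of_finite S (Set.Finite.image _ F.finite_toSet)
  have hX0 : GrLC.gam mR (X ⧸ GrLC.gam mR X) = ⊥ :=
    Gr.gam_quot_eq_bot mR _ (Submodule.mkQ (GrLC.gam mR X)) (Submodule.mkQ_surjective _)
      (Submodule.ker_mkQ _)
  have hY0 : GrLC.gam mS (Y ⧸ GrLC.gam mS Y) = ⊥ :=
    Gr.gam_quot_eq_bot mS _ (Submodule.mkQ (GrLC.gam mS Y)) (Submodule.mkQ_surjective _)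
      (Submodule.ker_mkQ _)
  have hNX : GrLC.gam mR NX = ⊥ := by
    rw [eq_bot_iff]
    rintro n ⟨c, hc⟩
    have h1 : (n : X ⧸ GrLC.gam mR X) ∈ GrLC.gam mR (X ⧸ GrLC.gam mR X) :=
      ⟨c, fun r hr => by rw [← Submodule.coe_smul, hc r hr]; rfl⟩
    rw [hX0, Submodule.mem_bot] at h1
    rw [Submodule.mem_bot]
    exact Subtype.ext h1
  have hNY : GrLC.gam mS NY = ⊥ := by
    rw [eq_bot_iff]
    rintro n ⟨c, hc⟩
    have h1 : (n : Y ⧸ GrLC.gam mS Y) ∈ GrLC.gam mS (Y ⧸ GrLC.gam mS Y) :=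
      ⟨c, fun r hr => by rw [← Submodule.coe_smul, hc r hr]; rfl⟩
    rw [hY0, Submodule.mem_bot] at h1
    rw [Submodule.mem_bot]
    exact Subtype.ext h1
  have hNX' : GrLC.gam (Ideal.span (⋃ n ∈ Set.Ioi (0 : ℤ), (𝒜 n : Set R))) NX = ⊥ := by
    rw [← hmR]; exact hNX
  have hNY' : GrLC.gam (Ideal.span (⋃ n ∈ Set.Ioi (0 : ℤ), (ℬ n : Set S))) NY = ⊥ := by
    rw [← hmS]; exact hNY
  obtain ⟨e, a, he, hae, -, hareg⟩ := Gr.exists_homogeneous_regular (toAdd 𝒜) (N := NX)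
    (⋃ n ∈ Set.Ioi (0 : ℤ), (𝒜 n : Set R)) (by
      intro x hx
      simp only [Set.mem_iUnion, Set.mem_Ioi, SetLike.mem_coe] at hx
      obtain ⟨n, hn, hxn⟩ := hx
      exact ⟨n, hn, hxn⟩) hNX'
  obtain ⟨e', b, he', hbe, -, hbreg⟩ := Gr.exists_homogeneous_regular (toAdd ℬ) (N := NY)
    (⋃ n ∈ Set.Ioi (0 : ℤ), (ℬ n : Set S)) (by
      intro x hx
      simp only [Set.mem_iUnion, Set.mem_Ioi, SetLike.mem_coe] at hx
      obtain ⟨n, hn, hxn⟩ := hx
      exact ⟨n, hn, hxn⟩) hNY'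
  -- elements of the same degree
  have ha' : a ^ e'.toNat ∈ 𝒜 (e * e') := by
    have := SetLike.pow_mem_graded (A := 𝒜) e'.toNat (show a ∈ 𝒜 e from hae)
    rw [nsmul_eq_mul, Int.toNat_of_nonneg he'.le, mul_comm] at this
    exact this
  have hb' : b ^ e.toNat ∈ ℬ (e * e') := by
    have := SetLike.pow_mem_graded (A := ℬ) e.toNat (show b ∈ ℬ e' from hbe)
    rw [nsmul_eq_mul, Int.toNat_of_nonneg he.le] at this
    exact this
  have h1 : (a ^ e'.toNat) ⊗ₜ[k] (b ^ e.toNat) ∈ (𝒯 (e * e')).map ψ.toLinearMap := by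
    rw [hT.2]
    exact Submodule.subset_span ⟨_, ha', _, hb', rfl⟩
  obtain ⟨t, ht, hψt⟩ := h1
  have htm : t ∈ mT := by
    rw [hmT]
    apply Ideal.subset_span
    simp only [Set.mem_iUnion, Set.mem_Ioi, SetLike.mem_coe]
    exact ⟨e * e', mul_pos he he', ht⟩
  obtain ⟨N, hN⟩ := htor
  have h2 := hN (t ^ N) (Ideal.pow_mem_pow htm N)
  have hψ : ψ (t ^ N) = ((a ^ e'.toNat) ^ N) ⊗ₜ[k] ((b ^ e.toNat) ^ N) := by
    rw [map_pow]
    have : ψ t = (a ^ e'.toNat) ⊗ₜ[k] (b ^ e.toNat) := hψt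
    rw [this, Algebra.TensorProduct.tmul_pow]
  set A := (a ^ e'.toNat) ^ N with hA
  set B := (b ^ e.toNat) ^ N with hB
  have hAreg : ∀ n : NX, A • n = 0 → n = 0 := by
    intro n hn
    rw [hA, ← pow_mul] at hn
    exact pow_regular hareg _ n hn
  have hBreg : ∀ n : NY, B • n = 0 → n = 0 := by
    intro n hn
    rw [hB, ← pow_mul] at hn
    exact pow_regular hbreg _ n hn
  rw [actT, hψ, map_sum, map_sum] at h2
  have h3 := congrArg (qq (k := k) mR mS) h2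
  rw [map_sum, map_zero] at h3
  -- the maps
  let μ : ↥NX →ₗ[k] X ⧸ GrLC.gam mR X :=
    ((LinearMap.lsmul R (X ⧸ GrLC.gam mR X) A).restrictScalars k) ∘ₗ (NX.subtype.restrictScalars k)
  let ν : ↥NY →ₗ[k] Y ⧸ GrLC.gam mS Y :=
    ((LinearMap.lsmul S (Y ⧸ GrLC.gam mS Y) B).restrictScalars k) ∘ₗ (NY.subtype.restrictScalars k)
  have hμ : Function.Injective μ := by
    rw [injective_iff_map_eq_zero]
    intro n hn
    apply hAreg
    apply Subtype.ext
    exact hn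
  have hν : Function.Injective ν := by
    rw [injective_iff_map_eq_zero]
    intro n hn
    apply hBreg
    apply Subtype.ext
    exact hn
  have hmemX : ∀ i ∈ F, (Submodule.Quotient.mk (i.1 : X) : X ⧸ GrLC.gam mR X) ∈ NX :=
    fun i hi => Submodule.subset_span ⟨i, hi, rfl⟩
  have hmemY : ∀ i ∈ F, (Submodule.Quotient.mk (i.2 : Y) : Y ⧸ GrLC.gam mS Y) ∈ NY :=
    fun i hi => Submodule.subset_span ⟨i, hi, rfl⟩
  let zbar : ↥NX ⊗[k] ↥NY := ∑ i ∈ F.attach,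
    (⟨_, hmemX i.1 i.2⟩ : NX) ⊗ₜ[k] (⟨_, hmemY i.1 i.2⟩ : NY)
  have h4 : TensorProduct.map μ ν zbar = 0 := by
    rw [← h3, map_sum, ← Finset.sum_attach F]
    refine Finset.sum_congr rfl fun i _ => ?_
    rw [TensorProduct.map_tmul, incl_tmul, GrSeg.act_tmul, qq_tmul]
    rfl
  have h5 : zbar = 0 :=
    (TensorProduct.map_injective_of_flat_flat μ ν hμ hν) (h4.trans (map_zero _).symm)
  have h6 : qq (k := k) mR mS (incl 𝒜 ℬ 𝒳 𝒴 δ (∑ i ∈ F, i.1 ⊗ₜ[k] i.2)) =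
      TensorProduct.map (NX.subtype.restrictScalars k) (NY.subtype.restrictScalars k) zbar := by
    rw [map_sum, map_sum, map_sum, ← Finset.sum_attach F]
    refine Finset.sum_congr rfl fun i _ => ?_
    rw [TensorProduct.map_tmul, incl_tmul, qq_tmul]
    rfl
  rw [h6, h5, map_zero]

include hT hmR hmS hmT in
/-- the kernel of the quotient map consists of torsion elements -/
theorem isTor_of_qq_eq_zero {w : X ⊗[k] Y} (h : qq mR mS w = 0) : IsTor ψ mT w := by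
  have h1 : Function.Exact ((GrLC.gam mR X).subtype.restrictScalars k) (qG (k := k) mR) := by
    intro x
    constructor
    · intro hx
      have : x ∈ GrLC.gam mR X := by
        rw [← Submodule.ker_mkQ (GrLC.gam mR X)]
        exact hx
      exact ⟨⟨x, this⟩, rfl⟩
    · rintro ⟨x', rfl⟩
      exact (Submodule.Quotient.mk_eq_zero _).mpr x'.2
  have h2 : Function.Exact ((GrLC.gam mS Y).subtype.restrictScalars k) (qG (k := k) mS) := by
    intro x
    constructor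
    · intro hx
      have : x ∈ GrLC.gam mS Y := by
        rw [← Submodule.ker_mkQ (GrLC.gam mS Y)]
        exact hx
      exact ⟨⟨x, this⟩, rfl⟩
    · rintro ⟨x', rfl⟩
      exact (Submodule.Quotient.mk_eq_zero _).mpr x'.2
  have h3 := TensorProduct.map_ker h1 (Submodule.mkQ_surjective (GrLC.gam mR X)) h2
    (Submodule.mkQ_surjective (GrLC.gam mS Y))
  have h4 : w ∈ LinearMap.ker (TensorProduct.map (qG (k := k) mR) (qG (k := k) mS)) := h
  rw [h3] at h4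
  have key1 : ∀ u, IsTor ψ mT
      (LinearMap.lTensor X ((GrLC.gam mS Y).subtype.restrictScalars k) u) := by
    intro u
    induction u using TensorProduct.induction_on with
    | zero => rw [map_zero]; exact isTor_zero ψ mT
    | tmul x y => exact isTor_tmul_right 𝒜 ℬ 𝒯 ψ hT mS hmS mT hmT x y.2
    | add u v hu hv => rw [map_add]; exact isTor_add ψ mT hu hv
  have key2 : ∀ u, IsTor ψ mT
      (LinearMap.rTensor Y ((GrLC.gam mR X).subtype.restrictScalars k) u) := by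
    intro u
    induction u using TensorProduct.induction_on with
    | zero => rw [map_zero]; exact isTor_zero ψ mT
    | tmul x y => exact isTor_tmul_left 𝒜 ℬ 𝒯 ψ hT mR hmR mT hmT x.2 y
    | add u v hu hv => rw [map_add]; exact isTor_add ψ mT hu hv
  obtain ⟨w₁, hw₁, w₂, hw₂, rfl⟩ := Submodule.mem_sup.mp h4
  obtain ⟨u₁, rfl⟩ := hw₁
  obtain ⟨u₂, rfl⟩ := hw₂
  exact isTor_add ψ mT (key1 u₁) (key2 u₂)

variable {𝒳 𝒴} in
include hT hmR hmS hmT in
/-- the torsion of a Segre module is the kernel of the quotient map -/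
theorem mem_gam_iff [IsNoetherianRing R] [IsNoetherianRing S] (V : TSub 𝒜 ℬ ψ 𝒳 𝒴) (u : ↥V.U) :
    u ∈ GrLC.gam mT ↥V.U ↔ qq mR mS (u : X ⊗[k] Y) = 0 := by
  constructor
  · intro hu
    letI := gradedRing_toAdd 𝒯
    letI := V.decomposition
    letI := V.gradedSMul 𝒯 hT
    let mTh : HomogeneousIdeal (toAdd 𝒯) := ⟨mT, by
      rw [hmT]
      apply Ideal.homogeneous_span
      intro x hx
      simp only [Set.mem_iUnion, Set.mem_Ioi, SetLike.mem_coe] at hx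
      obtain ⟨n, -, hxn⟩ := hx
      exact ⟨n, hxn⟩⟩
    have hhom := Gr.gam_isHomogeneous (toAdd 𝒯) V.gr mTh
    obtain ⟨s, -, hs⟩ := exists_sum_sp 𝒜 ℬ 𝒳 𝒴 (V.le_seg u.2)
    rw [← hs, map_sum]
    refine Finset.sum_eq_zero fun d _ => ?_
    have h1 : Gr.proj V.gr d u ∈ GrLC.gam mT ↥V.U := hhom d hu
    obtain ⟨N, hN⟩ := h1
    refine qq_eq_zero_of_isTor 𝒜 ℬ 𝒯 ψ hT mR hmR mS hmS mT hmT 𝒳 𝒴 (sp_mem 𝒜 ℬ 𝒳 𝒴 d u.1)
      ⟨N, fun t ht => ?_⟩
    have h2 := congrArg Subtype.val (hN t ht)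
    rw [TSub.coe_smul, TSub.proj_eq] at h2
    exact h2
  · intro h
    obtain ⟨N, hN⟩ := isTor_of_qq_eq_zero 𝒜 ℬ 𝒯 ψ hT mR hmR mS hmS mT hmT h
    exact ⟨N, fun t ht => Subtype.ext (hN t ht)⟩

end TorFree

end Seg

end Groth.Agent.H6
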