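import Mathlib

set_option autoImplicit false
open CategoryTheory CategoryTheory.Limits Opposite
universe v u

namespace Groth.Agent.H6.SimpGen

variable {A : Type u} [Category.{v} A] [Abelian A]

/-- The image of `S.arrow ≫ f` is `≤ T` as soon as `S ≤ f⁻¹ T`. -/
theorem image_le_of_le_pullback {X Y : A} (f : X ⟶ Y) (S : Subobject X) (T : Subobject Y)
    (h : S ≤ (Subobject.pullback f).obj T) : imageSubobject (S.arrow ≫ f) ≤ T := by
  have hpb := Subobject.isPullback f T
  refine imageSubobject_le _ (Subobject.ofLE _ _ h ≫ Subobject.pullbackπ f T) ?_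
  rw [Category.assoc, hpb.w, ← Category.assoc, Subobject.ofLE_arrow]

theorem imageSubobject_le_pullback {W X Y : A} (g : W ⟶ X) (f : X ⟶ Y) (T : Subobject Y)
    (h : T.Factors (g ≫ f)) : imageSubobject g ≤ (Subobject.pullback f).obj T := by
  have hpb := Subobject.isPullback f T
  refine imageSubobject_le _ (hpb.lift (T.factorThru _ h) g (by simp)) ?_
  exact hpb.lift_snd _ _ _

theorem main (U : SimplicialObject A) (n : ℕ)
    (U' : ∀ m : ℕ, Subobject (U.obj (op (SimplexCategory.mk m))))
    (hU' : ∀ m : ℕ, IsLUB (Set.range (fun φ : Σ i : Fin (n + 1),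
      (SimplexCategory.mk m ⟶ SimplexCategory.mk i) => imageSubobject (U.map φ.2.op))) (U' m)) :
    (∀ (m m' : ℕ) (ψ : SimplexCategory.mk m' ⟶ SimplexCategory.mk m),
      imageSubobject ((U' m).arrow ≫ U.map ψ.op) ≤ U' m') ∧
    (∀ i : ℕ, i ≤ n → U' i = ⊤) ∧
    (∀ m : ℕ, n < m → U' m ⊓ AlgebraicTopology.NormalizedMooreComplex.objX U m = ⊥) := by
  refine ⟨?_, ?_, ?_⟩
  · intro m m' ψ
    apply image_le_of_le_pullback
    apply (hU' m).2
    rintro _ ⟨φ, rfl⟩
    apply imageSubobject_le_pullback
    have hcomp : U.map φ.2.op ≫ U.map ψ.op = U.map (ψ ≫ φ.2).op := by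
      rw [← U.map_comp, ← op_comp]
    rw [hcomp]
    have hle : imageSubobject (U.map (ψ ≫ φ.2).op) ≤ U' m' := (hU' m').1 ⟨⟨φ.1, ψ ≫ φ.2⟩, rfl⟩
    refine Subobject.factors_of_le _ hle ?_
    simpa using imageSubobject_factors_comp_self (f := U.map (ψ ≫ φ.2).op) (𝟙 _)
  · intro i hi
    rw [eq_top_iff]
    have hmem : imageSubobject (U.map (𝟙 (SimplexCategory.mk i)).op) ≤ U' i :=
      (hU' i).1 ⟨⟨⟨i, by omega⟩, 𝟙 _⟩, rfl⟩
    have h1 : U.map (𝟙 (SimplexCategory.mk i)).op = 𝟙 _ := by simp
    rw [h1, imageSubobject_mono, ← Subobject.top_eq_id] at hmem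
    exact hmem
  · intro m hm
    have hker : U' m ≤ kernelSubobject
        ((AlgebraicTopology.DoldKan.PInfty (X := U)).f m) := by
      apply (hU' m).2
      rintro _ ⟨φ, rfl⟩
      have hnm : ¬ Mono φ.2 := by
        intro hmono
        have := SimplexCategory.len_le_of_mono (f := φ.2)
        simp at this
        have hi := φ.1.2
        omega
      have h0 := AlgebraicTopology.DoldKan.degeneracy_comp_PInfty U m φ.2 hnm
      exact imageSubobject_le _ (factorThruKernelSubobject _ (U.map φ.2.op) h0)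
        (factorThruKernelSubobject_comp_arrow _ _ _)
    set S := U' m ⊓ AlgebraicTopology.NormalizedMooreComplex.objX U m with hS
    have h1 : S.arrow ≫ (AlgebraicTopology.DoldKan.PInfty (X := U)).f m = 0 := by
      have hle : S ≤ kernelSubobject ((AlgebraicTopology.DoldKan.PInfty (X := U)).f m) :=
        inf_le_left.trans hker
      rw [← Subobject.ofLE_arrow hle, Category.assoc, kernelSubobject_arrow_comp, comp_zero]
    have h2 : S.arrow ≫ (AlgebraicTopology.DoldKan.PInfty (X := U)).f m = S.arrow := by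
      have hle : S ≤ AlgebraicTopology.NormalizedMooreComplex.objX U m := inf_le_right
      have h3 := HomologicalComplex.congr_hom
        (AlgebraicTopology.DoldKan.inclusionOfMooreComplexMap_comp_PInfty U) m
      simp only [HomologicalComplex.comp_f, AlgebraicTopology.inclusionOfMooreComplexMap_f] at h3
      rw [← Subobject.ofLE_arrow hle, Category.assoc]
      exact congrArg (fun t => S.ofLE _ hle ≫ t) h3
    have h4 : S.arrow = 0 := by rw [← h2, h1]
    rw [← Subobject.mk_arrow S, Subobject.mk_eq_bot_iff_zero]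
    exact h4

end Groth.Agent.H6.SimpGen
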