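import Mathlib
import Groth.Prelude.Def_CohCx
import Groth.Prelude.Def_WeakSerre
import Groth.Agent.Lib.Helper7.WayOut4
import Groth.Agent.Lib.Helper6.DLim6
import Groth.Agent.Lib.Helper6.PushSum5
import Groth.Agent.Lib.Helper2.DTrunc1

/-!
# Equivalence `D_{A'} ≃ D_A` for an exact pullback with derived right adjoint: the unbounded case
(abstract form of S9070)
-/

set_option autoImplicit false

open CategoryTheory Limits Pretriangulated DerivedCategory

namespace Groth.Agent.H6.SiteEq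

section Rlim

variable {T T' : Type*} [Category T] [Category T']
  [Preadditive T] [HasZeroObject T] [HasShift T ℤ] [∀ n : ℤ, (shiftFunctor T n).Additive]
  [Pretriangulated T]
  [Preadditive T'] [HasZeroObject T'] [HasShift T' ℤ] [∀ n : ℤ, (shiftFunctor T' n).Additive]
  [Pretriangulated T']
  (R : T ⥤ T') [R.CommShift ℤ] [R.IsTriangulated] [R.Additive]

/-- a triangulated functor which preserves the relevant product preserves derived limits
(through the given maps). -/
theorem isRlimVia_map (K : ℕ → T) (t : ∀ n, K (n + 1) ⟶ K n) [HasProduct K]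
    [HasProduct fun n => R.obj (K n)] [PreservesLimit (Discrete.functor K) R]
    {L : T} {a : ∀ n, L ⟶ K n} (hL : CohCx.IsRlimVia K t L a) :
    CohCx.IsRlimVia (fun n => R.obj (K n)) (fun n => R.map (t n)) (R.obj L)
      (fun n => R.map (a n)) := by
  obtain ⟨c, hc⟩ := hL
  have h := R.map_distinguished _ hc
  let e : R.obj (∏ᶜ K) ≅ ∏ᶜ fun n => R.obj (K n) := PreservesProduct.iso R K
  have he : ∀ n, e.hom ≫ Pi.π (fun n => R.obj (K n)) n = R.map (Pi.π K n) := fun n => by
    simp [e]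
  have he' : ∀ n, e.inv ≫ R.map (Pi.π K n) = Pi.π (fun n => R.obj (K n)) n := fun n => by
    rw [← he n, Iso.inv_hom_id_assoc]
  refine ⟨e.inv ≫ R.map c ≫ (R.commShiftIso (1 : ℤ)).hom.app L, ?_⟩
  refine isomorphic_distinguished _ h _
    (Triangle.isoMk _ _ (Iso.refl _) e.symm e.symm ?_ ?_ ?_)
  · change Pi.lift (fun n => R.map (a n)) ≫ e.inv = 𝟙 _ ≫ R.map (Pi.lift a)
    rw [Category.id_comp, ← cancel_mono e.hom, Category.assoc, Iso.inv_hom_id, Category.comp_id]
    apply Pi.hom_ext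
    intro n
    rw [Category.assoc, he, ← R.map_comp, Pi.lift_π, Pi.lift_π]
  · change Pi.lift (fun n => Pi.π (fun n => R.obj (K n)) n -
        Pi.π (fun n => R.obj (K n)) (n + 1) ≫ R.map (t n)) ≫ e.inv =
      e.inv ≫ R.map (Pi.lift fun n => Pi.π K n - Pi.π K (n + 1) ≫ t n)
    rw [← cancel_mono e.hom, Category.assoc, Category.assoc, Iso.inv_hom_id, Category.comp_id]
    apply Pi.hom_ext
    intro n
    rw [Category.assoc, Category.assoc, he, ← R.map_comp, Pi.lift_π, Pi.lift_π, R.map_sub,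
      R.map_comp, Preadditive.comp_sub, he', ← Category.assoc, he']
  · change (e.inv ≫ R.map c ≫ (R.commShiftIso (1 : ℤ)).hom.app L) ≫ (𝟙 (R.obj L))⟦(1 : ℤ)⟧' =
      e.inv ≫ (R.map c ≫ (R.commShiftIso (1 : ℤ)).hom.app L)
    rw [CategoryTheory.Functor.map_id]
    exact Category.comp_id _

end Rlim


section Main

universe w₁ w₂ v₁ v₂ u₁ u₂

variable {A : Type (u₁ + 1)} [Category.{u₁} A] [Abelian A] [HasDerivedCategory.{w₁} A]
  {B : Type u₂} [Category.{v₂} B] [Abelian B] [HasDerivedCategory.{w₂} B]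
  (Φ : B ⥤ A) [Φ.Additive] [PreservesFiniteLimits Φ] [PreservesFiniteColimits Φ]
  {R : DerivedCategory A ⥤ DerivedCategory B} (adj : Φ.mapDerivedCategory ⊣ R)
  (P : ObjectProperty A) [WSerre.IsWeakSerre P] (P' : ObjectProperty B) [WSerre.IsWeakSerre P']

omit [Φ.Additive] [PreservesFiniteLimits Φ] [PreservesFiniteColimits Φ] [WSerre.IsWeakSerre P'] in
/-- a functor which is fully faithful on `P'` reflects isomorphisms between objects of `P'`. -/
lemma isIso_of_isIso_map
    (h2b : ∀ F' G' : B, P' F' → P' G' → Function.Bijective (fun φ : F' ⟶ G' => Φ.map φ))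
    {F' G' : B} (hF' : P' F') (hG' : P' G') (φ : F' ⟶ G') (h : IsIso (Φ.map φ)) : IsIso φ := by
  obtain ⟨ψ, hψ⟩ := (h2b G' F' hG' hF').2 (inv (Φ.map φ))
  replace hψ : Φ.map ψ = inv (Φ.map φ) := hψ
  refine ⟨ψ, (h2b F' F' hF' hF').1 ?_, (h2b G' G' hG' hG').1 ?_⟩
  · change Φ.map (φ ≫ ψ) = Φ.map (𝟙 _)
    rw [Φ.map_comp, hψ, IsIso.hom_inv_id, Φ.map_id]
  · change Φ.map (ψ ≫ φ) = Φ.map (𝟙 _)
    rw [Φ.map_comp, hψ, IsIso.inv_hom_id, Φ.map_id]

lemma isIso_homology_map_iff {Y Y' : DerivedCategory B} (g : Y ⟶ Y') (j : ℤ) :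
    IsIso ((homologyFunctor A j).map (Φ.mapDerivedCategory.map g)) ↔
      IsIso (Φ.map ((homologyFunctor B j).map g)) :=
  NatIso.isIso_map_iff (Groth.Agent.H6.PushSum.homologyMapDerivedNatIso Φ j) g

variable
    (h2a : ∀ F' : B, P' F' → P (Φ.obj F'))
    (h2b : ∀ F' G' : B, P' F' → P' G' → Function.Bijective (fun φ : F' ⟶ G' => Φ.map φ))
    (h2c : ∀ F : A, P F → ∃ F' : B, P' F' ∧ Nonempty (Φ.obj F' ≅ F))
    (h3 : ∀ F' : B, P' F' → IsIso (adj.unit.app ((singleFunctor B 0).obj F')))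
    (hprodA : ∀ K : ℕ → DerivedCategory A, (∀ n, ∃ a : ℤ, (K n).IsGE a) → HasProduct K)
    (hprodB : ∀ K : ℕ → DerivedCategory B, (∀ n, ∃ a : ℤ, (K n).IsGE a) → HasProduct K)
    (hA : ∀ (X : DerivedCategory A) [HasProduct (CohCx.truncTower X)], WSerre.cohIn P X →
      CohCx.IsRlimVia (CohCx.truncTower X) (CohCx.truncTowerMap X) X (CohCx.toTruncTower X))
    (hB : ∀ (K : ℕ → DerivedCategory B) (t : ∀ n, K (n + 1) ⟶ K n) [HasProduct K],
      (∀ n, WSerre.cohInPlus P' (K n)) →
      (∀ j : ℤ, ∃ n₀ : ℕ, ∀ n, n₀ ≤ n → IsIso ((homologyFunctor B j).map (t n))) →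
      ∀ (L : DerivedCategory B) (a : ∀ n, L ⟶ K n), CohCx.IsRlimVia K t L a → ∀ j : ℤ,
        ∃ n₀ : ℕ, ∀ n, n₀ ≤ n → IsIso ((homologyFunctor B j).map (a n)))

include h2b h2c h3 hprodA hprodB hA hB in
theorem part2 (X : DerivedCategory A) (hX : WSerre.cohIn P X) :
    WSerre.cohIn P' (R.obj X) ∧ IsIso (adj.counit.app X) := by
  letI : R.CommShift ℤ := Groth.Agent.H7.WayOut.rCommShift adj
  haveI : adj.CommShift ℤ := adj.commShift_of_leftAdjoint ℤ
  haveI : R.IsTriangulated := adj.isTriangulated_rightAdjoint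
  haveI : R.Additive := adj.right_adjoint_additive
  let K := CohCx.truncTower X
  let t := CohCx.truncTowerMap X
  let a := CohCx.toTruncTower X
  have hKge : ∀ n : ℕ, (K n).IsGE (-(n : ℤ)) := fun n => inferInstance
  haveI : HasProduct K := hprodA K (fun n => ⟨-(n : ℤ), hKge n⟩)
  have hXlim : CohCx.IsRlimVia K t X a := hA X hX
  have ha : ∀ (n : ℕ) (j : ℤ), -(n : ℤ) ≤ j → IsIso ((homologyFunctor A j).map (a n)) :=
    fun n j h => Groth.Agent.H2.DTrunc.isIso_homology_truncGEπ X (-(n : ℤ)) j h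
  have hK : ∀ n, WSerre.cohInPlus P (K n) := by
    intro n
    refine ⟨fun i => ?_, ⟨-(n : ℤ), hKge n⟩⟩
    by_cases h : -(n : ℤ) ≤ i
    · haveI := ha n i h
      exact P.prop_of_iso (asIso ((homologyFunctor A i).map (a n))) (hX i)
    · haveI := hKge n
      exact P.prop_of_isZero (DerivedCategory.isZero_of_isGE (K n) (-(n : ℤ)) i (by omega))
  have hat : ∀ n, a (n + 1) ≫ t n = a n := fun n => Groth.Agent.H6.DLim.a_comp_t hXlim n
  have ht : ∀ (n : ℕ) (j : ℤ), -(n : ℤ) ≤ j → IsIso ((homologyFunctor A j).map (t n)) := by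
    intro n j h
    haveI := ha n j h
    haveI := ha (n + 1) j (by push_cast; omega)
    have e : (homologyFunctor A j).map (a (n + 1)) ≫ (homologyFunctor A j).map (t n) =
        (homologyFunctor A j).map (a n) := by rw [← Functor.map_comp, hat]
    exact IsIso.of_isIso_fac_left e
  have hp2 := fun n => Groth.Agent.H7.WayOut.part2 Φ adj P P' h2c h3 (K n) (hK n)
  have hRK : ∀ n, WSerre.cohInPlus P' (R.obj (K n)) := fun n => (hp2 n).1
  have hεK : ∀ n, IsIso (adj.counit.app (K n)) := fun n => (hp2 n).2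
  haveI : HasProduct fun n => R.obj (K n) := hprodB _ (fun n => (hRK n).2)
  haveI : PreservesLimit (Discrete.functor K) R := by
    haveI : PreservesLimitsOfSize.{0, 0} R := adj.rightAdjoint_preservesLimits
    infer_instance
  have hRlim := isRlimVia_map R K t hXlim
  have hRt : ∀ (n : ℕ) (j : ℤ), -(n : ℤ) ≤ j →
      IsIso ((homologyFunctor B j).map (R.map (t n))) := by
    intro n j h
    apply isIso_of_isIso_map Φ P' h2b ((hRK (n + 1)).1 j) ((hRK n).1 j)
    rw [← isIso_homology_map_iff]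
    haveI := hεK n
    haveI := hεK (n + 1)
    have hnat : Φ.mapDerivedCategory.map (R.map (t n)) ≫ adj.counit.app (K n) =
        adj.counit.app (K (n + 1)) ≫ t n := adj.counit.naturality (t n)
    have h1 : Φ.mapDerivedCategory.map (R.map (t n)) =
        adj.counit.app (K (n + 1)) ≫ t n ≫ inv (adj.counit.app (K n)) := by
      rw [← Category.assoc, ← hnat, Category.assoc, IsIso.hom_inv_id, Category.comp_id]
    rw [h1, Functor.map_comp, Functor.map_comp]
    haveI := ht n j h
    infer_instance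
  have hBapp := hB (fun n => R.obj (K n)) (fun n => R.map (t n)) hRK
    (fun j => ⟨(-j).toNat, fun n hn => hRt n j (by omega)⟩) (R.obj X) (fun n => R.map (a n)) hRlim
  constructor
  · intro j
    obtain ⟨n₀, hn₀⟩ := hBapp j
    haveI := hn₀ n₀ le_rfl
    exact P'.prop_of_iso (asIso ((homologyFunctor B j).map (R.map (a n₀)))).symm ((hRK n₀).1 j)
  · rw [DerivedCategory.isIso_iff]
    intro j
    obtain ⟨n₀, hn₀⟩ := hBapp j
    let n := max n₀ (-j).toNat
    have hn1 : n₀ ≤ n := le_max_left _ _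
    have hn2 : -(n : ℤ) ≤ j := by
      have : (-j).toNat ≤ n := le_max_right _ _
      omega
    haveI := ha n j hn2
    haveI := hεK n
    haveI : IsIso ((homologyFunctor A j).map (Φ.mapDerivedCategory.map (R.map (a n)))) := by
      rw [isIso_homology_map_iff]
      haveI := hn₀ n hn1
      infer_instance
    have hnat : Φ.mapDerivedCategory.map (R.map (a n)) ≫ adj.counit.app (K n) =
        adj.counit.app X ≫ a n := adj.counit.naturality (a n)
    have e : (homologyFunctor A j).map (adj.counit.app X) ≫ (homologyFunctor A j).map (a n) =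
        (homologyFunctor A j).map (Φ.mapDerivedCategory.map (R.map (a n))) ≫
          (homologyFunctor A j).map (adj.counit.app (K n)) := by
      rw [← Functor.map_comp, ← Functor.map_comp, hnat]
    exact IsIso.of_isIso_fac_right e

include h2a h2b h2c h3 hprodA hprodB hA hB in
theorem part1 (Y : DerivedCategory B) (hY : WSerre.cohIn P' Y) :
    WSerre.cohIn P (Φ.mapDerivedCategory.obj Y) ∧ IsIso (adj.unit.app Y) := by
  have hLY : WSerre.cohIn P (Φ.mapDerivedCategory.obj Y) := fun i => by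
    obtain ⟨e⟩ := Groth.Agent.H7.WayOut.nonempty_homology_mapDerivedCategory_iso Φ Y i
    exact P.prop_of_iso e.symm (h2a _ (hY i))
  obtain ⟨hRLY, hε⟩ := part2 Φ adj P P' h2b h2c h3 hprodA hprodB hA hB
    (Φ.mapDerivedCategory.obj Y) hLY
  refine ⟨hLY, ?_⟩
  haveI := hε
  have htri := adj.left_triangle_components Y
  haveI : IsIso (Φ.mapDerivedCategory.map (adj.unit.app Y)) := by
    rw [IsIso.eq_inv_of_inv_hom_id htri]
    infer_instance
  rw [DerivedCategory.isIso_iff]
  intro j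
  apply isIso_of_isIso_map Φ P' h2b (hY j) (hRLY j)
  rw [← isIso_homology_map_iff]
  infer_instance

end Main

end Groth.Agent.H6.SiteEq
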