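import Mathlib
import Groth.Prelude.Def_SiteCmp
import Groth.Agent.Lib.Helper6.SiteEq1
import Groth.Agent.Lib.Helper6.MDw5
import Groth.Agent.Lib.Helper1.SheafOfModulesGrothendieck
import Groth.Agent.Lib.Helper2.DProd1

/-!
# S9070: `f^* : D_{A'}(O_D) ≃ D_A(O_C)` for a flat morphism of ringed sites (bounded cohomological
dimension on both sides)
-/

set_option autoImplicit false
universe u
open CategoryTheory CategoryTheory.Limits Opposite
attribute [local instance] HasDerivedCategory.standard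

namespace Groth.Agent.H6.SiteEq

theorem s9070
    {C : Type u} [SmallCategory C] {J : GrothendieckTopology C} {O_C : Sheaf J CommRingCat.{u}}
    {D : Type u} [SmallCategory D] {K : GrothendieckTopology D} {O_D : Sheaf K CommRingCat.{u}}
    (f : ModSite.RMor O_C O_D) [PreservesFiniteLimits f.pull] [SiteCmp.HasRpushD f]
    (adj : SiteCmp.pullD f ⊣ SiteCmp.RpushD f)
    (A : ObjectProperty (ModSite.Mod O_C)) [WSerre.IsWeakSerre A]
    (A' : ObjectProperty (ModSite.Mod O_D)) [WSerre.IsWeakSerre A']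
    (h2a : ∀ F' : ModSite.Mod O_D, A' F' → A (f.pull.obj F'))
    (h2b : ∀ F' G' : ModSite.Mod O_D, A' F' → A' G' →
      Function.Bijective (fun φ : F' ⟶ G' => f.pull.map φ))
    (h2c : ∀ F : ModSite.Mod O_C, A F → ∃ F' : ModSite.Mod O_D, A' F' ∧ Nonempty (f.pull.obj F' ≅ F))
    (h3 : ∀ F' : ModSite.Mod O_D, A' F' → IsIso (adj.unit.app (SiteCmp.inD O_D F')))
    (B : Set C) (B' : Set D)
    (hB : ∀ U : C, ∃ (ι : Type u) (Y : ι → C) (g : ∀ i, Y i ⟶ U), Sieve.ofArrows Y g ∈ J U ∧ ∀ i, Y i ∈ B)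
    (hA : ∀ V ∈ B, ∃ d : ℕ, ∀ T ∈ J V, ∃ (ι : Type u) (Y : ι → C) (g : ∀ i, Y i ⟶ V),
      (∀ i, T.arrows (g i)) ∧ Sieve.ofArrows Y g ∈ J V ∧
      ∀ (i : ι) (F : ModSite.Mod O_C), A F → ∀ k : ℕ, d < k → Subsingleton (ModSite.HU O_C F k (Y i)))
    (hB' : ∀ U : D, ∃ (ι : Type u) (Y : ι → D) (g : ∀ i, Y i ⟶ U), Sieve.ofArrows Y g ∈ K U ∧ ∀ i, Y i ∈ B')
    (hA' : ∀ V ∈ B', ∃ d : ℕ, ∀ T ∈ K V, ∃ (ι : Type u) (Y : ι → D) (g : ∀ i, Y i ⟶ V),
      (∀ i, T.arrows (g i)) ∧ Sieve.ofArrows Y g ∈ K V ∧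
      ∀ (i : ι) (F : ModSite.Mod O_D), A' F → ∀ k : ℕ, d < k → Subsingleton (ModSite.HU O_D F k (Y i))) :
    (∀ Y : DerivedCategory (ModSite.Mod O_D), WSerre.cohIn A' Y →
      WSerre.cohIn A ((SiteCmp.pullD f).obj Y) ∧ IsIso (adj.unit.app Y)) ∧
    (∀ X : DerivedCategory (ModSite.Mod O_C), WSerre.cohIn A X →
      WSerre.cohIn A' ((SiteCmp.RpushD f).obj X) ∧ IsIso (adj.counit.app X)) := by
  haveI : IsGrothendieckAbelian.{u} (ModSite.Mod O_C) :=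
    Groth.Agent.H1.sheafOfModules_isGrothendieckAbelian _ _
  haveI : IsGrothendieckAbelian.{u} (ModSite.Mod O_D) :=
    Groth.Agent.H1.sheafOfModules_isGrothendieckAbelian _ _
  have hprodA : ∀ K : ℕ → DerivedCategory (ModSite.Mod O_C),
      (∀ n, ∃ a : ℤ, (K n).IsGE a) → HasProduct K :=
    fun K hK => Groth.Agent.H2.DProd.hasProduct_of_isGE K hK
  have hprodB : ∀ K : ℕ → DerivedCategory (ModSite.Mod O_D),
      (∀ n, ∃ a : ℤ, (K n).IsGE a) → HasProduct K :=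
    fun K hK => Groth.Agent.H2.DProd.hasProduct_of_isGE K hK
  have hAx : ∀ (X : DerivedCategory (ModSite.Mod O_C)) [HasProduct (CohCx.truncTower X)],
      WSerre.cohIn A X →
      CohCx.IsRlimVia (CohCx.truncTower X) (CohCx.truncTowerMap X) X (CohCx.toTruncTower X) := by
    intro X _ hX
    refine Groth.Agent.H6.MDw.main_cofinal X B hB (fun V hV => ?_)
    obtain ⟨d, hd⟩ := hA V hV
    refine ⟨d, fun T hT => ?_⟩
    obtain ⟨ι, Y, g, h1, h2, h3'⟩ := hd T hT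
    exact ⟨ι, Y, g, h1, h2, fun i q k _ hk => h3' i _ (hX q) k hk⟩
  have hBx : ∀ (K' : ℕ → DerivedCategory (ModSite.Mod O_D)) (t : ∀ n, K' (n + 1) ⟶ K' n)
      [HasProduct K'], (∀ n, WSerre.cohInPlus A' (K' n)) →
      (∀ j : ℤ, ∃ n₀ : ℕ, ∀ n, n₀ ≤ n →
        IsIso ((DerivedCategory.homologyFunctor (ModSite.Mod O_D) j).map (t n))) →
      ∀ (L : DerivedCategory (ModSite.Mod O_D)) (a : ∀ n, L ⟶ K' n), CohCx.IsRlimVia K' t L a →
      ∀ j : ℤ, ∃ n₀ : ℕ, ∀ n, n₀ ≤ n →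
        IsIso ((DerivedCategory.homologyFunctor (ModSite.Mod O_D) j).map (a n)) :=
    fun K' t _ hK hconst L a hL j =>
      Groth.Agent.H6.MDw.main9064 A' B' hB' hA' K' t hK hconst L a hL j
  exact ⟨fun Y hY => part1 f.pull adj A A' h2a h2b h2c h3 hprodA hprodB hAx hBx Y hY,
    fun X hX => part2 f.pull adj A A' h2b h2c h3 hprodA hprodB hAx hBx X hX⟩

end Groth.Agent.H6.SiteEq
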