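import Groth.Agent.Lib.Helper6.MDw8

/-! # `H^j(R lim K_n) = H^j(K_n)` for `n` large, under an abstract local stabilisation hypothesis
(generalisation of `MDw.main9064`) -/

universe w u
open CategoryTheory Limits Opposite Pretriangulated

namespace Groth.Agent.H6.SiteEq

open Groth.Agent.H6.MD Groth.Agent.H6.DLim Groth.Agent.H6.MDw
open Groth.Agent.LD.SC Groth.Agent.LD.HDSh DerivedCategory Groth.Agent.H2.DTrunc

variable {C : Type u} [SmallCategory C] {J : GrothendieckTopology C} {O : Sheaf J CommRingCat.{u}}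

variable [HasDerivedCategory.{w} (ModSite.Mod O)]

theorem key_local' (K : ℕ → DerivedCategory (ModSite.Mod O)) (t : ∀ n, K (n + 1) ⟶ K n)
    [HasProduct K]
    {L : DerivedCategory (ModSite.Mod O)} {a : ∀ n, L ⟶ K n} (hL : CohCx.IsRlimVia K t L a)
    (j : ℤ) (V : C) (N : ℕ)
    (hV : ∀ T ∈ J V, ∃ (ι : Type u) (Y : ι → C) (g : ∀ i, Y i ⟶ V),
      (∀ i, T.arrows (g i)) ∧ Sieve.ofArrows Y g ∈ J V ∧
      ∀ (i : ι) (m : ℤ), (m = j ∨ m = j - 1) → ∀ n, N ≤ n →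
        Function.Bijective (fun w : DZ O (Y i) ⟶ (K (n + 1))⟦m⟧ => w ≫ (t n)⟦m⟧')) :
    ∀ n, N ≤ n →
      Function.Injective (((τ O).map (H0.map ((a n)⟦j⟧'))).hom.app (op V)) ∧
      ∀ s : ((τ O).obj (H0.obj ((K n)⟦j⟧))).obj.obj (op V), ∃ T ∈ J V,
        ∀ {W : C} (f : W ⟶ V), T f →
          ∃ x : ((τ O).obj (H0.obj (L⟦j⟧))).obj.obj (op W),
            ((τ O).map (H0.map ((a n)⟦j⟧'))).hom.app (op W) x =
              ((τ O).obj (H0.obj ((K n)⟦j⟧))).obj.map f.op s := by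
  refine fun n hn => ⟨?_, ?_⟩
  · apply injective_H0 hL V j n
    intro T hT
    obtain ⟨ι, Y, g, h1, h2, h3⟩ := hV T hT
    refine ⟨ι, Y, g, h1, h2, fun i => ⟨?_, ?_⟩⟩
    · exact limOneIsZero_of_eventually_surjective n
        (fun n' => DZ O (Y i) ⟶ (K n')⟦j - 1⟧)
        (fun n' => Preadditive.rightComp _ ((t n')⟦j - 1⟧'))
        (fun n' hn' => (h3 i (j - 1) (Or.inr rfl) n' (le_trans hn hn')).2)
    · exact injective_transition (DZ O (Y i)) j n
        (fun n' hn' => (h3 i j (Or.inl rfl) n' (le_trans hn hn')).1)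
  · intro s
    obtain ⟨T₀, hT₀, hT₀'⟩ := beta_locSurj ((K n)⟦j⟧) V s
    obtain ⟨ι, Y, g, h1, h2, h3⟩ := hV T₀ hT₀
    refine ⟨Sieve.ofArrows Y g, h2, ?_⟩
    intro W f hf
    obtain ⟨i, f', rfl⟩ := (Sieve.mem_ofArrows_iff Y g f).mp hf
    obtain ⟨y, hy⟩ := hT₀' (g i) (h1 i)
    have hcomp : Function.Bijective (fun y : DZ O (Y i) ⟶ L⟦j⟧ => y ≫ (a n)⟦j⟧') :=
      bijective_comp_a hL (DZ O (Y i)) j n
        (fun n' hn' => (h3 i (j - 1) (Or.inr rfl) n' (le_trans hn hn')).2)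
        (fun n' hn' => h3 i j (Or.inl rfl) n' (le_trans hn hn'))
    obtain ⟨z, hz⟩ := hcomp.2 y
    have hz' : z ≫ (a n)⟦j⟧' = y := hz
    refine ⟨((τ O).obj (H0.obj (L⟦j⟧))).obj.map f'.op (beta (L⟦j⟧) (Y i) z), ?_⟩
    rw [sheafHom_nat, ← beta_comp, hz', hy]
    have h4 : ((τ O).obj (H0.obj ((K n)⟦j⟧))).obj.map (f' ≫ g i).op =
        ((τ O).obj (H0.obj ((K n)⟦j⟧))).obj.map (g i).op ≫
          ((τ O).obj (H0.obj ((K n)⟦j⟧))).obj.map f'.op := by
      rw [← Functor.map_comp, ← op_comp]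
    exact (congrArg (fun m => m s) (congrArg AddCommGrpCat.Hom.hom h4)).symm

theorem main_stab (B : Set C)
    (hB : ∀ U : C, ∃ (ι : Type u) (Y : ι → C) (g : ∀ i, Y i ⟶ U),
      Sieve.ofArrows Y g ∈ J U ∧ ∀ i, Y i ∈ B)
    (K : ℕ → DerivedCategory (ModSite.Mod O)) (t : ∀ n, K (n + 1) ⟶ K n) [HasProduct K]
    (L : DerivedCategory (ModSite.Mod O)) (a : ∀ n, L ⟶ K n) (hL : CohCx.IsRlimVia K t L a)
    (j : ℤ)
    (hconst : ∃ n₀ : ℕ, ∀ n, n₀ ≤ n →
      IsIso ((homologyFunctor (ModSite.Mod O) j).map (t n)))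
    (hloc : ∀ V ∈ B, ∃ N : ℕ, ∀ T ∈ J V, ∃ (ι : Type u) (Y : ι → C) (g : ∀ i, Y i ⟶ V),
      (∀ i, T.arrows (g i)) ∧ Sieve.ofArrows Y g ∈ J V ∧
      ∀ (i : ι) (m : ℤ), (m = j ∨ m = j - 1) → ∀ n, N ≤ n →
        Function.Bijective (fun w : DZ O (Y i) ⟶ (K (n + 1))⟦m⟧ => w ≫ (t n)⟦m⟧')) :
    ∃ n₀ : ℕ, ∀ n, n₀ ≤ n → IsIso ((homologyFunctor (ModSite.Mod O) j).map (a n)) := by
  obtain ⟨n₀, hn₀⟩ := hconst
  refine ⟨n₀, fun n hn => ?_⟩
  have htr : ∀ k, IsIso (H0.map ((CohCx.transition K t n k)⟦j⟧')) := by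
    intro k
    induction k with
    | zero =>
      have e : CohCx.transition K t n 0 = 𝟙 _ := rfl
      rw [e, CategoryTheory.Functor.map_id, CategoryTheory.Functor.map_id]
      infer_instance
    | succ k ih =>
      have e : CohCx.transition K t n (k + 1) = t (n + k) ≫ CohCx.transition K t n k := rfl
      haveI := ih
      haveI : IsIso (H0.map ((t (n + k))⟦j⟧')) :=
        (isIso_H0_shift_iff _ j).2 (hn₀ (n + k) (by omega))
      rw [e, CategoryTheory.Functor.map_comp, CategoryTheory.Functor.map_comp]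
      infer_instance
  refine (isIso_H0_shift_iff (a n) j).1 ?_
  suffices IsIso ((τ O).map (H0.map ((a n)⟦j⟧'))) from isIso_of_reflects_iso _ (τ O)
  apply isIso_of_local _ B hB
  intro V hV
  obtain ⟨N, hd⟩ := hloc V hV
  have hN := key_local' K t hL j V N hd
  have hcomp : a (n + N) ≫ CohCx.transition K t n N = a n := a_comp_transition hL n N
  obtain ⟨hinj, hsurj⟩ := hN (n + N) (by omega)
  haveI := htr N
  have hθ : ∀ (W : C) (x : ((τ O).obj (H0.obj (L⟦j⟧))).obj.obj (op W)),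
      ((τ O).map (H0.map ((a n)⟦j⟧'))).hom.app (op W) x =
        ((τ O).map (H0.map ((CohCx.transition K t n N)⟦j⟧'))).hom.app (op W)
          (((τ O).map (H0.map ((a (n + N))⟦j⟧'))).hom.app (op W) x) := by
    intro W x
    rw [← hcomp, Functor.map_comp, Functor.map_comp, Functor.map_comp]
    rfl
  constructor
  · intro x y hxy
    rw [hθ, hθ] at hxy
    exact hinj (modHom_injective_of_isIso (H0.map ((CohCx.transition K t n N)⟦j⟧')) V hxy)
  · intro s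
    have hs' : ((τ O).map (H0.map ((CohCx.transition K t n N)⟦j⟧'))).hom.app (op V)
        (((τ O).map (inv (H0.map ((CohCx.transition K t n N)⟦j⟧')))).hom.app (op V) s) = s :=
      congrArg (fun g => ((τ O).map g).hom.app (op V) s)
        (IsIso.inv_hom_id (H0.map ((CohCx.transition K t n N)⟦j⟧')))
    obtain ⟨T, hT, hT'⟩ := hsurj
      (((τ O).map (inv (H0.map ((CohCx.transition K t n N)⟦j⟧')))).hom.app (op V) s)
    refine ⟨T, hT, fun {W} f hf => ?_⟩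
    obtain ⟨x, hx⟩ := hT' f hf
    refine ⟨x, ?_⟩
    rw [hθ, hx, sheafHom_nat, hs']

end Groth.Agent.H6.SiteEq
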