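import Mathlib
import Groth.Prelude.Def_SiteCmp
import Groth.Agent.Lib.Helper6.SiteEq1

/-!
# Abstract unbounded equivalence with a direct stabilisation hypothesis; adjunction transfer
-/

set_option autoImplicit false

open CategoryTheory Limits Pretriangulated DerivedCategory

namespace Groth.Agent.H6.SiteEq

section Transfer

variable {T T' : Type*} [Category T] [Category T']
  [Preadditive T] [HasZeroObject T] [HasShift T ℤ] [∀ n : ℤ, (shiftFunctor T n).Additive]
  [Pretriangulated T]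
  [Preadditive T'] [HasZeroObject T'] [HasShift T' ℤ] [∀ n : ℤ, (shiftFunctor T' n).Additive]
  [Pretriangulated T']
  {L : T' ⥤ T} {R : T ⥤ T'} (adj : L ⊣ R) [R.CommShift ℤ]

/-- `Hom(Z, (R K)[m]) ≃ Hom(L Z, K[m])`. -/
noncomputable def shiftHomEquiv (Z : T') (K : T) (m : ℤ) :
    (Z ⟶ (R.obj K)⟦m⟧) ≃ (L.obj Z ⟶ K⟦m⟧) :=
  (Iso.homCongr (Iso.refl Z) ((R.commShiftIso m).app K).symm).trans
    (adj.homEquiv Z (K⟦m⟧)).symm

lemma shiftHomEquiv_comp (Z : T') {K' K : T} (g : K' ⟶ K) (m : ℤ) (w : Z ⟶ (R.obj K')⟦m⟧) :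
    shiftHomEquiv adj Z K m (w ≫ (R.map g)⟦m⟧') = shiftHomEquiv adj Z K' m w ≫ g⟦m⟧' := by
  unfold shiftHomEquiv
  simp only [Equiv.trans_apply, Iso.homCongr_apply, Iso.refl_inv, Category.id_comp,
    Iso.symm_hom, Iso.app_inv]
  rw [← Adjunction.homEquiv_naturality_right_symm]
  congr 1
  rw [Category.assoc, Category.assoc]
  congr 1
  exact ((R.commShiftIso m).inv.naturality g)

include adj in
theorem bijective_of_bijective_left (Z : T') {K' K : T} (g : K' ⟶ K) (m : ℤ)
    (h : Function.Bijective (fun w : L.obj Z ⟶ K'⟦m⟧ => w ≫ g⟦m⟧')) :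
    Function.Bijective (fun w : Z ⟶ (R.obj K')⟦m⟧ => w ≫ (R.map g)⟦m⟧') := by
  have e : (fun w : Z ⟶ (R.obj K')⟦m⟧ => w ≫ (R.map g)⟦m⟧') =
      (shiftHomEquiv adj Z K m).symm ∘ (fun w : L.obj Z ⟶ K'⟦m⟧ => w ≫ g⟦m⟧') ∘
        (shiftHomEquiv adj Z K' m) := by
    funext w
    simp only [Function.comp_apply]
    rw [← shiftHomEquiv_comp, Equiv.symm_apply_apply]
  rw [e]
  exact (shiftHomEquiv adj Z K m).symm.bijective.comp (h.comp (shiftHomEquiv adj Z K' m).bijective)

end Transfer

section Main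

universe w₁ w₂ v₂ u₁ u₂

variable {A : Type (u₁ + 1)} [Category.{u₁} A] [Abelian A] [HasDerivedCategory.{w₁} A]
  {B : Type u₂} [Category.{v₂} B] [Abelian B] [HasDerivedCategory.{w₂} B]
  (Φ : B ⥤ A) [Φ.Additive] [PreservesFiniteLimits Φ] [PreservesFiniteColimits Φ]
  {R : DerivedCategory A ⥤ DerivedCategory B} (adj : Φ.mapDerivedCategory ⊣ R)
  (P : ObjectProperty A) [WSerre.IsWeakSerre P] (P' : ObjectProperty B) [WSerre.IsWeakSerre P']
  (h2a : ∀ F' : B, P' F' → P (Φ.obj F'))
  (h2b : ∀ F' G' : B, P' F' → P' G' → Function.Bijective (fun φ : F' ⟶ G' => Φ.map φ))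
  (h2c : ∀ F : A, P F → ∃ F' : B, P' F' ∧ Nonempty (Φ.obj F' ≅ F))
  (h3 : ∀ F' : B, P' F' → IsIso (adj.unit.app ((singleFunctor B 0).obj F')))

omit [WSerre.IsWeakSerre P] in
lemma isIso_homology_toTruncTower (X : DerivedCategory A) (n : ℕ) (j : ℤ) (h : -(n : ℤ) ≤ j) :
    IsIso ((homologyFunctor A j).map (CohCx.toTruncTower X n)) :=
  Groth.Agent.H2.DTrunc.isIso_homology_truncGEπ X (-(n : ℤ)) j h

lemma cohInPlus_truncTower (X : DerivedCategory A) (hX : WSerre.cohIn P X) (n : ℕ) :
    WSerre.cohInPlus P (CohCx.truncTower X n) := by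
  have hKge : (CohCx.truncTower X n).IsGE (-(n : ℤ)) := inferInstance
  refine ⟨fun i => ?_, ⟨-(n : ℤ), hKge⟩⟩
  by_cases h : -(n : ℤ) ≤ i
  · haveI := isIso_homology_toTruncTower X n i h
    exact P.prop_of_iso (asIso ((homologyFunctor A i).map (CohCx.toTruncTower X n))) (hX i)
  · exact P.prop_of_isZero
      (DerivedCategory.isZero_of_isGE (CohCx.truncTower X n) (-(n : ℤ)) i (by omega))

omit [WSerre.IsWeakSerre P] in
lemma toTruncTower_comp (X : DerivedCategory A) (n : ℕ) :
    CohCx.toTruncTower X (n + 1) ≫ CohCx.truncTowerMap X n = CohCx.toTruncTower X n := by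
  simp [CohCx.toTruncTower, CohCx.truncTowerMap]

omit [WSerre.IsWeakSerre P] in
lemma isIso_homology_truncTowerMap (X : DerivedCategory A) (n : ℕ) (j : ℤ) (h : -(n : ℤ) ≤ j) :
    IsIso ((homologyFunctor A j).map (CohCx.truncTowerMap X n)) := by
  haveI := isIso_homology_toTruncTower X n j h
  haveI := isIso_homology_toTruncTower X (n + 1) j (by push_cast; omega)
  have e : (homologyFunctor A j).map (CohCx.toTruncTower X (n + 1)) ≫
      (homologyFunctor A j).map (CohCx.truncTowerMap X n) =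
      (homologyFunctor A j).map (CohCx.toTruncTower X n) := by
    rw [← Functor.map_comp, toTruncTower_comp]
  exact IsIso.of_isIso_fac_left e

include h2b h2c h3 in
/-- `H^j(R(τ_{≥-(n+1)}X)) → H^j(R(τ_{≥-n}X))` is an isomorphism for `j ≥ -n`. -/
lemma isIso_homology_R_truncTowerMap (X : DerivedCategory A) (hX : WSerre.cohIn P X) (n : ℕ)
    (j : ℤ) (h : -(n : ℤ) ≤ j) :
    IsIso ((homologyFunctor B j).map (R.map (CohCx.truncTowerMap X n))) := by
  have hp2 := fun n => Groth.Agent.H7.WayOut.part2 Φ adj P P' h2c h3 (CohCx.truncTower X n)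
    (cohInPlus_truncTower P X hX n)
  apply isIso_of_isIso_map Φ P' h2b ((hp2 (n + 1)).1.1 j) ((hp2 n).1.1 j)
  rw [← isIso_homology_map_iff]
  haveI := (hp2 n).2
  haveI := (hp2 (n + 1)).2
  have hnat : Φ.mapDerivedCategory.map (R.map (CohCx.truncTowerMap X n)) ≫
      adj.counit.app (CohCx.truncTower X n) =
      adj.counit.app (CohCx.truncTower X (n + 1)) ≫ CohCx.truncTowerMap X n :=
    adj.counit.naturality (CohCx.truncTowerMap X n)
  have h1 : Φ.mapDerivedCategory.map (R.map (CohCx.truncTowerMap X n)) =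
      adj.counit.app (CohCx.truncTower X (n + 1)) ≫ CohCx.truncTowerMap X n ≫
        inv (adj.counit.app (CohCx.truncTower X n)) := by
    rw [← Category.assoc, ← hnat, Category.assoc, IsIso.hom_inv_id, Category.comp_id]
  rw [h1, Functor.map_comp, Functor.map_comp]
  haveI := isIso_homology_truncTowerMap X n j h
  infer_instance

variable (hstab : ∀ X : DerivedCategory A, WSerre.cohIn P X → ∀ j : ℤ, ∃ n₀ : ℕ, ∀ n, n₀ ≤ n →
    IsIso ((homologyFunctor B j).map (R.map (CohCx.toTruncTower X n))))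

include h2c h3 hstab in
theorem part2' (X : DerivedCategory A) (hX : WSerre.cohIn P X) :
    WSerre.cohIn P' (R.obj X) ∧ IsIso (adj.counit.app X) := by
  have hp2 := fun n => Groth.Agent.H7.WayOut.part2 Φ adj P P' h2c h3 (CohCx.truncTower X n)
    (cohInPlus_truncTower P X hX n)
  constructor
  · intro j
    obtain ⟨n₀, hn₀⟩ := hstab X hX j
    haveI := hn₀ n₀ le_rfl
    exact P'.prop_of_iso
      (asIso ((homologyFunctor B j).map (R.map (CohCx.toTruncTower X n₀)))).symm
      ((hp2 n₀).1.1 j)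
  · rw [DerivedCategory.isIso_iff]
    intro j
    obtain ⟨n₀, hn₀⟩ := hstab X hX j
    let n := max n₀ (-j).toNat
    have hn1 : n₀ ≤ n := le_max_left _ _
    have hn2 : -(n : ℤ) ≤ j := by
      have : (-j).toNat ≤ n := le_max_right _ _
      omega
    haveI := isIso_homology_toTruncTower X n j hn2
    haveI := (hp2 n).2
    haveI : IsIso ((homologyFunctor A j).map
        (Φ.mapDerivedCategory.map (R.map (CohCx.toTruncTower X n)))) := by
      rw [isIso_homology_map_iff]
      haveI := hn₀ n hn1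
      infer_instance
    have hnat : Φ.mapDerivedCategory.map (R.map (CohCx.toTruncTower X n)) ≫
        adj.counit.app (CohCx.truncTower X n) =
        adj.counit.app X ≫ CohCx.toTruncTower X n := adj.counit.naturality (CohCx.toTruncTower X n)
    have e : (homologyFunctor A j).map (adj.counit.app X) ≫
        (homologyFunctor A j).map (CohCx.toTruncTower X n) =
        (homologyFunctor A j).map (Φ.mapDerivedCategory.map (R.map (CohCx.toTruncTower X n))) ≫
          (homologyFunctor A j).map (adj.counit.app (CohCx.truncTower X n)) := by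
      rw [← Functor.map_comp, ← Functor.map_comp, hnat]
    exact IsIso.of_isIso_fac_right e

include h2a h2b h2c h3 hstab in
theorem part1' (Y : DerivedCategory B) (hY : WSerre.cohIn P' Y) :
    WSerre.cohIn P (Φ.mapDerivedCategory.obj Y) ∧ IsIso (adj.unit.app Y) := by
  have hLY : WSerre.cohIn P (Φ.mapDerivedCategory.obj Y) := fun i => by
    obtain ⟨e⟩ := Groth.Agent.H7.WayOut.nonempty_homology_mapDerivedCategory_iso Φ Y i
    exact P.prop_of_iso e.symm (h2a _ (hY i))
  obtain ⟨hRLY, hε⟩ := part2' Φ adj P P' h2c h3 hstab (Φ.mapDerivedCategory.obj Y) hLY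
  refine ⟨hLY, ?_⟩
  haveI := hε
  have htri := adj.left_triangle_components Y
  haveI : IsIso (Φ.mapDerivedCategory.map (adj.unit.app Y)) := by
    rw [IsIso.eq_inv_of_inv_hom_id htri]
    infer_instance
  rw [DerivedCategory.isIso_iff]
  intro j
  apply isIso_of_isIso_map Φ P' h2b (hY j) (hRLY j)
  rw [← isIso_homology_map_iff]
  infer_instance

end Main

end Groth.Agent.H6.SiteEq
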