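import Mathlib
import Groth.Prelude.Def_SiteCmp
import Groth.Agent.Lib.Helper6.SiteEq3
import Groth.Agent.Lib.Helper6.SiteEq4
import Groth.Agent.Lib.Helper6.MDw5
import Groth.Agent.Lib.Lead.EZ.FreeOn
import Groth.Agent.Lib.Helper1.SheafOfModulesGrothendieck
import Groth.Agent.Lib.Helper2.DProd1

/-!
# S9080: `f^* : D_{A'}(O_D) ≃ D_A(O_C)` for a flat morphism of ringed sites, with the bounded
cohomological dimension hypothesis downstairs expressed upstairs on the objects `u(V')`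
-/

set_option autoImplicit false
universe u
open CategoryTheory CategoryTheory.Limits Opposite DerivedCategory
attribute [local instance] HasDerivedCategory.standard

namespace Groth.Agent.H6.SiteEq

open Groth.Agent.H6.MDw Groth.Agent.H6.MD Groth.Agent.LD.HDSh

lemma bijective_precomp_iso {T : Type*} [Category T] {Z Z' M M' : T} (e : Z ≅ Z') (g : M ⟶ M')
    (h : Function.Bijective (fun w : Z' ⟶ M => w ≫ g)) :
    Function.Bijective (fun w : Z ⟶ M => w ≫ g) := by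
  have hP : ∀ N : T, Function.Bijective (fun v : Z' ⟶ N => e.hom ≫ v) := fun N =>
    ⟨fun v v' hv => (cancel_epi e.hom).1 hv, fun w => ⟨e.inv ≫ w, by simp⟩⟩
  have e1 : (fun w : Z ⟶ M => w ≫ g) ∘ (fun v : Z' ⟶ M => e.hom ≫ v) =
      (fun v : Z' ⟶ M' => e.hom ≫ v) ∘ (fun w : Z' ⟶ M => w ≫ g) := by
    funext v
    simp
  have h2 : Function.Bijective ((fun w : Z ⟶ M => w ≫ g) ∘ (fun v : Z' ⟶ M => e.hom ≫ v)) := by
    rw [e1]
    exact (hP M').comp h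
  exact (Function.Bijective.of_comp_iff _ (hP M)).1 h2

variable {C : Type u} [SmallCategory C] {J : GrothendieckTopology C} {O_C : Sheaf J CommRingCat.{u}}
  {D : Type u} [SmallCategory D] {K : GrothendieckTopology D} {O_D : Sheaf K CommRingCat.{u}}
  (f : ModSite.RMor O_C O_D)

/-- `f^*(j_{V'!}O[0]) ≅ j_{u(V')!}O[0]` in the derived category. -/
noncomputable def pullDZIso [PreservesFiniteLimits f.pull] (V' : D) :
    (SiteCmp.pullD f).obj (DZ O_D V') ≅ DZ O_C (f.fn.obj V') :=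
  f.pull.mapDerivedCategoryFactors.app (S₀ (FO O_D V')) ≪≫
    Q.mapIso ((HomologicalComplex.singleMapHomologicalComplex f.pull (ComplexShape.up ℤ) 0).app
      (FO O_D V')) ≪≫
    Q.mapIso ((HomologicalComplex.single _ (ComplexShape.up ℤ) 0).mapIso
      (Groth.Agent.LD.EZ.pullFreeOnIso f V'))

theorem hstab_of_upstairs [PreservesFiniteLimits f.pull] [SiteCmp.HasRpushD f]
    (adj : SiteCmp.pullD f ⊣ SiteCmp.RpushD f)
    (A : ObjectProperty (ModSite.Mod O_C)) [WSerre.IsWeakSerre A]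
    (A' : ObjectProperty (ModSite.Mod O_D)) [WSerre.IsWeakSerre A']
    (h2b : ∀ F' G' : ModSite.Mod O_D, A' F' → A' G' →
      Function.Bijective (fun φ : F' ⟶ G' => f.pull.map φ))
    (h2c : ∀ F : ModSite.Mod O_C, A F → ∃ F' : ModSite.Mod O_D, A' F' ∧ Nonempty (f.pull.obj F' ≅ F))
    (h3 : ∀ F' : ModSite.Mod O_D, A' F' → IsIso (adj.unit.app (SiteCmp.inD O_D F')))
    (B : Set C) (B' : Set D)
    (hB : ∀ U : C, ∃ (ι : Type u) (Y : ι → C) (g : ∀ i, Y i ⟶ U), Sieve.ofArrows Y g ∈ J U ∧ ∀ i, Y i ∈ B)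
    (hA : ∀ V ∈ B, ∃ d : ℕ, ∀ T ∈ J V, ∃ (ι : Type u) (Y : ι → C) (g : ∀ i, Y i ⟶ V),
      (∀ i, T.arrows (g i)) ∧ Sieve.ofArrows Y g ∈ J V ∧
      ∀ (i : ι) (F : ModSite.Mod O_C), A F → ∀ k : ℕ, d < k → Subsingleton (ModSite.HU O_C F k (Y i)))
    (hB' : ∀ U : D, ∃ (ι : Type u) (Y : ι → D) (g : ∀ i, Y i ⟶ U), Sieve.ofArrows Y g ∈ K U ∧ ∀ i, Y i ∈ B')
    (hA' : ∀ V ∈ B', ∃ d : ℕ, ∀ T ∈ K V, ∃ (ι : Type u) (Y : ι → D) (g : ∀ i, Y i ⟶ V),
      (∀ i, T.arrows (g i)) ∧ Sieve.ofArrows Y g ∈ K V ∧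
      ∀ (i : ι) (F : ModSite.Mod O_C), A F → ∀ k : ℕ, d < k → Subsingleton (ModSite.HU O_C F k (f.fn.obj (Y i))))
    (X : DerivedCategory (ModSite.Mod O_C)) (hX : WSerre.cohIn A X) (j : ℤ) :
    ∃ n₀ : ℕ, ∀ n, n₀ ≤ n → IsIso ((homologyFunctor (ModSite.Mod O_D) j).map
      ((SiteCmp.RpushD f).map (CohCx.toTruncTower X n))) := by
  haveI : IsGrothendieckAbelian.{u} (ModSite.Mod O_C) :=
    Groth.Agent.H1.sheafOfModules_isGrothendieckAbelian _ _
  haveI : IsGrothendieckAbelian.{u} (ModSite.Mod O_D) :=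
    Groth.Agent.H1.sheafOfModules_isGrothendieckAbelian _ _
  letI : (SiteCmp.RpushD f).CommShift ℤ := Groth.Agent.H7.WayOut.rCommShift adj
  haveI : adj.CommShift ℤ := adj.commShift_of_leftAdjoint ℤ
  haveI : (SiteCmp.RpushD f).IsTriangulated := adj.isTriangulated_rightAdjoint
  haveI : (SiteCmp.RpushD f).Additive := adj.right_adjoint_additive
  let Kt := CohCx.truncTower X
  let t := CohCx.truncTowerMap X
  let a := CohCx.toTruncTower X
  have hKge : ∀ n : ℕ, (Kt n).IsGE (-(n : ℤ)) := fun n => inferInstance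
  haveI : HasProduct Kt :=
    Groth.Agent.H2.DProd.hasProduct_of_isGE Kt (fun n => ⟨-(n : ℤ), hKge n⟩)
  have hXlim : CohCx.IsRlimVia Kt t X a := by
    refine Groth.Agent.H6.MDw.main_cofinal X B hB (fun V hV => ?_)
    obtain ⟨d, hd⟩ := hA V hV
    refine ⟨d, fun T hT => ?_⟩
    obtain ⟨ι, Y, g, h1, h2, h3'⟩ := hd T hT
    exact ⟨ι, Y, g, h1, h2, fun i q k _ hk => h3' i _ (hX q) k hk⟩
  have hK : ∀ n, WSerre.cohInPlus A (Kt n) := fun n => cohInPlus_truncTower A X hX n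
  have hp2 := fun n => Groth.Agent.H7.WayOut.part2 f.pull adj A A' h2c h3 (Kt n) (hK n)
  haveI : HasProduct fun n => (SiteCmp.RpushD f).obj (Kt n) :=
    Groth.Agent.H2.DProd.hasProduct_of_isGE _ (fun n => (hp2 n).1.2)
  haveI : PreservesLimit (Discrete.functor Kt) (SiteCmp.RpushD f) := by
    haveI : PreservesLimitsOfSize.{0, 0} (SiteCmp.RpushD f) := adj.rightAdjoint_preservesLimits
    infer_instance
  have hRlim := isRlimVia_map (SiteCmp.RpushD f) Kt t hXlim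
  have hconstC : ∀ j' : ℤ, ∃ n₀ : ℕ, ∀ n, n₀ ≤ n →
      IsIso ((homologyFunctor (ModSite.Mod O_C) j').map (t n)) :=
    fun j' => ⟨(-j').toNat, fun n hn => isIso_homology_truncTowerMap X n j' (by omega)⟩
  refine main_stab B' hB' (fun n => (SiteCmp.RpushD f).obj (Kt n))
    (fun n => (SiteCmp.RpushD f).map (t n)) ((SiteCmp.RpushD f).obj X)
    (fun n => (SiteCmp.RpushD f).map (a n)) hRlim j
    ⟨(-j).toNat, fun n hn =>
      isIso_homology_R_truncTowerMap f.pull adj A A' h2b h2c h3 X hX n j (by omega)⟩ ?_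
  intro V hV
  obtain ⟨d, hd⟩ := hA' V hV
  obtain ⟨N, hN⟩ := exists_bound_isIso t hconstC (j - d - 2) (d + 4)
  refine ⟨N, fun T hT => ?_⟩
  obtain ⟨ι, Y, g, h1, h2, h3'⟩ := hd T hT
  refine ⟨ι, Y, g, h1, h2, fun i m hm n hn => ?_⟩
  apply bijective_of_bijective_left adj (DZ O_D (Y i)) (t n) m
  apply bijective_precomp_iso (pullDZIso f (Y i))
  refine bijective_step A (t n) (hK (n + 1)) (hK n) (f.fn.obj (Y i)) d (h3' i) m
    (fun b hb1 hb2 => ?_)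
  exact hN b (by rcases hm with rfl | rfl <;> omega)
    (by rcases hm with rfl | rfl <;> (push_cast; omega)) n hn

theorem s9080 [PreservesFiniteLimits f.pull] [SiteCmp.HasRpushD f]
    (adj : SiteCmp.pullD f ⊣ SiteCmp.RpushD f)
    (A : ObjectProperty (ModSite.Mod O_C)) [WSerre.IsWeakSerre A]
    (A' : ObjectProperty (ModSite.Mod O_D)) [WSerre.IsWeakSerre A']
    (h2a : ∀ F' : ModSite.Mod O_D, A' F' → A (f.pull.obj F'))
    (h2b : ∀ F' G' : ModSite.Mod O_D, A' F' → A' G' →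
      Function.Bijective (fun φ : F' ⟶ G' => f.pull.map φ))
    (h2c : ∀ F : ModSite.Mod O_C, A F → ∃ F' : ModSite.Mod O_D, A' F' ∧ Nonempty (f.pull.obj F' ≅ F))
    (h3 : ∀ F' : ModSite.Mod O_D, A' F' → IsIso (adj.unit.app (SiteCmp.inD O_D F')))
    (B : Set C) (B' : Set D)
    (hB : ∀ U : C, ∃ (ι : Type u) (Y : ι → C) (g : ∀ i, Y i ⟶ U), Sieve.ofArrows Y g ∈ J U ∧ ∀ i, Y i ∈ B)
    (hA : ∀ V ∈ B, ∃ d : ℕ, ∀ T ∈ J V, ∃ (ι : Type u) (Y : ι → C) (g : ∀ i, Y i ⟶ V),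
      (∀ i, T.arrows (g i)) ∧ Sieve.ofArrows Y g ∈ J V ∧
      ∀ (i : ι) (F : ModSite.Mod O_C), A F → ∀ k : ℕ, d < k → Subsingleton (ModSite.HU O_C F k (Y i)))
    (hB' : ∀ U : D, ∃ (ι : Type u) (Y : ι → D) (g : ∀ i, Y i ⟶ U), Sieve.ofArrows Y g ∈ K U ∧ ∀ i, Y i ∈ B')
    (hA' : ∀ V ∈ B', ∃ d : ℕ, ∀ T ∈ K V, ∃ (ι : Type u) (Y : ι → D) (g : ∀ i, Y i ⟶ V),
      (∀ i, T.arrows (g i)) ∧ Sieve.ofArrows Y g ∈ K V ∧
      ∀ (i : ι) (F : ModSite.Mod O_C), A F → ∀ k : ℕ, d < k → Subsingleton (ModSite.HU O_C F k (f.fn.obj (Y i)))) :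
    (∀ Y : DerivedCategory (ModSite.Mod O_D), WSerre.cohIn A' Y →
      WSerre.cohIn A ((SiteCmp.pullD f).obj Y) ∧ IsIso (adj.unit.app Y)) ∧
    (∀ X : DerivedCategory (ModSite.Mod O_C), WSerre.cohIn A X →
      WSerre.cohIn A' ((SiteCmp.RpushD f).obj X) ∧ IsIso (adj.counit.app X)) := by
  have hstab := fun X hX j =>
    hstab_of_upstairs f adj A A' h2b h2c h3 B B' hB hA hB' hA' X hX j
  exact ⟨fun Y hY => part1' f.pull adj A A' h2a h2b h2c h3 hstab Y hY,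
    fun X hX => part2' f.pull adj A A' h2c h3 hstab X hX⟩

end Groth.Agent.H6.SiteEq
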