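import Mathlib
import Groth.Prelude.Def_WeakSerre

/-!
# Abstract lemmas for S9071: the essential image of a weak Serre subcategory under a fully
faithful right adjoint with exact left adjoint
-/

set_option autoImplicit false
universe v₁ v₂ u₁ u₂
open CategoryTheory CategoryTheory.Limits Opposite

namespace Groth.Agent.H6.SiteEq

section Adj

variable {𝒞 : Type u₁} [Category.{v₁} 𝒞] {𝒟 : Type u₂} [Category.{v₂} 𝒟]
  {L : 𝒞 ⥤ 𝒟} {R : 𝒟 ⥤ 𝒞} (adj : L ⊣ R)

include adj in
/-- post-composition with the unit is bijective iff `L` is bijective on the Hom-set; this does not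
depend on the adjunction. -/
lemma bijective_comp_unit_iff (Z Y : 𝒞) :
    Function.Bijective (fun w : Z ⟶ Y => w ≫ adj.unit.app Y) ↔
      Function.Bijective (fun w : Z ⟶ Y => L.map w) := by
  have e : (fun w : Z ⟶ Y => w ≫ adj.unit.app Y) =
      (adj.homEquiv Z (L.obj Y)) ∘ (fun w : Z ⟶ Y => L.map w) := by
    funext w
    simp [Adjunction.homEquiv_unit]
  rw [e]
  exact Function.Bijective.of_comp_iff' (adj.homEquiv Z (L.obj Y)).bijective _

lemma isIso_unit_app_obj [R.Full] [R.Faithful] (N : 𝒟) : IsIso (adj.unit.app (R.obj N)) := by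
  have h := adj.right_triangle_components N
  have h2 : adj.unit.app (R.obj N) = inv (R.map (adj.counit.app N)) :=
    IsIso.eq_inv_of_inv_hom_id h
  rw [h2]
  infer_instance

lemma isIso_unit_app_of_iso [R.Full] [R.Faithful] {Y : 𝒞} {N : 𝒟} (e : R.obj N ≅ Y) :
    IsIso (adj.unit.app Y) := by
  haveI := isIso_unit_app_obj adj N
  have h : adj.unit.app Y = e.inv ≫ adj.unit.app (R.obj N) ≫ R.map (L.map e.hom) := by
    have := adj.unit.naturality e.hom
    simp only [Functor.id_obj, Functor.id_map, Functor.comp_obj, Functor.comp_map] at this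
    rw [← this, e.inv_hom_id_assoc]
  rw [h]
  infer_instance

end Adj

section WS

variable {𝒜 : Type u₁} [Category.{v₁} 𝒜] [Abelian 𝒜] {ℬ : Type u₂} [Category.{v₂} ℬ] [Abelian ℬ]
  {L : ℬ ⥤ 𝒜} {F : 𝒜 ⥤ ℬ} (adj : L ⊣ F) [F.Full] [F.Faithful] [F.Additive] [L.Additive]
  [PreservesFiniteLimits L]
  (A : ObjectProperty 𝒜) [WSerre.IsWeakSerre A]
  (hE : ∀ S : ShortComplex 𝒜, S.ShortExact → A S.X₁ → Epi (F.map S.g))

include adj hE in
lemma shortExact_map_of_prop {S : ShortComplex 𝒜} (hS : S.ShortExact) (h₁ : A S.X₁) :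
    (S.map F).ShortExact := by
  haveI : PreservesLimitsOfSize.{0, 0} F := adj.rightAdjoint_preservesLimits
  haveI : PreservesFiniteLimits F := PreservesLimitsOfSize.preservesFiniteLimits F
  haveI := hS.mono_f
  haveI : Mono (S.map F).f := by
    change Mono (F.map S.f)
    infer_instance
  haveI : Epi (S.map F).g := hE S hS h₁
  exact ShortComplex.ShortExact.mk
    (hS.exact.map_of_mono_of_preservesKernel F hS.mono_f inferInstance)

include adj in
lemma prop_pull_obj {Y : ℬ} (hY : A.map F Y) : A (L.obj Y) := by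
  obtain ⟨N, hN, ⟨e⟩⟩ := hY
  exact A.prop_of_iso ((asIso (adj.counit.app N)).symm ≪≫ L.mapIso e) hN

include adj in
lemma containsZero_map : (A.map F).ContainsZero := by
  obtain ⟨Z, hZ, hPZ⟩ := A.exists_prop_of_containsZero
  exact ⟨⟨F.obj Z, F.map_isZero hZ, A.prop_map_obj F hPZ⟩⟩

include adj in
lemma isClosedUnderKernels_map : (A.map F).IsClosedUnderKernels := by
  haveI : PreservesLimitsOfSize.{0, 0} F := adj.rightAdjoint_preservesLimits
  haveI : PreservesFiniteLimits F := PreservesLimitsOfSize.preservesFiniteLimits F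
  refine ⟨?_⟩
  rintro _ ⟨f, k, hk, ⟨⟨X, hX, ⟨e₁⟩⟩, ⟨Y, hY, ⟨e₂⟩⟩⟩⟩
  let ψ : X ⟶ Y := F.preimage (e₁.hom ≫ f ≫ e₂.inv)
  have hψ : F.map ψ = e₁.hom ≫ f ≫ e₂.inv := F.map_preimage _
  refine ⟨kernel ψ, A.prop_kernel ψ hX hY, ⟨?_⟩⟩
  refine PreservesKernel.iso F ψ ≪≫ ?_ ≪≫
    IsLimit.conePointUniqueUpToIso (kernelIsKernel f) hk
  exact kernel.mapIso (F.map ψ) f e₁ e₂ (by rw [hψ]; simp)

include adj hE in
lemma isClosedUnderCokernels_map : (A.map F).IsClosedUnderCokernels := by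
  haveI : PreservesLimitsOfSize.{0, 0} F := adj.rightAdjoint_preservesLimits
  haveI : PreservesFiniteLimits F := PreservesLimitsOfSize.preservesFiniteLimits F
  refine ⟨?_⟩
  rintro _ ⟨f, k, hk, ⟨⟨X, hX, ⟨e₁⟩⟩, ⟨Y, hY, ⟨e₂⟩⟩⟩⟩
  let ψ : X ⟶ Y := F.preimage (e₁.hom ≫ f ≫ e₂.inv)
  have hψ : F.map ψ = e₁.hom ≫ f ≫ e₂.inv := F.map_preimage _
  have hK : A (kernel ψ) := A.prop_kernel ψ hX hY
  have hQ : A (cokernel ψ) := A.prop_cokernel ψ hX hY
  have hI : A (Abelian.image ψ) := A.prop_kernel (cokernel.π ψ) hY hQ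
  -- the two short exact sequences
  let S₁ : ShortComplex 𝒜 := ShortComplex.mk (kernel.ι ψ) (Abelian.factorThruImage ψ)
    (by rw [← cancel_mono (Abelian.image.ι ψ)]; simp)
  have hS₁ : S₁.ShortExact := by
    haveI : Mono S₁.f := inferInstanceAs (Mono (kernel.ι ψ))
    haveI : Epi S₁.g := inferInstanceAs (Epi (Abelian.factorThruImage ψ))
    refine ShortComplex.ShortExact.mk ?_
    have hex : (ShortComplex.mk (kernel.ι ψ) ψ (kernel.condition ψ)).Exact :=
      ShortComplex.exact_kernel ψ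
    let φ : S₁ ⟶ ShortComplex.mk (kernel.ι ψ) ψ (kernel.condition ψ) :=
      { τ₁ := 𝟙 _, τ₂ := 𝟙 _, τ₃ := Abelian.image.ι ψ
        comm₁₂ := by simp [S₁]
        comm₂₃ := by simp [S₁] }
    haveI : Epi φ.τ₁ := inferInstanceAs (Epi (𝟙 _))
    haveI : IsIso φ.τ₂ := inferInstanceAs (IsIso (𝟙 _))
    haveI : Mono φ.τ₃ := inferInstanceAs (Mono (Abelian.image.ι ψ))
    exact (ShortComplex.exact_iff_of_epi_of_isIso_of_mono φ).2 hex
  let S₂ : ShortComplex 𝒜 := ShortComplex.mk (Abelian.image.ι ψ) (cokernel.π ψ)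
    (kernel.condition _)
  have hS₂ : S₂.ShortExact := by
    haveI : Mono S₂.f := inferInstanceAs (Mono (Abelian.image.ι ψ))
    haveI : Epi S₂.g := inferInstanceAs (Epi (cokernel.π ψ))
    exact ShortComplex.ShortExact.mk (ShortComplex.exact_kernel (cokernel.π ψ))
  have h1 := shortExact_map_of_prop adj A hE hS₁ hK
  have h2 := shortExact_map_of_prop adj A hE hS₂ hI
  haveI : Epi (F.map (Abelian.factorThruImage ψ)) := h1.epi_g
  haveI : Epi (F.map (cokernel.π ψ)) := h2.epi_g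
  -- `F X ⟶ F Y ⟶ F Q` is exact
  have hex : (ShortComplex.mk (F.map ψ) (F.map (cokernel.π ψ))
      (by rw [← F.map_comp, cokernel.condition, F.map_zero])).Exact := by
    let φ : ShortComplex.mk (F.map ψ) (F.map (cokernel.π ψ))
        (by rw [← F.map_comp, cokernel.condition, F.map_zero]) ⟶ S₂.map F :=
      { τ₁ := F.map (Abelian.factorThruImage ψ), τ₂ := 𝟙 _, τ₃ := 𝟙 _
        comm₁₂ := by
          change F.map (Abelian.factorThruImage ψ) ≫ F.map (Abelian.image.ι ψ) = F.map ψ ≫ 𝟙 _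
          rw [← F.map_comp, Abelian.image.fac, Category.comp_id]
        comm₂₃ := by
          change 𝟙 _ ≫ F.map (cokernel.π ψ) = F.map (cokernel.π ψ) ≫ 𝟙 _
          rw [Category.comp_id, Category.id_comp] }
    haveI : Epi φ.τ₁ := inferInstanceAs (Epi (F.map (Abelian.factorThruImage ψ)))
    haveI : IsIso φ.τ₂ := inferInstanceAs (IsIso (𝟙 _))
    haveI : Mono φ.τ₃ := inferInstanceAs (Mono (𝟙 _))
    exact (ShortComplex.exact_iff_of_epi_of_isIso_of_mono φ).2 h2.exact
  have hcok : IsColimit (CokernelCofork.ofπ (F.map (cokernel.π ψ))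
      (show F.map ψ ≫ F.map (cokernel.π ψ) = 0 by
        rw [← F.map_comp, cokernel.condition, F.map_zero])) := hex.gIsCokernel
  refine ⟨cokernel ψ, hQ, ⟨?_⟩⟩
  refine IsColimit.coconePointUniqueUpToIso hcok (cokernelIsCokernel (F.map ψ)) ≪≫ ?_ ≪≫
    IsColimit.coconePointUniqueUpToIso (cokernelIsCokernel f) hk
  exact cokernel.mapIso (F.map ψ) f e₁ e₂ (by rw [hψ]; simp)

include adj hE in
lemma isClosedUnderExtensions_map : (A.map F).IsClosedUnderExtensions := by
  haveI : PreservesColimitsOfSize.{0, 0} L := adj.leftAdjoint_preservesColimits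
  haveI : PreservesFiniteColimits L := PreservesColimitsOfSize.preservesFiniteColimits L
  refine ⟨?_⟩
  intro S hS h₁ h₃
  have hLS : (S.map L).ShortExact := hS.map_of_exact L
  have hL₁ : A (L.obj S.X₁) := prop_pull_obj adj A h₁
  have hL₃ : A (L.obj S.X₃) := prop_pull_obj adj A h₃
  have hL₂ : A (L.obj S.X₂) := A.prop_X₂_of_shortExact hLS hL₁ hL₃
  have hFLS : ((S.map L).map F).ShortExact := shortExact_map_of_prop adj A hE hLS hL₁
  obtain ⟨N₁, _, ⟨e₁⟩⟩ := h₁
  obtain ⟨N₃, _, ⟨e₃⟩⟩ := h₃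
  let φ : S ⟶ (S.map L).map F :=
    { τ₁ := adj.unit.app S.X₁, τ₂ := adj.unit.app S.X₂, τ₃ := adj.unit.app S.X₃
      comm₁₂ := (adj.unit.naturality S.f).symm
      comm₂₃ := (adj.unit.naturality S.g).symm }
  haveI : IsIso φ.τ₁ := isIso_unit_app_of_iso adj e₁
  haveI : IsIso φ.τ₃ := isIso_unit_app_of_iso adj e₃
  haveI : IsIso (adj.unit.app S.X₂) :=
    ShortComplex.isIso₂_of_shortExact_of_isIso₁₃ φ hS hFLS
  exact ⟨L.obj S.X₂, hL₂, ⟨(asIso (adj.unit.app S.X₂)).symm⟩⟩

include adj hE in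
theorem isWeakSerre_map : WSerre.IsWeakSerre (A.map F) := by
  haveI := containsZero_map adj A
  haveI := isClosedUnderKernels_map adj A
  haveI := isClosedUnderCokernels_map adj A hE
  haveI := isClosedUnderExtensions_map adj A hE
  exact {}

end WS

end Groth.Agent.H6.SiteEq
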