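import Groth.Agent.Lib.Helper6.MDw8

/-! # A local criterion for `H^j(ψ)` to be an isomorphism: bijectivity on `Hom(j_{V!}O[0], -[j])`
for `V` in a basis -/

universe w u
open CategoryTheory Limits Opposite Pretriangulated ZeroObject

namespace Groth.Agent.H6.SiteEq

open Groth.Agent.H6.MD Groth.Agent.H6.DLim Groth.Agent.H6.MDw
open Groth.Agent.LD.SC Groth.Agent.LD.HDSh DerivedCategory Groth.Agent.H2.DTrunc

variable {C : Type u} [SmallCategory C] {J : GrothendieckTopology C} {O : Sheaf J CommRingCat.{u}}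

lemma sheaf_map_comp_apply (F : Sheaf J AddCommGrpCat.{u}) {U V W : C} (f : V ⟶ U) (g : W ⟶ V)
    (s : F.obj.obj (op U)) :
    F.obj.map (g ≫ f).op s = F.obj.map g.op (F.obj.map f.op s) := by
  have h2 : F.obj.map (g ≫ f).op = F.obj.map f.op ≫ F.obj.map g.op := by
    rw [← Functor.map_comp, ← op_comp]
  exact congrArg (fun m => m s) (congrArg AddCommGrpCat.Hom.hom h2)

variable [HasDerivedCategory.{w} (ModSite.Mod O)]

theorem isIso_H0_of_local (B : Set C)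
    (hB : ∀ U : C, ∃ (ι : Type u) (Y : ι → C) (g : ∀ i, Y i ⟶ U),
      Sieve.ofArrows Y g ∈ J U ∧ ∀ i, Y i ∈ B)
    {L K : DerivedCategory (ModSite.Mod O)} (ψ : L ⟶ K)
    (h : ∀ V ∈ B, Function.Bijective (fun w : DZ O V ⟶ L => w ≫ ψ)) :
    IsIso (H0.map ψ) := by
  suffices IsIso ((τ O).map (H0.map ψ)) from isIso_of_reflects_iso _ (τ O)
  refine (Sheaf.isLocallyBijective_iff_isIso ((τ O).map (H0.map ψ))).1 ⟨?_, ?_⟩
  · refine (Sheaf.isLocallyInjective_iff_injective ((τ O).map (H0.map ψ))).2 (fun X => ?_)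
    refine (injective_iff_map_eq_zero (((τ O).map (H0.map ψ)).hom.app X).hom).mpr ?_
    intro s hs
    have hS := liftSieve_mem ψ X.unop s hs
    refine (Sheaf.isSeparated ((τ O).obj (H0.obj L))) X.unop _ hS s 0 ?_
    intro W f hf
    obtain ⟨y, hy1, hy2⟩ := hf
    rw [map_zero]
    obtain ⟨ι, Y, g, hcov, hYB⟩ := hB W
    refine (Sheaf.isSeparated ((τ O).obj (H0.obj L))) W _ hcov _ 0 ?_
    intro W' k hk
    obtain ⟨i, k', rfl⟩ := (Sieve.mem_ofArrows_iff Y g k).mp hk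
    have h0 : DZmap (g i) ≫ y = 0 := by
      apply (h (Y i) (hYB i)).1
      change (DZmap (g i) ≫ y) ≫ ψ = 0 ≫ ψ
      rw [Category.assoc, hy2, comp_zero, zero_comp]
    rw [map_zero, sheaf_map_comp_apply, ← hy1, ← beta_map, h0, beta_zero, map_zero]
  · constructor
    intro U s
    obtain ⟨T₀, hT₀, hT₀'⟩ := beta_locSurj K U s
    refine J.transitive hT₀ _ (fun W f hf => ?_)
    obtain ⟨y, hy⟩ := hT₀' f hf
    obtain ⟨ι, Y, g, hcov, hYB⟩ := hB W
    refine J.superset_covering ?_ hcov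
    intro W' k hk
    obtain ⟨i, k', rfl⟩ := (Sieve.mem_ofArrows_iff Y g k).mp hk
    obtain ⟨z, hz⟩ := (h (Y i) (hYB i)).2 (DZmap (g i) ≫ y)
    have hz' : z ≫ ψ = DZmap (g i) ≫ y := hz
    refine ⟨((τ O).obj (H0.obj L)).obj.map k'.op (beta L (Y i) z), ?_⟩
    have e1 := sheafHom_nat ((τ O).map (H0.map ψ)) k' (beta L (Y i) z)
    refine e1.trans ?_
    rw [← beta_comp, hz', beta_map, hy, ← sheaf_map_comp_apply, ← sheaf_map_comp_apply]

theorem isIso_homology_of_local (B : Set C)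
    (hB : ∀ U : C, ∃ (ι : Type u) (Y : ι → C) (g : ∀ i, Y i ⟶ U),
      Sieve.ofArrows Y g ∈ J U ∧ ∀ i, Y i ∈ B)
    {L K : DerivedCategory (ModSite.Mod O)} (ψ : L ⟶ K) (j : ℤ)
    (h : ∀ V ∈ B, Function.Bijective (fun w : DZ O V ⟶ L⟦j⟧ => w ≫ ψ⟦j⟧')) :
    IsIso ((homologyFunctor (ModSite.Mod O) j).map ψ) :=
  (isIso_H0_shift_iff ψ j).1 (isIso_H0_of_local B hB (ψ⟦j⟧') h)

theorem isZero_homology_of_local (B : Set C)
    (hB : ∀ U : C, ∃ (ι : Type u) (Y : ι → C) (g : ∀ i, Y i ⟶ U),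
      Sieve.ofArrows Y g ∈ J U ∧ ∀ i, Y i ∈ B)
    (K : DerivedCategory (ModSite.Mod O)) (j : ℤ)
    (h : ∀ V ∈ B, ∀ w : DZ O V ⟶ K⟦j⟧, w = 0) :
    IsZero ((homologyFunctor (ModSite.Mod O) j).obj K) := by
  haveI := isIso_homology_of_local B hB (0 : (0 : DerivedCategory (ModSite.Mod O)) ⟶ K) j
    (fun V hV => by
      have hz : IsZero ((0 : DerivedCategory (ModSite.Mod O))⟦j⟧) :=
        (shiftFunctor (DerivedCategory (ModSite.Mod O)) j).map_isZero (isZero_zero _)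
      refine ⟨fun a b _ => hz.eq_of_tgt a b, fun w => ⟨0, ?_⟩⟩
      rw [h V hV w]
      exact zero_comp)
  exact IsZero.of_iso ((homologyFunctor (ModSite.Mod O) j).map_isZero (isZero_zero _))
    (asIso ((homologyFunctor (ModSite.Mod O) j).map
      (0 : (0 : DerivedCategory (ModSite.Mod O)) ⟶ K))).symm

end Groth.Agent.H6.SiteEq
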