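import Groth.Agent.Lib.Helper6.SiteEq5
import Groth.Agent.Lib.Helper6.SiteEq6
import Groth.Agent.Lib.Helper6.SiteEq7

/-! # The comparison morphism `ε : (C, J, O) → (C, J', O)`: `ε_*` is fully faithful, and exact on
short exact sequences whose kernel has vanishing `H¹` on a basis -/

set_option autoImplicit false
universe u
open CategoryTheory CategoryTheory.Limits Opposite DerivedCategory
attribute [local instance] HasDerivedCategory.standard

namespace Groth.Agent.H6.SiteEq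

open Groth.Agent.H6.MDw Groth.Agent.H6.MD Groth.Agent.LD.HDSh

variable {C : Type u} [SmallCategory C] {J J' : GrothendieckTopology C} (h : J' ≤ J)
  (O : Sheaf J CommRingCat.{u})

/-- preimage under `ε_*`. -/
noncomputable def epsPreimg {M N : ModSite.Mod O}
    (φ : (SiteCmp.eps h O).push.obj M ⟶ (SiteCmp.eps h O).push.obj N) : M ⟶ N :=
  ⟨{ app := fun X => φ.val.app X
     naturality := fun f => φ.val.naturality f }⟩

lemma map_epsPreimg {M N : ModSite.Mod O}
    (φ : (SiteCmp.eps h O).push.obj M ⟶ (SiteCmp.eps h O).push.obj N) :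
    (SiteCmp.eps h O).push.map (epsPreimg h O φ) = φ := rfl

lemma epsPreimg_map {M N : ModSite.Mod O} (ψ : M ⟶ N) :
    epsPreimg h O ((SiteCmp.eps h O).push.map ψ) = ψ := rfl

instance full_push : (SiteCmp.eps h O).push.Full :=
  ⟨fun φ => ⟨epsPreimg h O φ, map_epsPreimg h O φ⟩⟩

instance faithful_push : (SiteCmp.eps h O).push.Faithful :=
  ⟨fun {M N} a b hab => by
    have := congrArg (epsPreimg h O) hab
    rwa [epsPreimg_map, epsPreimg_map] at this⟩

variable {O}

/-- sections of a quotient lift over an object on which `H¹` of the kernel vanishes. -/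
lemma exists_lift_section {S : ShortComplex (ModSite.Mod O)} (hS : S.ShortExact) (V : C)
    [Subsingleton (ModSite.HU O S.X₁ 1 V)] (s : ((τ O).obj S.X₃).obj.obj (op V)) :
    ∃ x : ((τ O).obj S.X₂).obj.obj (op V), ((τ O).map S.g).hom.app (op V) x = s := by
  haveI : IsGrothendieckAbelian.{u} (ModSite.Mod O) :=
    Groth.Agent.H1.sheafOfModules_isGrothendieckAbelian _ _
  haveI : HasExt.{u} (ModSite.Mod O) := hasExt_of_enoughInjectives _
  let φ : FO O V ⟶ S.X₃ := (hE V S.X₃).symm s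
  obtain ⟨x₂, hx₂⟩ := Abelian.Ext.covariant_sequence_exact₃ (FO O V) hS (Abelian.Ext.mk₀ φ)
    (n₁ := 1) rfl (ext_FO_eq_zero' V 1 S.X₁ _)
  obtain ⟨t, rfl⟩ := (Abelian.Ext.mk₀_bijective _ _).2 x₂
  rw [Abelian.Ext.mk₀_comp_mk₀] at hx₂
  have ht : t ≫ S.g = φ := (Abelian.Ext.mk₀_bijective _ _).1 hx₂
  refine ⟨hE V S.X₂ t, ?_⟩
  rw [← hE_comp, ht]
  exact (hE V S.X₃).apply_symm_apply s

variable (O) in
/-- `ε_*` is exact on short exact sequences with kernel in `A`. -/
theorem epi_push_map_g (A : ObjectProperty (ModSite.Mod O)) (B : Set C)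
    (h3 : ∀ U : C, ∃ (ι : Type u) (Y : ι → C) (g : ∀ i, Y i ⟶ U),
      Sieve.ofArrows Y g ∈ J' U ∧ ∀ i, Y i ∈ B)
    (h4 : ∀ U ∈ B, ∀ F : ModSite.Mod O, A F → ∀ p : ℕ, 0 < p →
      Subsingleton (ModSite.HU O F p U))
    (S : ShortComplex (ModSite.Mod O)) (hS : S.ShortExact) (h₁ : A S.X₁) :
    Epi ((SiteCmp.eps h O).push.map S.g) := by
  suffices Epi ((τ (SiteCmp.epsRing h O)).map ((SiteCmp.eps h O).push.map S.g)) from
    (τ (SiteCmp.epsRing h O)).epi_of_epi_map this
  refine (Sheaf.isLocallySurjective_iff_epi'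
    (φ := (τ (SiteCmp.epsRing h O)).map ((SiteCmp.eps h O).push.map S.g))).mp ?_
  constructor
  intro U s
  obtain ⟨ι, Y, g, hcov, hYB⟩ := h3 U
  refine J'.superset_covering ?_ hcov
  intro W' k hk
  obtain ⟨i, k', rfl⟩ := (Sieve.mem_ofArrows_iff Y g k).mp hk
  haveI := h4 (Y i) (hYB i) S.X₁ h₁ 1 one_pos
  let s' : ((τ O).obj S.X₃).obj.obj (op U) := s
  obtain ⟨x, hx⟩ := exists_lift_section hS (Y i) (((τ O).obj S.X₃).obj.map (g i).op s')
  refine ⟨((τ O).obj S.X₂).obj.map k'.op x, ?_⟩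
  change ((τ O).map S.g).hom.app (op W') (((τ O).obj S.X₂).obj.map k'.op x) =
    ((τ O).obj S.X₃).obj.map (k' ≫ g i).op s'
  rw [sheafHom_nat, hx, ← sheaf_map_comp_apply]

end Groth.Agent.H6.SiteEq
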