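import Groth.Agent.Lib.Helper6.SiteEq8

/-! # S9071: the derived unit at `ε_*N[0]`, and the main theorem -/

set_option autoImplicit false
universe u
open CategoryTheory CategoryTheory.Limits Opposite DerivedCategory
attribute [local instance] HasDerivedCategory.standard

namespace Groth.Agent.H6.SiteEq

open Groth.Agent.H6.MDw Groth.Agent.H6.MD Groth.Agent.LD.HDSh

section Abstract

universe w₁ w₂ v₁ v₂ u₁ u₂

variable {𝒜 : Type u₁} [Category.{v₁} 𝒜] [Abelian 𝒜] [HasDerivedCategory.{w₁} 𝒜]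
  {ℬ : Type u₂} [Category.{v₂} ℬ] [Abelian ℬ] [HasDerivedCategory.{w₂} ℬ]
  (G : 𝒜 ⥤ ℬ) [G.Additive] [PreservesFiniteLimits G] [PreservesFiniteColimits G]

lemma bijective_mapDerivedCategory_single (X Y : 𝒜)
    (hG : Function.Bijective (fun φ : X ⟶ Y => G.map φ)) :
    Function.Bijective (fun w : (singleFunctor 𝒜 0).obj X ⟶ (singleFunctor 𝒜 0).obj Y =>
      G.mapDerivedCategory.map w) := by
  let σ := G.mapDerivedCategorySingleFunctor 0
  have hnat : ∀ a : X ⟶ Y, G.mapDerivedCategory.map ((singleFunctor 𝒜 0).map a) =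
      σ.hom.app X ≫ (singleFunctor ℬ 0).map (G.map a) ≫ σ.inv.app Y := by
    intro a
    have := σ.hom.naturality a
    simp only [Functor.comp_map] at this
    rw [← Category.assoc, ← this, Category.assoc, Iso.hom_inv_id_app]
    exact (Category.comp_id _).symm
  constructor
  · intro w₁ w₂ hw
    obtain ⟨a₁, rfl⟩ := (singleFunctor 𝒜 0).map_surjective w₁
    obtain ⟨a₂, rfl⟩ := (singleFunctor 𝒜 0).map_surjective w₂
    have hw' : G.mapDerivedCategory.map ((singleFunctor 𝒜 0).map a₁) =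
      G.mapDerivedCategory.map ((singleFunctor 𝒜 0).map a₂) := hw
    rw [hnat, hnat, cancel_epi, cancel_mono] at hw'
    have := (singleFunctor ℬ 0).map_injective hw'
    rw [hG.1 this]
  · intro v
    obtain ⟨b, hb⟩ := (singleFunctor ℬ 0).map_surjective (σ.inv.app X ≫ v ≫ σ.hom.app Y)
    obtain ⟨a, rfl⟩ := hG.2 b
    refine ⟨(singleFunctor 𝒜 0).map a, ?_⟩
    change G.mapDerivedCategory.map ((singleFunctor 𝒜 0).map a) = v
    rw [hnat, hb]
    simp

lemma isIso_of_isZero_of_isZero {T : Type*} [Category T] [HasZeroMorphisms T] {X Y : T}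
    (f : X ⟶ Y) (hX : IsZero X) (hY : IsZero Y) : IsIso f :=
  ⟨⟨0, hX.eq_of_src _ _, hY.eq_of_src _ _⟩⟩

lemma bijective_comp_of_isIso {T : Type*} [Category T] (Z : T) {X Y : T} (g : X ⟶ Y) [IsIso g] :
    Function.Bijective (fun w : Z ⟶ X => w ≫ g) :=
  ⟨fun a b hab => (cancel_mono g).1 hab, fun v => ⟨v ≫ inv g, by simp⟩⟩

end Abstract

section General

variable {C : Type u} [SmallCategory C] {J : GrothendieckTopology C} {O_C : Sheaf J CommRingCat.{u}}
  {D : Type u} [SmallCategory D] {K : GrothendieckTopology D} {O_D : Sheaf K CommRingCat.{u}}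
  (f : ModSite.RMor O_C O_D) [PreservesFiniteLimits f.pull] [SiteCmp.HasRpushD f]
  (adj : SiteCmp.pullD f ⊣ SiteCmp.RpushD f)

include adj in
lemma hom_RpushD_shift_eq_zero (V' : D) (M : DerivedCategory (ModSite.Mod O_C)) (m : ℤ)
    (hM : ∀ w : DZ O_C (f.fn.obj V') ⟶ M⟦m⟧, w = 0)
    (w : DZ O_D V' ⟶ ((SiteCmp.RpushD f).obj M)⟦m⟧) : w = 0 := by
  letI : (SiteCmp.RpushD f).CommShift ℤ := Groth.Agent.H7.WayOut.rCommShift adj
  apply (shiftHomEquiv adj (DZ O_D V') M m).injective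
  have h0 : ∀ a : (SiteCmp.pullD f).obj (DZ O_D V') ⟶ M⟦m⟧, a = 0 := fun a => by
    have := hM ((pullDZIso f V').inv ≫ a)
    rw [← cancel_epi (pullDZIso f V').inv, this, comp_zero]
  rw [h0 (shiftHomEquiv adj (DZ O_D V') M m w), h0 (shiftHomEquiv adj (DZ O_D V') M m 0)]

include adj in
/-- the derived unit at `F'[0]` is an isomorphism when `f^*F'` has no higher cohomology on the
objects `u(V')`, `V'` in a basis, and `f^*` is bijective on `Hom(j_{V'!}O, F')`. -/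
theorem isIso_unit_inD_of (F' : ModSite.Mod O_D) (B' : Set D)
    (hB' : ∀ U : D, ∃ (ι : Type u) (Y : ι → D) (g : ∀ i, Y i ⟶ U),
      Sieve.ofArrows Y g ∈ K U ∧ ∀ i, Y i ∈ B')
    (hvan : ∀ V' ∈ B', ∀ p : ℕ, 0 < p →
      Subsingleton (ModSite.HU O_C (f.pull.obj F') p (f.fn.obj V')))
    (hbij : ∀ V' : D, Function.Bijective (fun φ : FO O_D V' ⟶ F' => f.pull.map φ)) :
    IsIso (adj.unit.app (SiteCmp.inD O_D F')) := by
  rw [DerivedCategory.isIso_iff]
  intro p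
  have hL_GE : ((SiteCmp.pullD f).obj (SiteCmp.inD O_D F')).IsGE 0 :=
    Groth.Agent.H7.WayOut.isGE_mapDerivedCategory f.pull _ 0 inferInstance
  haveI hR_GE : ((SiteCmp.RpushD f).obj ((SiteCmp.pullD f).obj (SiteCmp.inD O_D F'))).IsGE 0 :=
    Groth.Agent.H7.WayOut.isGE_rightAdjoint adj
      (fun Y n hY => Groth.Agent.H7.WayOut.isLE_mapDerivedCategory f.pull Y n hY) _ 0 hL_GE
  rcases lt_trichotomy p 0 with hp | rfl | hp
  · exact isIso_of_isZero_of_isZero _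
      (DerivedCategory.isZero_of_isGE (SiteCmp.inD O_D F') 0 p hp)
      (@DerivedCategory.isZero_of_isGE _ _ _ _
        ((SiteCmp.RpushD f).obj ((SiteCmp.pullD f).obj (SiteCmp.inD O_D F'))) 0 p hp hR_GE)
  · refine isIso_H0_of_local B' hB' (adj.unit.app (SiteCmp.inD O_D F')) (fun V _ => ?_)
    refine (bijective_comp_unit_iff adj (DZ O_D V) (SiteCmp.inD O_D F')).2 ?_
    exact bijective_mapDerivedCategory_single f.pull (FO O_D V) F' (hbij V)
  · refine isIso_of_isZero_of_isZero _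
      (DerivedCategory.isZero_of_isLE (SiteCmp.inD O_D F') 0 p hp) ?_
    refine isZero_homology_of_local B' hB' _ p (fun V hV w => ?_)
    refine hom_RpushD_shift_eq_zero f adj V _ p (fun w' => ?_) w
    refine hom_shift_eq_zero_of_iso_single (f.fn.obj V) (f.pull.obj F') 0 p
      ((f.pull.mapDerivedCategorySingleFunctor 0).app F') (fun k hk => ?_) w'
    exact hvan V hV k (by omega)

end General

section Refine

variable {C : Type u} [SmallCategory C]

/-- refine a covering sieve by a covering family of members of a basis. -/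
lemma exists_refinement (K : GrothendieckTopology C) (B : Set C)
    (hB : ∀ U : C, ∃ (ι : Type u) (Y : ι → C) (g : ∀ i, Y i ⟶ U),
      Sieve.ofArrows Y g ∈ K U ∧ ∀ i, Y i ∈ B)
    (V : C) (T : Sieve V) (hT : T ∈ K V) :
    ∃ (ι : Type u) (Y : ι → C) (g : ∀ i, Y i ⟶ V),
      (∀ i, T.arrows (g i)) ∧ Sieve.ofArrows Y g ∈ K V ∧ ∀ i, Y i ∈ B := by
  choose ι₀ Y₀ g₀ hcov₀ hB₀ using hB
  refine ⟨Σ (W : C), Σ (_ : {f : W ⟶ V // T f}), ι₀ W, fun i => Y₀ i.1 i.2.2,
    fun i => g₀ i.1 i.2.2 ≫ i.2.1.1, fun i => T.downward_closed i.2.1.2 _, ?_,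
    fun i => hB₀ i.1 i.2.2⟩
  refine K.transitive hT _ (fun W f hf => ?_)
  refine K.superset_covering ?_ (hcov₀ W)
  intro W' k hk
  obtain ⟨i, k', rfl⟩ := (Sieve.mem_ofArrows_iff (Y₀ W) (g₀ W) k).mp hk
  exact (Sieve.mem_ofArrows_iff _ _ _).mpr ⟨⟨W, ⟨f, hf⟩, i⟩, k', by simp⟩

end Refine

section Eps

variable {C : Type u} [SmallCategory C] {J J' : GrothendieckTopology C} (h : J' ≤ J)
  (O : Sheaf J CommRingCat.{u})
  [PreservesFiniteLimits (SiteCmp.eps h O).pull] [SiteCmp.HasRpushD (SiteCmp.eps h O)]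
  (adj : SiteCmp.pullD (SiteCmp.eps h O) ⊣ SiteCmp.RpushD (SiteCmp.eps h O))
  (A : ObjectProperty (ModSite.Mod O)) [WSerre.IsWeakSerre A] (B : Set C)
  (h3 : ∀ U : C, ∃ (ι : Type u) (Y : ι → C) (g : ∀ i, Y i ⟶ U),
    Sieve.ofArrows Y g ∈ J' U ∧ ∀ i, Y i ∈ B)
  (h4 : ∀ U ∈ B, ∀ F : ModSite.Mod O, A F → ∀ p : ℕ, 0 < p → Subsingleton (ModSite.HU O F p U))

include h3 h4 in
theorem s9071 :
    WSerre.IsWeakSerre (A.map (SiteCmp.eps h O).push) ∧
    (∀ Y : DerivedCategory (ModSite.Mod (SiteCmp.epsRing h O)),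
      WSerre.cohIn (A.map (SiteCmp.eps h O).push) Y →
      WSerre.cohIn A ((SiteCmp.pullD (SiteCmp.eps h O)).obj Y) ∧ IsIso (adj.unit.app Y)) ∧
    (∀ X : DerivedCategory (ModSite.Mod O), WSerre.cohIn A X →
      WSerre.cohIn (A.map (SiteCmp.eps h O).push) ((SiteCmp.RpushD (SiteCmp.eps h O)).obj X) ∧
      IsIso (adj.counit.app X)) := by
  haveI hW : WSerre.IsWeakSerre (A.map (SiteCmp.eps h O).push) :=
    isWeakSerre_map (SiteCmp.eps h O).adj A (epi_push_map_g h O A B h3 h4)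
  refine ⟨hW, ?_⟩
  have hunit : ∀ F' : ModSite.Mod (SiteCmp.epsRing h O), A.map (SiteCmp.eps h O).push F' →
      IsIso ((SiteCmp.eps h O).adj.unit.app F') := by
    rintro F' ⟨N, _, ⟨e⟩⟩
    exact isIso_unit_app_of_iso (SiteCmp.eps h O).adj e
  have hbij : ∀ (Z F' : ModSite.Mod (SiteCmp.epsRing h O)), A.map (SiteCmp.eps h O).push F' →
      Function.Bijective (fun φ : Z ⟶ F' => (SiteCmp.eps h O).pull.map φ) := by
    intro Z F' hF'
    haveI := hunit F' hF'
    exact (bijective_comp_unit_iff (SiteCmp.eps h O).adj Z F').1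
      (bijective_comp_of_isIso Z ((SiteCmp.eps h O).adj.unit.app F'))
  have hBJ : ∀ U : C, ∃ (ι : Type u) (Y : ι → C) (g : ∀ i, Y i ⟶ U),
      Sieve.ofArrows Y g ∈ J U ∧ ∀ i, Y i ∈ B := by
    intro U
    obtain ⟨ι, Y, g, hcov, hYB⟩ := h3 U
    exact ⟨ι, Y, g, h _ hcov, hYB⟩
  refine s9080 (SiteCmp.eps h O) adj A (A.map (SiteCmp.eps h O).push)
    (fun F' hF' => prop_pull_obj (SiteCmp.eps h O).adj A hF')
    (fun F' G' _ hG' => hbij F' G' hG')
    (fun F hF => ⟨(SiteCmp.eps h O).push.obj F, A.prop_map_obj _ hF,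
      ⟨asIso ((SiteCmp.eps h O).adj.counit.app F)⟩⟩)
    (fun F' hF' => isIso_unit_inD_of (SiteCmp.eps h O) adj F' B h3
      (fun V hV p hp => h4 V hV _ (prop_pull_obj (SiteCmp.eps h O).adj A hF') p hp)
      (fun V => hbij _ F' hF'))
    B B hBJ ?_ h3 ?_
  · intro V _
    refine ⟨0, fun T hT => ?_⟩
    obtain ⟨ι, Y, g, h1, h2, hYB⟩ := exists_refinement J B hBJ V T hT
    exact ⟨ι, Y, g, h1, h2, fun i F hF k hk => h4 (Y i) (hYB i) F hF k hk⟩
  · intro V _
    refine ⟨0, fun T hT => ?_⟩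
    obtain ⟨ι, Y, g, h1, h2, hYB⟩ := exists_refinement J' B h3 V T hT
    exact ⟨ι, Y, g, h1, h2, fun i F hF k hk => h4 (Y i) (hYB i) F hF k hk⟩

end Eps

end Groth.Agent.H6.SiteEq
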