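import Mathlib
import Groth.Agent.Lib.Helper6.BCInj1

/-! Spreading out weakly regular sequences from a localization at a prime to a basic open. -/

universe u
set_option linter.style.haveILetI false
set_option autoImplicit false
open scoped Pointwise

namespace Groth.Agent.H6

namespace Sk121

variable {A : Type u} [CommRing A] (M : Type u) [AddCommGroup M] [Module A M]

theorem mk_add_same (T : Submonoid A) (y z : M) (t : T) :
    (LocalizedModule.mk (y + z) t : LocalizedModule T M) =
      LocalizedModule.mk y t + LocalizedModule.mk z t := by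
  rw [LocalizedModule.mk_add_mk, ← smul_add, LocalizedModule.mk_cancel_common_left]

/-- elements of `I • ⊤` in a localized module -/
theorem mem_smul_top_localized_iff (T : Submonoid A) (I : Ideal A) (y : LocalizedModule T M) :
    y ∈ I • (⊤ : Submodule A (LocalizedModule T M)) ↔
      ∃ m' ∈ I • (⊤ : Submodule A M), ∃ t : T, y = LocalizedModule.mk m' t := by
  constructor
  · intro hy
    refine Submodule.smul_induction_on hy ?_ ?_
    · intro a ha n _
      induction n using LocalizedModule.induction_on with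
      | h m t =>
        exact ⟨a • m, Submodule.smul_mem_smul ha Submodule.mem_top, t,
          LocalizedModule.smul'_mk a m t⟩
    · rintro y z ⟨m1, hm1, t1, rfl⟩ ⟨m2, hm2, t2, rfl⟩
      refine ⟨t2 • m1 + t1 • m2, ?_, t1 * t2, LocalizedModule.mk_add_mk⟩
      exact Submodule.add_mem _ (Submodule.smul_mem _ _ hm1) (Submodule.smul_mem _ _ hm2)
  · rintro ⟨m', hm', t, rfl⟩
    refine Submodule.smul_induction_on hm' ?_ ?_
    · intro a ha n _
      rw [← LocalizedModule.smul'_mk]
      exact Submodule.smul_mem_smul ha Submodule.mem_top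
    · intro y z hy hz
      rw [mk_add_same]
      exact Submodule.add_mem _ hy hz

/-- regularity of `x` on `M_T / I M_T`, elementwise -/
def Reg (T : Submonoid A) (I : Ideal A) (x : A) : Prop :=
  ∀ n : LocalizedModule T M, x • n ∈ I • (⊤ : Submodule A (LocalizedModule T M)) →
    n ∈ I • (⊤ : Submodule A (LocalizedModule T M))

variable [IsNoetherianRing A] [Module.Finite A M]

theorem exists_spread_reg (p : Ideal A) [hp : p.IsPrime] (I : Ideal A) (x : A)
    (h : Reg M p.primeCompl I x) :
    ∃ g0 : A, g0 ∉ p ∧ ∀ g : A, g0 ∣ g → Reg M (Submonoid.powers g) I x := by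
  let K : Submodule A M := (I • (⊤ : Submodule A M)).comap (LinearMap.lsmul A M x)
  have hK : ∀ m ∈ K, ∃ s ∈ p.primeCompl, s • m ∈ I • (⊤ : Submodule A M) := by
    intro m hm
    have h1 : x • (LocalizedModule.mk m 1 : LocalizedModule p.primeCompl M) ∈
        I • (⊤ : Submodule A (LocalizedModule p.primeCompl M)) := by
      rw [LocalizedModule.smul'_mk, mem_smul_top_localized_iff]
      exact ⟨x • m, hm, 1, rfl⟩
    have h2 := h _ h1
    rw [mem_smul_top_localized_iff] at h2
    obtain ⟨m', hm', t, heq⟩ := h2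
    rw [LocalizedModule.mk_eq] at heq
    obtain ⟨u, hu⟩ := heq
    refine ⟨u * t, (u * t).2, ?_⟩
    have : ((u : A) * (t : A)) • m = u • (1 : p.primeCompl) • m' := by
      rw [← hu]
      simp [mul_smul, Submonoid.smul_def]
    change ((u : A) * (t : A)) • m ∈ _
    rw [this]
    exact Submodule.smul_mem _ _ (Submodule.smul_mem _ _ hm')
  -- common multiplier
  have hfg : (K.map (I • (⊤ : Submodule A M)).mkQ).FG :=
    Submodule.FG.map _ (IsNoetherian.noetherian K)
  obtain ⟨g0, hg0, hg0K⟩ := BCInj.exists_smul_eq_zero_of_fg p.primeCompl _ hfg (by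
    rintro _ ⟨m, hm, rfl⟩
    obtain ⟨s, hs, hsm⟩ := hK m hm
    refine ⟨s, hs, ?_⟩
    rw [← map_smul, Submodule.mkQ_apply, Submodule.Quotient.mk_eq_zero]
    exact hsm)
  have hg0K' : ∀ m ∈ K, g0 • m ∈ I • (⊤ : Submodule A M) := by
    intro m hm
    have := hg0K _ ⟨m, hm, rfl⟩
    rwa [← map_smul, Submodule.mkQ_apply, Submodule.Quotient.mk_eq_zero] at this
  refine ⟨g0, hg0, ?_⟩
  rintro g ⟨c, hc⟩ n hn
  have hgc : g = c * g0 := by rw [hc, mul_comm]
  induction n using LocalizedModule.induction_on with
  | h m t =>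
    rw [LocalizedModule.smul'_mk, mem_smul_top_localized_iff] at hn
    obtain ⟨m', hm', t', heq⟩ := hn
    rw [LocalizedModule.mk_eq] at heq
    obtain ⟨u, hu⟩ := heq
    obtain ⟨y, hy⟩ : ∃ y : M, y = ((u : A) * (t' : A)) • m := ⟨_, rfl⟩
    -- `y ∈ K`
    have hmK : y ∈ K := by
      change x • y ∈ I • (⊤ : Submodule A M)
      have : x • y = u • t • m' := by
        rw [← hu, hy]
        simp [mul_smul, Submonoid.smul_def, smul_comm x]
      rw [this]
      exact Submodule.smul_mem _ _ (Submodule.smul_mem _ _ hm')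
    have h3 := hg0K' _ hmK
    have h4 : g • y ∈ I • (⊤ : Submodule A M) := by
      have : g • y = c • (g0 • y) := by
        rw [← mul_smul]
        exact congrArg (fun a : A => a • y) hgc
      rw [this]
      exact Submodule.smul_mem _ _ h3
    rw [mem_smul_top_localized_iff]
    let s : Submonoid.powers g := ⟨g, Submonoid.mem_powers _⟩ * (u * t')
    refine ⟨(s : A) • m, ?_, s * t, ?_⟩
    · change (g * ((u : A) * (t' : A))) • m ∈ _
      rw [mul_smul, ← hy]
      exact h4
    · exact (LocalizedModule.mk_cancel_common_left s t m).symm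


open RingTheory.Sequence in
/-- **spreading out** a weakly regular sequence -/
theorem exists_spread (p : Ideal A) [hp : p.IsPrime] (xs : List A)
    (h : IsWeaklyRegular (LocalizedModule p.primeCompl M) xs) :
    ∃ g0 : A, g0 ∉ p ∧ ∀ g : A, g0 ∣ g →
      IsWeaklyRegular (LocalizedModule (Submonoid.powers g) M) xs := by
  rw [isWeaklyRegular_iff] at h
  have h' : ∀ i : Fin xs.length, Reg M p.primeCompl (Ideal.ofList (xs.take i)) xs[i] :=
    fun i => (isSMulRegular_quotient_iff_mem_of_smul_mem _ _).mp (h i i.2)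
  choose g0 hg0 hg0' using fun i => exists_spread_reg M p _ _ (h' i)
  refine ⟨∏ i, g0 i, ?_, ?_⟩
  · intro hmem
    obtain ⟨i, -, hi⟩ := (Ideal.IsPrime.prod_mem_iff (hp := hp)).mp hmem
    exact hg0 i hi
  · intro g hg
    rw [isWeaklyRegular_iff]
    intro i hi
    rw [isSMulRegular_quotient_iff_mem_of_smul_mem]
    exact hg0' ⟨i, hi⟩ g ((Finset.dvd_prod_of_mem _ (Finset.mem_univ _)).trans hg)

end Sk121

end Groth.Agent.H6
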