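import Mathlib
import Groth.Agent.Lib.Helper6.DepthKit
import Groth.Agent.Lib.Helper6.LCDepth

/-! Regular sequences of global elements computing the depth of a localization. -/

universe u
set_option linter.style.haveILetI false
set_option autoImplicit false
open scoped Pointwise
open RingTheory.Sequence IsLocalRing

namespace Groth.Agent.H6

namespace Sk121

/-- multiplying the members of a weakly regular sequence by units -/
theorem isWeaklyRegular_of_unit_mul {R : Type u} [CommRing R] (ys zs : List R)
    (h : List.Forall₂ (fun (y z : R) => ∃ u : Rˣ, z = (u : R) * y) ys zs) :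
    ∀ (N : Type u) [AddCommGroup N] [Module R N], IsWeaklyRegular N ys → IsWeaklyRegular N zs := by
  induction h with
  | nil => intro N _ _ h; exact h
  | @cons y z ys zs hyz _ ih =>
    intro N _ _ hreg
    obtain ⟨u, rfl⟩ := hyz
    rw [isWeaklyRegular_cons_iff] at hreg ⊢
    refine ⟨?_, ?_⟩
    · exact IsSMulRegular.mul (u.isUnit.isSMulRegular N) hreg.1
    · have heq : ((u : R) * y) • (⊤ : Submodule R N) = y • (⊤ : Submodule R N) := by
        ext n
        rw [Submodule.mem_smul_pointwise_iff_exists, Submodule.mem_smul_pointwise_iff_exists]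
        constructor
        · rintro ⟨b, -, rfl⟩
          exact ⟨(u : R) • b, Submodule.mem_top, by rw [← mul_smul, mul_comm]⟩
        · rintro ⟨b, -, rfl⟩
          refine ⟨((u⁻¹ : Rˣ) : R) • b, Submodule.mem_top, ?_⟩
          rw [← mul_smul, mul_assoc, mul_comm y, ← mul_assoc, Units.mul_inv, one_mul]
      exact (LinearEquiv.isWeaklyRegular_congr (Submodule.quotEquivOfEq _ _ heq) _).mpr
        (ih _ hreg.2)

variable {A : Type u} [CommRing A]

theorem exists_lift_list (p : Ideal A) [p.IsPrime] (ys : List (Localization.AtPrime p))
    (hys : ∀ y ∈ ys, y ∈ maximalIdeal (Localization.AtPrime p)) :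
    ∃ xs : List A, (∀ x ∈ xs, x ∈ p) ∧
      List.Forall₂ (fun (y z : Localization.AtPrime p) =>
          ∃ u : (Localization.AtPrime p)ˣ, z = (u : Localization.AtPrime p) * y) ys
        (xs.map (algebraMap A (Localization.AtPrime p))) := by
  induction ys with
  | nil => exact ⟨[], by simp, by simp⟩
  | cons y ys ih =>
    obtain ⟨xs, hxs, hF⟩ := ih (fun z hz => hys z (List.mem_cons_of_mem _ hz))
    obtain ⟨⟨a, s⟩, has⟩ := IsLocalization.surj p.primeCompl y
    have hu : IsUnit (algebraMap A (Localization.AtPrime p) s) :=
      IsLocalization.map_units _ s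
    refine ⟨a :: xs, ?_, ?_⟩
    · intro x hx
      rcases List.mem_cons.mp hx with rfl | hx
      · rw [← IsLocalization.AtPrime.to_map_mem_maximal_iff (Localization.AtPrime p) p]
        change algebraMap A (Localization.AtPrime p) x ∈ _
        have : algebraMap A (Localization.AtPrime p) x =
            y * algebraMap A (Localization.AtPrime p) s := has.symm
        rw [this]
        exact Ideal.mul_mem_right _ _ (hys y (List.mem_cons_self))
      · exact hxs x hx
    · rw [List.map_cons]
      refine List.Forall₂.cons ⟨hu.unit, ?_⟩ hF
      rw [IsUnit.unit_spec, mul_comm]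
      exact has.symm

variable [IsNoetherianRing A] (M : Type u) [AddCommGroup M] [Module A M] [Module.Finite A M]

/-- global elements of `p` forming a weakly regular sequence on `M_p` of any length up to the
depth -/
theorem exists_regular_of_le_depth (p : Ideal A) [hp : p.IsPrime]
    [hnt : Nontrivial (LocalizedModule p.primeCompl M)] (d : ℕ)
    (hd : (d : ℕ∞) ≤ LocCoh.depth (Localization.AtPrime p) (LocalizedModule p.primeCompl M)) :
    ∃ xs : List A, xs.length = d ∧ (∀ x ∈ xs, x ∈ p) ∧
      IsWeaklyRegular (LocalizedModule p.primeCompl M) xs := by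
  haveI : IsNoetherianRing (Localization.AtPrime p) :=
    IsLocalization.isNoetherianRing p.primeCompl _ inferInstance
  haveI : Module.Finite (Localization.AtPrime p) (LocalizedModule p.primeCompl M) :=
    Module.Finite.of_isLocalizedModule p.primeCompl (LocalizedModule.mkLinearMap p.primeCompl M)
  have hvan := (Depth.le_idealDepth_iff (maximalIdeal (Localization.AtPrime p))
    (LocalizedModule p.primeCompl M) d).mp hd
  have smul_lt : maximalIdeal (Localization.AtPrime p) •
      (⊤ : Submodule (Localization.AtPrime p)
        (ModuleCat.of (Localization.AtPrime p) (LocalizedModule p.primeCompl M))) < ⊤ := by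
    rw [lt_top_iff_ne_top]
    intro htop
    have hbot : (⊤ : Submodule (Localization.AtPrime p) (LocalizedModule p.primeCompl M)) = ⊥ :=
      Submodule.eq_bot_of_le_smul_of_le_jacobson_bot _ _ Module.Finite.fg_top
        (le_of_eq htop.symm) (IsLocalRing.maximalIdeal_le_jacobson _)
    have := (Submodule.subsingleton_iff (Localization.AtPrime p)).mp
      (subsingleton_of_bot_eq_top hbot.symm)
    exact not_subsingleton _ this
  haveI hfin : Module.Finite (Localization.AtPrime p)
      (ModuleCat.of (Localization.AtPrime p) (LocalizedModule p.primeCompl M)) :=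
    ‹Module.Finite (Localization.AtPrime p) (LocalizedModule p.primeCompl M)›
  obtain ⟨ys, hlen, hmem, hreg⟩ := LC.exists_isRegular_of_subsingleton
    (maximalIdeal (Localization.AtPrime p)) d
    (ModuleCat.of (Localization.AtPrime p) (LocalizedModule p.primeCompl M)) smul_lt hvan
  obtain ⟨xs, hxs, hF⟩ := exists_lift_list p ys hmem
  have h1 := isWeaklyRegular_of_unit_mul ys _ hF (LocalizedModule p.primeCompl M) hreg.1
  have h2 := (isWeaklyRegular_map_algebraMap_iff (Localization.AtPrime p)
    (LocalizedModule p.primeCompl M) xs).mp h1
  refine ⟨xs, ?_, hxs, h2⟩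
  have := hF.length_eq
  rw [List.length_map] at this
  rw [← this, hlen]

end Sk121

end Groth.Agent.H6
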