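import Mathlib
import Groth.Agent.Lib.Helper6.Sk121a

/-! Depth and dimension of quotients by regular sequences, localized at a prime. -/

universe u
set_option linter.style.haveILetI false
set_option autoImplicit false
open scoped Pointwise
open RingTheory.Sequence IsLocalRing

namespace Groth.Agent.H6

namespace Sk121

variable {B : Type u} [CommRing B] [IsNoetherianRing B] (Q : Ideal B) [hQ : Q.IsPrime]

theorem depth_dim_quot_ofList (rs : List B) :
    ∀ (N : Type u) [AddCommGroup N] [Module B N] [Module.Finite B N],
      IsWeaklyRegular N rs → (∀ r ∈ rs, r ∈ Q) →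
      LocCoh.depth (Localization.AtPrime Q)
          (LocalizedModule Q.primeCompl (N ⧸ (Ideal.ofList rs • (⊤ : Submodule B N)))) +
          (rs.length : ℕ∞) ≤
        LocCoh.depth (Localization.AtPrime Q) (LocalizedModule Q.primeCompl N) ∧
      Module.supportDim (Localization.AtPrime Q)
          (LocalizedModule Q.primeCompl (N ⧸ (Ideal.ofList rs • (⊤ : Submodule B N)))) +
          (rs.length : WithBot ℕ∞) =
        Module.supportDim (Localization.AtPrime Q) (LocalizedModule Q.primeCompl N) := by
  induction rs with
  | nil =>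
    intro N _ _ _ _ _
    have hbot : Ideal.ofList ([] : List B) • (⊤ : Submodule B N) = ⊥ := by
      rw [Ideal.ofList_nil, Submodule.bot_smul]
    obtain ⟨h1, h2⟩ := SkLoc.depth_and_dim_congr _ (Submodule.quotEquivOfEqBot _ hbot) Q
    rw [h1, h2]
    simp
  | cons x rs ih =>
    intro N _ _ _ hreg hmem
    rw [isWeaklyRegular_cons_iff] at hreg
    have hxQ : x ∈ Q := hmem x List.mem_cons_self
    obtain ⟨ih1, ih2⟩ := ih (QuotSMulTop x N) hreg.2
      (fun r hr => hmem r (List.mem_cons_of_mem _ hr))
    obtain ⟨h1, h2⟩ := SkLoc.depth_and_dim_congr _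
      (Submodule.quotOfListConsSMulTopEquivQuotSMulTopInner N x rs) Q
    have h3 := SkLift.depth_quot_add_one_le N x hreg.1 Q hxQ
    have h4 := SkLift.supportDim_quot_add_one N x hreg.1 Q hxQ
    rw [h1, h2, List.length_cons]
    constructor
    · calc _ = (LocCoh.depth (Localization.AtPrime Q) (LocalizedModule Q.primeCompl
            (QuotSMulTop x N ⧸ (Ideal.ofList rs • (⊤ : Submodule B (QuotSMulTop x N))))) +
            (rs.length : ℕ∞)) + 1 := by push_cast; rw [add_assoc]
        _ ≤ LocCoh.depth (Localization.AtPrime Q)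
            (LocalizedModule Q.primeCompl (QuotSMulTop x N)) + 1 := by gcongr
        _ ≤ _ := h3
    · rw [← h4, ← ih2]
      push_cast
      rw [add_assoc]

end Sk121

end Groth.Agent.H6
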