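import Mathlib
import Groth.Agent.Lib.Helper6.Sk121b
import Groth.Agent.Lib.Helper6.Sk121c
import Groth.Agent.Lib.Helper6.Sk121d
import Groth.Agent.Lib.Helper6.Sk121e

/-! S12121: `(S_k)` iff quotients by regular sequences have no embedded primes. -/

universe u
set_option linter.style.haveILetI false
set_option autoImplicit false
open scoped Pointwise
open RingTheory.Sequence IsLocalRing

namespace Groth.Agent.H6

namespace Sk121

variable {B : Type u} [CommRing B] [IsNoetherianRing B]
  (N : Type u) [AddCommGroup N] [Module B N] [Module.Finite B N]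

/-- a prime of support dimension at least one contains strictly an associated prime -/
theorem exists_ass_lt (Q : Ideal B) [hQ : Q.IsPrime]
    (h : (1 : WithBot ℕ∞) ≤ Module.supportDim (Localization.AtPrime Q)
      (LocalizedModule Q.primeCompl N)) :
    ∃ Q' ∈ associatedPrimes B N, Q' < Q := by
  unfold Module.supportDim at h
  rw [Order.one_le_krullDim_iff] at h
  obtain ⟨⟨x, hx⟩, ⟨y, hy⟩, hxy⟩ := h
  have hxy' : x.asIdeal < y.asIdeal := hxy
  rw [Sk.mem_support_localizedModule_iff] at hx
  set Q1 := x.asIdeal.comap (algebraMap B (Localization.AtPrime Q)) with hQ1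
  set Q2 := y.asIdeal.comap (algebraMap B (Localization.AtPrime Q)) with hQ2
  have h12 : Q1 < Q2 := by
    refine lt_of_le_of_ne (Ideal.comap_mono hxy'.le) fun heq => ?_
    have hx' : Q1.map (algebraMap B (Localization.AtPrime Q)) = x.asIdeal :=
      IsLocalization.map_under Q.primeCompl (Localization.AtPrime Q) x.asIdeal
    have hy' : Q2.map (algebraMap B (Localization.AtPrime Q)) = y.asIdeal :=
      IsLocalization.map_under Q.primeCompl (Localization.AtPrime Q) y.asIdeal
    rw [heq, hy'] at hx'
    exact hxy'.ne hx'.symm
  have h2Q : Q2 ≤ Q := SkLift.comap_le y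
  have hann : Module.annihilator B N ≤ Q1 := Module.mem_support_iff_of_finite.mp hx
  haveI : Q1.IsPrime := Ideal.IsPrime.comap _
  obtain ⟨Q', hQ', hle⟩ := Ideal.exists_minimalPrimes_le hann
  exact ⟨Q', Module.associatedPrimes.minimalPrimes_annihilator_subset_associatedPrimes B N hQ',
    lt_of_le_of_lt hle (lt_of_lt_of_le h12 h2Q)⟩


section Backward

variable {A : Type u} [CommRing A] [IsNoetherianRing A]
  (M : Type u) [AddCommGroup M] [Module A M] [Module.Finite A M]

/-- backward direction of S12121 -/
theorem backward (k : ℕ)
    (hC : ∀ (g : A) (rs : List (Localization.Away g)), rs.length < k →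
        IsWeaklyRegular (LocalizedModule (Submonoid.powers g) M) rs →
        ∀ p ∈ associatedPrimes (Localization.Away g)
            (LocalizedModule (Submonoid.powers g) M ⧸
              (Ideal.ofList rs • (⊤ : Submodule (Localization.Away g)
                (LocalizedModule (Submonoid.powers g) M)))),
          ∀ q ∈ associatedPrimes (Localization.Away g)
            (LocalizedModule (Submonoid.powers g) M ⧸
              (Ideal.ofList rs • (⊤ : Submodule (Localization.Away g)
                (LocalizedModule (Submonoid.powers g) M)))),
            p ≤ q → p = q) :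
    LocCoh.HasSk k A M := by
  intro p hp
  haveI : IsNoetherianRing (Localization.AtPrime p) :=
    IsLocalization.isNoetherianRing p.primeCompl _ inferInstance
  haveI : Module.Finite (Localization.AtPrime p) (LocalizedModule p.primeCompl M) :=
    Module.Finite.of_isLocalizedModule p.primeCompl (LocalizedModule.mkLinearMap p.primeCompl M)
  by_cases hnt : Nontrivial (LocalizedModule p.primeCompl M)
  swap
  · rw [not_nontrivial_iff_subsingleton] at hnt
    rw [Module.supportDim_eq_bot_of_subsingleton]
    simp
  obtain ⟨d, hd, hdle⟩ := Depth.exists_depth_eq (R := Localization.AtPrime p)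
    (LocalizedModule p.primeCompl M)
  rw [hd]
  by_contra hcon
  rw [not_le, lt_min_iff] at hcon
  obtain ⟨hdk, hdδ⟩ := hcon
  have hdk' : d < k := by exact_mod_cast hdk
  obtain ⟨xs, hlen, hxp, hreg⟩ := exists_regular_of_le_depth M p d (by rw [hd])
  obtain ⟨g, hg, hspread⟩ := exists_spread M p xs hreg
  have hregg := hspread g dvd_rfl
  haveI : IsNoetherianRing (Localization.Away g) :=
    IsLocalization.isNoetherianRing (Submonoid.powers g) _ inferInstance
  haveI : Module.Finite (Localization.Away g) (LocalizedModule (Submonoid.powers g) M) :=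
    Module.Finite.of_isLocalizedModule (Submonoid.powers g)
      (LocalizedModule.mkLinearMap (Submonoid.powers g) M)
  set rs := xs.map (algebraMap A (Localization.Away g)) with hrs
  have hrsreg : IsWeaklyRegular (LocalizedModule (Submonoid.powers g) M) rs :=
    (isWeaklyRegular_map_algebraMap_iff (Localization.Away g)
      (LocalizedModule (Submonoid.powers g) M) xs).mpr hregg
  have hrslen : rs.length = d := by rw [hrs, List.length_map, hlen]
  have hdisj : Disjoint (Submonoid.powers g : Set A) (p : Set A) := by
    rw [Set.disjoint_left]
    rintro _ ⟨n, rfl⟩ hmem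
    exact hg (hp.mem_of_pow_mem n hmem)
  set Q := p.map (algebraMap A (Localization.Away g)) with hQdef
  haveI hQ : Q.IsPrime :=
    IsLocalization.isPrime_of_isPrime_disjoint (Submonoid.powers g) _ p hp hdisj
  have hcomap : Q.comap (algebraMap A (Localization.Away g)) = p :=
    IsLocalization.under_map_of_isPrime_disjoint (Submonoid.powers g) _ hp hdisj
  have hrsQ : ∀ r ∈ rs, r ∈ Q := by
    intro r hr
    rw [hrs, List.mem_map] at hr
    obtain ⟨x, hx, rfl⟩ := hr
    exact Ideal.mem_map_of_mem _ (hxp x hx)
  obtain ⟨key1, key2⟩ := depth_dim_quot_ofList Q rs (LocalizedModule (Submonoid.powers g) M)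
    hrsreg hrsQ
  obtain ⟨hdd1, hdd2⟩ := depth_and_dim_double M (Submonoid.powers g) Q
  haveI : (Q.comap (algebraMap A (Localization.Away g))).IsPrime := Ideal.IsPrime.comap _
  have e1 : LocCoh.depth (Localization.AtPrime (Q.comap (algebraMap A (Localization.Away g))))
      (LocalizedModule (Q.comap (algebraMap A (Localization.Away g))).primeCompl M) = d := by
    rw [SkLift.depth_congr_ideal M hcomap, hd]
  have e2 : Module.supportDim
      (Localization.AtPrime (Q.comap (algebraMap A (Localization.Away g))))
      (LocalizedModule (Q.comap (algebraMap A (Localization.Away g))).primeCompl M) =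
      Module.supportDim (Localization.AtPrime p) (LocalizedModule p.primeCompl M) := by
    have : ∀ (q q' : Ideal A) [q.IsPrime] [q'.IsPrime], q = q' →
        Module.supportDim (Localization.AtPrime q) (LocalizedModule q.primeCompl M) =
        Module.supportDim (Localization.AtPrime q') (LocalizedModule q'.primeCompl M) := by
      intro q q' _ _ h
      subst h
      rfl
    exact this _ _ hcomap
  rw [hdd1, e1, hrslen] at key1
  rw [hdd2, e2, hrslen] at key2
  -- depth zero
  set N := LocalizedModule (Submonoid.powers g) M ⧸
    (Ideal.ofList rs • (⊤ : Submodule (Localization.Away g)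
      (LocalizedModule (Submonoid.powers g) M))) with hN
  have hdepth0 : LocCoh.depth (Localization.AtPrime Q) (LocalizedModule Q.primeCompl N) = 0 := by
    have hfin : LocCoh.depth (Localization.AtPrime Q) (LocalizedModule Q.primeCompl N) ≠ ⊤ := by
      intro htop
      rw [htop] at key1
      simp at key1
    obtain ⟨e, he⟩ := ENat.ne_top_iff_exists.mp hfin
    rw [← he] at key1 ⊢
    have : e + d ≤ d := by exact_mod_cast key1
    have : e = 0 := by omega
    rw [this]
    rfl
  have hQass : Q ∈ associatedPrimes (Localization.Away g) N := by
    by_contra hnot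
    have h1 := Depth.locDepthGE_one_of_not_mem_associatedPrimes N Q hnot
    rw [Depth.locDepthGE_iff, hdepth0] at h1
    simp at h1
  -- dimension at least one
  have hdim : (1 : WithBot ℕ∞) ≤ Module.supportDim (Localization.AtPrime Q)
      (LocalizedModule Q.primeCompl N) := by
    rw [← key2] at hdδ
    generalize Module.supportDim (Localization.AtPrime Q) (LocalizedModule Q.primeCompl N) = δ
      at hdδ ⊢
    induction δ using WithBot.recBotCoe with
    | bot => simp at hdδ
    | coe a =>
      have h1 : (d : ℕ∞) < a + d := by exact_mod_cast hdδ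
      have h2 : a ≠ 0 := by
        rintro rfl
        simp at h1
      have h3 : (1 : ℕ∞) ≤ a := Order.one_le_iff_pos.mpr (pos_iff_ne_zero.mpr h2)
      exact_mod_cast h3
  obtain ⟨Q', hQ'ass, hlt⟩ := exists_ass_lt N Q hdim
  have := hC g rs (by rw [hrslen]; exact hdk') hrsreg Q' hQ'ass Q hQass hlt.le
  exact hlt.ne this

end Backward

/-- **S12121** -/
theorem main (k : ℕ) (hk : 1 ≤ k) (A : Type u) [CommRing A] [IsNoetherianRing A]
    (M : Type u) [AddCommGroup M] [Module A M] [Module.Finite A M] :
    LocCoh.HasSk k A M ↔
      ∀ (g : A) (rs : List (Localization.Away g)), rs.length < k →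
        RingTheory.Sequence.IsWeaklyRegular (LocalizedModule (Submonoid.powers g) M) rs →
        ∀ p ∈ associatedPrimes (Localization.Away g)
            (LocalizedModule (Submonoid.powers g) M ⧸
              (Ideal.ofList rs • (⊤ : Submodule (Localization.Away g)
                (LocalizedModule (Submonoid.powers g) M)))),
          ∀ q ∈ associatedPrimes (Localization.Away g)
            (LocalizedModule (Submonoid.powers g) M ⧸
              (Ideal.ofList rs • (⊤ : Submodule (Localization.Away g)
                (LocalizedModule (Submonoid.powers g) M)))),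
            p ≤ q → p = q :=
  ⟨fun h g rs hlen hreg => forward k M h g rs hlen hreg, backward M k⟩

end Sk121

end Groth.Agent.H6
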