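import Mathlib

set_option autoImplicit false
open CategoryTheory CategoryTheory.Limits Opposite
universe v u

namespace Groth.Agent.H6.SkNorm

variable {A : Type u} [Category.{v} A] [Abelian A]

/-- `Γ₀ K` vanishes in degree `Δ` as soon as `K` vanishes in all degrees `≤ Δ.len`. -/
theorem isZero_Γ₀_obj (K : ChainComplex A ℕ) (Δ : SimplexCategoryᵒᵖ)
    (h : ∀ j ≤ Δ.unop.len, IsZero (K.X j)) :
    IsZero ((AlgebraicTopology.DoldKan.Γ₀.obj K).obj Δ) := by
  rw [IsZero.iff_id_eq_zero]
  apply colimit.hom_ext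
  rintro ⟨B⟩
  apply (h _ ?_).eq_of_src
  exact SimplexCategory.len_le_of_epi B.e

variable (m : ℕ) [∀ F : (SimplexCategory.Truncated m)ᵒᵖ ⥤ A,
  (SimplexCategory.Truncated.inclusion m).op.HasLeftKanExtension F]

/-- Any two maps from a skeleton to a simplicial object vanishing in low degrees agree. -/
theorem hom_subsingleton (U : SimplicialObject.Truncated A m) (Z : SimplicialObject A)
    (hZ : ∀ k ≤ m, IsZero (Z.obj (op (SimplexCategory.mk k)))) :
    Subsingleton ((SimplicialObject.Truncated.sk m).obj U ⟶ Z) := by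
  have hzero : IsZero ((SimplicialObject.truncation m).obj Z) := by
    apply Functor.isZero
    intro a
    have := hZ a.unop.obj.len a.unop.property
    exact this
  refine ⟨fun f g => ?_⟩
  apply ((SimplicialObject.skAdj m).homEquiv U Z).injective
  exact hzero.eq_of_tgt _ _

theorem hom_N_subsingleton (U : SimplicialObject.Truncated A m) (C : ChainComplex A ℕ)
    (hC : ∀ k ≤ m, IsZero (C.X k)) :
    Subsingleton ((AlgebraicTopology.normalizedMooreComplex A).obj
      ((SimplicialObject.Truncated.sk m).obj U) ⟶ C) := by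
  have h1 : Subsingleton ((SimplicialObject.Truncated.sk m).obj U ⟶
      (CategoryTheory.Abelian.DoldKan.equivalence (A := A)).inverse.obj C) := by
    apply hom_subsingleton
    intro k hk
    apply isZero_Γ₀_obj
    intro j hj
    exact hC j (le_trans hj hk)
  refine ⟨fun f g => ?_⟩
  exact ((CategoryTheory.Abelian.DoldKan.equivalence (A := A)).toAdjunction.homEquiv
    ((SimplicialObject.Truncated.sk m).obj U) C).injective (Subsingleton.elim _ _)

omit [∀ F : (SimplexCategory.Truncated m)ᵒᵖ ⥤ A,
  (SimplexCategory.Truncated.inclusion m).op.HasLeftKanExtension F] in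
theorem eq_zero_of_d_comp (K : ChainComplex A ℕ)
    (hsub : ∀ C : ChainComplex A ℕ, (∀ k ≤ m, IsZero (C.X k)) → Subsingleton (K ⟶ C))
    (k : ℕ) (hk : m < k) {T : A}
    (f : K.X k ⟶ T) (hf : K.d (k + 1) k ≫ f = 0) : f = 0 := by
  have hrel : ∀ i : ℕ, (ComplexShape.down ℕ).Rel i k → K.d i k ≫ f = 0 := by
    intro i hi
    have : i = k + 1 := by
      have := hi
      simp only [ComplexShape.down_Rel] at this
      omega
    subst this
    exact hf
  have hsub' := hsub
    ((HomologicalComplex.single A (ComplexShape.down ℕ) k).obj T) (by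
      intro j hj
      apply HomologicalComplex.isZero_single_obj_X
      omega)
  have h0 : HomologicalComplex.mkHomToSingle f hrel = 0 := Subsingleton.elim _ _
  have h1 := HomologicalComplex.mkHomToSingle_f f hrel
  rw [h0] at h1
  have h2 : f ≫ (HomologicalComplex.singleObjXSelf (ComplexShape.down ℕ) k T).inv = 0 := by
    rw [← h1]; rfl
  have h3 := congrArg (· ≫ (HomologicalComplex.singleObjXSelf (ComplexShape.down ℕ) k T).hom) h2
  simpa using h3

omit [∀ F : (SimplexCategory.Truncated m)ᵒᵖ ⥤ A,
  (SimplexCategory.Truncated.inclusion m).op.HasLeftKanExtension F] in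
theorem epi_d (K : ChainComplex A ℕ)
    (hsub : ∀ C : ChainComplex A ℕ, (∀ k ≤ m, IsZero (C.X k)) → Subsingleton (K ⟶ C))
    (k : ℕ) (hk : m < k) : Epi (K.d (k + 1) k) :=
  Preadditive.epi_of_cancel_zero _ (fun g hg => eq_zero_of_d_comp m K hsub k hk g hg)

omit [∀ F : (SimplexCategory.Truncated m)ᵒᵖ ⥤ A,
  (SimplexCategory.Truncated.inclusion m).op.HasLeftKanExtension F] in
theorem isZero_X (K : ChainComplex A ℕ)
    (hsub : ∀ C : ChainComplex A ℕ, (∀ k ≤ m, IsZero (C.X k)) → Subsingleton (K ⟶ C))
    (k : ℕ) (hk : m < k) : IsZero (K.X k) := by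
  haveI h1 : Epi (K.d (k + 1) k) := epi_d m K hsub k hk
  haveI h2 : Epi (K.d (k + 1 + 1) (k + 1)) := epi_d m K hsub (k + 1) (by omega)
  have h3 : K.d (k + 1) k = 0 := by
    have := K.d_comp_d (k + 1 + 1) (k + 1) k
    rw [← cancel_epi (K.d (k + 1 + 1) (k + 1)), this, comp_zero]
  exact IsZero.of_epi_eq_zero _ h3

theorem main (U : SimplicialObject.Truncated A m) (n : ℕ) (hn : m < n) :
    AlgebraicTopology.NormalizedMooreComplex.objX ((SimplicialObject.Truncated.sk m).obj U) n
      = ⊥ := by
  have hz : IsZero ((AlgebraicTopology.NormalizedMooreComplex.objX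
      ((SimplicialObject.Truncated.sk m).obj U) n : A)) := isZero_X m _ (fun C hC => hom_N_subsingleton m U C hC) n hn
  rw [← Subobject.mk_arrow (AlgebraicTopology.NormalizedMooreComplex.objX
      ((SimplicialObject.Truncated.sk m).obj U) n), Subobject.mk_eq_bot_iff_zero]
  exact hz.eq_of_src _ _

end Groth.Agent.H6.SkNorm
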