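import Mathlib
import Groth.Agent.Lib.Helper6.SkNorm

set_option autoImplicit false
open CategoryTheory CategoryTheory.Limits Opposite
universe v u

namespace Groth.Agent.H6.SkCo

section fin
variable (n : ℕ)

instance finite_costr (Y : SimplexCategoryᵒᵖ) :
    Finite (CostructuredArrow (SimplexCategory.Truncated.inclusion n).op Y) := by
  let g : (Σ i : Fin (n + 1), (Y.unop ⟶ SimplexCategory.mk i.1)) →
      CostructuredArrow (SimplexCategory.Truncated.inclusion n).op Y :=
    fun p => CostructuredArrow.mk
      (Y := op (⟨SimplexCategory.mk p.1.1, by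
        show p.1.1 ≤ n
        exact Nat.lt_succ_iff.mp p.1.2⟩ : SimplexCategory.Truncated n)) p.2.op
  apply Finite.of_surjective g
  intro X
  exact ⟨⟨⟨X.left.unop.obj.len, Nat.lt_succ_of_le X.left.unop.property⟩, X.hom.unop⟩, rfl⟩

instance finite_costr_hom (Y : SimplexCategoryᵒᵖ)
    (X X' : CostructuredArrow (SimplexCategory.Truncated.inclusion n).op Y) :
    Finite (X ⟶ X') := by
  apply Finite.of_injective (fun f : X ⟶ X' => f.left.unop.hom)
  intro f g h
  ext
  apply Quiver.Hom.unop_inj
  apply ObjectProperty.hom_ext
  exact h

noncomputable instance finCat (Y : SimplexCategoryᵒᵖ) :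
    FinCategory (CostructuredArrow (SimplexCategory.Truncated.inclusion n).op Y) where
  fintypeObj := Fintype.ofFinite _
  fintypeHom _ _ := Fintype.ofFinite _

variable {A : Type u} [Category.{v} A] [HasFiniteColimits A]

instance hasPointwise (F : (SimplexCategory.Truncated n)ᵒᵖ ⥤ A) :
    (SimplexCategory.Truncated.inclusion n).op.HasPointwiseLeftKanExtension F := by
  intro Y
  infer_instance

end fin

section main

variable {A : Type u} [Category.{v} A] [Abelian A] (n : ℕ)
  [∀ F : (SimplexCategory.Truncated n)ᵒᵖ ⥤ A,
    (SimplexCategory.Truncated.inclusion n).op.HasLeftKanExtension F]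
  (U : SimplicialObject A)

theorem isIso_unit : IsIso (SimplicialObject.skAdj (C := A) n).unit :=
  SimplicialObject.Truncated.sk_coreflective n

/-- triangle identity, componentwise -/
theorem unit_counit (X' : (SimplexCategory.Truncated n)ᵒᵖ) :
    ((SimplicialObject.skAdj n).unit.app ((SimplicialObject.truncation n).obj U)).app X' ≫
      ((SimplicialObject.skAdj n).counit.app U).app
        ((SimplexCategory.Truncated.inclusion n).op.obj X') = 𝟙 _ := by
  have h := (SimplicialObject.skAdj (C := A) n).right_triangle_components U
  have h2 := NatTrans.congr_app h X'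
  exact h2

theorem isIso_counit_app (X' : (SimplexCategory.Truncated n)ᵒᵖ) :
    IsIso (((SimplicialObject.skAdj n).counit.app U).app
        ((SimplexCategory.Truncated.inclusion n).op.obj X')) := by
  haveI := isIso_unit (A := A) n
  have h1 : IsIso ((SimplicialObject.skAdj (C := A) n).unit.app
      ((SimplicialObject.truncation n).obj U)) := inferInstance
  haveI : IsIso (((SimplicialObject.skAdj (C := A) n).unit.app
      ((SimplicialObject.truncation n).obj U)).app X') :=
    @NatIso.isIso_app_of_isIso _ _ _ _ _ _ _ h1 X'
  have h3 := unit_counit n U X'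
  exact @IsIso.of_isIso_fac_left _ _ _ _ _ _ _ _ this (IsIso.id _) h3

theorem mono_N_counit :
    Mono ((AlgebraicTopology.normalizedMooreComplex A).map
      ((SimplicialObject.skAdj n).counit.app U)) := by
  haveI : ∀ k, Mono (((AlgebraicTopology.normalizedMooreComplex A).map
      ((SimplicialObject.skAdj n).counit.app U)).f k) := by
    intro k
    by_cases hk : k ≤ n
    · have hnat := (AlgebraicTopology.inclusionOfMooreComplex A).naturality
        ((SimplicialObject.skAdj n).counit.app U)
      have h2 : ((AlgebraicTopology.normalizedMooreComplex A).map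
          ((SimplicialObject.skAdj n).counit.app U)).f k ≫
          ((AlgebraicTopology.inclusionOfMooreComplex A).app U).f k =
          ((AlgebraicTopology.inclusionOfMooreComplex A).app
            ((SimplicialObject.Truncated.sk n).obj ((SimplicialObject.truncation n).obj U))).f k ≫
          ((AlgebraicTopology.alternatingFaceMapComplex A).map
            ((SimplicialObject.skAdj n).counit.app U)).f k := by
        exact congrArg (fun φ => φ.f k) hnat
      haveI : IsIso (((SimplicialObject.skAdj n).counit.app U).app
          (op (SimplexCategory.mk k))) :=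
        isIso_counit_app n U (op ⟨SimplexCategory.mk k, hk⟩)
      haveI : Mono (((AlgebraicTopology.normalizedMooreComplex A).map
          ((SimplicialObject.skAdj n).counit.app U)).f k ≫
          ((AlgebraicTopology.inclusionOfMooreComplex A).app U).f k) := by
        rw [h2]
        have e1 : ((AlgebraicTopology.inclusionOfMooreComplex A).app
            ((SimplicialObject.Truncated.sk n).obj ((SimplicialObject.truncation n).obj U))).f k =
          (AlgebraicTopology.NormalizedMooreComplex.objX
            ((SimplicialObject.Truncated.sk n).obj ((SimplicialObject.truncation n).obj U)) k).arrow :=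
          AlgebraicTopology.inclusionOfMooreComplexMap_f _ k
        rw [e1]
        have e2 : ((AlgebraicTopology.alternatingFaceMapComplex A).map
          ((SimplicialObject.skAdj n).counit.app U)).f k =
            ((SimplicialObject.skAdj n).counit.app U).app (op (SimplexCategory.mk k)) := rfl
        rw [e2]
        have hm : Mono (((SimplicialObject.skAdj n).counit.app U).app
            (op (SimplexCategory.mk k))) := inferInstance
        exact @mono_comp _ _ _ _ _ _ (Subobject.arrow_mono _) _ hm
      exact mono_of_mono _ (((AlgebraicTopology.inclusionOfMooreComplex A).app U).f k)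
    · have hz : IsZero (((AlgebraicTopology.normalizedMooreComplex A).obj
          ((SimplicialObject.Truncated.sk n).obj ((SimplicialObject.truncation n).obj U))).X k) :=
        SkNorm.isZero_X n _ (fun C hC => SkNorm.hom_N_subsingleton n _ C hC) k (by omega)
      exact hz.mono _
  exact HomologicalComplex.mono_of_mono_f _ inferInstance

theorem mono_counit : Mono ((SimplicialObject.skAdj n).counit.app U) := by
  haveI : (AlgebraicTopology.normalizedMooreComplex A).Faithful :=
    inferInstanceAs ((CategoryTheory.Abelian.DoldKan.equivalence (A := A)).functor.Faithful)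
  exact (AlgebraicTopology.normalizedMooreComplex A).mono_of_mono_map (mono_N_counit n U)

theorem mono_counit_app (Y : SimplexCategoryᵒᵖ) :
    Mono (((SimplicialObject.skAdj n).counit.app U).app Y) := by
  haveI := mono_counit n U
  exact (NatTrans.mono_iff_mono_app _).1 inferInstance Y

omit [Abelian A] in
theorem aux_leg {W X Y Z : A} (a : W ⟶ X) (s : X ⟶ Y) (e : Y ⟶ Z) (e' : X ⟶ W) (u : W ⟶ Z)
    (h1 : s ≫ e = e' ≫ u) (h2 : a ≫ e' = 𝟙 _) : a ≫ s ≫ e = u := by
  rw [h1, ← Category.assoc, h2, Category.id_comp]

theorem aux_zero {W X Y Z T : A} (a : W ⟶ X) (s : X ⟶ Y) (e : Y ⟶ Z) (p : Z ⟶ T) (u : W ⟶ Z)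
    (h : a ≫ s ≫ e = u) (hu : u ≫ p = 0) : (a ≫ s) ≫ e ≫ p = 0 := by
  rw [Category.assoc, ← Category.assoc s, ← Category.assoc, h, hu]

theorem image_le_of_fac {X Y Z : A} (f : X ⟶ Z) (h : X ⟶ Y) (g : Y ⟶ Z) (e : h ≫ g = f) :
    imageSubobject f ≤ imageSubobject g := by
  subst e; exact imageSubobject_comp_le _ _

theorem leg_eq (X' : (SimplexCategory.Truncated n)ᵒᵖ) (Y : SimplexCategoryᵒᵖ)
    (f : (SimplexCategory.Truncated.inclusion n).op.obj X' ⟶ Y) :
    ((SimplicialObject.skAdj n).unit.app ((SimplicialObject.truncation n).obj U)).app X' ≫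
      ((SimplicialObject.sk n).obj U).map f ≫ ((SimplicialObject.skAdj n).counit.app U).app Y =
      U.map f :=
  aux_leg _ _ _ _ _ (((SimplicialObject.skAdj n).counit.app U).naturality f) (unit_counit n U X')

theorem map_comp_cokernel_eq_zero {X Y : A} (f : X ⟶ Y) (V : Subobject Y)
    (h : imageSubobject f ≤ V) : f ≫ cokernel.π V.arrow = 0 := by
  have e : f = (factorThruImageSubobject f ≫ Subobject.ofLE _ _ h) ≫ V.arrow := by
    rw [Category.assoc, Subobject.ofLE_arrow, imageSubobject_arrow_comp]
  rw [e, Category.assoc, cokernel.condition, comp_zero]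

theorem image_eq (m : ℕ) (V : Subobject (U.obj (op (SimplexCategory.mk m))))
    (hV : IsLUB (Set.range (fun φ : Σ i : Fin (n + 1),
      (SimplexCategory.mk m ⟶ SimplexCategory.mk i) => imageSubobject (U.map φ.2.op))) V) :
    imageSubobject (((SimplicialObject.skAdj n).counit.app U).app (op (SimplexCategory.mk m)))
      = V := by
  apply le_antisymm
  · have hcolim := Functor.isPointwiseLeftKanExtensionOfIsLeftKanExtension
      ((SimplicialObject.sk n).obj U)
      ((SimplicialObject.skAdj n).unit.app ((SimplicialObject.truncation n).obj U))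
      (op (SimplexCategory.mk m))
    have hzero : ((SimplicialObject.skAdj n).counit.app U).app (op (SimplexCategory.mk m)) ≫
        cokernel.π V.arrow = 0 := by
      apply hcolim.hom_ext
      intro g
      refine Eq.trans ?_ comp_zero.symm
      have hle : imageSubobject (U.map g.hom) ≤ V := by
        apply hV.1
        exact ⟨⟨⟨g.left.unop.obj.len, Nat.lt_succ_of_le g.left.unop.property⟩, g.hom.unop⟩, rfl⟩
      have h2 := map_comp_cokernel_eq_zero (U.map g.hom) V hle
      have h3 := leg_eq n U g.left (op (SimplexCategory.mk m)) g.hom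
      exact aux_zero _ _ _ _ _ h3 h2
    exact imageSubobject_le _ (Abelian.monoLift V.arrow _ hzero) (Abelian.monoLift_comp _ _ _)
  · apply hV.2
    rintro _ ⟨⟨i, φ⟩, rfl⟩
    have h3 := leg_eq n U (op ⟨SimplexCategory.mk i.1, Nat.lt_succ_iff.mp i.2⟩)
      (op (SimplexCategory.mk m)) φ.op
    exact image_le_of_fac _ _ _ ((Category.assoc _ _ _).trans h3)

theorem main (U' : ∀ m : ℕ, Subobject (U.obj (op (SimplexCategory.mk m))))
    (hU' : ∀ m : ℕ, IsLUB (Set.range (fun φ : Σ i : Fin (n + 1),
      (SimplexCategory.mk m ⟶ SimplexCategory.mk i) => imageSubobject (U.map φ.2.op))) (U' m))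
    (m : ℕ) :
    Mono (((SimplicialObject.skAdj n).counit.app U).app (op (SimplexCategory.mk m))) ∧
      imageSubobject (((SimplicialObject.skAdj n).counit.app U).app (op (SimplexCategory.mk m)))
        = U' m :=
  ⟨mono_counit_app n U _, image_eq n U m (U' m) (hU' m)⟩

end main

end Groth.Agent.H6.SkCo
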