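import Mathlib

set_option autoImplicit false
open CategoryTheory CategoryTheory.Limits Opposite Simplicial
universe u

namespace Groth.Agent.H6.SkDim

section trunc
variable (m : ℕ) (U : SSet.Truncated.{u} m)

instance isLKE : ((SSet.Truncated.sk m).obj U).IsLeftKanExtension
    ((SSet.skAdj m).unit.app U) := by
  dsimp [SSet.Truncated.sk, SimplicialObject.Truncated.sk, SSet.skAdj, SimplicialObject.skAdj]
  rw [Functor.lanAdjunction_unit]
  infer_instance

/-- every simplex of the free extension comes from a simplex of `U`. -/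
theorem exists_rep (Y : SimplexCategoryᵒᵖ) (x : ((SSet.Truncated.sk m).obj U).obj Y) :
    ∃ (X' : (SimplexCategory.Truncated m)ᵒᵖ)
      (f : (SimplexCategory.Truncated.inclusion m).op.obj X' ⟶ Y) (u : U.obj X'),
      ((SSet.Truncated.sk m).obj U).map f (((SSet.skAdj m).unit.app U).app X' u) = x := by
  have hcolim := Functor.isPointwiseLeftKanExtensionOfIsLeftKanExtension
      ((SSet.Truncated.sk m).obj U) ((SSet.skAdj m).unit.app U) Y
  obtain ⟨g, y, hy⟩ := Types.jointly_surjective_of_isColimit hcolim x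
  exact ⟨g.left, g.hom, y, hy⟩

theorem main : ((SSet.Truncated.sk m).obj U).HasDimensionLT (m + 1) := by
  constructor
  intro k hk
  ext x
  simp only [Set.top_eq_univ, Set.mem_univ, iff_true]
  obtain ⟨X', f, u, rfl⟩ := exists_rep m U (op ⦋k⦌) x
  refine ⟨X'.unop.obj.len, lt_of_le_of_lt X'.unop.property hk, f.unop, ?_⟩
  exact ⟨_, rfl⟩

end trunc

section counit
variable (n : ℕ) (U : SSet.{u})

theorem unit_counit (X' : (SimplexCategory.Truncated n)ᵒᵖ) :
    ((SSet.skAdj n).unit.app ((SSet.truncation n).obj U)).app X' ≫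
      ((SSet.skAdj n).counit.app U).app
        ((SimplexCategory.Truncated.inclusion n).op.obj X') = 𝟙 _ := by
  have h := (SSet.skAdj.{u} n).right_triangle_components U
  exact NatTrans.congr_app h X'

theorem unit_counit_apply (X' : (SimplexCategory.Truncated n)ᵒᵖ)
    (u : U.obj ((SimplexCategory.Truncated.inclusion n).op.obj X')) :
    ((SSet.skAdj n).counit.app U).app ((SimplexCategory.Truncated.inclusion n).op.obj X')
      (((SSet.skAdj n).unit.app ((SSet.truncation n).obj U)).app X' u) = u :=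
  ConcreteCategory.congr_hom (unit_counit n U X') u

theorem bijective_counit_app (X' : (SimplexCategory.Truncated n)ᵒᵖ) :
    Function.Bijective (((SSet.skAdj n).counit.app U).app
        ((SimplexCategory.Truncated.inclusion n).op.obj X')) := by
  have h1 : IsIso ((SSet.skAdj.{u} n).unit.app ((SSet.truncation n).obj U)) := inferInstance
  have h2 : IsIso (((SSet.skAdj.{u} n).unit.app ((SSet.truncation n).obj U)).app X') :=
    @NatIso.isIso_app_of_isIso _ _ _ _ _ _ _ h1 X'
  have h3 := unit_counit n U X'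
  have h4 : IsIso (((SSet.skAdj n).counit.app U).app
        ((SimplexCategory.Truncated.inclusion n).op.obj X')) :=
    @IsIso.of_isIso_fac_left _ _ _ _ _ _ _ _ h2 (IsIso.id _) h3
  exact (isIso_iff_bijective _).1 h4

theorem counit_naturality_apply {Y Z : SimplexCategoryᵒᵖ} (f : Y ⟶ Z)
    (x : ((SSet.sk n).obj U).obj Y) :
    ((SSet.skAdj n).counit.app U).app Z (((SSet.sk n).obj U).map f x) =
      U.map f (((SSet.skAdj n).counit.app U).app Y x) :=
  ConcreteCategory.congr_hom (((SSet.skAdj n).counit.app U).naturality f) x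

theorem counit_nonDegenerate {j : ℕ} (hj : j ≤ n) (y : ((SSet.sk n).obj U) _⦋j⦌)
    (hy : y ∈ ((SSet.sk n).obj U).nonDegenerate j) :
    ((SSet.skAdj n).counit.app U).app (op ⦋j⦌) y ∈ U.nonDegenerate j := by
  rw [SSet.mem_nonDegenerate_iff_notMem_degenerate] at hy ⊢
  rintro ⟨i, hi, g, z, hz⟩
  obtain ⟨w, rfl⟩ := (bijective_counit_app n U (op ⟨⦋i⦌, (le_of_lt hi).trans hj⟩)).2 z
  apply hy
  refine ⟨i, hi, g, w, ?_⟩
  apply (bijective_counit_app n U (op ⟨⦋j⦌, hj⟩)).1
  exact (counit_naturality_apply n U g.op w).trans hz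

theorem injective_counit_app (k : ℕ) :
    Function.Injective (((SSet.skAdj n).counit.app U).app (op ⦋k⦌)) := by
  intro x x' h
  haveI : ((SSet.sk n).obj U).HasDimensionLT (n + 1) := main n ((SSet.truncation n).obj U)
  obtain ⟨j, f, hf, y, rfl⟩ := ((SSet.sk n).obj U).exists_nonDegenerate x
  obtain ⟨j', f', hf', y', rfl⟩ := ((SSet.sk n).obj U).exists_nonDegenerate x'
  have hj : j ≤ n := Nat.lt_succ_iff.mp (((SSet.sk n).obj U).dim_lt_of_nonDegenerate y (n + 1))
  have hj' : j' ≤ n :=
    Nat.lt_succ_iff.mp (((SSet.sk n).obj U).dim_lt_of_nonDegenerate y' (n + 1))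
  have e1 := counit_naturality_apply n U f.op y.1
  have e2 := counit_naturality_apply n U f'.op y'.1
  have hy := counit_nonDegenerate n U hj y.1 y.2
  have hy' := counit_nonDegenerate n U hj' y'.1 y'.2
  have hdim : j = j' := U.unique_nonDegenerate_dim _ f ⟨_, hy⟩ e1 f' ⟨_, hy'⟩ (h.trans e2)
  subst hdim
  have hs := U.unique_nonDegenerate_simplex _ f ⟨_, hy⟩ e1 f' ⟨_, hy'⟩ (h.trans e2)
  have hm := U.unique_nonDegenerate_map _ f ⟨_, hy⟩ e1 f' ⟨_, hy'⟩ (h.trans e2)
  have hyy : y.1 = y'.1 :=
    (bijective_counit_app n U (op ⟨⦋j⦌, hj⟩)).1 (Subtype.ext_iff.1 hs)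
  subst hm
  rw [hyy]

theorem mono_counit : Mono ((SSet.skAdj n).counit.app U) := by
  rw [NatTrans.mono_iff_mono_app]
  intro Y
  rw [mono_iff_injective]
  induction Y using Opposite.rec with | _ Y
  induction Y using SimplexCategory.rec with | _ k
  exact injective_counit_app n U k

theorem range_counit :
    SSet.Subcomplex.range ((SSet.skAdj n).counit.app U) = U.skeleton (n + 1) := by
  apply le_antisymm
  · rintro Y _ ⟨x, rfl⟩
    obtain ⟨X', f, u, rfl⟩ := exists_rep n ((SSet.truncation n).obj U) Y x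
    have e := (counit_naturality_apply n U f _).trans
      (congrArg (U.map f) (unit_counit_apply n U X' u))
    refine Set.mem_of_eq_of_mem e ?_
    exact (U.skeleton (n + 1)).map f
      (U.mem_skeleton (i := X'.unop.obj.len) u (Nat.lt_succ_of_le X'.unop.property))
  · show (⨆ (i : Fin (n + 1)) (x : U.nonDegenerate i), SSet.Subcomplex.ofSimplex x.1) ≤ _
    simp only [iSup_le_iff]
    intro i x
    rw [SSet.Subcomplex.ofSimplex_le_iff]
    exact ⟨_, unit_counit_apply n U (op ⟨⦋i.1⦌, Nat.lt_succ_iff.mp i.2⟩) x.1⟩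

theorem main2 : Mono ((SSet.skAdj n).counit.app U) ∧
    SSet.Subcomplex.range ((SSet.skAdj n).counit.app U) = U.skeleton (n + 1) :=
  ⟨mono_counit n U, range_counit n U⟩

end counit

end Groth.Agent.H6.SkDim
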