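import Mathlib
import Groth.Prelude.Def_CInt
import Groth.Agent.Lib.Helper1.RegQuot
import Groth.Agent.Lib.Helper1.StalkGen
import Groth.Agent.Lib.Helper1.FibreStalk
import Groth.Agent.Lib.Helper5.SM.SM1

/-! Codimension relative to a smooth morphism of a smooth closed subscheme (S14106). -/

universe u
set_option linter.style.haveILetI false
set_option autoImplicit false

open AlgebraicGeometry CategoryTheory IsLocalRing TensorProduct

namespace Groth.Agent.H6.SmCodim

/-- if `A/I` is flat over `R` then `I ∩ 𝔞A = 𝔞 I`. -/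
theorem inf_map_le_mul_of_flat_quotient {R A : Type u} [CommRing R] [CommRing A] [Algebra R A]
    (I : Ideal A) [Module.Flat R (A ⧸ I)] (𝔞 : Ideal R) :
    I ⊓ 𝔞.map (algebraMap R A) ≤ 𝔞.map (algebraMap R A) * I := by
  rintro x ⟨hxI, hx𝔞⟩
  let N : Submodule R A := I.restrictScalars R
  let g : N →ₗ[R] A := N.subtype
  let f : A →ₗ[R] A ⧸ I := (Ideal.Quotient.mkₐ R I).toLinearMap
  have hf : Function.Surjective f := Ideal.Quotient.mk_surjective
  have hg : Function.Injective g := Subtype.val_injective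
  have hex : Function.Exact g f := by
    intro a
    constructor
    · intro ha
      change Ideal.Quotient.mk I a = 0 at ha
      exact ⟨⟨a, Ideal.Quotient.eq_zero_iff_mem.mp ha⟩, rfl⟩
    · rintro ⟨b, rfl⟩
      change Ideal.Quotient.mk I (b : A) = 0
      exact Ideal.Quotient.eq_zero_iff_mem.mpr b.2
  have hinj := LinearMap.lTensor_injective_of_exact_of_flat f hf g hg hex (R ⧸ 𝔞)
  let x' : N := ⟨x, hxI⟩
  have h0 : (g.lTensor (R ⧸ 𝔞)) ((1 : R ⧸ 𝔞) ⊗ₜ[R] x') = 0 := by
    rw [LinearMap.lTensor_tmul]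
    apply (TensorProduct.quotTensorEquivQuotSMul A 𝔞).injective
    rw [TensorProduct.quotTensorEquivQuotSMul_mk_one_tmul, map_zero,
      Submodule.Quotient.mk_eq_zero, Ideal.smul_top_eq_map]
    exact hx𝔞
  have h1 : ((1 : R ⧸ 𝔞) ⊗ₜ[R] x' : (R ⧸ 𝔞) ⊗[R] N) = 0 := hinj (h0.trans (map_zero _).symm)
  have h2 : x' ∈ 𝔞 • (⊤ : Submodule R N) := by
    have := congrArg (TensorProduct.quotTensorEquivQuotSMul N 𝔞) h1
    rw [TensorProduct.quotTensorEquivQuotSMul_mk_one_tmul, map_zero,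
      Submodule.Quotient.mk_eq_zero] at this
    exact this
  rw [Submodule.mem_smul_top_iff] at h2
  have h3 : 𝔞 • N ≤ (𝔞.map (algebraMap R A) * I).restrictScalars R := by
    rw [Submodule.smul_le]
    intro a ha n hn
    rw [Submodule.restrictScalars_mem, Algebra.smul_def]
    exact Ideal.mul_mem_mul (Ideal.mem_map_of_mem _ ha) hn
  exact h3 h2

/-- the key local statement: a surjection `A → B` of local `R`-algebras with `B` flat over `R`
and regular closed fibres has kernel generated by at most `dim (A/m_R A)` elements. -/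
theorem spanFinrank_ker_le (R A B : Type u) [CommRing R] [CommRing A] [CommRing B]
    [IsLocalRing R] [IsLocalRing A] [IsLocalRing B] [IsNoetherianRing A]
    [Algebra R A] [Algebra R B] [Algebra A B] [IsScalarTower R A B]
    [IsLocalHom (algebraMap R A)]
    (hsurj : Function.Surjective (algebraMap A B)) [Module.Flat R B]
    [hA : IsRegularLocalRing (A ⧸ (maximalIdeal R).map (algebraMap R A))]
    [hB : IsRegularLocalRing (B ⧸ (maximalIdeal R).map (algebraMap R B))] :
    ((RingHom.ker (algebraMap A B)).spanFinrank : WithBot ℕ∞) ≤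
      ringKrullDim (A ⧸ (maximalIdeal R).map (algebraMap R A)) := by
  classical
  set 𝔪' := (maximalIdeal R).map (algebraMap R A) with h𝔪'
  set I := RingHom.ker (algebraMap A B) with hI
  set J := I.map (Ideal.Quotient.mk 𝔪') with hJ
  -- the quotient `Ā/J` is `B/m_R B`
  let π : A →+* B ⧸ (maximalIdeal R).map (algebraMap R B) :=
    (Ideal.Quotient.mk _).comp (algebraMap A B)
  have hπ : Function.Surjective π := Ideal.Quotient.mk_surjective.comp hsurj
  have hmapB : (maximalIdeal R).map (algebraMap R B) = 𝔪'.map (algebraMap A B) := by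
    rw [h𝔪', Ideal.map_map, ← IsScalarTower.algebraMap_eq]
  have hker : RingHom.ker π = 𝔪' ⊔ I := by
    rw [RingHom.ker_eq_comap_bot, ← Ideal.comap_comap, ← RingHom.ker_eq_comap_bot, Ideal.mk_ker,
      hmapB, Ideal.comap_map_of_surjective _ hsurj, ← RingHom.ker_eq_comap_bot]
  let e : ((A ⧸ 𝔪') ⧸ J) ≃+* B ⧸ (maximalIdeal R).map (algebraMap R B) :=
    (DoubleQuot.quotQuotEquivQuotSup 𝔪' I).trans
      ((Ideal.quotEquivOfEq hker.symm).trans (RingHom.quotientKerEquivOfSurjective hπ))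
  haveI : IsRegularLocalRing ((A ⧸ 𝔪') ⧸ J) := IsRegularLocalRing.of_ringEquiv e.symm
  obtain ⟨r, xb, hxbJ, hreg, hspan⟩ := Groth.Agent.H1.RegQuot.exists_regular_generators (A ⧸ 𝔪') J
  -- `r ≤ dim Ā`
  have hlist : Ideal.ofList (List.ofFn xb) = J := by
    rw [← hspan]
    show Ideal.span {a | a ∈ List.ofFn xb} = Ideal.span (Set.range xb)
    congr 1
    ext a
    simp [List.mem_ofFn]
  have hdim := ringKrullDim_add_length_eq_ringKrullDim_of_isRegular (List.ofFn xb) hreg
  rw [hlist, List.length_ofFn] at hdim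
  have hr : ((r : ℕ) : WithBot ℕ∞) ≤ ringKrullDim (A ⧸ 𝔪') := by
    rw [← hdim]
    exact le_add_of_nonneg_left ringKrullDim_nonneg_of_nontrivial
  -- lift the generators
  have hlift : ∀ i, ∃ a ∈ I, Ideal.Quotient.mk 𝔪' a = xb i := fun i =>
    (Ideal.mem_map_iff_of_surjective _ Ideal.Quotient.mk_surjective).mp (hxbJ i)
  choose x hxI hx using hlift
  set I₀ := Ideal.span (Set.range x) with hI₀
  have hI₀I : I₀ ≤ I := by
    rw [hI₀, Ideal.span_le]; rintro _ ⟨i, rfl⟩; exact hxI i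
  have hmapI₀ : I₀.map (Ideal.Quotient.mk 𝔪') = J := by
    rw [hI₀, Ideal.map_span, ← hspan]
    congr 1
    ext a
    constructor
    · rintro ⟨_, ⟨i, rfl⟩, rfl⟩; exact ⟨i, (hx i).symm⟩
    · rintro ⟨i, rfl⟩; exact ⟨x i, ⟨i, rfl⟩, hx i⟩
  -- flatness of `A/I`
  haveI : Module.Flat R (A ⧸ I) := by
    let ψ : A →ₐ[R] B := IsScalarTower.toAlgHom R A B
    have hψ : Function.Surjective ψ := hsurj
    exact Module.Flat.of_linearEquiv
      (Ideal.quotientKerAlgEquivOfSurjective hψ).toLinearEquiv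
  have hle : I ≤ I₀ ⊔ 𝔪' • I := by
    intro a ha
    have h1 : Ideal.Quotient.mk 𝔪' a ∈ I₀.map (Ideal.Quotient.mk 𝔪') := by
      rw [hmapI₀]; exact Ideal.mem_map_of_mem _ ha
    obtain ⟨a₀, ha₀, hmk⟩ := (Ideal.mem_map_iff_of_surjective _ Ideal.Quotient.mk_surjective).mp h1
    have h2 : a - a₀ ∈ 𝔪' := by
      rw [← Ideal.Quotient.eq_zero_iff_mem, map_sub, hmk, sub_self]
    have h3 : a - a₀ ∈ I := I.sub_mem ha (hI₀I ha₀)
    have h4 : a - a₀ ∈ 𝔪' * I := inf_map_le_mul_of_flat_quotient I (maximalIdeal R) ⟨h3, h2⟩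
    have : a = a₀ + (a - a₀) := by ring
    rw [this]
    exact Submodule.add_mem_sup ha₀ (by rwa [smul_eq_mul])
  have h𝔪'le : 𝔪' ≤ Ideal.jacobson (⊥ : Ideal A) := by
    rw [IsLocalRing.jacobson_eq_maximalIdeal ⊥ bot_ne_top]
    exact IsLocalRing.map_maximalIdeal_le (algebraMap R A)
  have hII₀ : I ≤ I₀ :=
    Submodule.le_of_le_smul_of_le_jacobson_bot (IsNoetherian.noetherian I) h𝔪'le hle
  have hIeq : I = I₀ := le_antisymm hII₀ hI₀I
  have hfin : I.spanFinrank ≤ r := by
    rw [hIeq, hI₀]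
    have h1 : Set.range x = ((Finset.univ.image x : Finset A) : Set A) := by
      ext a; simp
    refine (Submodule.spanFinrank_span_le_ncard_of_finite (Set.finite_range x)).trans ?_
    rw [h1, Set.ncard_coe_finset]
    exact Finset.card_image_le.trans (by simp)
  exact (by exact_mod_cast hfin : ((I.spanFinrank : ℕ) : WithBot ℕ∞) ≤ ((r : ℕ) : WithBot ℕ∞)).trans hr

variable {X Y S : Scheme.{u}}

theorem formallySmooth_stalkMap (f : X ⟶ S) [Smooth f] (x : X) :
    (f.stalkMap x).hom.FormallySmooth := by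
  have : x ∈ f.smoothLocus := by rw [f.smoothLocus_eq_top]; trivial
  exact this

theorem dim_congr (f : X ⟶ S) {a b : X} (h : a = b) :
    ringKrullDim (CInt.fiberStalk f a) = ringKrullDim (CInt.fiberStalk f b) := by
  subst h; rfl

theorem dim_stalk_congr {a b : X} (h : a = b) :
    ringKrullDim (X.presheaf.stalk a) = ringKrullDim (X.presheaf.stalk b) := by
  subst h; rfl

/-- the pointwise statement. -/
theorem exists_stalk_dim_le [IsLocallyNoetherian X] [IsLocallyNoetherian S] (f : X ⟶ S) [Smooth f]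
    (i : Y ⟶ X) [IsClosedImmersion i] [Smooth (i ≫ f)] (η₀ : Y) :
    ∃ η : Y, ringKrullDim (X.presheaf.stalk (i η)) ≤ ringKrullDim (CInt.fiberStalk f (i η₀)) := by
  letI algRA : Algebra (S.presheaf.stalk (f (i η₀))) (X.presheaf.stalk (i η₀)) :=
    (f.stalkMap (i η₀)).hom.toAlgebra
  letI algAB : Algebra (X.presheaf.stalk (i η₀)) (Y.presheaf.stalk η₀) :=
    (i.stalkMap η₀).hom.toAlgebra
  letI algRB : Algebra (S.presheaf.stalk (f (i η₀))) (Y.presheaf.stalk η₀) :=
    ((i ≫ f).stalkMap η₀).hom.toAlgebra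
  haveI : IsScalarTower (S.presheaf.stalk (f (i η₀))) (X.presheaf.stalk (i η₀))
      (Y.presheaf.stalk η₀) := IsScalarTower.of_algebraMap_eq (fun r => by
    show ((i ≫ f).stalkMap η₀).hom r = (i.stalkMap η₀).hom ((f.stalkMap (i η₀)).hom r)
    rw [Scheme.Hom.stalkMap_comp]
    rfl)
  haveI : IsLocalHom (algebraMap (S.presheaf.stalk (f (i η₀))) (X.presheaf.stalk (i η₀))) :=
    inferInstanceAs (IsLocalHom (f.stalkMap (i η₀)).hom)
  haveI : IsLocalHom (algebraMap (S.presheaf.stalk (f (i η₀))) (Y.presheaf.stalk η₀)) :=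
    inferInstanceAs (IsLocalHom ((i ≫ f).stalkMap η₀).hom)
  have hsurj : Function.Surjective
      (algebraMap (X.presheaf.stalk (i η₀)) (Y.presheaf.stalk η₀)) := fun b => by
    obtain ⟨a, ha⟩ := i.stalkMap_surjective η₀ b
    exact ⟨a, ha⟩
  haveI : IsNoetherianRing (Y.presheaf.stalk η₀) :=
    isNoetherianRing_of_surjective _ _ (algebraMap (X.presheaf.stalk (i η₀))
      (Y.presheaf.stalk η₀)) hsurj
  haveI : Algebra.FormallySmooth (S.presheaf.stalk (f (i η₀))) (X.presheaf.stalk (i η₀)) :=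
    formallySmooth_stalkMap f (i η₀)
  haveI : Algebra.FormallySmooth (S.presheaf.stalk (f (i η₀))) (Y.presheaf.stalk η₀) :=
    formallySmooth_stalkMap (i ≫ f) η₀
  haveI := H5.SM.flat_of_formallySmooth_local (S.presheaf.stalk (f (i η₀))) (Y.presheaf.stalk η₀)
  haveI := H5.SM.isRegularLocalRing_fiber (S.presheaf.stalk (f (i η₀))) (X.presheaf.stalk (i η₀))
  haveI := H5.SM.isRegularLocalRing_fiber (S.presheaf.stalk (f (i η₀))) (Y.presheaf.stalk η₀)
  have hmain := spanFinrank_ker_le (S.presheaf.stalk (f (i η₀))) (X.presheaf.stalk (i η₀))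
    (Y.presheaf.stalk η₀) hsurj
  -- a minimal prime of `B`
  obtain ⟨q', hq'min, -⟩ := Ideal.exists_minimalPrimes_le
    (bot_le : (⊥ : Ideal (Y.presheaf.stalk η₀)) ≤ maximalIdeal (Y.presheaf.stalk η₀))
  haveI hq'prime : q'.IsPrime := hq'min.1.1
  let q'P : PrimeSpectrum (Y.presheaf.stalk η₀) := ⟨q', hq'prime⟩
  refine ⟨Y.fromSpecStalk η₀ q'P, ?_⟩
  have hpt := Groth.Agent.H1.StalkGen.map_fromSpecStalk i η₀ q'P
  set qP := PrimeSpectrum.comap (i.stalkMap η₀).hom q'P with hqP
  have hspec := Groth.Agent.H1.StalkGen.fromSpecStalk_specializes (i η₀) qP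
  have hdim1 := Groth.Agent.H1.StalkGen.ringKrullDim_stalk_eq_height hspec
  rw [Groth.Agent.H1.StalkGen.primeOf_fromSpecStalk (i η₀) qP] at hdim1
  rw [dim_stalk_congr hpt, hdim1]
  -- `qP` is minimal over the kernel
  have hqmin : qP.asIdeal ∈ (RingHom.ker (algebraMap (X.presheaf.stalk (i η₀))
      (Y.presheaf.stalk η₀))).minimalPrimes := by
    rw [RingHom.ker_eq_comap_bot, Ideal.comap_minimalPrimes_eq_of_surjective hsurj]
    exact ⟨q', hq'min, rfl⟩
  have hht := Ideal.height_le_spanRank_toENat_of_mem_minimalPrimes _ _ hqmin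
  have hfr : ((RingHom.ker (algebraMap (X.presheaf.stalk (i η₀))
      (Y.presheaf.stalk η₀))).spanFinrank : ℕ∞) = (RingHom.ker (algebraMap (X.presheaf.stalk (i η₀))
      (Y.presheaf.stalk η₀))).spanRank.toENat := by
    rw [Submodule.fg_iff_spanRank_eq_spanFinrank.mpr (IsNoetherian.noetherian _), map_natCast]
  rw [← hfr] at hht
  have hht' : ((qP.asIdeal.height : ℕ∞) : WithBot ℕ∞) ≤
      (((RingHom.ker (algebraMap (X.presheaf.stalk (i η₀))
      (Y.presheaf.stalk η₀))).spanFinrank : ℕ) : WithBot ℕ∞) := by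
    exact_mod_cast hht
  refine hht'.trans (hmain.trans ?_)
  exact (ringKrullDim_eq_of_ringEquiv (Groth.Agent.H1.FibreStalk.fiberStalkEquiv f (i η₀))).le

theorem main [IsLocallyNoetherian X] [IsLocallyNoetherian S] (f : X ⟶ S) [Smooth f]
    (i : Y ⟶ X) [IsClosedImmersion i] [Smooth (i ≫ f)] :
    (⨅ y : Set.range i.base, ringKrullDim ↑(CInt.fiberStalk f y.1)) =
      ⨅ y : Set.range i.base, ringKrullDim ↑(X.presheaf.stalk y.1) := by
  apply le_antisymm
  · refine iInf_mono fun y => ?_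
    rw [← ringKrullDim_eq_of_ringEquiv (Groth.Agent.H1.FibreStalk.fiberStalkEquiv f y.1)]
    exact ringKrullDim_quotient_le _
  · refine le_iInf fun y₀ => ?_
    obtain ⟨η₀, hη₀⟩ := y₀.2
    have hη₀' : i η₀ = y₀.1 := hη₀
    obtain ⟨η, hη⟩ := exists_stalk_dim_le f i η₀
    refine (iInf_le _ (⟨i η, ⟨η, rfl⟩⟩ : Set.range i.base)).trans ?_
    rw [dim_congr f hη₀'] at hη
    exact hη

end Groth.Agent.H6.SmCodim
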