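import Mathlib
import Groth.Agent.Lib.Helper1.FibDimEt
import Groth.Agent.Lib.Helper1.FibDimBC
import Groth.Agent.Lib.Helper1.DimFormula4
import Groth.Agent.Lib.Helper1.FibDimTot
import Groth.Agent.Lib.Helper1.CMQF
import Groth.Agent.Lib.Helper1.CMFlat
import Groth.Agent.Lib.Helper1.SmoothDepth
import Groth.Agent.Lib.Helper1.CritFib2
import Groth.Agent.Lib.Helper5.AlgSp.ResidueFieldEtale
import Groth.Agent.Lib.Helper1.DimLocF

/-! helper6: a monomorphism between smooth `S`-schemes with equal fibre dimensions is an open
immersion (fibrewise: a monomorphism of smooth schemes over a field of equal local dimensions is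
flat, by the local criterion over a regular base with zero-dimensional closed fibre). -/

set_option autoImplicit false
set_option linter.style.haveILetI false
universe u
open CategoryTheory CategoryTheory.Limits AlgebraicGeometry

namespace Groth.Agent.H6.SmoothOI

open Groth.Agent.H1.DimFormula

/-- the closed fibre of the local homomorphism of a formally unramified morphism locally of finite
type is zero-dimensional. -/
theorem quotient_dim_zero {P Y : Scheme.{u}} (j : P ⟶ Y) [FormallyUnramified j]
    [LocallyOfFiniteType j] (z : P) :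
    ringKrullDim ((P.presheaf.stalk z) ⧸
      (IsLocalRing.maximalIdeal (Y.presheaf.stalk (j z))).map (j.stalkMap z).hom) = 0 := by
  algebraize [(j.stalkMap z).hom]
  have : IsLocalHom (algebraMap (Y.presheaf.stalk (j z)) (P.presheaf.stalk z)) :=
    inferInstanceAs <| IsLocalHom (j.stalkMap z).hom
  have : Algebra.EssFiniteType (Y.presheaf.stalk (j z)) (P.presheaf.stalk z) := by
    rw [← RingHom.essFiniteType_algebraMap, RingHom.algebraMap_toAlgebra]
    exact LocallyOfFiniteType.stalkMap j z
  have : Algebra.FormallyUnramified (Y.presheaf.stalk (j z)) (P.presheaf.stalk z) := by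
    rw [← RingHom.formallyUnramified_algebraMap, RingHom.algebraMap_toAlgebra]
    exact FormallyUnramified.stalkMap j z
  have hF := Algebra.FormallyUnramified.isField_quotient_map_maximalIdeal
    (R := Y.presheaf.stalk (j z)) (S := P.presheaf.stalk z)
  exact ringKrullDim_eq_zero_of_isField hF

/-- for a formally unramified morphism of schemes locally of finite type over a field, equality
of local dimensions means equality of the dimensions of the local rings. -/
theorem stalk_dim_eq {κ : Type u} [Field κ] {P Y : Scheme.{u}}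
    (q : Y ⟶ Spec (CommRingCat.of κ)) [LocallyOfFiniteType q] (j : P ⟶ Y)
    [LocallyOfFiniteType j] [FormallyUnramified j] (z : P)
    (hdim : FlatMor.localDim P z = FlatMor.localDim Y (j z)) :
    ringKrullDim (P.presheaf.stalk z) = ringKrullDim (Y.presheaf.stalk (j z)) := by
  haveI : LocallyOfFiniteType (j ≫ q) := inferInstance
  obtain ⟨t1, ht1, hd1⟩ := exists_localDim_eq_stalk_add_trdeg (j ≫ q) z
  obtain ⟨t2, ht2, hd2⟩ := exists_localDim_eq_stalk_add_trdeg q (j z)
  have hadd := Groth.Agent.H1.FibDimTot.trdeg_residueField_add q j z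
  have hzero : @Algebra.trdeg (Y.residueField (j z)) (P.residueField z) _ _
      (j.residueFieldMap z).hom.toAlgebra = 0 := by
    letI : Algebra (Y.residueField (j z)) (P.residueField z) := (j.residueFieldMap z).hom.toAlgebra
    haveI : Module.Finite (Y.residueField (j z)) (P.residueField z) :=
      Groth.Agent.H5.AlgSp.finite_residueField_of_formallyUnramified j z
    exact _root_.trdeg_eq_zero
  rw [ht1, ht2, hzero, add_zero] at hadd
  have ht : t2 = t1 := by exact_mod_cast hadd
  subst ht
  rw [hd1, hd2] at hdim
  exact Groth.Agent.H1.DimLoc.withBot_add_natCast_cancel t2 hdim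

/-- a monomorphism of smooth schemes over a field preserving local dimensions is an open
immersion. -/
theorem isOpenImmersion_of_field {κ : Type u} [Field κ] {P Y : Scheme.{u}}
    (q : Y ⟶ Spec (CommRingCat.of κ)) [Smooth q] (j : P ⟶ Y) [Smooth (j ≫ q)] [Mono j]
    (hdim : ∀ z : P, FlatMor.localDim P z = FlatMor.localDim Y (j z)) :
    IsOpenImmersion j := by
  haveI : LocallyOfFinitePresentation j :=
    Groth.Agent.H1.CritFib.locallyOfFinitePresentation_of_comp j q
  haveI : LocallyOfFiniteType j := inferInstance
  haveI : IsIso (pullback.diagonal j) := (pullback.isIso_diagonal_iff j).mpr inferInstance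
  haveI : FormallyUnramified j := inferInstance
  haveI : Flat j := by
    refine Flat.of_stalkMap j fun z => ?_
    haveI hA : IsRegularLocalRing (Y.presheaf.stalk (j z)) :=
      Groth.Agent.H1.SmoothDepth.isRegularLocalRing_stalk_of_smooth κ q (j z)
    haveI hB : IsRegularLocalRing (P.presheaf.stalk z) :=
      Groth.Agent.H1.SmoothDepth.isRegularLocalRing_stalk_of_smooth κ (j ≫ q) z
    have h0 := quotient_dim_zero j z
    refine (Groth.Agent.H1.CMQF.flat_iff_cm_of_fiber_dim_zero (j.stalkMap z).hom h0).mpr ⟨?_, ?_⟩
    · exact Groth.Agent.H1.CMFlat.isCohenMacaulayLocalRing_of_isRegularLocalRing _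
    · exact stalk_dim_eq q j z (hdim z)
  exact IsOpenImmersion.of_flat_of_mono j

/-- the fibrewise step: the base change of a monomorphism `g` of smooth `S`-schemes with equal
fibre dimensions to a field-valued point of `S` is an open immersion. -/
theorem isOpenImmersion_of_isPullback {κ : Type u} [Field κ] {X Y S P Ys : Scheme.{u}}
    (f : Y ⟶ S) (g : X ⟶ Y) [Smooth f] [Smooth (g ≫ f)] [Mono g]
    (σ : Spec (CommRingCat.of κ) ⟶ S) (ι : Ys ⟶ Y) (qs : Ys ⟶ Spec (CommRingCat.of κ))
    (sq2 : IsPullback ι qs f σ) (pX : P ⟶ X) (gs : P ⟶ Ys) (sq1 : IsPullback pX gs g ι)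
    (hdim : ∀ x : X, FlatMor.fibreDimAt f (g x) = FlatMor.fibreDimAt (g ≫ f) x) :
    IsOpenImmersion gs := by
  have sq3 : IsPullback pX (gs ≫ qs) (g ≫ f) σ := sq1.paste_vert sq2
  haveI : Smooth qs := MorphismProperty.of_isPullback (P := @Smooth) sq2 inferInstance
  haveI : Smooth (gs ≫ qs) := MorphismProperty.of_isPullback (P := @Smooth) sq3 inferInstance
  haveI : Mono gs := sq1.mono_snd_of_mono
  refine isOpenImmersion_of_field qs gs fun z => ?_
  have e1 := fibreDimAt_eq_localDim_of_field (gs ≫ qs) z
  have e2 := fibreDimAt_eq_localDim_of_field qs (gs z)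
  have e3 := Groth.Agent.H1.FibDimBC.fibreDimAt_eq_of_isPullback (g ≫ f) σ pX (gs ≫ qs) sq3 z
  have e4 := Groth.Agent.H1.FibDimBC.fibreDimAt_eq_of_isPullback f σ ι qs sq2 (gs z)
  have e5 : ι (gs z) = g (pX z) := by
    have := congrArg (fun φ : P ⟶ Y => φ z) sq1.w
    simp only [Scheme.Hom.comp_apply] at this
    exact this.symm
  rw [← e1, ← e2, e3, e4, e5, hdim]

end Groth.Agent.H6.SmoothOI
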