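import Groth.Agent.Lib.Helper6.SocGraded

universe u
open CategoryTheory CategoryTheory.Abelian
open scoped TensorProduct
set_option linter.unusedSectionVars false

namespace Groth.Agent.H6

namespace Soc

section Decomp

variable {ι : Type} [AddCommGroup ι] [DecidableEq ι]
variable {R : Type u} [CommRing R] [IsNoetherianRing R] (𝒜 : ι → AddSubgroup R) [GradedRing 𝒜]
variable {X : Type u} [AddCommGroup X] [Module R X] (𝒳 : ι → AddSubgroup X)
  [DirectSum.Decomposition 𝒳] [SetLike.GradedSMul 𝒜 𝒳]
variable (p : Ideal R) [hp : p.IsPrime] (hph : p.IsHomogeneous 𝒜)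
variable {Λ : Type u} (J : Λ → Submodule R X) (hJ : ∀ α, (J α).IsHomogeneous 𝒳)
  (hind : iSupIndep J) (htop : iSup J = ⊤)

include hph hJ hind htop in
/-- the socle is generated by homogeneous elements of the summands -/
theorem soc_le' (W : Submodule (Localization.AtPrime p) (LocalizedModule p.primeCompl X))
    (hW : ∀ α g, ∀ y ∈ 𝒳 g, y ∈ J α → (∀ a ∈ p, a • y = 0) → LocalizedModule.mk y 1 ∈ W) :
    soc p X ≤ W := by
  classical
  apply soc_le 𝒜 𝒳 p hph
  intro g y hy hpy
  have hytop : y ∈ iSup J := by rw [htop]; exact Submodule.mem_top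
  obtain ⟨z, hz, hzy⟩ := (Submodule.mem_iSup_iff_exists_finsupp J y).mp hytop
  have hzJ : ∀ α, Gr.proj 𝒳 g (z α) ∈ J α := fun α => hJ α g (hz α)
  have hsum : ∑ α ∈ z.support, Gr.proj 𝒳 g (z α) = y := by
    rw [← map_sum]
    have : ∑ α ∈ z.support, z α = y := hzy
    rw [this]
    exact Gr.proj_of_mem 𝒳 hy
  have hkill : ∀ α ∈ z.support, ∀ a ∈ p, a • Gr.proj 𝒳 g (z α) = 0 := by
    intro α hα a ha
    refine (iSupIndep_iff_finsetSum_eq_zero_imp_eq_zero J).mp hind z.support
      (fun α => a • Gr.proj 𝒳 g (z α)) (fun α _ => (J α).smul_mem a (hzJ α)) ?_ α hα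
    rw [← Finset.smul_sum, hsum, hpy a ha]
  have h2 : LocalizedModule.mk y (1 : p.primeCompl) =
      ∑ α ∈ z.support, LocalizedModule.mkLinearMap p.primeCompl X (Gr.proj 𝒳 g (z α)) := by
    rw [← map_sum, hsum]
    rfl
  rw [h2]
  apply W.sum_mem
  intro α hα
  exact hW α g _ (Gr.proj_mem 𝒳 g _) (hzJ α) (hkill α hα)

variable (P : Λ → Ideal R) (hP : ∀ α, (P α).IsPrime) (f : ∀ α, (R ⧸ P α) →ₗ[R] X)
  (hf : ∀ α, Function.Injective (f α) ∧ LinearMap.range (f α) ≤ J α ∧
    ∀ Q : Submodule R X, Q.IsHomogeneous 𝒳 → Q ≤ J α → Q ≠ ⊥ → Q ⊓ LinearMap.range (f α) ≠ ⊥)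

/-- the candidate basis vectors of the socle -/
noncomputable def vec (α : {α : Λ // P α = p}) : LocalizedModule p.primeCompl X :=
  LocalizedModule.mk (f α.1 1) 1

omit [IsNoetherianRing R] in
theorem smul_f_one (α : Λ) (a : R) : a • f α 1 = f α (Ideal.Quotient.mk (P α) a) := by
  rw [← map_smul]
  congr 1
  rw [Algebra.smul_def, mul_one]
  rfl

omit [IsNoetherianRing R] in
theorem vec_mem_soc (α : {α : Λ // P α = p}) : vec p P f α ∈ soc p X := by
  unfold vec
  rw [mk_mem_soc_iff]
  intro a ha
  refine ⟨1, ?_⟩
  have ha' : a ∈ P α.1 := by rw [α.2]; exact ha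
  rw [one_smul, smul_f_one, Ideal.Quotient.eq_zero_iff_mem.mpr ha', map_zero]

include hind hf in
omit [IsNoetherianRing R] in
/-- the kernel of the linear combination map -/
theorem linearCombination_eq_zero_iff (c : {α : Λ // P α = p} →₀ Localization.AtPrime p) :
    Finsupp.linearCombination (Localization.AtPrime p) (vec p P f) c = 0 ↔
      ∀ α, c α ∈ IsLocalRing.maximalIdeal (Localization.AtPrime p) := by
  classical
  constructor
  · intro h α
    by_cases hα : α ∈ c.support
    swap
    · rw [Finsupp.notMem_support_iff.mp hα]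
      exact Submodule.zero_mem _
    obtain ⟨b, hb⟩ := IsLocalization.exist_integer_multiples_of_finset p.primeCompl
      (c.support.image c)
    have hb' : ∀ β ∈ c.support, ∃ a : R, algebraMap R (Localization.AtPrime p) a = (b : R) • c β :=
      fun β hβ => hb (c β) (Finset.mem_image_of_mem c hβ)
    choose! a ha using hb'
    have h1 : LocalizedModule.mkLinearMap p.primeCompl X
        (∑ β ∈ c.support, f β.1 (Ideal.Quotient.mk (P β.1) (a β))) = 0 := by
      rw [map_sum]
      have h2 : (b : R) • Finsupp.linearCombination (Localization.AtPrime p) (vec p P f) c = 0 := by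
        rw [h, smul_zero]
      rw [Finsupp.linearCombination_apply, Finsupp.sum, Finset.smul_sum] at h2
      rw [← h2]
      apply Finset.sum_congr rfl
      intro β hβ
      rw [← smul_assoc, ← ha β hβ, algebraMap_smul]
      unfold vec
      rw [LocalizedModule.mkLinearMap_apply, ← smul_f_one, LocalizedModule.smul'_mk]
    obtain ⟨t, ht⟩ := (IsLocalizedModule.eq_zero_iff p.primeCompl
      (LocalizedModule.mkLinearMap p.primeCompl X)).mp h1
    rw [Finset.smul_sum] at ht
    have hind' : iSupIndep (fun β : {α : Λ // P α = p} => J β.1) :=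
      hind.comp Subtype.val_injective
    have h3 := (iSupIndep_iff_finsetSum_eq_zero_imp_eq_zero _).mp hind' c.support
      (fun β => t • f β.1 (Ideal.Quotient.mk (P β.1) (a β)))
      (fun β _ => (J β.1).smul_mem _ ((hf β.1).2.1 ⟨_, rfl⟩)) ht α hα
    have h4 : (t : R) * a α ∈ p := by
      have h5 : f α.1 (Ideal.Quotient.mk (P α.1) ((t : R) * a α)) = 0 := by
        rw [← h3]
        change f α.1 ((t : R) • Ideal.Quotient.mk (P α.1) (a α)) = _
        rw [map_smul]
        rfl
      have h6 := (hf α.1).1 (h5.trans (map_zero _).symm)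
      rw [Ideal.Quotient.eq_zero_iff_mem, α.2] at h6
      exact h6
    have h7 : a α ∈ p := (hp.mem_or_mem h4).resolve_left t.2
    have h8 : (b : R) • c α ∈ IsLocalRing.maximalIdeal (Localization.AtPrime p) := by
      rw [← ha α hα, ← Localization.AtPrime.map_eq_maximalIdeal]
      exact Ideal.mem_map_of_mem _ h7
    rw [Algebra.smul_def] at h8
    exact (Ideal.unit_mul_mem_iff_mem _ (IsLocalization.map_units _ b)).mp h8
  · intro h
    rw [Finsupp.linearCombination_apply, Finsupp.sum]
    apply Finset.sum_eq_zero
    intro α _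
    exact (Submodule.mem_torsionBySet_iff _ _).mp (vec_mem_soc p P f α) ⟨c α, h α⟩

include hph hJ hind htop hP hf in
/-- the vectors `vec α` span the socle -/
theorem range_linearCombination :
    LinearMap.range (Finsupp.linearCombination (Localization.AtPrime p) (vec p P f)) =
      soc p X := by
  apply le_antisymm
  · rw [Finsupp.range_linearCombination, Submodule.span_le]
    rintro _ ⟨α, rfl⟩
    exact vec_mem_soc p P f α
  · apply soc_le' 𝒜 𝒳 p hph J hJ hind htop
    intro α g y hy hyJ hpy
    by_cases hy0 : y = 0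
    · subst hy0
      rw [LocalizedModule.zero_mk]
      exact Submodule.zero_mem _
    · have hQ : (Submodule.span R {y}).IsHomogeneous 𝒳 := by
        apply Gr.span_isHomogeneous 𝒜 𝒳
        intro x hx
        rw [Set.mem_singleton_iff] at hx
        exact ⟨g, hx ▸ hy⟩
      have hQ0 : Submodule.span R {y} ≠ ⊥ := by
        intro h
        rw [Submodule.span_singleton_eq_bot] at h
        exact hy0 h
      have hQJ : Submodule.span R {y} ≤ J α := by
        rw [Submodule.span_le, Set.singleton_subset_iff]
        exact hyJ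
      have := (hf α).2.2 _ hQ hQJ hQ0
      rw [Submodule.ne_bot_iff] at this
      obtain ⟨z, hz, hz0⟩ := this
      obtain ⟨r, rfl⟩ := Submodule.mem_span_singleton.mp hz.1
      obtain ⟨b', hb'⟩ := hz.2
      obtain ⟨b, rfl⟩ := Ideal.Quotient.mk_surjective b'
      have hrp : r ∉ p := fun h => hz0 (hpy r h)
      have hbP : b ∉ P α := by
        intro h
        apply hz0
        rw [← hb', Ideal.Quotient.eq_zero_iff_mem.mpr h, map_zero]
      have hann : ∀ a : R, a • r • y = 0 → a ∈ P α := by
        intro a ha
        rw [← hb', ← map_smul] at ha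
        have h1 := (hf α).1 (ha.trans (map_zero _).symm)
        have h2 : Ideal.Quotient.mk (P α) (a * b) = 0 := h1
        rw [Ideal.Quotient.eq_zero_iff_mem] at h2
        exact ((hP α).mem_or_mem h2).resolve_right hbP
      have hle : p ≤ P α := by
        intro a ha
        apply hann
        rw [smul_comm, hpy a ha, smul_zero]
      by_cases hPp : P α = p
      · rw [Finsupp.range_linearCombination]
        have h1 : LocalizedModule.mk y (1 : p.primeCompl) =
            (Localization.mk b ⟨r, hrp⟩ : Localization.AtPrime p) • vec p P f ⟨α, hPp⟩ := by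
          unfold vec
          rw [LocalizedModule.mk_smul_mk, mul_one, smul_f_one, hb']
          have := LocalizedModule.mk_cancel_common_left (⟨r, hrp⟩ : p.primeCompl) 1 y
          rw [mul_one] at this
          exact this.symm
        rw [h1]
        exact Submodule.smul_mem _ _ (Submodule.subset_span ⟨_, rfl⟩)
      · have hex : ∃ a ∈ P α, a ∉ p := by
          by_contra hcon
          push Not at hcon
          exact hPp (le_antisymm hcon hle)
        obtain ⟨a, haP, hap⟩ := hex
        have har : a * r ∉ p := fun h => (hp.mem_or_mem h).elim hap hrp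
        have h0 : (a * r) • y = 0 := by
          rw [mul_smul, ← hb', ← map_smul]
          have : a • (Ideal.Quotient.mk (P α) b) = 0 := by
            change Ideal.Quotient.mk (P α) (a * b) = 0
            exact Ideal.Quotient.eq_zero_iff_mem.mpr (Ideal.mul_mem_right _ _ haP)
          rw [this, map_zero]
        have := LocalizedModule.mk_cancel_common_left (⟨a * r, har⟩ : p.primeCompl) 1 y
        rw [mul_one] at this
        rw [← this]
        have h1 : (⟨a * r, har⟩ : p.primeCompl) • y = 0 := h0
        rw [h1, LocalizedModule.zero_mk]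
        exact Submodule.zero_mem _

include hph hJ hind htop hP hf in
/-- the socle of `X_p` has a basis indexed by the summands belonging to `p` -/
theorem length_soc_eq :
    Module.length (Localization.AtPrime p) (soc p X) = ENat.card {α : Λ // P α = p} := by
  classical
  let m := IsLocalRing.maximalIdeal (Localization.AtPrime p)
  let Ψ := Finsupp.linearCombination (Localization.AtPrime p) (vec p P f)
  let π : ({α : Λ // P α = p} →₀ Localization.AtPrime p) →ₗ[Localization.AtPrime p]
      ({α : Λ // P α = p} →₀ (Localization.AtPrime p ⧸ m)) :=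
    Finsupp.mapRange.linearMap (Submodule.mkQ m)
  have hπ : Function.Surjective π :=
    Finsupp.mapRange_surjective _ (map_zero _) (Submodule.mkQ_surjective m)
  have hker : LinearMap.ker π = LinearMap.ker Ψ := by
    ext c
    rw [LinearMap.mem_ker, LinearMap.mem_ker,
      linearCombination_eq_zero_iff 𝒳 p J hind P f hf c]
    constructor
    · intro h α
      have := DFunLike.congr_fun h α
      rw [Finsupp.mapRange.linearMap_apply, Finsupp.mapRange_apply, Finsupp.zero_apply,
        Submodule.mkQ_apply, Submodule.Quotient.mk_eq_zero] at this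
      exact this
    · intro h
      ext α
      rw [Finsupp.mapRange.linearMap_apply, Finsupp.mapRange_apply, Finsupp.zero_apply,
        Submodule.mkQ_apply, Submodule.Quotient.mk_eq_zero]
      exact h α
  have e : ({α : Λ // P α = p} →₀ (Localization.AtPrime p ⧸ m)) ≃ₗ[Localization.AtPrime p]
      soc p X :=
    (π.quotKerEquivOfSurjective hπ).symm ≪≫ₗ Submodule.quotEquivOfEq _ _ hker ≪≫ₗ
      Ψ.quotKerEquivRange ≪≫ₗ
      LinearEquiv.ofEq _ _ (range_linearCombination 𝒜 𝒳 p hph J hJ hind htop P hP f hf)
  rw [← e.length_eq, Module.length_finsupp]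
  haveI : IsSimpleModule (Localization.AtPrime p) (Localization.AtPrime p ⧸ m) :=
    IH.isSimpleModule_residue
  rw [Module.length_eq_one, mul_one]

include hph hJ hind htop hP hf in
theorem bassNum_zero_eq_card :
    GrLC.bassNum p X 0 = ENat.card {α : Λ // P α = p} := by
  rw [bassNum_zero_eq]
  exact length_soc_eq 𝒜 𝒳 p hph J hJ hind htop P hP f hf


end Decomp

end Soc

end Groth.Agent.H6
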