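import Groth.Agent.Lib.Helper6.Sp6

/-! # S0884: stalks of higher direct images along a spectral map (main) -/

set_option autoImplicit false

open CategoryTheory CategoryTheory.Limits TopologicalSpace Opposite TopCat Set Abelian Topology

namespace Groth.Agent.H6.Sp

open Groth.Agent.H6.CL

universe u

theorem s884 {X Y : TopCat.{u}} [SpectralSpace X] [SpectralSpace Y]
    (f : X ⟶ Y) (hf : IsSpectralMap f) (y : Y) (F : CohTop.Ab X) (p : ℕ) :
    Nonempty (CohTop.stalk ((CohTop.Rpush f p).obj F) y ≃+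
      CohTop.H ((CohTop.pull (TopCat.ofHom ⟨Subtype.val, continuous_subtype_val⟩ :
          TopCat.of {x : X | y ∈ closure {f x}} ⟶ X)).obj F) p) := by
  obtain ⟨e0⟩ := Groth.Agent.S0461.result f F p
  let Q : (Opens Y)ᵒᵖ ⥤ AddCommGrpCat.{u} := (Opens.map f).op ⋙ Sheaf.cohomologyPresheaf.{u} F p
  -- the stalk of `R^p f_* F` is the stalk of the presheaf `Q`
  let e1 : CohTop.stalk ((CohTop.Rpush f p).obj F) y ≅ TopCat.Presheaf.stalk Q y :=
    (TopCat.Sheaf.forget AddCommGrpCat.{u} Y ⋙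
      TopCat.Presheaf.stalkFunctor AddCommGrpCat.{u} y).mapIso e0 ≪≫
      ((stalkSheafifyNatIso y).app Q).symm
  let e2 := stalkIso f y (Sheaf.cohomologyPresheaf.{u} F p)
  obtain ⟨e3⟩ := nonempty_colimit_equiv (PF f y)
    (by
      rintro U ⟨V, -, hVc, rfl⟩
      exact hf.isCompact_preimage_of_isOpen V.2 hVc)
    (by
      rintro U U' ⟨V, hyV, hVc, rfl⟩ ⟨V', hyV', hVc', rfl⟩
      exact ⟨V ⊓ V', ⟨hyV, hyV'⟩,
        QuasiSeparatedSpace.inter_isCompact _ _ V.2 hVc V'.2 hVc', rfl⟩)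
    ⟨(Opens.map f).obj ⊤, ⊤, trivial, isCompact_univ, rfl⟩
    {x : X | y ∈ closure {f x}}
    (by
      intro x
      constructor
      · rintro hx U ⟨V, hyV, -, rfl⟩
        obtain ⟨z, hzV, hz⟩ := mem_closure_iff.mp hx V V.2 hyV
        rw [mem_singleton_iff] at hz
        subst hz
        exact hzV
      · intro h
        rw [mem_setOf_eq, mem_closure_iff]
        intro O hO hyO
        obtain ⟨Q', ⟨hQo, hQc⟩, hyQ, hQO⟩ :=
          (PrespectralSpace.isTopologicalBasis (X := Y)).exists_subset_of_mem_open hyO hO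
        refine ⟨f x, hQO ?_, mem_singleton _⟩
        exact h ((Opens.map f).obj ⟨Q', hQo⟩) ⟨⟨Q', hQo⟩, hyQ, hQc, rfl⟩)
    F p
  exact ⟨((e1 ≪≫ e2).addCommGroupIsoToAddEquiv).trans e3⟩

end Groth.Agent.H6.Sp
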