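import Mathlib
import Groth.Prelude.Def_SpSeq

/-!
# The spectral sequence of a filtered complex with degreewise finite filtration (S6792)

For a filtered complex whose filtration is finite in each degree: boundedness of page `0`,
finiteness of the induced filtration on cohomology, and convergence.
-/

set_option autoImplicit false
universe v u
open CategoryTheory CategoryTheory.Limits

namespace Groth.Agent.H6.SpSeqFin

variable {A : Type u} [Category.{v} A] [Abelian A]

section General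

/-- pulling `⊥` back along `f` gives the kernel -/
theorem pullback_bot_eq_kernel {X Y : A} (f : X ⟶ Y) :
    (Subobject.pullback f).obj ⊥ = kernelSubobject f := by
  apply le_antisymm
  · apply le_kernelSubobject
    have h1 : ((Subobject.pullback f).obj ⊥).Factors ((Subobject.pullback f).obj ⊥).arrow :=
      Subobject.factors_self _
    rw [pullback_factors_iff] at h1
    exact (Subobject.bot_factors_iff_zero _).mp h1
  · exact SpSeq.FilCx.kernelSubobject_le_pullback f ⊥

theorem imageSubobject_arrow_comp_of_eq_top {X Y : A} (S : Subobject X) (hS : S = ⊤)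
    (f : X ⟶ Y) : imageSubobject (S.arrow ≫ f) = imageSubobject f := by
  subst hS
  exact imageSubobject_iso_comp _ f

theorem imageSubobject_eq_top_of_epi {X Y : A} (f : X ⟶ Y) [Epi f] : imageSubobject f = ⊤ := by
  haveI : Epi (imageSubobject f).arrow := by
    have h : factorThruImageSubobject f ≫ (imageSubobject f).arrow = f :=
      imageSubobject_arrow_comp f
    exact epi_of_epi_fac h
  haveI : IsIso (imageSubobject f).arrow := isIso_of_mono_of_epi _
  exact Subobject.eq_top_of_isIso_arrow _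

theorem imageSubobject_eq_bot_of_eq_zero {X Y : A} (g : X ⟶ Y) [HasImage g] (hg : g = 0) :
    imageSubobject g = ⊥ := by
  subst hg
  exact imageSubobject_zero

theorem arrow_eq_zero_of_eq_bot {X : A} (S : Subobject X) (h : S = ⊥) : S.arrow = 0 := by
  subst h
  exact Subobject.bot_arrow

/-- the subquotient `Z/B` vanishes when `Z = B` -/
theorem isZero_subquot_of_eq {X : A} (Z B : Subobject X) (h : B ≤ Z) (heq : Z = B) :
    IsZero (SpSeq.subquot Z B h) := by
  subst heq
  haveI : IsIso (Z.ofLE Z h) := by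
    rw [show Z.ofLE Z h = 𝟙 _ from Subobject.ofLE_refl Z]
    infer_instance
  exact isZero_cokernel_of_epi _

theorem exists_section_of_zero {X Y : A} (f : X ⟶ Y) (hf : f = 0) :
    ∃ s : cokernel f ⟶ Y, cokernel.π f ≫ s = 𝟙 Y ∧ s ≫ cokernel.π f = 𝟙 _ := by
  refine ⟨cokernel.desc f (𝟙 Y) (by rw [hf, zero_comp]), cokernel.π_desc _ _ _, ?_⟩
  rw [← cancel_epi (cokernel.π f), ← Category.assoc, cokernel.π_desc, Category.id_comp,
    Category.comp_id]

theorem isSeparated_of_isDiscrete (L : SpSeq.FilObj A) (h : ∃ b : ℤ, L.fil b = ⊥) :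
    L.IsSeparated := by
  obtain ⟨b, hb⟩ := h
  constructor
  · rintro _ ⟨p, rfl⟩
    exact bot_le
  · intro S hS
    have h1 : S ≤ L.fil b := hS ⟨b, rfl⟩
    rwa [hb] at h1

theorem isExhaustive_of_isCodiscrete (L : SpSeq.FilObj A) (h : ∃ a : ℤ, L.fil a = ⊤) :
    L.IsExhaustive := by
  obtain ⟨a, ha⟩ := h
  constructor
  · rintro _ ⟨p, rfl⟩
    exact le_top
  · intro S hS
    have h1 : L.fil a ≤ S := hS ⟨a, rfl⟩
    rwa [ha] at h1

theorem isComplete_of_isDiscrete (L : SpSeq.FilObj A) (h : ∃ b : ℤ, L.fil b = ⊥) :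
    L.IsComplete := by
  obtain ⟨b, hb⟩ := h
  intro T f hf
  have harrow : ∀ p, b ≤ p → (L.fil p).arrow = 0 := by
    intro p hp
    have h1 : L.fil p ≤ L.fil b := L.anti hp
    rw [hb] at h1
    exact arrow_eq_zero_of_eq_bot _ (le_bot_iff.mp h1)
  obtain ⟨sb, hsb1, hsb2⟩ := exists_section_of_zero (L.fil b).arrow (harrow b le_rfl)
  have hπq : ∀ (p q : ℤ) (h : p ≤ q),
      cokernel.π (L.fil q).arrow ≫ L.quotMap h = cokernel.π (L.fil p).arrow := by
    intro p q h
    unfold SpSeq.FilObj.quotMap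
    exact cokernel.π_desc _ _ _
  refine ⟨f b ≫ sb, fun p => ?_⟩
  rcases le_total p b with hp | hp
  · rw [Category.assoc, ← hπq p b hp, ← Category.assoc sb, hsb2, Category.id_comp]
    exact hf p b hp
  · have key : L.quotMap hp ≫ sb ≫ cokernel.π (L.fil p).arrow = 𝟙 _ := by
      rw [← cancel_epi (cokernel.π (L.fil p).arrow), ← Category.assoc, hπq b p hp,
        ← Category.assoc, hsb1, Category.id_comp, Category.comp_id]
    rw [← hf b p hp, Category.assoc, Category.assoc, key, Category.comp_id]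

end General

section Main

variable (K : SpSeq.FilCx A)

theorem filX_eq_bot_of_le {p q n : ℤ} (h : p ≤ q) (hp : K.filX p n = ⊥) : K.filX q n = ⊥ := by
  have h1 : K.filX q n ≤ K.filX p n := K.filX_anti n h
  rw [hp] at h1
  exact le_bot_iff.mp h1

theorem filX_eq_top_of_le {p q n : ℤ} (h : p ≤ q) (hq : K.filX q n = ⊤) : K.filX p n = ⊤ := by
  have h1 : K.filX q n ≤ K.filX p n := K.filX_anti n h
  rw [hq] at h1
  exact top_le_iff.mp h1

theorem isBounded_zero (hK : ∀ n : ℤ, (K.XFil n).IsFinite) : K.IsBounded 0 := by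
  intro n
  obtain ⟨⟨a, ha⟩, ⟨b, hb⟩⟩ := hK n
  change K.filX a n = ⊤ at ha
  change K.filX b n = ⊥ at hb
  apply Set.Finite.subset (Set.finite_Ico a b)
  intro p hp
  change ¬ IsZero (K.E 0 p n) at hp
  rw [Set.mem_Ico]
  by_contra hcon
  apply hp
  apply isZero_subquot_of_eq
  by_cases h1 : a ≤ p
  · have h2 : b ≤ p := by
      by_contra h2'
      exact hcon ⟨h1, not_le.mp h2'⟩
    have e1 : K.filX p n = ⊥ := filX_eq_bot_of_le K h2 hb
    have e2 : K.filX (p + 1) n = ⊥ := filX_eq_bot_of_le K (by omega) hb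
    unfold SpSeq.FilCx.ZSub SpSeq.FilCx.BSub
    rw [e1, e2, bot_inf_eq, bot_inf_eq]
  · have e2 : K.filX (p + 1) n = ⊤ := filX_eq_top_of_le K (by omega) ha
    unfold SpSeq.FilCx.ZSub SpSeq.FilCx.BSub
    rw [e2, sup_top_eq, sup_top_eq]

theorem isIso_f_of_filX_eq_top {p n : ℤ} (h : K.filX p n = ⊤) :
    IsIso ((K.fil p).arrow.f n) :=
  (Subobject.isIso_iff_mk_eq_top _).mpr h

theorem filH_eq_top {p n : ℤ} (h1 : K.filX p (n - 1) = ⊤) (h2 : K.filX p n = ⊤) :
    K.filH p n = ⊤ := by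
  haveI i1 : IsIso ((K.fil p).arrow.f (n - 1)) := isIso_f_of_filX_eq_top K h1
  haveI i2 : IsIso ((K.fil p).arrow.f n) := isIso_f_of_filX_eq_top K h2
  haveI : IsIso (HomologicalComplex.homologyMap (K.fil p).arrow n) := by
    unfold HomologicalComplex.homologyMap
    apply ShortComplex.isIso_homologyMap_of_epi_of_isIso_of_mono'
    · change Epi ((K.fil p).arrow.f ((ComplexShape.up ℤ).prev n))
      rw [CochainComplex.prev]
      infer_instance
    · exact i2
    · change Mono ((K.fil p).arrow.f ((ComplexShape.up ℤ).next n))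
      infer_instance
  exact imageSubobject_eq_top_of_epi _

theorem filH_eq_bot {p n : ℤ} (h : K.filX p n = ⊥) : K.filH p n = ⊥ := by
  have h0 : (K.fil p).arrow.f n = 0 := Subobject.mk_eq_bot_iff_zero.mp h
  have h1 : HomologicalComplex.homologyMap (K.fil p).arrow n = 0 := by
    have hc : HomologicalComplex.cyclesMap (K.fil p).arrow n = 0 := by
      rw [← cancel_mono (K.obj.iCycles n), HomologicalComplex.cyclesMap_i, h0, comp_zero,
        zero_comp]
    rw [← cancel_epi ((K.fil p : CochainComplex A ℤ).homologyπ n),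
      HomologicalComplex.homologyπ_naturality, hc, zero_comp, comp_zero]
  unfold SpSeq.FilCx.filH
  exact imageSubobject_eq_bot_of_eq_zero _ h1

theorem ZSub_eq_ZTop {r : ℕ} {p n : ℤ} (h : K.filX (p + r) (n + 1) = ⊥) :
    K.ZSub r p n = K.ZTop p n := by
  unfold SpSeq.FilCx.ZSub SpSeq.FilCx.ZTop
  rw [h, pullback_bot_eq_kernel]

theorem BSub_eq_BBot {r : ℕ} {p n : ℤ} (h : K.filX (p - r + 1) (n - 1) = ⊤) :
    K.BSub r p n = K.BBot p n := by
  unfold SpSeq.FilCx.BSub SpSeq.FilCx.BBot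
  rw [imageSubobject_arrow_comp_of_eq_top _ h]

theorem isRegular (hK : ∀ n : ℤ, (K.XFil n).IsFinite) : K.IsRegular := by
  intro p n
  obtain ⟨-, ⟨b, hb⟩⟩ := hK (n + 1)
  change K.filX b (n + 1) = ⊥ at hb
  refine ⟨(b - p).toNat, fun r hr => ?_⟩
  have h1 : K.filX (p + (r : ℕ)) (n + 1) = ⊥ := filX_eq_bot_of_le K (by omega) hb
  have h2 : K.filX (p + ((b - p).toNat : ℕ)) (n + 1) = ⊥ := filX_eq_bot_of_le K (by omega) hb
  rw [ZSub_eq_ZTop K h1, ZSub_eq_ZTop K h2]

theorem weaklyConverges (hK : ∀ n : ℤ, (K.XFil n).IsFinite) : K.WeaklyConverges := by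
  intro p n
  constructor
  · obtain ⟨-, ⟨b, hb⟩⟩ := hK (n + 1)
    change K.filX b (n + 1) = ⊥ at hb
    have h2 : K.filX (p + ((b - p).toNat : ℕ)) (n + 1) = ⊥ :=
      filX_eq_bot_of_le K (by omega) hb
    constructor
    · rintro _ ⟨r, rfl⟩
      exact sup_le_sup_right
        (inf_le_inf_left _ (SpSeq.FilCx.kernelSubobject_le_pullback _ _)) _
    · intro S hS
      have h3 : S ≤ K.ZSub ((b - p).toNat) p n := hS ⟨_, rfl⟩
      rwa [ZSub_eq_ZTop K h2] at h3
  · obtain ⟨⟨a, ha⟩, -⟩ := hK (n - 1)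
    change K.filX a (n - 1) = ⊤ at ha
    have h2 : K.filX (p - ((p + 1 - a).toNat : ℕ) + 1) (n - 1) = ⊤ :=
      filX_eq_top_of_le K (by omega) ha
    constructor
    · rintro _ ⟨r, rfl⟩
      exact sup_le_sup_right (inf_le_inf_left _ (imageSubobject_comp_le _ _)) _
    · intro S hS
      have h3 : K.BSub ((p + 1 - a).toNat) p n ≤ S := hS ⟨_, rfl⟩
      rwa [BSub_eq_BBot K h2] at h3

theorem hFil_isFinite (hK : ∀ n : ℤ, (K.XFil n).IsFinite) (n : ℤ) : (K.HFil n).IsFinite := by
  obtain ⟨⟨a₁, ha₁⟩, -⟩ := hK (n - 1)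
  obtain ⟨⟨a₂, ha₂⟩, ⟨b, hb⟩⟩ := hK n
  change K.filX a₁ (n - 1) = ⊤ at ha₁
  change K.filX a₂ n = ⊤ at ha₂
  change K.filX b n = ⊥ at hb
  refine ⟨⟨min a₁ a₂, ?_⟩, ⟨b, ?_⟩⟩
  · change K.filH (min a₁ a₂) n = ⊤
    exact filH_eq_top K (filX_eq_top_of_le K (min_le_left _ _) ha₁)
      (filX_eq_top_of_le K (min_le_right _ _) ha₂)
  · change K.filH b n = ⊥
    exact filH_eq_bot K hb

/-- **S6792** -/
theorem main (hK : ∀ n : ℤ, (K.XFil n).IsFinite) :
    K.IsBounded 0 ∧ (∀ n : ℤ, (K.HFil n).IsFinite) ∧ K.Converges := by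
  have hfin := hFil_isFinite K hK
  exact ⟨isBounded_zero K hK, hfin, isRegular K hK,
    ⟨weaklyConverges K hK, fun n =>
      ⟨isSeparated_of_isDiscrete _ (hfin n).2, isExhaustive_of_isCodiscrete _ (hfin n).1⟩⟩,
    fun n => isComplete_of_isDiscrete _ (hfin n).2⟩

end Main

end Groth.Agent.H6.SpSeqFin
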