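import Mathlib
import Groth.Prelude.Def_SpSeq
import Groth.Agent.Lib.Helper6.SpSeqFin

/-!
# Convergence of the spectral sequence of a filtered complex under cohomological
boundedness hypotheses (S6794)

If `H^n(F^p K) = 0` for `p ≫ 0` and `H^n(F^p K) → H^n(K)` is an isomorphism for `p ≪ 0`
(for each `n`), then the spectral sequence of `K` is bounded from page `1`, the induced
filtrations on cohomology are finite, and the spectral sequence converges.
The diagram chases are done "up to refinements".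
-/

set_option autoImplicit false
universe v u
open CategoryTheory CategoryTheory.Limits

namespace Groth.Agent.H6.SpSeqConv

variable {A : Type u} [Category.{v} A] [Abelian A]

section Toolkit

/-- membership in a subobject can be checked after a refinement -/
theorem factors_of_epi_comp {X T T' : A} (S : Subobject X) (π : T' ⟶ T) [Epi π] (x : T ⟶ X)
    (h : S.Factors (π ≫ x)) : S.Factors x := by
  have h0 : x ≫ cokernel.π S.arrow = 0 := by
    rw [← cancel_epi π, comp_zero, ← Category.assoc, ← S.factorThru_arrow (π ≫ x) h,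
      Category.assoc, cokernel.condition, comp_zero]
  rw [← Abelian.monoLift_comp S.arrow x h0]
  exact Subobject.factors_comp_arrow _

theorem image_factors_of_refinement {X Y T T' : A} (f : X ⟶ Y) (x : T ⟶ Y) (π : T' ⟶ T)
    [Epi π] (y : T' ⟶ X) (h : π ≫ x = y ≫ f) : (imageSubobject f).Factors x := by
  apply factors_of_epi_comp _ π
  rw [h]
  exact imageSubobject_factors_comp_self f y

theorem exists_refinement_of_image_factors {X Y T : A} (f : X ⟶ Y) (x : T ⟶ Y)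
    (h : (imageSubobject f).Factors x) :
    ∃ (T' : A) (π : T' ⟶ T) (_ : Epi π) (y : T' ⟶ X), π ≫ x = y ≫ f := by
  obtain ⟨T', π, hπ, y, hy⟩ := surjective_up_to_refinements_of_epi (factorThruImageSubobject f)
    ((imageSubobject f).factorThru x h)
  refine ⟨T', π, hπ, y, ?_⟩
  rw [← (imageSubobject f).factorThru_arrow x h, ← Category.assoc, hy, Category.assoc,
    imageSubobject_arrow_comp]

theorem image_mk_arrow_factors {X Y Z T : A} (f : X ⟶ Y) [Mono f] (g : Y ⟶ Z) (u : T ⟶ X) :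
    (imageSubobject ((Subobject.mk f).arrow ≫ g)).Factors (u ≫ f ≫ g) := by
  have h : u ≫ f ≫ g =
      (u ≫ (Subobject.underlyingIso f).inv) ≫ ((Subobject.mk f).arrow ≫ g) := by
    rw [Category.assoc, Subobject.underlyingIso_arrow_assoc]
  rw [h]
  exact imageSubobject_factors_comp_self _ _

end Toolkit

section Main

variable (K : SpSeq.FilCx A)

/-- exactness of `F^p K` at `j`, elementwise up to refinements -/
def ExactEl (p i j k : ℤ) : Prop :=
  ∀ ⦃T : A⦄ (x₂ : T ⟶ (K.fil p : CochainComplex A ℤ).X j)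
    (_ : x₂ ≫ (K.fil p : CochainComplex A ℤ).d j k = 0),
    ∃ (T' : A) (π : T' ⟶ T) (_ : Epi π) (x₁ : T' ⟶ (K.fil p : CochainComplex A ℤ).X i),
      π ≫ x₂ = x₁ ≫ (K.fil p : CochainComplex A ℤ).d i j

/-- injectivity of `H^j(F^p K) → H^j(K)`, elementwise up to refinements -/
def MonoEl (p i j k : ℤ) : Prop :=
  ∀ ⦃T : A⦄ (x₂ : T ⟶ (K.fil p : CochainComplex A ℤ).X j)
    (_ : x₂ ≫ (K.fil p : CochainComplex A ℤ).d j k = 0) (y₁ : T ⟶ K.obj.X i)
    (_ : x₂ ≫ (K.fil p).arrow.f j = y₁ ≫ K.obj.d i j),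
    ∃ (T' : A) (π : T' ⟶ T) (_ : Epi π) (x₁ : T' ⟶ (K.fil p : CochainComplex A ℤ).X i),
      π ≫ x₂ = x₁ ≫ (K.fil p : CochainComplex A ℤ).d i j

/-- surjectivity of `H^j(F^p K) → H^j(K)`, elementwise up to refinements -/
def EpiEl (p i j k : ℤ) : Prop :=
  ∀ ⦃T : A⦄ (y₂ : T ⟶ K.obj.X j) (_ : y₂ ≫ K.obj.d j k = 0),
    ∃ (T' : A) (π : T' ⟶ T) (_ : Epi π) (x₂ : T' ⟶ (K.fil p : CochainComplex A ℤ).X j)
      (_ : x₂ ≫ (K.fil p : CochainComplex A ℤ).d j k = 0) (y₁ : T' ⟶ K.obj.X i),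
      π ≫ y₂ = x₂ ≫ (K.fil p).arrow.f j + y₁ ≫ K.obj.d i j

theorem exactEl_of_isZero {p i j k : ℤ} (hij : i + 1 = j) (hjk : j + 1 = k)
    (h : IsZero ((K.fil p : CochainComplex A ℤ).homology j)) : ExactEl K p i j k := by
  have hex : (K.fil p : CochainComplex A ℤ).ExactAt j :=
    (HomologicalComplex.exactAt_iff_isZero_homology _ _).mpr h
  exact ((K.fil p : CochainComplex A ℤ).exactAt_iff_exact_up_to_refinements i j k
    ((ComplexShape.up ℤ).prev_eq' hij) ((ComplexShape.up ℤ).next_eq' hjk)).mp hex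

theorem monoEl_of_mono {p i j k : ℤ} (hij : i + 1 = j) (hjk : j + 1 = k)
    (h : Mono (HomologicalComplex.homologyMap (K.fil p).arrow j)) : MonoEl K p i j k :=
  (HomologicalComplex.mono_homologyMap_iff_up_to_refinements (K.fil p).arrow i j k
    ((ComplexShape.up ℤ).prev_eq' hij) ((ComplexShape.up ℤ).next_eq' hjk)).mp h

theorem epiEl_of_epi {p i j k : ℤ} (hij : i + 1 = j) (hjk : j + 1 = k)
    (h : Epi (HomologicalComplex.homologyMap (K.fil p).arrow j)) : EpiEl K p i j k :=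
  (HomologicalComplex.epi_homologyMap_iff_up_to_refinements (K.fil p).arrow i j k
    ((ComplexShape.up ℤ).prev_eq' hij) ((ComplexShape.up ℤ).next_eq' hjk)).mp h

theorem filX_factors_iff {p n : ℤ} {T : A} (x : T ⟶ K.obj.X n) :
    (K.filX p n).Factors x ↔
      ∃ x' : T ⟶ (K.fil p : CochainComplex A ℤ).X n, x' ≫ (K.fil p).arrow.f n = x :=
  Subobject.mk_factors_iff _ _

theorem filX_factors_comp {p n : ℤ} {T : A} (x' : T ⟶ (K.fil p : CochainComplex A ℤ).X n) :
    (K.filX p n).Factors (x' ≫ (K.fil p).arrow.f n) :=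
  (filX_factors_iff K _).mpr ⟨x', rfl⟩

theorem filX_factors_of_le {p q n : ℤ} (h : q ≤ p) {T : A} {x : T ⟶ K.obj.X n}
    (hx : (K.filX p n).Factors x) : (K.filX q n).Factors x :=
  Subobject.factors_of_le x (K.filX_anti n h) hx

theorem cocycle_of_comp {p j k : ℤ} {T : A} (z : T ⟶ (K.fil p : CochainComplex A ℤ).X j)
    (h : (z ≫ (K.fil p).arrow.f j) ≫ K.obj.d j k = 0) :
    z ≫ (K.fil p : CochainComplex A ℤ).d j k = 0 := by
  rw [← cancel_mono ((K.fil p).arrow.f k), zero_comp, Category.assoc,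
    ← (K.fil p).arrow.comm j k, ← Category.assoc]
  exact h

/-- the corrected element `π ≫ x - y` is a cocycle -/
theorem corrected_cocycle {q n n' : ℤ} {T T' : A} (x : T ⟶ K.obj.X n) (π : T' ⟶ T)
    (z : T ⟶ (K.fil q : CochainComplex A ℤ).X n')
    (hz : z ≫ (K.fil q).arrow.f n' = x ≫ K.obj.d n n')
    (y : T' ⟶ (K.fil q : CochainComplex A ℤ).X n)
    (hy : π ≫ z = y ≫ (K.fil q : CochainComplex A ℤ).d n n') :
    (π ≫ x + (-y) ≫ (K.fil q).arrow.f n) ≫ K.obj.d n n' = 0 := by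
  have h1 : (π ≫ x) ≫ K.obj.d n n' =
      (y ≫ (K.fil q : CochainComplex A ℤ).d n n') ≫ (K.fil q).arrow.f n' := by
    rw [Category.assoc, ← hz, ← Category.assoc, hy]
  have h2 : ((-y) ≫ (K.fil q).arrow.f n) ≫ K.obj.d n n' =
      -((y ≫ (K.fil q : CochainComplex A ℤ).d n n') ≫ (K.fil q).arrow.f n') := by
    rw [Category.assoc, (K.fil q).arrow.comm n n', Preadditive.neg_comp, Category.assoc]
  rw [Preadditive.add_comp, h1, h2, add_neg_cancel]

/-- chase R: `Z_r ⊆ Z_∞` when `H^{n+1}(F^q K) = 0` -/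
theorem chaseR_el {p q n n' n'' : ℤ} (hq : p + 1 ≤ q) (hex : ExactEl K q n n' n'') {T : A}
    (x : T ⟶ K.obj.X n) (hx1 : (K.filX p n).Factors x)
    (hx2 : (K.filX q n').Factors (x ≫ K.obj.d n n')) :
    ((K.filX p n ⊓ kernelSubobject (K.obj.d n n')) ⊔ K.filX (p + 1) n).Factors x := by
  obtain ⟨z, hz⟩ := (filX_factors_iff K _).mp hx2
  have hzc : z ≫ (K.fil q : CochainComplex A ℤ).d n' n'' = 0 := by
    apply cocycle_of_comp
    rw [hz, Category.assoc, K.obj.d_comp_d, comp_zero]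
  obtain ⟨T', π, hπ, y, hy⟩ := hex z hzc
  haveI := hπ
  apply factors_of_epi_comp _ π
  have hsplit : π ≫ x =
      (π ≫ x + (-y) ≫ (K.fil q).arrow.f n) + y ≫ (K.fil q).arrow.f n := by
    rw [Preadditive.neg_comp]
    abel
  rw [hsplit]
  apply Subobject.factors_add
  · apply Subobject.sup_factors_of_factors_left
    rw [Subobject.inf_factors]
    constructor
    · apply Subobject.factors_add
      · exact Subobject.factors_of_factors_right π hx1
      · exact filX_factors_of_le K (by omega) (filX_factors_comp K (-y))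
    · apply kernelSubobject_factors
      exact corrected_cocycle K x π z hz y hy
  · apply Subobject.sup_factors_of_factors_right
    exact filX_factors_of_le K hq (filX_factors_comp K y)

theorem chaseR {p q n n' n'' : ℤ} (hq : p + 1 ≤ q) (hex : ExactEl K q n n' n'') :
    K.filX p n ⊓ (Subobject.pullback (K.obj.d n n')).obj (K.filX q n') ≤
      (K.filX p n ⊓ kernelSubobject (K.obj.d n n')) ⊔ K.filX (p + 1) n := by
  apply Subobject.le_of_factors
  apply chaseR_el K hq hex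
  · exact Subobject.inf_arrow_factors_left _ _
  · rw [← pullback_factors_iff]
    exact Subobject.inf_arrow_factors_right _ _

/-- chase Z0: cocycles in `F^p` are boundaries from `F^q` when `H^n(F^q K) = 0`, `q ≤ p` -/
theorem chaseZ0_el {p q m n n' : ℤ} (hq : q ≤ p) (hex : ExactEl K q m n n') {T : A}
    (x : T ⟶ K.obj.X n) (hx1 : (K.filX p n).Factors x) (hx2 : x ≫ K.obj.d n n' = 0) :
    (imageSubobject ((K.filX q m).arrow ≫ K.obj.d m n)).Factors x := by
  obtain ⟨x'', hx''⟩ := (filX_factors_iff K _).mp (filX_factors_of_le K hq hx1)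
  have hc : x'' ≫ (K.fil q : CochainComplex A ℤ).d n n' = 0 := by
    apply cocycle_of_comp
    rw [hx'']
    exact hx2
  obtain ⟨T', π, hπ, u, hu⟩ := hex x'' hc
  haveI := hπ
  apply factors_of_epi_comp _ π
  have h : π ≫ x = u ≫ (K.fil q).arrow.f m ≫ K.obj.d m n := by
    rw [← hx'', ← Category.assoc, hu, Category.assoc, ← (K.fil q).arrow.comm m n]
  rw [h]
  exact image_mk_arrow_factors _ _ u

/-- chase B: boundaries in `F^p` are boundaries from `F^q` when `H^n(F^q K) → H^n(K)` is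
injective, `q ≤ p` -/
theorem chaseB_el {p q m n n' : ℤ} (hq : q ≤ p) (hmono : MonoEl K q m n n') {T : A}
    (x : T ⟶ K.obj.X n) (hx1 : (K.filX p n).Factors x)
    (hx2 : (imageSubobject (K.obj.d m n)).Factors x) :
    (imageSubobject ((K.filX q m).arrow ≫ K.obj.d m n)).Factors x := by
  obtain ⟨x'', hx''⟩ := (filX_factors_iff K _).mp (filX_factors_of_le K hq hx1)
  obtain ⟨T₁, π₁, hπ₁, y₁, hy₁⟩ := exists_refinement_of_image_factors _ x hx2
  haveI := hπ₁
  have hxd : x ≫ K.obj.d n n' = 0 := by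
    rw [← cancel_epi π₁, comp_zero, ← Category.assoc, hy₁, Category.assoc, K.obj.d_comp_d,
      comp_zero]
  have hc : (π₁ ≫ x'') ≫ (K.fil q : CochainComplex A ℤ).d n n' = 0 := by
    apply cocycle_of_comp
    rw [Category.assoc π₁ x'', hx'', Category.assoc, hxd, comp_zero]
  obtain ⟨T₂, π₂, hπ₂, x₁, hx₁⟩ := hmono (π₁ ≫ x'') hc y₁
    (by rw [Category.assoc, hx'', hy₁])
  haveI := hπ₂
  apply factors_of_epi_comp _ (π₂ ≫ π₁)
  have h : (π₂ ≫ π₁) ≫ x = x₁ ≫ (K.fil q).arrow.f m ≫ K.obj.d m n := by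
    rw [← hx'', Category.assoc π₂ π₁, ← Category.assoc π₁ x'', ← Category.assoc π₂, hx₁,
      Category.assoc, ← (K.fil q).arrow.comm m n]
  rw [h]
  exact image_mk_arrow_factors _ _ x₁

/-- chase E: `Z_1 ⊆ B_1` for small `p` -/
theorem chaseE_el {p s q m n n' n'' : ℤ} (hs : p + 1 ≤ s) (hq : q ≤ p)
    (hm1 : MonoEl K s n n' n'') (he : EpiEl K s m n n') (hm2 : MonoEl K q m n n') {T : A}
    (x : T ⟶ K.obj.X n) (hx1 : (K.filX p n).Factors x)
    (hx2 : (K.filX s n').Factors (x ≫ K.obj.d n n')) :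
    ((K.filX p n ⊓ imageSubobject ((K.filX q m).arrow ≫ K.obj.d m n)) ⊔
      K.filX (p + 1) n).Factors x := by
  obtain ⟨z, hz⟩ := (filX_factors_iff K _).mp hx2
  have hzc : z ≫ (K.fil s : CochainComplex A ℤ).d n' n'' = 0 := by
    apply cocycle_of_comp
    rw [hz, Category.assoc, K.obj.d_comp_d, comp_zero]
  obtain ⟨T₁, π₁, hπ₁, y, hy⟩ := hm1 z hzc x hz
  haveI := hπ₁
  have hw := corrected_cocycle K x π₁ z hz y hy
  obtain ⟨T₂, π₂, hπ₂, z₂, _, v, hv⟩ := he _ hw
  haveI := hπ₂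
  have hvd : v ≫ K.obj.d m n =
      π₂ ≫ (π₁ ≫ x + (-y) ≫ (K.fil s).arrow.f n) + (-z₂) ≫ (K.fil s).arrow.f n := by
    rw [hv, Preadditive.neg_comp]
    abel
  have hvF : (K.filX p n).Factors (v ≫ K.obj.d m n) := by
    rw [hvd]
    apply Subobject.factors_add
    · apply Subobject.factors_of_factors_right
      apply Subobject.factors_add
      · exact Subobject.factors_of_factors_right π₁ hx1
      · exact filX_factors_of_le K (by omega) (filX_factors_comp K (-y))
    · exact filX_factors_of_le K (by omega) (filX_factors_comp K (-z₂))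
  obtain ⟨t, ht⟩ := (filX_factors_iff K _).mp (filX_factors_of_le K hq hvF)
  have htc : t ≫ (K.fil q : CochainComplex A ℤ).d n n' = 0 := by
    apply cocycle_of_comp
    rw [ht, Category.assoc, K.obj.d_comp_d, comp_zero]
  obtain ⟨T₃, π₃, hπ₃, u, hu⟩ := hm2 t htc v ht
  haveI := hπ₃
  apply factors_of_epi_comp _ (π₃ ≫ π₂ ≫ π₁)
  have e1 : π₂ ≫ π₁ ≫ x = z₂ ≫ (K.fil s).arrow.f n + v ≫ K.obj.d m n +
      π₂ ≫ y ≫ (K.fil s).arrow.f n := by
    have h3 := hv
    rw [Preadditive.comp_add, Preadditive.neg_comp, Preadditive.comp_neg] at h3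
    rw [← h3]
    abel
  have hfinal : (π₃ ≫ π₂ ≫ π₁) ≫ x =
      π₃ ≫ v ≫ K.obj.d m n + (π₃ ≫ z₂ + π₃ ≫ π₂ ≫ y) ≫ (K.fil s).arrow.f n := by
    calc (π₃ ≫ π₂ ≫ π₁) ≫ x = π₃ ≫ (π₂ ≫ π₁ ≫ x) := by simp only [Category.assoc]
      _ = π₃ ≫ (z₂ ≫ (K.fil s).arrow.f n + v ≫ K.obj.d m n +
            π₂ ≫ y ≫ (K.fil s).arrow.f n) := by rw [e1]
      _ = π₃ ≫ v ≫ K.obj.d m n + (π₃ ≫ z₂ + π₃ ≫ π₂ ≫ y) ≫ (K.fil s).arrow.f n := by
        simp only [Preadditive.comp_add, Preadditive.add_comp, Category.assoc]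
        abel
  rw [hfinal]
  apply Subobject.factors_add
  · apply Subobject.sup_factors_of_factors_left
    rw [Subobject.inf_factors]
    constructor
    · exact Subobject.factors_of_factors_right π₃ hvF
    · have h : π₃ ≫ v ≫ K.obj.d m n = u ≫ (K.fil q).arrow.f m ≫ K.obj.d m n := by
        rw [← ht, ← Category.assoc, hu, Category.assoc, ← (K.fil q).arrow.comm m n]
      rw [h]
      exact image_mk_arrow_factors _ _ u
  · apply Subobject.sup_factors_of_factors_right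
    exact filX_factors_of_le K hs (filX_factors_comp K _)

theorem ZSub_eq_ZTop {r : ℕ} {p n : ℤ} (hr : 1 ≤ r)
    (hex : ExactEl K (p + r) n (n + 1) (n + 1 + 1)) : K.ZSub r p n = K.ZTop p n := by
  apply le_antisymm
  · unfold SpSeq.FilCx.ZSub SpSeq.FilCx.ZTop
    exact sup_le (chaseR K (p := p) (q := p + (r : ℤ)) (by omega) hex) le_sup_right
  · exact sup_le_sup_right
      (inf_le_inf_left _ (SpSeq.FilCx.kernelSubobject_le_pullback _ _)) _

theorem BSub_eq_BBot {r : ℕ} {p n : ℤ} (hr : 1 ≤ r)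
    (hm : MonoEl K (p - r + 1) (n - 1) n (n + 1)) : K.BSub r p n = K.BBot p n := by
  apply le_antisymm
  · exact sup_le_sup_right (inf_le_inf_left _ (imageSubobject_comp_le _ _)) _
  · unfold SpSeq.FilCx.BSub SpSeq.FilCx.BBot
    apply sup_le_sup_right
    apply le_inf inf_le_left
    apply Subobject.le_of_factors
    apply chaseB_el K (p := p) (q := p - (r : ℤ) + 1) (m := n - 1) (n' := n + 1) (by omega) hm
    · exact Subobject.inf_arrow_factors_left _ _
    · exact Subobject.inf_arrow_factors_right _ _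

variable (h0 : ∀ n : ℤ, ∃ p₀ : ℤ, ∀ p : ℤ, p₀ ≤ p →
    IsZero ((K.fil p : CochainComplex A ℤ).homology n))
  (h1 : ∀ n : ℤ, ∃ p₁ : ℤ, ∀ p : ℤ, p ≤ p₁ →
    IsIso (HomologicalComplex.homologyMap (K.fil p).arrow n))

include h0 in
theorem isRegular : K.IsRegular := by
  intro p n
  obtain ⟨p₀, hp₀⟩ := h0 (n + 1)
  obtain ⟨r₀, hr1, hr2⟩ : ∃ r₀ : ℕ, 1 ≤ r₀ ∧ (p₀ - p).toNat ≤ r₀ :=
    ⟨max 1 (p₀ - p).toNat, le_max_left _ _, le_max_right _ _⟩
  refine ⟨r₀, fun r hr => ?_⟩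
  rw [ZSub_eq_ZTop K (le_trans hr1 hr)
      (exactEl_of_isZero K rfl rfl (hp₀ _ (by omega))),
    ZSub_eq_ZTop K hr1 (exactEl_of_isZero K rfl rfl (hp₀ _ (by omega)))]

include h0 h1 in
theorem weaklyConverges : K.WeaklyConverges := by
  intro p n
  constructor
  · obtain ⟨p₀, hp₀⟩ := h0 (n + 1)
    obtain ⟨r₀, hr1, hr2⟩ : ∃ r₀ : ℕ, 1 ≤ r₀ ∧ (p₀ - p).toNat ≤ r₀ :=
      ⟨max 1 (p₀ - p).toNat, le_max_left _ _, le_max_right _ _⟩
    have e := ZSub_eq_ZTop K hr1 (exactEl_of_isZero K rfl rfl (hp₀ (p + r₀) (by omega)))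
    constructor
    · rintro _ ⟨r, rfl⟩
      exact sup_le_sup_right
        (inf_le_inf_left _ (SpSeq.FilCx.kernelSubobject_le_pullback _ _)) _
    · intro S hS
      have h3 : S ≤ K.ZSub r₀ p n := hS ⟨_, rfl⟩
      rwa [e] at h3
  · obtain ⟨p₁, hp₁⟩ := h1 n
    obtain ⟨r₀, hr1, hr2⟩ : ∃ r₀ : ℕ, 1 ≤ r₀ ∧ (p + 1 - p₁).toNat ≤ r₀ :=
      ⟨max 1 (p + 1 - p₁).toNat, le_max_left _ _, le_max_right _ _⟩
    haveI := hp₁ (p - r₀ + 1) (by omega)
    have e := BSub_eq_BBot K hr1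
      (monoEl_of_mono K (p := p - r₀ + 1) (sub_add_cancel n 1) rfl inferInstance)
    constructor
    · rintro _ ⟨r, rfl⟩
      exact sup_le_sup_right (inf_le_inf_left _ (imageSubobject_comp_le _ _)) _
    · intro S hS
      have h3 : K.BSub r₀ p n ≤ S := hS ⟨_, rfl⟩
      rwa [e] at h3

include h0 h1 in
theorem hFil_isFinite (n : ℤ) : (K.HFil n).IsFinite := by
  obtain ⟨p₀, hp₀⟩ := h0 n
  obtain ⟨p₁, hp₁⟩ := h1 n
  refine ⟨⟨p₁, ?_⟩, ⟨p₀, ?_⟩⟩
  · change K.filH p₁ n = ⊤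
    haveI := hp₁ p₁ le_rfl
    exact SpSeqFin.imageSubobject_eq_top_of_epi _
  · change K.filH p₀ n = ⊥
    exact SpSeqFin.imageSubobject_eq_bot_of_eq_zero _ ((hp₀ p₀ le_rfl).eq_of_src _ _)

include h0 h1 in
theorem isBounded_one : K.IsBounded 1 := by
  intro n
  obtain ⟨p₀, hp₀⟩ := h0 n
  obtain ⟨p₀', hp₀'⟩ := h0 (n + 1)
  obtain ⟨p₁, hp₁⟩ := h1 n
  obtain ⟨p₁', hp₁'⟩ := h1 (n + 1)
  apply Set.Finite.subset (Set.finite_Ioo (min p₁ p₁' - 1) (max p₀ p₀'))
  intro p hp
  change ¬ IsZero (K.E 1 p n) at hp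
  rw [Set.mem_Ioo]
  by_contra hcon
  apply hp
  apply SpSeqFin.isZero_subquot_of_eq
  apply le_antisymm _ (K.BSub_le_ZSub 1 p n)
  unfold SpSeq.FilCx.ZSub SpSeq.FilCx.BSub
  refine sup_le ?_ le_sup_right
  by_cases hlarge : max p₀ p₀' ≤ p
  · have e1 : p₀ ≤ p := le_trans (le_max_left _ _) hlarge
    have e2 : p₀' ≤ p := le_trans (le_max_right _ _) hlarge
    refine (chaseR K (p := p) (q := p + ((1 : ℕ) : ℤ)) (n := n) (n' := n + 1)
      (n'' := n + 1 + 1) (by omega) (exactEl_of_isZero K rfl rfl (hp₀' _ (by omega)))).trans ?_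
    apply sup_le_sup_right
    apply le_inf inf_le_left
    apply Subobject.le_of_factors
    apply chaseZ0_el K (p := p) (q := p - ((1 : ℕ) : ℤ) + 1) (m := n - 1) (n' := n + 1)
      (by omega) (exactEl_of_isZero K (sub_add_cancel n 1) rfl (hp₀ _ (by omega)))
    · exact Subobject.inf_arrow_factors_left _ _
    · exact (kernelSubobject_factors_iff _ _).mp (Subobject.inf_arrow_factors_right _ _)
  · have hsmall : p ≤ min p₁ p₁' - 1 := by
      by_contra hh
      exact hcon ⟨not_le.mp hh, not_le.mp hlarge⟩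
    have e1 : p + 1 ≤ p₁ := by
      have := min_le_left p₁ p₁'
      omega
    have e2 : p + 1 ≤ p₁' := by
      have := min_le_right p₁ p₁'
      omega
    haveI i1 := hp₁' (p + ((1 : ℕ) : ℤ)) (by omega)
    haveI i2 := hp₁ (p + ((1 : ℕ) : ℤ)) (by omega)
    haveI i3 := hp₁ (p - ((1 : ℕ) : ℤ) + 1) (by omega)
    apply Subobject.le_of_factors
    apply chaseE_el K (p := p) (s := p + ((1 : ℕ) : ℤ)) (q := p - ((1 : ℕ) : ℤ) + 1)
      (m := n - 1) (n := n) (n' := n + 1) (n'' := n + 1 + 1) (by omega) (by omega)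
      (monoEl_of_mono K rfl rfl inferInstance)
      (epiEl_of_epi K (sub_add_cancel n 1) rfl inferInstance)
      (monoEl_of_mono K (sub_add_cancel n 1) rfl inferInstance)
    · exact Subobject.inf_arrow_factors_left _ _
    · rw [← pullback_factors_iff]
      exact Subobject.inf_arrow_factors_right _ _

include h0 h1 in
/-- **S6794** -/
theorem main : K.IsBounded 1 ∧ (∀ n : ℤ, (K.HFil n).IsFinite) ∧ K.Converges := by
  have hfin := hFil_isFinite K h0 h1
  exact ⟨isBounded_one K h0 h1, hfin, isRegular K h0,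
    ⟨weaklyConverges K h0 h1, fun n =>
      ⟨SpSeqFin.isSeparated_of_isDiscrete _ (hfin n).2,
        SpSeqFin.isExhaustive_of_isCodiscrete _ (hfin n).1⟩⟩,
    fun n => SpSeqFin.isComplete_of_isDiscrete _ (hfin n).2⟩

end Main

end Groth.Agent.H6.SpSeqConv
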