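import Mathlib
import Groth.Prelude.Def_SpSeq
import Groth.Agent.Lib.Helper6.SpSeqConv

/-!
# Subquotient calculus in an abelian category

For subobjects `B ≤ Z` of `X`, `Q Z B h = Z/B` (the same object as `SpSeq.subquot`).
A morphism `f : X ⟶ X'` with `f(Z) ⊆ Z'`, `f(B) ⊆ B'` induces `sqMap : Z/B ⟶ Z'/B'`;
we give criteria for it to be mono / epi, exactness statements for kernels and cokernels,
and the resulting closure properties for a weak Serre class `P`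
(closed under isomorphisms, kernels, cokernels, extensions in the "five term" form).
-/

set_option autoImplicit false
universe v u
open CategoryTheory CategoryTheory.Limits

namespace Groth.Agent.H6.SubQ

open SpSeqConv

variable {A : Type u} [Category.{v} A] [Abelian A]

/-- the subquotient `Z/B` -/
noncomputable abbrev Q {X : A} (Z B : Subobject X) (h : B ≤ Z) : A := cokernel (B.ofLE Z h)

section Elements

variable {X : A}

theorem exists_refinement_of_sup_factors {T : A} (S S' : Subobject X) (x : T ⟶ X)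
    (h : (S ⊔ S').Factors x) :
    ∃ (T' : A) (π : T' ⟶ T) (_ : Epi π) (y : T' ⟶ (S : A)) (y' : T' ⟶ (S' : A)),
      π ≫ x = y ≫ S.arrow + y' ≫ S'.arrow := by
  have hle : S ⊔ S' ≤ imageSubobject (biprod.desc S.arrow S'.arrow) := by
    apply sup_le
    · apply Subobject.le_of_factors
      have h1 := imageSubobject_factors_comp_self (biprod.desc S.arrow S'.arrow) biprod.inl
      rwa [biprod.inl_desc] at h1
    · apply Subobject.le_of_factors
      have h1 := imageSubobject_factors_comp_self (biprod.desc S.arrow S'.arrow) biprod.inr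
      rwa [biprod.inr_desc] at h1
  obtain ⟨T', π, hπ, y₀, hy₀⟩ :=
    exists_refinement_of_image_factors _ x (Subobject.factors_of_le x hle h)
  refine ⟨T', π, hπ, y₀ ≫ biprod.fst, y₀ ≫ biprod.snd, ?_⟩
  rw [hy₀, biprod.desc_eq, Preadditive.comp_add]
  simp only [Category.assoc]

theorem proj_eq_zero_iff {Z B : Subobject X} (h : B ≤ Z) {T : A} (z : T ⟶ (Z : A)) :
    z ≫ cokernel.π (B.ofLE Z h) = 0 ↔ B.Factors (z ≫ Z.arrow) := by
  constructor
  · intro hz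
    have e : z = Abelian.monoLift (B.ofLE Z h) z hz ≫ B.ofLE Z h :=
      (Abelian.monoLift_comp _ _ _).symm
    rw [e, Category.assoc, Subobject.ofLE_arrow]
    exact Subobject.factors_comp_arrow _
  · intro hz
    have e : z = B.factorThru (z ≫ Z.arrow) hz ≫ B.ofLE Z h := by
      rw [← cancel_mono Z.arrow, Category.assoc, Subobject.ofLE_arrow,
        Subobject.factorThru_arrow]
    rw [e, Category.assoc, cokernel.condition, comp_zero]

theorem le_image_arrow_comp_id (S : Subobject X) : S ≤ imageSubobject (S.arrow ≫ 𝟙 X) := by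
  apply Subobject.le_of_factors
  exact image_factors_of_refinement (S.arrow ≫ 𝟙 X) S.arrow (𝟙 _) (𝟙 _) (by simp)

theorem image_factors_self {Y : A} (g : Y ⟶ X) : (imageSubobject g).Factors g := by
  have h1 := imageSubobject_factors_comp_self g (𝟙 _)
  rwa [Category.id_comp] at h1

end Elements

section Map

variable {X X' : A} (f : X ⟶ X')
  (Z B : Subobject X) (hB : B ≤ Z) (Z' B' : Subobject X') (hB' : B' ≤ Z')
  (h1 : Z ≤ (Subobject.pullback f).obj Z') (h2 : B ≤ (Subobject.pullback f).obj B')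

theorem factors_arrow_comp (h1 : Z ≤ (Subobject.pullback f).obj Z') :
    Z'.Factors (Z.arrow ≫ f) :=
  (pullback_factors_iff f Z' Z.arrow).mp
    (Subobject.factors_of_le _ h1 (Subobject.factors_self Z))

/-- restriction `Z ⟶ Z'` of `f` -/
noncomputable def restr : (Z : A) ⟶ (Z' : A) :=
  Z'.factorThru (Z.arrow ≫ f) (factors_arrow_comp f Z Z' h1)

@[reassoc]
theorem restr_arrow : restr f Z Z' h1 ≫ Z'.arrow = Z.arrow ≫ f :=
  Subobject.factorThru_arrow _ _ _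

theorem ofLE_restr :
    B.ofLE Z hB ≫ restr f Z Z' h1 = restr f B B' h2 ≫ B'.ofLE Z' hB' := by
  rw [← cancel_mono Z'.arrow]
  simp only [Category.assoc, restr_arrow, Subobject.ofLE_arrow, Subobject.ofLE_arrow_assoc]

/-- the induced map on subquotients -/
noncomputable def sqMap : Q Z B hB ⟶ Q Z' B' hB' :=
  cokernel.desc (B.ofLE Z hB) (restr f Z Z' h1 ≫ cokernel.π (B'.ofLE Z' hB')) (by
    rw [← Category.assoc, ofLE_restr f Z B hB Z' B' hB' h1 h2, Category.assoc,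
      cokernel.condition, comp_zero])

@[reassoc]
theorem π_sqMap : cokernel.π (B.ofLE Z hB) ≫ sqMap f Z B hB Z' B' hB' h1 h2 =
    restr f Z Z' h1 ≫ cokernel.π (B'.ofLE Z' hB') :=
  cokernel.π_desc _ _ _

theorem sqMap_mono (h : Z ⊓ (Subobject.pullback f).obj B' ≤ B) :
    Mono (sqMap f Z B hB Z' B' hB' h1 h2) := by
  apply Preadditive.mono_of_cancel_zero
  intro T t ht
  obtain ⟨T', π, hπ, z, hz⟩ :=
    surjective_up_to_refinements_of_epi (cokernel.π (B.ofLE Z hB)) t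
  haveI := hπ
  rw [← cancel_epi π, comp_zero, hz, proj_eq_zero_iff]
  apply Subobject.factors_of_le _ h
  rw [Subobject.inf_factors]
  refine ⟨Subobject.factors_comp_arrow z, ?_⟩
  rw [pullback_factors_iff, Category.assoc, ← restr_arrow f Z Z' h1, ← Category.assoc,
    ← proj_eq_zero_iff hB', Category.assoc, ← π_sqMap f Z B hB Z' B' hB' h1 h2,
    ← Category.assoc, ← hz, Category.assoc, ht, comp_zero]

/-- elements of `Z'` lying in `f(Z) + B'` come from `Z/B` -/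
theorem exists_preimage_of_factors_sup {T : A} (z' : T ⟶ (Z' : A))
    (hfac : (imageSubobject (Z.arrow ≫ f) ⊔ B').Factors (z' ≫ Z'.arrow)) :
    ∃ (T' : A) (π : T' ⟶ T) (_ : Epi π) (w : T' ⟶ (Z : A)),
      π ≫ z' ≫ cokernel.π (B'.ofLE Z' hB') =
        (w ≫ cokernel.π (B.ofLE Z hB)) ≫ sqMap f Z B hB Z' B' hB' h1 h2 := by
  obtain ⟨T₂, π₂, hπ₂, u, v, huv⟩ := exists_refinement_of_sup_factors _ _ _ hfac
  haveI := hπ₂
  obtain ⟨T₃, π₃, hπ₃, w, hw⟩ := exists_refinement_of_image_factors (Z.arrow ≫ f)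
    (u ≫ (imageSubobject (Z.arrow ≫ f)).arrow) (Subobject.factors_comp_arrow u)
  haveI := hπ₃
  refine ⟨T₃, π₃ ≫ π₂, inferInstance, w, ?_⟩
  have key : π₃ ≫ π₂ ≫ z' = w ≫ restr f Z Z' h1 + (π₃ ≫ v) ≫ B'.ofLE Z' hB' := by
    rw [← cancel_mono Z'.arrow]
    have e1 : (π₃ ≫ π₂ ≫ z') ≫ Z'.arrow = π₃ ≫ (π₂ ≫ z' ≫ Z'.arrow) := by
      simp only [Category.assoc]
    rw [e1, huv, Preadditive.comp_add, hw]
    simp only [Category.assoc, Preadditive.add_comp, restr_arrow, Subobject.ofLE_arrow]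
  calc (π₃ ≫ π₂) ≫ z' ≫ cokernel.π (B'.ofLE Z' hB')
      = (π₃ ≫ π₂ ≫ z') ≫ cokernel.π (B'.ofLE Z' hB') := by simp only [Category.assoc]
    _ = (w ≫ cokernel.π (B.ofLE Z hB)) ≫ sqMap f Z B hB Z' B' hB' h1 h2 := by
      rw [key, Preadditive.add_comp, Category.assoc (π₃ ≫ v), cokernel.condition, comp_zero,
        add_zero, Category.assoc, Category.assoc, π_sqMap]

theorem sqMap_epi (h : Z' ≤ imageSubobject (Z.arrow ≫ f) ⊔ B') :
    Epi (sqMap f Z B hB Z' B' hB' h1 h2) := by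
  rw [epi_iff_surjective_up_to_refinements]
  intro T t'
  obtain ⟨T₁, π₁, hπ₁, z', hz'⟩ :=
    surjective_up_to_refinements_of_epi (cokernel.π (B'.ofLE Z' hB')) t'
  haveI := hπ₁
  obtain ⟨T₂, π₂, hπ₂, w, hw⟩ := exists_preimage_of_factors_sup f Z B hB Z' B' hB' h1 h2 z'
    (Subobject.factors_of_le _ h (Subobject.factors_comp_arrow z'))
  haveI := hπ₂
  refine ⟨T₂, π₂ ≫ π₁, inferInstance, w ≫ cokernel.π (B.ofLE Z hB), ?_⟩
  rw [Category.assoc, hz', hw]

/-- exactness of `W/B ⟶ Z/B ⟶ Z'/B'` when `W = Z ∩ f⁻¹(B')` -/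
theorem exact_ker (W : Subobject X) (hBW : B ≤ W) (hWZ : W ≤ Z)
    (hW1 : W ≤ (Subobject.pullback f).obj B') (hW2 : Z ⊓ (Subobject.pullback f).obj B' ≤ W)
    (hid1 : W ≤ (Subobject.pullback (𝟙 X)).obj Z)
    (hid2 : B ≤ (Subobject.pullback (𝟙 X)).obj B) :
    Mono (sqMap (𝟙 X) W B hBW Z B hB hid1 hid2) ∧
    ∃ w : sqMap (𝟙 X) W B hBW Z B hB hid1 hid2 ≫ sqMap f Z B hB Z' B' hB' h1 h2 = 0,
      (ShortComplex.mk _ _ w).Exact := by
  have hrid : restr (𝟙 X) W Z hid1 ≫ Z.arrow = W.arrow := by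
    rw [restr_arrow, Category.comp_id]
  refine ⟨?_, ?_, ?_⟩
  · apply sqMap_mono
    rw [Subobject.pullback_id]
    exact inf_le_right
  · rw [← cancel_epi (cokernel.π (B.ofLE W hBW)), comp_zero, π_sqMap_assoc, π_sqMap,
      ← Category.assoc, proj_eq_zero_iff, Category.assoc, restr_arrow, ← Category.assoc, hrid]
    exact factors_arrow_comp f W B' hW1
  · rw [ShortComplex.exact_iff_exact_up_to_refinements]
    intro T x₂ hx₂
    change x₂ ≫ sqMap f Z B hB Z' B' hB' h1 h2 = 0 at hx₂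
    obtain ⟨T₁, π₁, hπ₁, z, hz⟩ :=
      surjective_up_to_refinements_of_epi (cokernel.π (B.ofLE Z hB)) x₂
    haveI := hπ₁
    have h3 : (z ≫ restr f Z Z' h1) ≫ cokernel.π (B'.ofLE Z' hB') = 0 := by
      rw [Category.assoc, ← π_sqMap f Z B hB Z' B' hB' h1 h2, ← Category.assoc, ← hz,
        Category.assoc, hx₂, comp_zero]
    rw [proj_eq_zero_iff, Category.assoc, restr_arrow, ← Category.assoc,
      ← pullback_factors_iff] at h3
    have h4 : W.Factors (z ≫ Z.arrow) := by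
      apply Subobject.factors_of_le _ hW2
      rw [Subobject.inf_factors]
      exact ⟨Subobject.factors_comp_arrow z, h3⟩
    refine ⟨T₁, π₁, hπ₁, W.factorThru _ h4 ≫ cokernel.π (B.ofLE W hBW), ?_⟩
    have hfr : W.factorThru _ h4 ≫ restr (𝟙 X) W Z hid1 = z := by
      rw [← cancel_mono Z.arrow, Category.assoc, hrid, Subobject.factorThru_arrow]
    calc π₁ ≫ x₂ = z ≫ cokernel.π (B.ofLE Z hB) := hz
      _ = (W.factorThru _ h4 ≫ restr (𝟙 X) W Z hid1) ≫ cokernel.π (B.ofLE Z hB) := by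
        rw [hfr]
      _ = W.factorThru _ h4 ≫ (cokernel.π (B.ofLE W hBW) ≫
            sqMap (𝟙 X) W B hBW Z B hB hid1 hid2) := by
        rw [π_sqMap, Category.assoc]
      _ = (W.factorThru _ h4 ≫ cokernel.π (B.ofLE W hBW)) ≫
            sqMap (𝟙 X) W B hBW Z B hB hid1 hid2 := (Category.assoc _ _ _).symm

/-- exactness of `Z/B ⟶ Z'/B' ⟶ Z'/V` when `V = f(Z) + B'` -/
theorem exact_coker (V : Subobject X') (hB'V : B' ≤ V) (hVZ' : V ≤ Z')
    (hV1 : imageSubobject (Z.arrow ≫ f) ≤ V) (hV2 : V ≤ imageSubobject (Z.arrow ≫ f) ⊔ B')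
    (hid1 : Z' ≤ (Subobject.pullback (𝟙 X')).obj Z')
    (hid2 : B' ≤ (Subobject.pullback (𝟙 X')).obj V) :
    Epi (sqMap (𝟙 X') Z' B' hB' Z' V hVZ' hid1 hid2) ∧
    ∃ w : sqMap f Z B hB Z' B' hB' h1 h2 ≫ sqMap (𝟙 X') Z' B' hB' Z' V hVZ' hid1 hid2 = 0,
      (ShortComplex.mk _ _ w).Exact := by
  have hrid : restr (𝟙 X') Z' Z' hid1 ≫ Z'.arrow = Z'.arrow := by
    rw [restr_arrow, Category.comp_id]
  refine ⟨?_, ?_, ?_⟩
  · apply sqMap_epi
    exact (le_image_arrow_comp_id Z').trans le_sup_left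
  · rw [← cancel_epi (cokernel.π (B.ofLE Z hB)), comp_zero, π_sqMap_assoc, π_sqMap,
      ← Category.assoc, proj_eq_zero_iff, Category.assoc, hrid, restr_arrow]
    exact Subobject.factors_of_le _ hV1 (image_factors_self _)
  · rw [ShortComplex.exact_iff_exact_up_to_refinements]
    intro T x₂ hx₂
    change x₂ ≫ sqMap (𝟙 X') Z' B' hB' Z' V hVZ' hid1 hid2 = 0 at hx₂
    obtain ⟨T₁, π₁, hπ₁, z', hz'⟩ :=
      surjective_up_to_refinements_of_epi (cokernel.π (B'.ofLE Z' hB')) x₂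
    haveI := hπ₁
    have h3 : (z' ≫ restr (𝟙 X') Z' Z' hid1) ≫ cokernel.π (V.ofLE Z' hVZ') = 0 := by
      rw [Category.assoc, ← π_sqMap (𝟙 X') Z' B' hB' Z' V hVZ' hid1 hid2, ← Category.assoc,
        ← hz', Category.assoc, hx₂, comp_zero]
    rw [proj_eq_zero_iff, Category.assoc, hrid] at h3
    obtain ⟨T₂, π₂, hπ₂, w, hw⟩ := exists_preimage_of_factors_sup f Z B hB Z' B' hB' h1 h2 z'
      (Subobject.factors_of_le _ hV2 h3)
    haveI := hπ₂
    refine ⟨T₂, π₂ ≫ π₁, inferInstance, w ≫ cokernel.π (B.ofLE Z hB), ?_⟩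
    calc (π₂ ≫ π₁) ≫ x₂ = π₂ ≫ (π₁ ≫ x₂) := Category.assoc _ _ _
      _ = π₂ ≫ z' ≫ cokernel.π (B'.ofLE Z' hB') := by rw [hz']
      _ = (w ≫ cokernel.π (B.ofLE Z hB)) ≫ sqMap f Z B hB Z' B' hB' h1 h2 := hw

end Map

section Closure

variable (P : ObjectProperty A) [P.IsClosedUnderIsomorphisms]
  (h0 : ∃ Z : A, IsZero Z ∧ P Z)
  (hP : ∀ S : ComposableArrows A 4, S.Exact → P (S.obj 0) → P (S.obj 1) → P (S.obj 3) →
    P (S.obj 4) → P (S.obj 2))

include h0 in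
theorem P_of_isZero {Y : A} (hY : IsZero Y) : P Y := by
  obtain ⟨Z, hZ, hPZ⟩ := h0
  exact P.prop_of_iso (hZ.iso hY) hPZ

include h0 hP in
theorem P_ker {X₁ X₂ X₃ : A} (i : X₁ ⟶ X₂) (g : X₂ ⟶ X₃) [Mono i] (w : i ≫ g = 0)
    (hex : (ShortComplex.mk i g w).Exact) (h2 : P X₂) (h3 : P X₃) : P X₁ := by
  obtain ⟨Z, hZ, hPZ⟩ := h0
  have e1 : (ShortComplex.mk (0 : Z ⟶ Z) (0 : Z ⟶ X₁) zero_comp).Exact :=
    ShortComplex.exact_of_isZero_X₂ _ hZ
  have e2 : (ShortComplex.mk (0 : Z ⟶ X₁) i zero_comp).Exact := by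
    rw [ShortComplex.exact_iff_mono _ rfl]
    exact inferInstanceAs (Mono i)
  have hS : (ComposableArrows.mk₄ (0 : Z ⟶ Z) (0 : Z ⟶ X₁) i g).Exact :=
    ComposableArrows.exact_of_δ₀ e1.exact_toComposableArrows
      (ComposableArrows.exact_of_δ₀ e2.exact_toComposableArrows hex.exact_toComposableArrows)
  exact hP _ hS hPZ hPZ h2 h3

include h0 hP in
theorem P_coker {X₁ X₂ X₃ : A} (g : X₁ ⟶ X₂) (q : X₂ ⟶ X₃) [Epi q] (w : g ≫ q = 0)
    (hex : (ShortComplex.mk g q w).Exact) (h1 : P X₁) (h2 : P X₂) : P X₃ := by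
  obtain ⟨Z, hZ, hPZ⟩ := h0
  have e2 : (ShortComplex.mk q (0 : X₃ ⟶ Z) comp_zero).Exact := by
    rw [ShortComplex.exact_iff_epi _ rfl]
    exact inferInstanceAs (Epi q)
  have e3 : (ShortComplex.mk (0 : X₃ ⟶ Z) (0 : Z ⟶ Z) comp_zero).Exact :=
    ShortComplex.exact_of_isZero_X₂ _ hZ
  have hS : (ComposableArrows.mk₄ g q (0 : X₃ ⟶ Z) (0 : Z ⟶ Z)).Exact :=
    ComposableArrows.exact_of_δ₀ hex.exact_toComposableArrows
      (ComposableArrows.exact_of_δ₀ e2.exact_toComposableArrows e3.exact_toComposableArrows)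
  exact hP _ hS h1 h2 hPZ hPZ

include h0 hP in
theorem P_ext {X₁ X₂ X₃ : A} (i : X₁ ⟶ X₂) (q : X₂ ⟶ X₃) [Mono i] [Epi q] (w : i ≫ q = 0)
    (hex : (ShortComplex.mk i q w).Exact) (h1 : P X₁) (h3 : P X₃) : P X₂ := by
  obtain ⟨Z, hZ, hPZ⟩ := h0
  have e1 : (ShortComplex.mk (0 : Z ⟶ X₁) i zero_comp).Exact := by
    rw [ShortComplex.exact_iff_mono _ rfl]
    exact inferInstanceAs (Mono i)
  have e3 : (ShortComplex.mk q (0 : X₃ ⟶ Z) comp_zero).Exact := by
    rw [ShortComplex.exact_iff_epi _ rfl]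
    exact inferInstanceAs (Epi q)
  have hS : (ComposableArrows.mk₄ (0 : Z ⟶ X₁) i q (0 : X₃ ⟶ Z)).Exact :=
    ComposableArrows.exact_of_δ₀ e1.exact_toComposableArrows
      (ComposableArrows.exact_of_δ₀ hex.exact_toComposableArrows e3.exact_toComposableArrows)
  exact hP _ hS hPZ h1 h3 hPZ

variable {X X' : A}

theorem P_congr (Z Z₁ B B₁ : Subobject X) (h : B ≤ Z) (h₁ : B₁ ≤ Z₁) (eZ : Z = Z₁)
    (eB : B = B₁) (hQ : P (Q Z B h)) : P (Q Z₁ B₁ h₁) := by
  subst eZ eB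
  exact hQ

/-- second isomorphism theorem: `W/B₁ ≅ Z/B` when `W ∩ B ⊆ B₁ ⊆ B`, `W ⊆ Z ⊆ W + B` -/
theorem P_iso_of (W B₁ Z B : Subobject X) (h₁ : B₁ ≤ W) (h : B ≤ Z) (hWZ : W ≤ Z)
    (hBB : B₁ ≤ B) (hm : W ⊓ B ≤ B₁) (he : Z ≤ W ⊔ B) : P (Q W B₁ h₁) ↔ P (Q Z B h) := by
  have hid1 : W ≤ (Subobject.pullback (𝟙 X)).obj Z := by
    rw [Subobject.pullback_id]
    exact hWZ
  have hid2 : B₁ ≤ (Subobject.pullback (𝟙 X)).obj B := by
    rw [Subobject.pullback_id]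
    exact hBB
  haveI : Mono (sqMap (𝟙 X) W B₁ h₁ Z B h hid1 hid2) := by
    apply sqMap_mono
    rw [Subobject.pullback_id]
    exact hm
  haveI : Epi (sqMap (𝟙 X) W B₁ h₁ Z B h hid1 hid2) := by
    apply sqMap_epi
    exact he.trans (sup_le_sup_right (le_image_arrow_comp_id W) _)
  haveI : IsIso (sqMap (𝟙 X) W B₁ h₁ Z B h hid1 hid2) := isIso_of_mono_of_epi _
  exact ⟨fun hW => P.prop_of_iso (asIso (sqMap (𝟙 X) W B₁ h₁ Z B h hid1 hid2)) hW,
    fun hZ => P.prop_of_iso (asIso (sqMap (𝟙 X) W B₁ h₁ Z B h hid1 hid2)).symm hZ⟩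

include h0 hP in
/-- kernel closure for subquotients -/
theorem P_ker_sq (f : X ⟶ X') (Z B : Subobject X) (hB : B ≤ Z) (Z' B' : Subobject X')
    (hB' : B' ≤ Z') (h1 : Z ≤ (Subobject.pullback f).obj Z')
    (h2 : B ≤ (Subobject.pullback f).obj B') (W : Subobject X) (hBW : B ≤ W) (hWZ : W ≤ Z)
    (hW1 : W ≤ (Subobject.pullback f).obj B') (hW2 : Z ⊓ (Subobject.pullback f).obj B' ≤ W)
    (hZ : P (Q Z B hB)) (hZ' : P (Q Z' B' hB')) : P (Q W B hBW) := by
  have hid1 : W ≤ (Subobject.pullback (𝟙 X)).obj Z := by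
    rw [Subobject.pullback_id]
    exact hWZ
  have hid2 : B ≤ (Subobject.pullback (𝟙 X)).obj B := by
    rw [Subobject.pullback_id]
  obtain ⟨hmono, w, hex⟩ := exact_ker f Z B hB Z' B' hB' h1 h2 W hBW hWZ hW1 hW2 hid1 hid2
  haveI := hmono
  exact P_ker P h0 hP _ _ w hex hZ hZ'

include h0 hP in
/-- cokernel closure for subquotients -/
theorem P_coker_sq (f : X ⟶ X') (Z B : Subobject X) (hB : B ≤ Z) (Z' B' : Subobject X')
    (hB' : B' ≤ Z') (h1 : Z ≤ (Subobject.pullback f).obj Z')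
    (h2 : B ≤ (Subobject.pullback f).obj B') (V : Subobject X') (hB'V : B' ≤ V)
    (hVZ' : V ≤ Z') (hV1 : imageSubobject (Z.arrow ≫ f) ≤ V)
    (hV2 : V ≤ imageSubobject (Z.arrow ≫ f) ⊔ B')
    (hZ : P (Q Z B hB)) (hZ' : P (Q Z' B' hB')) : P (Q Z' V hVZ') := by
  have hid1 : Z' ≤ (Subobject.pullback (𝟙 X')).obj Z' := by
    rw [Subobject.pullback_id]
  have hid2 : B' ≤ (Subobject.pullback (𝟙 X')).obj V := by
    rw [Subobject.pullback_id]
    exact hB'V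
  obtain ⟨hepi, w, hex⟩ :=
    exact_coker f Z B hB Z' B' hB' h1 h2 V hB'V hVZ' hV1 hV2 hid1 hid2
  haveI := hepi
  exact P_coker P h0 hP _ _ w hex hZ hZ'

include h0 hP in
/-- extension closure for subquotients -/
theorem P_ext_sq (B Z₁ Z : Subobject X) (h₁ : B ≤ Z₁) (h₂ : Z₁ ≤ Z)
    (hQ₁ : P (Q Z₁ B h₁)) (hQ₂ : P (Q Z Z₁ h₂)) : P (Q Z B (h₁.trans h₂)) := by
  have hidZ : Z ≤ (Subobject.pullback (𝟙 X)).obj Z := by
    rw [Subobject.pullback_id]
  have hidB : B ≤ (Subobject.pullback (𝟙 X)).obj Z₁ := by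
    rw [Subobject.pullback_id]
    exact h₁
  have hidW : Z₁ ≤ (Subobject.pullback (𝟙 X)).obj Z := by
    rw [Subobject.pullback_id]
    exact h₂
  have hidB' : B ≤ (Subobject.pullback (𝟙 X)).obj B := by
    rw [Subobject.pullback_id]
  have hW1 : Z₁ ≤ (Subobject.pullback (𝟙 X)).obj Z₁ := by
    rw [Subobject.pullback_id]
  have hW2 : Z ⊓ (Subobject.pullback (𝟙 X)).obj Z₁ ≤ Z₁ := by
    rw [Subobject.pullback_id]
    exact inf_le_right
  obtain ⟨hmono, w, hex⟩ := exact_ker (𝟙 X) Z B (h₁.trans h₂) Z Z₁ h₂ hidZ hidB Z₁ h₁ h₂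
    hW1 hW2 hidW hidB'
  haveI := hmono
  haveI : Epi (sqMap (𝟙 X) Z B (h₁.trans h₂) Z Z₁ h₂ hidZ hidB) := by
    apply sqMap_epi
    exact (le_image_arrow_comp_id Z).trans le_sup_left
  exact P_ext P h0 hP _ _ w hex hQ₁ hQ₂

end Closure

end Groth.Agent.H6.SubQ
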