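import Mathlib
import Groth.Prelude.Def_SpSeq
import Groth.Agent.Lib.Helper6.SubQ

/-!
# Cohomology of a finitely filtered complex lies in a weak Serre class containing a page (S6793)

`E_{r+1}` is obtained from `E_r` by taking kernels and cokernels of maps between terms of `E_r`
(the differentials `d_r`, constructed here on subquotients), `E_∞ = E_R` for `R ≫ 0`, and
`H^n(K)` is a finite iterated extension of the `E_∞^{p,n}`.
-/

set_option autoImplicit false
universe v u
open CategoryTheory CategoryTheory.Limits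

namespace Groth.Agent.H6.SpSeqSerre

open SpSeqConv SubQ

variable {A : Type u} [Category.{v} A] [Abelian A] (K : SpSeq.FilCx A)

/-- `F^a K^n ∩ d⁻¹(F^c K^{n'})` -/
noncomputable def Zt (a c n n' : ℤ) : Subobject (K.obj.X n) :=
  K.filX a n ⊓ (Subobject.pullback (K.obj.d n n')).obj (K.filX c n')

/-- `F^a K^n ∩ d(F^c K^m)` -/
noncomputable def Bt (a c m n : ℤ) : Subobject (K.obj.X n) :=
  K.filX a n ⊓ imageSubobject ((K.filX c m).arrow ≫ K.obj.d m n)

section Elements

theorem Zt_factors_iff {a c n n' : ℤ} {T : A} (x : T ⟶ K.obj.X n) :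
    (Zt K a c n n').Factors x ↔
      (K.filX a n).Factors x ∧ (K.filX c n').Factors (x ≫ K.obj.d n n') := by
  unfold Zt
  rw [Subobject.inf_factors, pullback_factors_iff]

theorem Bt_factors_iff {a c m n : ℤ} {T : A} (x : T ⟶ K.obj.X n) :
    (Bt K a c m n).Factors x ↔ (K.filX a n).Factors x ∧
      (imageSubobject ((K.filX c m).arrow ≫ K.obj.d m n)).Factors x := by
  unfold Bt
  rw [Subobject.inf_factors]

theorem imF_intro {c m n : ℤ} {T T' : A} (x : T ⟶ K.obj.X n) (π : T' ⟶ T) [Epi π]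
    (u : T' ⟶ (K.fil c : CochainComplex A ℤ).X m)
    (h : π ≫ x = u ≫ (K.fil c).arrow.f m ≫ K.obj.d m n) :
    (imageSubobject ((K.filX c m).arrow ≫ K.obj.d m n)).Factors x := by
  apply factors_of_epi_comp _ π
  rw [h]
  exact image_mk_arrow_factors _ _ u

theorem imF_elim {c m n : ℤ} {T : A} (x : T ⟶ K.obj.X n)
    (h : (imageSubobject ((K.filX c m).arrow ≫ K.obj.d m n)).Factors x) :
    ∃ (T' : A) (π : T' ⟶ T) (_ : Epi π) (u : T' ⟶ (K.fil c : CochainComplex A ℤ).X m),
      π ≫ x = u ≫ (K.fil c).arrow.f m ≫ K.obj.d m n := by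
  have h' : (imageSubobject ((Subobject.mk ((K.fil c).arrow.f m)).arrow ≫
      K.obj.d m n)).Factors x := h
  obtain ⟨T', π, hπ, y, hy⟩ := exists_refinement_of_image_factors _ x h'
  refine ⟨T', π, hπ, y ≫ (Subobject.underlyingIso ((K.fil c).arrow.f m)).hom, ?_⟩
  rw [hy, ← Subobject.underlyingIso_hom_comp_eq_mk]
  simp only [Category.assoc]

theorem image_le_pullback {m n n' : ℤ} (S : Subobject (K.obj.X m))
    (T : Subobject (K.obj.X n')) :
    imageSubobject (S.arrow ≫ K.obj.d m n) ≤ (Subobject.pullback (K.obj.d n n')).obj T :=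
  (le_kernelSubobject _ _ (imageSubobject_arrow_comp_eq_zero (by simp))).trans
    (SpSeq.FilCx.kernelSubobject_le_pullback _ _)

theorem Bt_le_Zt (a g c m n n' : ℤ) : Bt K a g m n ≤ Zt K a c n n' :=
  inf_le_inf_left _ (image_le_pullback K _ _)

theorem B_le_Z (a g c e m n n' : ℤ) :
    Bt K a g m n ⊔ K.filX e n ≤ Zt K a c n n' ⊔ K.filX e n :=
  sup_le_sup_right (Bt_le_Zt K a g c m n n') _

theorem Bt_mono {a g gn m n : ℤ} (h : gn ≤ g) : Bt K a g m n ≤ Bt K a gn m n := by
  apply inf_le_inf_left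
  refine SpSeq.FilCx.imageSubobject_le_of_fac
    ((K.filX g m).ofLE (K.filX gn m) (K.filX_anti m h)) ?_
  rw [← Category.assoc, Subobject.ofLE_arrow]

theorem Zt_mono {a c c₁ n n' : ℤ} (h : c ≤ c₁) : Zt K a c₁ n n' ≤ Zt K a c n n' :=
  inf_le_inf_left _ ((Subobject.pullback _).monotone (K.filX_anti n' h))

/-- (2a) `d` maps `Z̃` into the next `Z` -/
theorem Zt_le_pullback (a c c₂ n n' n'' : ℤ) (S : Subobject (K.obj.X n')) :
    Zt K a c n n' ≤ (Subobject.pullback (K.obj.d n n')).obj (Zt K c c₂ n' n'' ⊔ S) := by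
  apply Subobject.le_of_factors
  rw [pullback_factors_iff]
  apply Subobject.sup_factors_of_factors_left
  rw [Zt_factors_iff]
  have hx := (Zt_factors_iff K _).mp (Subobject.factors_self (Zt K a c n n'))
  refine ⟨hx.2, ?_⟩
  rw [Category.assoc, K.obj.d_comp_d, comp_zero]
  exact Subobject.factors_zero

/-- (2b) `d` maps `Z̃ ∩ B` into the next `B` -/
theorem chase2b {a c g e e₁ m n n' : ℤ} (he : e₁ ≤ e) {T : A} (x : T ⟶ K.obj.X n)
    (hx1 : (K.filX c n').Factors (x ≫ K.obj.d n n'))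
    (hx2 : (Bt K a g m n ⊔ K.filX e n).Factors x) :
    (Bt K c e₁ n n').Factors (x ≫ K.obj.d n n') := by
  obtain ⟨T₁, π₁, hπ₁, y, y', hyy⟩ := exists_refinement_of_sup_factors _ _ _ hx2
  haveI := hπ₁
  have ha : (y ≫ (Bt K a g m n).arrow) ≫ K.obj.d n n' = 0 := by
    have h1 : (imageSubobject ((K.filX g m).arrow ≫ K.obj.d m n)).Factors
        (y ≫ (Bt K a g m n).arrow) :=
      ((Bt_factors_iff K _).mp (Subobject.factors_comp_arrow y)).2
    obtain ⟨T₂, π₂, hπ₂, u, hu⟩ := imF_elim K _ h1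
    haveI := hπ₂
    rw [← cancel_epi π₂, comp_zero, ← Category.assoc, hu]
    simp only [Category.assoc, K.obj.d_comp_d, comp_zero]
  obtain ⟨b'', hb''⟩ := (filX_factors_iff K _).mp
    (filX_factors_of_le K he (Subobject.factors_comp_arrow y'))
  rw [Bt_factors_iff]
  refine ⟨hx1, ?_⟩
  apply imF_intro K (x ≫ K.obj.d n n') π₁ b''
  rw [← Category.assoc, hyy, Preadditive.add_comp, ha, zero_add, ← hb'', Category.assoc]

theorem Zt_inf_B_le_pullback (a c g e e₁ m n n' : ℤ) (he : e₁ ≤ e)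
    (S : Subobject (K.obj.X n')) :
    Zt K a c n n' ⊓ (Bt K a g m n ⊔ K.filX e n) ≤
      (Subobject.pullback (K.obj.d n n')).obj (Bt K c e₁ n n' ⊔ S) := by
  apply Subobject.le_of_factors
  rw [pullback_factors_iff]
  apply Subobject.sup_factors_of_factors_left
  apply chase2b K he (g := g) (a := a)
  · exact ((Zt_factors_iff K _).mp (Subobject.inf_arrow_factors_left _ _)).2
  · exact Subobject.inf_arrow_factors_right _ _

/-- (3a) -/
theorem chase3a {p e e' c₀ n n' : ℤ} (h0 : p ≤ e) {T : A} (x : T ⟶ K.obj.X n)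
    (hx1 : (K.filX p n).Factors x)
    (hx2 : (Bt K c₀ e n n' ⊔ K.filX e' n').Factors (x ≫ K.obj.d n n')) :
    (Zt K p e' n n' ⊔ K.filX e n).Factors x := by
  obtain ⟨T₁, π₁, hπ₁, y, y', hyy⟩ := exists_refinement_of_sup_factors _ _ _ hx2
  haveI := hπ₁
  have h1 : (imageSubobject ((K.filX e n).arrow ≫ K.obj.d n n')).Factors
      (y ≫ (Bt K c₀ e n n').arrow) :=
    ((Bt_factors_iff K _).mp (Subobject.factors_comp_arrow y)).2
  obtain ⟨T₂, π₂, hπ₂, t, ht⟩ := imF_elim K _ h1
  haveI := hπ₂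
  apply factors_of_epi_comp _ (π₂ ≫ π₁)
  have hsplit : (π₂ ≫ π₁) ≫ x =
      ((π₂ ≫ π₁) ≫ x + (-t) ≫ (K.fil e).arrow.f n) + t ≫ (K.fil e).arrow.f n := by
    rw [Preadditive.neg_comp]
    abel
  rw [hsplit]
  apply Subobject.factors_add
  · apply Subobject.sup_factors_of_factors_left
    rw [Zt_factors_iff]
    constructor
    · apply Subobject.factors_add
      · exact Subobject.factors_of_factors_right _ hx1
      · exact filX_factors_of_le K h0 (filX_factors_comp K (-t))
    · have hs : ((π₂ ≫ π₁) ≫ x + (-t) ≫ (K.fil e).arrow.f n) ≫ K.obj.d n n' =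
          (π₂ ≫ y') ≫ (K.filX e' n').arrow := by
        simp only [Preadditive.add_comp, Preadditive.neg_comp, Category.assoc]
        rw [hyy, Preadditive.comp_add, ht]
        abel
      rw [hs]
      exact Subobject.factors_comp_arrow _
  · apply Subobject.sup_factors_of_factors_right
    exact filX_factors_comp K t

/-- (4d) -/
theorem chase4d (gn p m n : ℤ) :
    imageSubobject ((Zt K gn p m n).arrow ≫ K.obj.d m n) ≤ Bt K p gn m n := by
  apply Subobject.le_of_factors
  obtain ⟨T', π, hπ, y, hy⟩ := exists_refinement_of_image_factors _ _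
    (Subobject.factors_self (imageSubobject ((Zt K gn p m n).arrow ≫ K.obj.d m n)))
  haveI := hπ
  apply factors_of_epi_comp _ π
  rw [hy]
  have hz := (Zt_factors_iff K (y ≫ (Zt K gn p m n).arrow)).mp (Subobject.factors_comp_arrow y)
  rw [Bt_factors_iff]
  constructor
  · rw [← Category.assoc]
    exact hz.2
  · obtain ⟨t, ht⟩ := (filX_factors_iff K _).mp hz.1
    rw [← Category.assoc, ← ht, Category.assoc]
    exact image_mk_arrow_factors _ _ t

/-- (4e) -/
theorem chase4e (gn p m n : ℤ) :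
    Bt K p gn m n ≤ imageSubobject ((Zt K gn p m n).arrow ≫ K.obj.d m n) := by
  apply Subobject.le_of_factors
  have hx := (Bt_factors_iff K _).mp (Subobject.factors_self (Bt K p gn m n))
  obtain ⟨T', π, hπ, t, ht⟩ := imF_elim K _ hx.2
  haveI := hπ
  have hz : (Zt K gn p m n).Factors (t ≫ (K.fil gn).arrow.f m) := by
    rw [Zt_factors_iff]
    refine ⟨filX_factors_comp K t, ?_⟩
    rw [Category.assoc, ← ht]
    exact Subobject.factors_of_factors_right π hx.1
  apply image_factors_of_refinement _ _ π ((Zt K gn p m n).factorThru _ hz)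
  rw [ht, ← Category.assoc ((Zt K gn p m n).factorThru _ hz), Subobject.factorThru_arrow,
    Category.assoc]

end Elements

section Step

variable (P : ObjectProperty A) [P.IsClosedUnderIsomorphisms]
  (h0 : ∃ Z : A, IsZero Z ∧ P Z)
  (hP : ∀ S : ComposableArrows A 4, S.Exact → P (S.obj 0) → P (S.obj 1) → P (S.obj 3) →
    P (S.obj 4) → P (S.obj 2))

/-- step 1: `(Z̃ + S)/B ≅ Z̃/(Z̃ ∩ B)` -/
theorem P_step1 {X : A} (Z₀ B S : Subobject X) (hS : S ≤ B) (hBZ : B ≤ Z₀ ⊔ S)
    (h : P (Q (Z₀ ⊔ S) B hBZ)) : P (Q Z₀ (Z₀ ⊓ B) inf_le_left) :=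
  (P_iso_of P Z₀ (Z₀ ⊓ B) (Z₀ ⊔ S) B inf_le_left hBZ le_sup_left inf_le_right le_rfl
    (sup_le le_sup_left (hS.trans le_sup_right))).mpr h

include h0 hP in
/-- the passage from page `r` to page `r + 1`, with generic indices -/
theorem step (p c e g c₂ e' gn e'' g'' m₀ m n n' n'' : ℤ)
    (hpe : p ≤ e) (hce : c ≤ e') (hge : g ≤ e'') (hgg : gn ≤ g)
    (H1 : P (Q (Zt K p c n n' ⊔ K.filX e n) (Bt K p g m n ⊔ K.filX e n)
      (B_le_Z K p g c e m n n')))
    (H2 : P (Q (Zt K c c₂ n' n'' ⊔ K.filX e' n') (Bt K c e n n' ⊔ K.filX e' n')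
      (B_le_Z K c e c₂ e' n n' n'')))
    (H3 : P (Q (Zt K gn p m n ⊔ K.filX e'' m) (Bt K gn g'' m₀ m ⊔ K.filX e'' m)
      (B_le_Z K gn g'' p e'' m₀ m n))) :
    P (Q (Zt K p e' n n' ⊔ K.filX e n) (Bt K p gn m n ⊔ K.filX e n)
      (B_le_Z K p gn e' e m n n')) := by
  -- abbreviations
  set B := Bt K p g m n ⊔ K.filX e n with hBdef
  set B' := Bt K c e n n' ⊔ K.filX e' n' with hB'def
  set Zn := Zt K p e' n n' ⊔ K.filX e n with hZndef
  set W := Zt K p c n n' ⊓ (Subobject.pullback (K.obj.d n n')).obj B' with hWdef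
  have S1 : P (Q (Zt K p c n n') (Zt K p c n n' ⊓ B) inf_le_left) :=
    P_step1 P (Zt K p c n n') B (K.filX e n) le_sup_right (B_le_Z K p g c e m n n') H1
  -- step 2
  have h2b : Zt K p c n n' ⊓ B ≤ (Subobject.pullback (K.obj.d n n')).obj B' :=
    Zt_inf_B_le_pullback K p c g e e m n n' le_rfl _
  have hBW : Zt K p c n n' ⊓ B ≤ W := le_inf inf_le_left h2b
  have S2 : P (Q W (Zt K p c n n' ⊓ B) hBW) :=
    P_ker_sq P h0 hP (K.obj.d n n') (Zt K p c n n') (Zt K p c n n' ⊓ B) inf_le_left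
      (Zt K c c₂ n' n'' ⊔ K.filX e' n') B' (B_le_Z K c e c₂ e' n n' n'')
      (Zt_le_pullback K p c c₂ n n' n'' _) h2b W hBW inf_le_left inf_le_right le_rfl S1 H2
  -- step 3
  have hBBn : B ≤ Bt K p gn m n ⊔ K.filX e n := sup_le_sup_right (Bt_mono K hgg) _
  have hBZn : B ≤ Zn := hBBn.trans (B_le_Z K p gn e' e m n n')
  have h3a : W ≤ Zn := by
    apply Subobject.le_of_factors
    apply chase3a K hpe (c₀ := c)
    · exact ((Zt_factors_iff K _).mp (Subobject.factors_of_le _ inf_le_left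
        (Subobject.factors_self W))).1
    · rw [← pullback_factors_iff]
      exact Subobject.factors_of_le _ inf_le_right (Subobject.factors_self W)
  have h3b : Zn ≤ W ⊔ B := by
    apply sup_le
    · refine le_trans ?_ le_sup_left
      apply le_inf (Zt_mono K hce)
      exact inf_le_right.trans ((Subobject.pullback _).monotone le_sup_right)
    · exact le_sup_right.trans le_sup_right
  have S3 : P (Q Zn B hBZn) :=
    (P_iso_of P W (Zt K p c n n' ⊓ B) Zn B hBW hBZn h3a inf_le_right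
      (inf_le_inf_right _ inf_le_left) h3b).mp S2
  -- step 1 at the previous degree
  set B'' := Bt K gn g'' m₀ m ⊔ K.filX e'' m with hB''def
  have S4 : P (Q (Zt K gn p m n) (Zt K gn p m n ⊓ B'') inf_le_left) :=
    P_step1 P (Zt K gn p m n) B'' (K.filX e'' m) le_sup_right (B_le_Z K gn g'' p e'' m₀ m n) H3
  -- step 4
  refine P_coker_sq P h0 hP (K.obj.d m n) (Zt K gn p m n) (Zt K gn p m n ⊓ B'') inf_le_left
    Zn B hBZn (Zt_le_pullback K gn p e' m n n' _)
    (Zt_inf_B_le_pullback K gn p g'' e'' g m₀ m n hge _)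
    (Bt K p gn m n ⊔ K.filX e n) hBBn (B_le_Z K p gn e' e m n n')
    ((chase4d K gn p m n).trans le_sup_left)
    (sup_le ((chase4e K gn p m n).trans le_sup_left) (le_sup_right.trans le_sup_right))
    S4 S3

end Step

section Pages

variable (P : ObjectProperty A) [P.IsClosedUnderIsomorphisms]
  (h0 : ∃ Z : A, IsZero Z ∧ P Z)
  (hP : ∀ S : ComposableArrows A 4, S.Exact → P (S.obj 0) → P (S.obj 1) → P (S.obj 3) →
    P (S.obj 4) → P (S.obj 2))

theorem Zt_congr {a a' c c' n n' n'' : ℤ} (ha : a = a') (hc : c = c') (hn : n' = n'') :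
    Zt K a c n n' = Zt K a' c' n n'' := by
  subst ha hc hn
  rfl

theorem Bt_congr {a a' c c' m m' n : ℤ} (ha : a = a') (hc : c = c') (hm : m = m') :
    Bt K a c m n = Bt K a' c' m' n := by
  subst ha hc hm
  rfl

include h0 hP in
theorem P_E_succ (r : ℕ) (hr : ∀ p n : ℤ, P (K.E r p n)) (p n : ℤ) : P (K.E (r + 1) p n) := by
  have H1 : P (Q (Zt K p (p + r) n (n + 1) ⊔ K.filX (p + 1) n)
      (Bt K p (p - r + 1) (n - 1) n ⊔ K.filX (p + 1) n)
      (B_le_Z K p (p - r + 1) (p + r) (p + 1) (n - 1) n (n + 1))) := hr p n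
  have H2' : P (Q (Zt K (p + r) (p + r + r) (n + 1) (n + 1 + 1) ⊔ K.filX (p + r + 1) (n + 1))
      (Bt K (p + r) (p + r - r + 1) (n + 1 - 1) (n + 1) ⊔ K.filX (p + r + 1) (n + 1))
      (B_le_Z K (p + r) (p + r - r + 1) (p + r + r) (p + r + 1) (n + 1 - 1) (n + 1)
        (n + 1 + 1))) := hr (p + r) (n + 1)
  have H2 : P (Q (Zt K (p + r) (p + r + r) (n + 1) (n + 1 + 1) ⊔ K.filX (p + r + 1) (n + 1))
      (Bt K (p + r) (p + 1) n (n + 1) ⊔ K.filX (p + r + 1) (n + 1))
      (B_le_Z K (p + r) (p + 1) (p + r + r) (p + r + 1) n (n + 1) (n + 1 + 1))) :=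
    P_congr P _ _ _ _ _ _ rfl
      (congrArg (· ⊔ K.filX (p + r + 1) (n + 1)) (Bt_congr K rfl (by ring) (by ring))) H2'
  have H3' : P (Q (Zt K (p - r) (p - r + r) (n - 1) (n - 1 + 1) ⊔ K.filX (p - r + 1) (n - 1))
      (Bt K (p - r) (p - r - r + 1) (n - 1 - 1) (n - 1) ⊔ K.filX (p - r + 1) (n - 1))
      (B_le_Z K (p - r) (p - r - r + 1) (p - r + r) (p - r + 1) (n - 1 - 1) (n - 1)
        (n - 1 + 1))) := hr (p - r) (n - 1)
  have H3 : P (Q (Zt K (p - r) p (n - 1) n ⊔ K.filX (p - r + 1) (n - 1))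
      (Bt K (p - r) (p - r - r + 1) (n - 1 - 1) (n - 1) ⊔ K.filX (p - r + 1) (n - 1))
      (B_le_Z K (p - r) (p - r - r + 1) p (p - r + 1) (n - 1 - 1) (n - 1) n)) :=
    P_congr P _ _ _ _ _ _
      (congrArg (· ⊔ K.filX (p - r + 1) (n - 1)) (Zt_congr K rfl (by ring) (by ring))) rfl H3'
  have H4 := step K P h0 hP p (p + r) (p + 1) (p - r + 1) (p + r + r) (p + r + 1) (p - r)
    (p - r + 1) (p - r - r + 1) (n - 1 - 1) (n - 1) n (n + 1) (n + 1 + 1)
    (by omega) (by omega) le_rfl (by omega) H1 H2 H3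
  change P (Q (Zt K p (p + ((r + 1 : ℕ) : ℤ)) n (n + 1) ⊔ K.filX (p + 1) n)
      (Bt K p (p - ((r + 1 : ℕ) : ℤ) + 1) (n - 1) n ⊔ K.filX (p + 1) n)
      (B_le_Z K p (p - ((r + 1 : ℕ) : ℤ) + 1) (p + ((r + 1 : ℕ) : ℤ)) (p + 1) (n - 1) n (n + 1)))
  exact P_congr P _ _ _ _ _ _
    (congrArg (· ⊔ K.filX (p + 1) n) (Zt_congr K rfl (by push_cast; ring) rfl))
    (congrArg (· ⊔ K.filX (p + 1) n) (Bt_congr K rfl (by push_cast; ring) rfl)) H4

theorem imd_le_kerd' (n : ℤ) :
    imageSubobject (K.obj.d (n - 1) n) ≤ kernelSubobject (K.obj.d n (n + 1)) :=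
  le_kernelSubobject _ _ (imageSubobject_arrow_comp_eq_zero (K.obj.d_comp_d _ _ _))

theorem BBot_le_ZTop (p n : ℤ) : K.BBot p n ≤ K.ZTop p n :=
  sup_le_sup_right (inf_le_inf_left _ (imd_le_kerd' K n)) _

include h0 hP in
theorem P_Einf (hK : ∀ n : ℤ, (K.XFil n).IsFinite) (r : ℕ) (hr : ∀ p n : ℤ, P (K.E r p n))
    (p n : ℤ) : P (Q (K.ZTop p n) (K.BBot p n) (BBot_le_ZTop K p n)) := by
  have hall : ∀ k : ℕ, ∀ p n : ℤ, P (K.E (r + k) p n) := by
    intro k
    induction k with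
    | zero => exact hr
    | succ k ih => exact fun p n => P_E_succ K P h0 hP (r + k) ih p n
  obtain ⟨-, ⟨b, hb⟩⟩ := hK (n + 1)
  obtain ⟨⟨a, ha⟩, -⟩ := hK (n - 1)
  change K.filX b (n + 1) = ⊥ at hb
  change K.filX a (n - 1) = ⊤ at ha
  obtain ⟨k, hk1, hk2⟩ : ∃ k : ℕ, (b - p).toNat ≤ k ∧ (p + 1 - a).toNat ≤ k :=
    ⟨max (b - p).toNat (p + 1 - a).toNat, le_max_left _ _, le_max_right _ _⟩
  have e1 := SpSeqFin.ZSub_eq_ZTop K (r := r + k) (p := p) (n := n)
    (SpSeqFin.filX_eq_bot_of_le K (by push_cast; omega) hb)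
  have e2 := SpSeqFin.BSub_eq_BBot K (r := r + k) (p := p) (n := n)
    (SpSeqFin.filX_eq_top_of_le K (by push_cast; omega) ha)
  exact P_congr P _ _ _ _ (K.BSub_le_ZSub (r + k) p n) _ e1 e2 (hall k p n)

end Pages

section Abut

variable (P : ObjectProperty A) [P.IsClosedUnderIsomorphisms]
  (h0 : ∃ Z : A, IsZero Z ∧ P Z)
  (hP : ∀ S : ComposableArrows A 4, S.Exact → P (S.obj 0) → P (S.obj 1) → P (S.obj 3) →
    P (S.obj 4) → P (S.obj 2))

/-- cocycles -/
noncomputable def kerd (n : ℤ) : Subobject (K.obj.X n) := kernelSubobject (K.obj.d n (n + 1))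

/-- coboundaries -/
noncomputable def imd (n : ℤ) : Subobject (K.obj.X n) := imageSubobject (K.obj.d (n - 1) n)

theorem imd_le_kerd (n : ℤ) : imd K n ≤ kerd K n := imd_le_kerd' K n

/-- `(F^p ∩ Z) + B`, whose image in cohomology is `F^p H^n` -/
noncomputable def G (p n : ℤ) : Subobject (K.obj.X n) := (K.filX p n ⊓ kerd K n) ⊔ imd K n

theorem imd_le_G (p n : ℤ) : imd K n ≤ G K p n := le_sup_right

theorem G_anti (p n : ℤ) : G K (p + 1) n ≤ G K p n :=
  sup_le_sup_right (inf_le_inf_right _ (K.filX_anti n (by omega))) _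

theorem chaseA2i {p e n : ℤ} {T : A} (x : T ⟶ K.obj.X n) (hk : (kerd K n).Factors x)
    (hB : ((K.filX p n ⊓ imd K n) ⊔ K.filX e n).Factors x) : (G K e n).Factors x := by
  obtain ⟨T', π, hπ, y, y', hyy⟩ := exists_refinement_of_sup_factors _ _ _ hB
  haveI := hπ
  apply factors_of_epi_comp _ π
  have ha : (imd K n).Factors (y ≫ (K.filX p n ⊓ imd K n).arrow) :=
    Subobject.factors_of_le _ inf_le_right (Subobject.factors_comp_arrow y)
  have hb : (kerd K n).Factors (y' ≫ (K.filX e n).arrow) := by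
    apply Subobject.factors_right_of_factors_add (y ≫ (K.filX p n ⊓ imd K n).arrow)
    · rw [← hyy]
      exact Subobject.factors_of_factors_right π hk
    · exact Subobject.factors_of_le _ (imd_le_kerd K n) ha
  rw [hyy]
  unfold G
  apply Subobject.factors_add
  · exact Subobject.sup_factors_of_factors_right ha
  · apply Subobject.sup_factors_of_factors_left
    rw [Subobject.inf_factors]
    exact ⟨Subobject.factors_comp_arrow y', hb⟩

theorem chaseA2ii {p e n : ℤ} (hpe : p ≤ e) {T : A} (x : T ⟶ K.obj.X n)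
    (hF : (K.filX p n).Factors x) (hG : (G K e n).Factors x) :
    ((K.filX p n ⊓ imd K n) ⊔ K.filX e n).Factors x := by
  obtain ⟨T', π, hπ, y, y', hyy⟩ := exists_refinement_of_sup_factors _ _ _ hG
  haveI := hπ
  apply factors_of_epi_comp _ π
  have ha : (K.filX e n).Factors (y ≫ (K.filX e n ⊓ kerd K n).arrow) :=
    Subobject.factors_of_le _ inf_le_left (Subobject.factors_comp_arrow y)
  have hb : (K.filX p n).Factors (y' ≫ (imd K n).arrow) := by
    apply Subobject.factors_right_of_factors_add (y ≫ (K.filX e n ⊓ kerd K n).arrow)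
    · rw [← hyy]
      exact Subobject.factors_of_factors_right π hF
    · exact filX_factors_of_le K hpe ha
  rw [hyy]
  apply Subobject.factors_add
  · exact Subobject.sup_factors_of_factors_right ha
  · apply Subobject.sup_factors_of_factors_left
    rw [Subobject.inf_factors]
    exact ⟨hb, Subobject.factors_comp_arrow y'⟩

theorem P_G_succ (p n : ℤ) (h : P (Q (K.ZTop p n) (K.BBot p n) (BBot_le_ZTop K p n))) :
    P (Q (G K p n) (G K (p + 1) n) (G_anti K p n)) := by
  have hZT : K.ZTop p n = (K.filX p n ⊓ kerd K n) ⊔ K.filX (p + 1) n := rfl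
  have hBB : K.BBot p n = (K.filX p n ⊓ imd K n) ⊔ K.filX (p + 1) n := rfl
  have hNZ : K.filX p n ⊓ kerd K n ≤ K.ZTop p n := by
    rw [hZT]
    exact le_sup_left
  have he : K.ZTop p n ≤ (K.filX p n ⊓ kerd K n) ⊔ K.BBot p n := by
    rw [hZT, hBB]
    exact sup_le le_sup_left (le_sup_right.trans le_sup_right)
  have hNB : P (Q (K.filX p n ⊓ kerd K n) ((K.filX p n ⊓ kerd K n) ⊓ K.BBot p n) inf_le_left) :=
    (P_iso_of P (K.filX p n ⊓ kerd K n) ((K.filX p n ⊓ kerd K n) ⊓ K.BBot p n) (K.ZTop p n)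
      (K.BBot p n) inf_le_left (BBot_le_ZTop K p n) hNZ inf_le_right le_rfl he).mpr h
  have hNG : K.filX p n ⊓ kerd K n ≤ G K p n := le_sup_left
  have hBG : (K.filX p n ⊓ kerd K n) ⊓ K.BBot p n ≤ G K (p + 1) n := by
    apply Subobject.le_of_factors
    apply chaseA2i K (p := p)
    · exact Subobject.factors_of_le _ (inf_le_left.trans inf_le_right) (Subobject.factors_self _)
    · rw [← hBB]
      exact Subobject.factors_of_le _ inf_le_right (Subobject.factors_self _)
  have hm : (K.filX p n ⊓ kerd K n) ⊓ G K (p + 1) n ≤ (K.filX p n ⊓ kerd K n) ⊓ K.BBot p n := by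
    apply le_inf inf_le_left
    apply Subobject.le_of_factors
    rw [hBB]
    apply chaseA2ii K (by omega)
    · exact Subobject.factors_of_le _ (inf_le_left.trans inf_le_left) (Subobject.factors_self _)
    · exact Subobject.factors_of_le _ inf_le_right (Subobject.factors_self _)
  have he' : G K p n ≤ (K.filX p n ⊓ kerd K n) ⊔ G K (p + 1) n :=
    sup_le le_sup_left ((imd_le_G K (p + 1) n).trans le_sup_right)
  exact (P_iso_of P (K.filX p n ⊓ kerd K n) ((K.filX p n ⊓ kerd K n) ⊓ K.BBot p n) (G K p n)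
    (G K (p + 1) n) inf_le_left (G_anti K p n) hNG hBG hm he').mp hNB

theorem P_homology (n : ℤ) (h : P (Q (kerd K n) (imd K n) (imd_le_kerd K n))) :
    P (K.obj.homology n) := by
  have hnext : (ComplexShape.up ℤ).next n = n + 1 := CochainComplex.next ℤ n
  have hprev : (ComplexShape.up ℤ).prev n = n - 1 := CochainComplex.prev ℤ n
  have hkd : (kerd K n).arrow ≫ K.obj.d n (n + 1) = 0 := kernelSubobject_arrow_comp _
  have hzk : ∀ {T : A} (z : T ⟶ (kerd K n : A)),
      (z ≫ (kerd K n).arrow) ≫ K.obj.d n (n + 1) = 0 := by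
    intro T z
    rw [Category.assoc, hkd, comp_zero]
  have hw : (imd K n).ofLE (kerd K n) (imd_le_kerd K n) ≫
      (K.obj.liftCycles (kerd K n).arrow (n + 1) hnext hkd ≫ K.obj.homologyπ n) = 0 := by
    rw [← Category.assoc, K.obj.comp_liftCycles,
      K.obj.liftCycles_comp_homologyπ_eq_zero_iff_up_to_refinements (n - 1) n (n + 1) hprev
        hnext]
    obtain ⟨T', π, hπ, y, hy⟩ := exists_refinement_of_image_factors (K.obj.d (n - 1) n)
      ((imd K n).arrow) (Subobject.factors_self _)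
    exact ⟨T', π, hπ, y, by rw [Subobject.ofLE_arrow]; exact hy⟩
  set ψ : Q (kerd K n) (imd K n) (imd_le_kerd K n) ⟶ K.obj.homology n :=
    cokernel.desc _ (K.obj.liftCycles (kerd K n).arrow (n + 1) hnext hkd ≫ K.obj.homologyπ n) hw
    with hψ
  have hπψ : ∀ {T : A} (z : T ⟶ (kerd K n : A)),
      (z ≫ cokernel.π ((imd K n).ofLE (kerd K n) (imd_le_kerd K n))) ≫ ψ =
        K.obj.liftCycles (z ≫ (kerd K n).arrow) (n + 1) hnext (hzk z) ≫ K.obj.homologyπ n := by
    intro T z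
    rw [hψ, Category.assoc, cokernel.π_desc, ← Category.assoc, K.obj.comp_liftCycles]
  haveI : Mono ψ := by
    apply Preadditive.mono_of_cancel_zero
    intro T t ht
    obtain ⟨T', π, hπ, z, hz⟩ := surjective_up_to_refinements_of_epi
      (cokernel.π ((imd K n).ofLE (kerd K n) (imd_le_kerd K n))) t
    haveI := hπ
    have h1 : K.obj.liftCycles (z ≫ (kerd K n).arrow) (n + 1) hnext (hzk z) ≫
        K.obj.homologyπ n = 0 := by
      rw [← hπψ, ← hz, Category.assoc, ht, comp_zero]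
    rw [K.obj.liftCycles_comp_homologyπ_eq_zero_iff_up_to_refinements (n - 1) n (n + 1) hprev
      hnext] at h1
    obtain ⟨T'', π', hπ', x₁, hx₁⟩ := h1
    haveI := hπ'
    have h2 : (imd K n).Factors (z ≫ (kerd K n).arrow) :=
      image_factors_of_refinement (K.obj.d (n - 1) n) _ π' x₁ hx₁
    rw [← cancel_epi π, comp_zero, hz, proj_eq_zero_iff]
    exact h2
  haveI : Epi ψ := by
    rw [epi_iff_surjective_up_to_refinements]
    intro T γ
    obtain ⟨T', π, hπ, z, hz, hγ⟩ :=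
      K.obj.eq_liftCycles_homologyπ_up_to_refinements γ (n + 1) hnext
    have hfac : (kerd K n).Factors z := kernelSubobject_factors _ z hz
    refine ⟨T', π, hπ, (kerd K n).factorThru z hfac ≫
      cokernel.π ((imd K n).ofLE (kerd K n) (imd_le_kerd K n)), ?_⟩
    rw [hπψ, hγ]
    congr 1
    rw [← cancel_mono (K.obj.iCycles n), HomologicalComplex.liftCycles_i,
      HomologicalComplex.liftCycles_i, Subobject.factorThru_arrow]
  haveI : IsIso ψ := isIso_of_mono_of_epi _
  exact P.prop_of_iso (asIso ψ) h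

include h0 hP in
/-- **S6793** -/
theorem main (hK : ∀ n : ℤ, (K.XFil n).IsFinite) (r : ℕ) (hr : ∀ p n : ℤ, P (K.E r p n))
    (n : ℤ) : P (K.obj.homology n) := by
  have hinf := fun p => P_Einf K P h0 hP hK r hr p n
  obtain ⟨⟨a, ha⟩, ⟨b, hb⟩⟩ := hK n
  change K.filX a n = ⊤ at ha
  change K.filX b n = ⊥ at hb
  have hC : ∀ k : ℕ, ∀ p : ℤ, b ≤ p + k →
      P (Q (G K p n) (imd K n) (imd_le_G K p n)) := by
    intro k
    induction k with
    | zero =>
      intro p hp
      have hpb : K.filX p n = ⊥ := SpSeqFin.filX_eq_bot_of_le K (by simpa using hp) hb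
      have hG : G K p n = imd K n := by
        unfold G
        rw [hpb, bot_inf_eq, bot_sup_eq]
      exact P_of_isZero P h0 (SpSeqFin.isZero_subquot_of_eq _ _ _ hG)
    | succ k ih =>
      intro p hp
      have h1 := ih (p + 1) (by push_cast at hp; omega)
      exact P_ext_sq P h0 hP (imd K n) (G K (p + 1) n) (G K p n) (imd_le_G K (p + 1) n)
        (G_anti K p n) h1 (P_G_succ K P p n (hinf p))
  have hGa : G K a n = kerd K n := by
    unfold G
    rw [ha, top_inf_eq]
    exact sup_eq_left.mpr (imd_le_kerd K n)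
  have h2 := hC (b - a).toNat a (by omega)
  exact P_homology K P n (P_congr P _ _ _ _ _ _ hGa rfl h2)

end Abut

end Groth.Agent.H6.SpSeqSerre
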