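import Mathlib
import Groth.Agent.Lib.Helper6.QA1
import Groth.Agent.Lib.Lead.QC.Affine
import Groth.Agent.Lib.Lead.QC.FreeHom

set_option autoImplicit false
set_option linter.style.haveILetI false
open CategoryTheory AlgebraicGeometry CategoryTheory.Limits TopologicalSpace Opposite

noncomputable section

namespace Groth.Agent.H6.SqZ

universe u
open Groth.Agent.LD.QC Groth.Agent.H6.QA

variable {X : Scheme.{u}} (M : X.Modules)

/-- sections of the square-zero extension `O ⊕ M`. -/
def D (M : X.Modules) (U : X.Opens) : Type u := Γ(X, U) × Γ(M, U)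

instance (U : X.Opens) : AddCommGroup (D M U) :=
  inferInstanceAs (AddCommGroup (Γ(X, U) × Γ(M, U)))

instance (U : X.Opens) : Mul (D M U) :=
  ⟨fun a b => (a.1 * b.1, a.1 • b.2 + b.1 • a.2)⟩

instance (U : X.Opens) : One (D M U) := ⟨((1 : Γ(X, U)), (0 : Γ(M, U)))⟩

variable {M}

@[ext] lemma D.ext {U : X.Opens} {a b : D M U} (h1 : a.1 = b.1) (h2 : a.2 = b.2) : a = b :=
  Prod.ext h1 h2

@[simp] lemma mul_fst {U : X.Opens} (a b : D M U) : (a * b).1 = a.1 * b.1 := rfl
@[simp] lemma mul_snd {U : X.Opens} (a b : D M U) : (a * b).2 = a.1 • b.2 + b.1 • a.2 := rfl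
@[simp] lemma one_fst {U : X.Opens} : (1 : D M U).1 = 1 := rfl
@[simp] lemma one_snd {U : X.Opens} : (1 : D M U).2 = 0 := rfl
@[simp] lemma add_fst {U : X.Opens} (a b : D M U) : (a + b).1 = a.1 + b.1 := rfl
@[simp] lemma add_snd {U : X.Opens} (a b : D M U) : (a + b).2 = a.2 + b.2 := rfl
@[simp] lemma zero_fst {U : X.Opens} : (0 : D M U).1 = 0 := rfl
@[simp] lemma zero_snd {U : X.Opens} : (0 : D M U).2 = 0 := rfl

variable (M)

instance instCommRing (U : X.Opens) : CommRing (D M U) :=
  { (inferInstance : AddCommGroup (D M U)), (inferInstance : Mul (D M U)),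
    (inferInstance : One (D M U)) with
    mul_assoc := fun a b c => by
      ext
      · simp only [mul_fst]
        ring
      · simp only [mul_fst, mul_snd, smul_add, smul_smul]
        module
    one_mul := fun a => by
      ext
      · simp
      · simp
    mul_one := fun a => by
      ext
      · simp
      · simp
    left_distrib := fun a b c => by
      ext
      · simp only [mul_fst, add_fst]
        ring
      · simp only [mul_snd, add_fst, add_snd, smul_add, add_smul]
        abel
    right_distrib := fun a b c => by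
      ext
      · simp only [mul_fst, add_fst]
        ring
      · simp only [mul_snd, add_fst, add_snd, smul_add, add_smul]
        abel
    zero_mul := fun a => by
      ext
      · simp
      · simp
    mul_zero := fun a => by
      ext
      · simp
      · simp
    mul_comm := fun a b => by
      ext
      · simp only [mul_fst]
        ring
      · simp only [mul_snd]
        abel }

/-- restriction of sections of the square-zero extension. -/
def resD {U V : X.Opens} (h : V ≤ U) : D M U →+* D M V where
  toFun a := ((X.presheaf.map (homOfLE h).op).hom a.1, M.presheaf.map (homOfLE h).op a.2)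
  map_one' := by
    ext
    · exact map_one (X.presheaf.map (homOfLE h).op).hom
    · exact map_zero (M.presheaf.map (homOfLE h).op).hom
  map_mul' a b := by
    ext
    · exact map_mul (X.presheaf.map (homOfLE h).op).hom a.1 b.1
    · change M.presheaf.map (homOfLE h).op (a.1 • b.2 + b.1 • a.2) = _
      rw [map_add, Scheme.Modules.map_smul, Scheme.Modules.map_smul]
      rfl
  map_zero' := by
    ext
    · exact map_zero (X.presheaf.map (homOfLE h).op).hom
    · exact map_zero (M.presheaf.map (homOfLE h).op).hom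
  map_add' a b := by
    ext
    · exact map_add (X.presheaf.map (homOfLE h).op).hom a.1 b.1
    · exact map_add (M.presheaf.map (homOfLE h).op).hom a.2 b.2

@[simp] lemma resD_fst {U V : X.Opens} (h : V ≤ U) (a : D M U) :
    (resD M h a).1 = (X.presheaf.map (homOfLE h).op).hom a.1 := rfl
@[simp] lemma resD_snd {U V : X.Opens} (h : V ≤ U) (a : D M U) :
    (resD M h a).2 = M.presheaf.map (homOfLE h).op a.2 := rfl

/-- the presheaf of rings `O ⊕ M`. -/
def sqzPresheaf : TopCat.Presheaf CommRingCat.{u} X.carrier where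
  obj U := CommRingCat.of (D M U.unop)
  map i := CommRingCat.ofHom (resD M (leOfHom i.unop))
  map_id U := by
    apply CommRingCat.hom_ext
    apply RingHom.ext
    intro a
    refine D.ext (M := M) ?_ ?_
    · exact res_self (unitMod X) _ _
    · exact res_self M _ _
  map_comp i k := by
    apply CommRingCat.hom_ext
    apply RingHom.ext
    intro a
    refine D.ext (M := M) ?_ ?_
    · exact (res_res (unitMod X) _ _ _).symm
    · exact (res_res M _ _ _).symm

/-- the structure map `s ↦ (s, 0)`. -/
def strD (U : X.Opens) : Γ(X, U) →+* D M U where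
  toFun s := (s, 0)
  map_one' := rfl
  map_mul' s t := by
    ext
    · simp
    · simp
  map_zero' := rfl
  map_add' s t := by
    ext
    · rfl
    · simp

/-- the structure map of the presheaf `O ⊕ M`. -/
def sqzStr : X.presheaf ⟶ sqzPresheaf M where
  app U := CommRingCat.ofHom (strD M U.unop)
  naturality U V i := by
    apply CommRingCat.hom_ext
    apply RingHom.ext
    intro s
    refine D.ext (M := M) ?_ ?_
    · rfl
    · exact (map_zero (M.presheaf.map (homOfLE (leOfHom i.unop)).op).hom).symm

open TopCat.Presheaf in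
theorem sqz_isSheaf : TopCat.Presheaf.IsSheaf (sqzPresheaf M) := by
  rw [TopCat.Presheaf.isSheaf_iff_isSheaf_comp (forget CommRingCat)]
  apply TopCat.Presheaf.isSheaf_of_isSheafUniqueGluing_types
  intro ι U sf hsf
  have h1 : IsCompatible X.presheaf U (fun i => (show D M (U i) from sf i).1) :=
    fun i j => congrArg Prod.fst (hsf i j)
  have h2 : IsCompatible M.presheaf U (fun i => (show D M (U i) from sf i).2) :=
    fun i j => congrArg Prod.snd (hsf i j)
  obtain ⟨s, hs, hs'⟩ := X.sheaf.existsUnique_gluing U _ h1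
  obtain ⟨l, hl, hl'⟩ := TopCat.Sheaf.existsUnique_gluing ⟨M.presheaf, M.isSheaf⟩ U _ h2
  refine ⟨(show D M (iSup U) from (s, l)), fun i => Prod.ext (hs i) (hl i), ?_⟩
  intro t ht
  exact Prod.ext (hs' _ fun i => congrArg Prod.fst (ht i)) (hl' _ fun i => congrArg Prod.snd (ht i))

lemma strD_pow (U : X.Opens) (r : Γ(X, U)) (n : ℕ) :
    (strD M U r) ^ n = strD M U (r ^ n) := (map_pow (strD M U) r n).symm

lemma strD_mul (U : X.Opens) (r : Γ(X, U)) (a : D M U) :
    strD M U r * a = (show D M U from (r * a.1, r • a.2)) := by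
  ext
  · rfl
  · change r • a.2 + a.1 • (0 : Γ(M, U)) = r • a.2
    rw [smul_zero, add_zero]

theorem sqz_isQC [M.IsQuasicoherent] : RelSpec.IsQC (sqzPresheaf M) (sqzStr M) := by
  intro U hU r
  letI := ((sqzPresheaf M).map (homOfLE (X.basicOpen_le r)).op).hom.toAlgebra
  set ρ : Γ(X, X.basicOpen r) := (X.presheaf.map (homOfLE (X.basicOpen_le r)).op).hom r with hρ
  have hnat : ∀ s : Γ(X, U), resD M (X.basicOpen_le r) (strD M U s) =
      strD M (X.basicOpen r) ((X.presheaf.map (homOfLE (X.basicOpen_le r)).op).hom s) := by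
    intro s
    refine D.ext rfl ?_
    exact map_zero (M.presheaf.map (homOfLE (X.basicOpen_le r)).op).hom
  refine IsLocalization.Away.mk _ ?_ ?_ ?_
  · change IsUnit (resD M (X.basicOpen_le r) (strD M U r))
    rw [hnat]
    exact (RingedSpace.isUnit_res_basicOpen _ r).map _
  · intro t
    let t' : D M (X.basicOpen r) := t
    obtain ⟨n₁, s₁, h₁⟩ := affine_surj (unitMod X) hU r (show Γ(unitMod X, X.basicOpen r) from t'.1)
    obtain ⟨n₂, l₂, h₂⟩ := affine_surj M hU r t'.2
    refine ⟨n₁ + n₂, (show D M U from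
      (r ^ n₂ * (show Γ(X, U) from s₁), r ^ n₁ • l₂)), ?_⟩
    change t' * (resD M (X.basicOpen_le r) (strD M U r)) ^ (n₁ + n₂) =
      resD M (X.basicOpen_le r) _
    rw [hnat, strD_pow, mul_comm, strD_mul]
    refine D.ext ?_ ?_
    · change ρ ^ (n₁ + n₂) * t'.1 = (X.presheaf.map (homOfLE (X.basicOpen_le r)).op).hom
        (r ^ n₂ * (show Γ(X, U) from s₁))
      rw [map_mul, map_pow]
      have h₁' : (X.presheaf.map (homOfLE (X.basicOpen_le r)).op).hom (show Γ(X, U) from s₁) =
          ρ ^ n₁ * t'.1 := h₁
      rw [h₁', ← hρ, pow_add]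
      ring
    · change ρ ^ (n₁ + n₂) • t'.2 = M.presheaf.map (homOfLE (X.basicOpen_le r)).op (r ^ n₁ • l₂)
      rw [Scheme.Modules.map_smul, h₂, smul_smul]
      congr 1
      change _ = (X.presheaf.map (homOfLE (X.basicOpen_le r)).op).hom (r ^ n₁) * ρ ^ n₂
      rw [map_pow, ← hρ, pow_add]
  · intro a b hab
    let a' : D M U := a
    let b' : D M U := b
    have hab' : resD M (X.basicOpen_le r) a' = resD M (X.basicOpen_le r) b' := hab
    obtain ⟨n₁, h₁⟩ := affine_inj (unitMod X) hU r (show Γ(unitMod X, U) from a'.1 - b'.1) (by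
      have := congrArg Prod.fst hab'
      change (X.presheaf.map (homOfLE (X.basicOpen_le r)).op).hom (a'.1 - b'.1) = 0
      rw [map_sub, sub_eq_zero]
      exact this)
    obtain ⟨n₂, h₂⟩ := affine_inj M hU r (a'.2 - b'.2) (by
      have := congrArg Prod.snd hab'
      rw [map_sub, sub_eq_zero]
      exact this)
    refine ⟨n₁ + n₂, ?_⟩
    change (strD M U r) ^ (n₁ + n₂) * a' = (strD M U r) ^ (n₁ + n₂) * b'
    rw [strD_pow, strD_mul, strD_mul]
    refine D.ext ?_ ?_
    · change r ^ (n₁ + n₂) * a'.1 = r ^ (n₁ + n₂) * b'.1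
      have h₁' : r ^ n₁ * (a'.1 - b'.1) = 0 := h₁
      rw [← sub_eq_zero, ← mul_sub, pow_add, mul_comm (r ^ n₁), mul_assoc, h₁', mul_zero]
    · change r ^ (n₁ + n₂) • a'.2 = r ^ (n₁ + n₂) • b'.2
      rw [← sub_eq_zero, ← smul_sub, pow_add, mul_smul, h₂, smul_zero]

/-- the square-zero extension `O ⊕ M` as a quasi-coherent algebra. -/
def sqzAlg [M.IsQuasicoherent] : RelSpec.QCAlg X where
  presheaf := sqzPresheaf M
  isSheaf := sqz_isSheaf M
  str := sqzStr M
  isQC := sqz_isQC M

/-- the projection `O ⊕ M ⟶ M`. -/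
def sqzSnd [M.IsQuasicoherent] : (sqzAlg M).toModule ⟶ M :=
  ⟨letI := (sqzAlg M).moduleSect
   PresheafOfModules.homMk
    { app := fun U => AddCommGrpCat.ofHom
        { toFun := fun a => (show D M U.unop from a).2
          map_zero' := rfl
          map_add' := fun a b => rfl }
      naturality := fun U V i => by
        ext a
        rfl }
    (fun U r a => by
      change (show Γ(X, U.unop) from r) • (show D M U.unop from a).2 +
        (show D M U.unop from a).1 • (0 : Γ(M, U.unop)) = _
      rw [smul_zero, add_zero]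
      rfl)⟩

lemma sqzSnd_app [M.IsQuasicoherent] (U : X.Opens) (a : D M U) :
    (sqzSnd M).app U (show Γ((sqzAlg M).toModule, U) from a) = a.2 := rfl

end Groth.Agent.H6.SqZ
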