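import Mathlib
import Groth.Agent.Lib.Helper6.SqZ1
import Groth.Agent.Lib.Helper6.Canon2
import Groth.Agent.Lib.Helper6.QCLoc
import Groth.Agent.S8255

set_option autoImplicit false
set_option linter.style.haveILetI false
open CategoryTheory AlgebraicGeometry CategoryTheory.Limits TopologicalSpace Opposite

noncomputable section

namespace Groth.Agent.H6.SqZ

universe u
open Groth.Agent.LD.QC Groth.Agent.H6.QA

variable {S : Scheme.{u}}

/-- the inverse of `gammaMap`. -/
def gammaInv (A : RelSpec.QCAlg S) : A.presheaf ⟶ A.π.base _* A.spec.presheaf :=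
  @inv _ _ _ _ A.gammaMap (Groth.Agent.S8255.result A)

lemma str_gammaInv (A : RelSpec.QCAlg S) : A.str ≫ gammaInv A = A.π.c := by
  have h := Groth.Agent.S8255.result A
  unfold gammaInv
  rw [IsIso.comp_inv_eq]
  exact A.π_c_gammaMap.symm

lemma gammaInv_app_surjective (A : RelSpec.QCAlg S) (U : S.Opens) :
    Function.Surjective ((gammaInv A).app (op U)) := by
  have h := Groth.Agent.S8255.result A
  have : IsIso ((gammaInv A).app (op U)) := by
    unfold gammaInv
    infer_instance
  exact (ConcreteCategory.bijective_of_isIso ((gammaInv A).app (op U))).2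

lemma gammaMap_app_surjective (A : RelSpec.QCAlg S) (U : S.Opens) :
    Function.Surjective (A.gammaMap.app (op U)) := by
  have h := Groth.Agent.S8255.result A
  exact (ConcreteCategory.bijective_of_isIso (A.gammaMap.app (op U))).2

/-- the inverse of the comparison `π_* O_{Spec A} ⟶ A`. -/
def gammaHomInv (A : RelSpec.QCAlg S) : A ⟶ RelSpec.QCAlg.directImage A.π :=
  ⟨gammaInv A, str_gammaInv A⟩

/-- an `S`-morphism between relative spectra induces a homomorphism of algebras. -/
def homOfOver {A B : RelSpec.QCAlg S} (i : B.spec ⟶ A.spec) (w : i ≫ A.π = B.π) : A ⟶ B :=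
  gammaHomInv A ≫
    (⟨AffAlg.algHom A.π B.π i w, AffAlg.algHom_comm A.π B.π i w⟩ :
      RelSpec.QCAlg.directImage A.π ⟶ RelSpec.QCAlg.directImage B.π) ≫ B.gammaHom

lemma appLE_surjective_of_eq {X Y : Scheme.{u}} (f : X ⟶ Y) [IsClosedImmersion f] (W : Y.Opens)
    (hW : IsAffineOpen W) (V : X.Opens) (hV : V = f ⁻¹ᵁ W) :
    Function.Surjective (f.appLE W V hV.le) := by
  subst hV
  rw [← Scheme.Hom.app_eq_appLE]
  exact Scheme.Hom.app_surjective f W hW

theorem homOfOver_surjective {A B : RelSpec.QCAlg S} (i : B.spec ⟶ A.spec) (w : i ≫ A.π = B.π)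
    [IsClosedImmersion i] (U : S.Opens) (hU : IsAffineOpen U) :
    Function.Surjective ((homOfOver i w).hom.app (op U)) := by
  have h1 : (homOfOver i w).hom.app (op U) =
      (gammaInv A).app (op U) ≫ (AffAlg.algHom A.π B.π i w).app (op U) ≫
        B.gammaMap.app (op U) := rfl
  rw [h1, Groth.Agent.H6.Canon.algHom_app]
  have s1 := gammaInv_app_surjective A U
  have s3 := gammaMap_app_surjective B U
  have hUA : IsAffineOpen (A.π ⁻¹ᵁ U) := hU.preimage A.π
  have s2 := appLE_surjective_of_eq i (A.π ⁻¹ᵁ U) hUA (B.π ⁻¹ᵁ U)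
    (by rw [← Scheme.Hom.comp_preimage, w])
  intro b
  obtain ⟨b1, hb1⟩ := s3 b
  obtain ⟨b2, hb2⟩ := s2 b1
  obtain ⟨b3, hb3⟩ := s1 b2
  refine ⟨b3, ?_⟩
  rw [CommRingCat.comp_apply, CommRingCat.comp_apply, hb3, hb2, hb1]

end Groth.Agent.H6.SqZ
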