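import Mathlib
import Groth.Agent.Lib.Helper6.SqZ2
import Groth.Agent.Lib.Helper6.SymU
import Groth.Agent.Lib.Lead.QC.EpiLocal
import Groth.Agent.Lib.Lead.QC.FinType
import Groth.Prelude.Def_PerfAux
import Groth.Agent.S8268
import Groth.Agent.S8269
import Groth.Agent.S8270

set_option autoImplicit false
set_option linter.style.haveILetI false
open CategoryTheory AlgebraicGeometry CategoryTheory.Limits TopologicalSpace Opposite

noncomputable section

namespace Groth.Agent.H6.SqZ

universe u
open Groth.Agent.LD.QC Groth.Agent.H6.QA Groth.Agent.H6.Sym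

variable {S : Scheme.{u}}

/-- induction on the sections of a symmetric algebra over an affine open. -/
theorem sections_induction {E : S.Modules} [E.IsQuasicoherent] {A : RelSpec.QCAlg S} {j : E ⟶ A.toModule}
    (hA : RelSpec.IsSymAlg E A j) (U : S.Opens) (hU : IsAffineOpen U)
    {motive : A.presheaf.obj (op U) → Prop}
    (hstr : ∀ r : Γ(S, U), motive ((A.str.app (op U)).hom r))
    (hj : ∀ e : Γ(E, U), motive (QA.sec j U e))
    (hmul : ∀ a b, motive a → motive b → motive (a * b))
    (hadd : ∀ a b, motive a → motive b → motive (a + b)) (a : A.presheaf.obj (op U)) :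
    motive a := by
  obtain ⟨s, rfl⟩ := (liftSec_bijective hA U hU).2 a
  induction s using SymmetricAlgebra.induction with
  | algebraMap r => rw [liftSec_algebraMap]; exact hstr r
  | ι e => rw [liftSec_ι]; exact hj e
  | mul x y hx hy => rw [map_mul]; exact hmul _ _ hx hy
  | add x y hx hy => rw [map_add]; exact hadd _ _ hx hy

variable (M : S.Modules) [M.IsQuasicoherent]

theorem locallyOfFiniteType_sqz (hM : M.IsFiniteType) : LocallyOfFiniteType (sqzAlg M).π := by
  refine Groth.Agent.H6.QCLoc.π_of_forall_affine @LocallyOfFiniteType (sqzAlg M) fun U hU => ?_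
  rw [HasRingHomProperty.Spec_iff (P := @LocallyOfFiniteType)]
  apply RingHom.FiniteType.of_finite
  change (strD M U).Finite
  letI := (strD M U).toAlgebra
  haveI : Module.Finite Γ(S, U) Γ(M, U) := finite_sections_of_isFiniteType M hM hU
  let e : (Γ(S, U) × Γ(M, U)) ≃ₗ[Γ(S, U)] D M U :=
    { toFun := fun a => a
      invFun := fun a => a
      map_add' := fun _ _ => rfl
      map_smul' := fun r a => by
        refine D.ext (M := M) ?_ ?_
        · rfl
        · change r • a.2 = r • a.2 + a.1 • (0 : Γ(M, U))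
          rw [smul_zero, add_zero]
      left_inv := fun _ => rfl
      right_inv := fun _ => rfl }
  exact Module.Finite.equiv e


theorem s13541 (S : Scheme.{u}) [IsNoetherian S] :
    PerfAux.HasResolutionProperty S ↔
      ∀ (X : Scheme.{u}) (f : X ⟶ S) [IsAffineHom f] [LocallyOfFiniteType f],
        ∃ (E : S.Modules) (A : RelSpec.QCAlg S) (j : E ⟶ A.toModule) (i : X ⟶ A.spec),
          Coh.IsQCoh E ∧ FlatMod.IsFinLocFree E ∧ RelSpec.IsSymAlg E A j ∧ IsClosedImmersion i ∧
            i ≫ A.π = f := by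
  constructor
  · intro hres X f _ _
    obtain ⟨E₀, hE₀, A₀, j₀, hA₀, i₀, hi₀, hi₀π⟩ :=
      Groth.Agent.S8269.result (Or.inr inferInstance) f
    obtain ⟨E, π, hElf, hπ⟩ := hres E₀ hE₀.1 hE₀.2
    have qcE : E.IsQuasicoherent := qc_of_isFinLocFree E hElf
    obtain ⟨A, j, hA⟩ := Groth.Agent.S8270.result E qcE
    obtain ⟨ψ, hψ, -⟩ := hA A₀ (π ≫ j₀)
    have hcl := Groth.Agent.S8268.result E E₀ qcE hE₀.1 π A A₀ j j₀ hA hA₀ ψ hψ
    refine ⟨E, A, j, i₀ ≫ RelSpec.QCAlg.specMap ψ, qcE, hElf, hA, inferInstance, ?_⟩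
    rw [Category.assoc, RelSpec.QCAlg.specMap_π, hi₀π]
  · intro H M hMq hMft
    haveI : M.IsQuasicoherent := hMq
    haveI := locallyOfFiniteType_sqz M hMft
    obtain ⟨E, A, j, i, hEq, hElf, hA, hi, hiπ⟩ := H (sqzAlg M).spec (sqzAlg M).π
    haveI : E.IsQuasicoherent := hEq
    let ψ : A ⟶ sqzAlg M := homOfOver i hiπ
    have hψ := homOfOver_surjective i hiπ
    refine ⟨E, j ≫ RelSpec.QCAlg.Hom.toModuleMap ψ ≫ sqzSnd M, hElf, ?_⟩
    apply epi_of_local_lift
    intro U t x hx
    obtain ⟨W, hW, hxW, hWU⟩ := exists_isAffineOpen_mem_and_subset (x := x) (U := U) hx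
    refine ⟨W, hWU, hxW, ?_⟩
    set t' := M.presheaf.map (homOfLE hWU).op t with ht'
    -- the subring of sections whose `M`-component is in the image
    have key : ∀ a : A.presheaf.obj (op W), ∃ e : Γ(E, W),
        (j ≫ RelSpec.QCAlg.Hom.toModuleMap ψ ≫ sqzSnd M).app W e =
          (show D M W from (ψ.hom.app (op W)).hom a).2 := by
      intro a
      induction a using sections_induction hA W hW with
      | hstr r =>
        refine ⟨0, ?_⟩
        rw [map_zero]
        have : (ψ.hom.app (op W)).hom ((A.str.app (op W)).hom r) =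
            ((sqzAlg M).str.app (op W)).hom r := by
          have := NatTrans.congr_app ψ.comm (op W)
          exact congr($this r)
        rw [this]
        rfl
      | hj e => exact ⟨e, rfl⟩
      | hmul a b ha hb =>
        obtain ⟨ea, hea⟩ := ha
        obtain ⟨eb, heb⟩ := hb
        set a' : D M W := (ψ.hom.app (op W)).hom a with ha'
        set b' : D M W := (ψ.hom.app (op W)).hom b with hb'
        refine ⟨a'.1 • eb + b'.1 • ea, ?_⟩
        rw [map_add]
        have h1 := Scheme.Modules.Hom.app_smul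
          (j ≫ RelSpec.QCAlg.Hom.toModuleMap ψ ≫ sqzSnd M) a'.1 eb
        have h2 := Scheme.Modules.Hom.app_smul
          (j ≫ RelSpec.QCAlg.Hom.toModuleMap ψ ≫ sqzSnd M) b'.1 ea
        rw [h1, h2, hea, heb, map_mul]
        rfl
      | hadd a b ha hb =>
        obtain ⟨ea, hea⟩ := ha
        obtain ⟨eb, heb⟩ := hb
        refine ⟨ea + eb, ?_⟩
        rw [map_add, hea, heb, map_add]
        rfl
    obtain ⟨a, ha⟩ := hψ W hW (show D M W from (0, t'))
    obtain ⟨e, he⟩ := key a
    refine ⟨e, ?_⟩
    rw [he]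
    have : (show D M W from (ψ.hom.app (op W)).hom a) = (0, t') := ha
    rw [this]
    rfl

end Groth.Agent.H6.SqZ
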