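import Mathlib
import Groth.Prelude.Def_Hyper
import Groth.Agent.Lib.Helper6.SsPhi
import Groth.Agent.Lib.Helper6.HyInjV
import Groth.Agent.Lib.Helper7.RD1
import Groth.Agent.Lib.Lead.SC.CohPsh3
import Groth.Agent.Lib.Lead.GSS.Groth3

/-! Helper6: the spectral sequence of a Verdier hypercovering of the final object (S6526), as the
Grothendieck spectral sequence of the composite `Hom(ℤ[0], -) ∘ Č(K, -)`. -/

set_option autoImplicit false
open CategoryTheory CategoryTheory.Limits Opposite Simplicial SimplexCategory Abelian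

universe u

namespace Groth.Agent.H6.SsMain

open Groth.Agent.H6.HyCoch Groth.Agent.H6.SsExt Groth.Agent.H6.SsPsi Groth.Agent.H6.SsPhi

variable {C : Type u} [SmallCategory C] [HasEqualizers C] [HasPullbacks C] [HasBinaryProducts C]
    (J : GrothendieckTopology C) (K : SimplicialObject (FormalCoproduct.{u} C))
    [∀ (n : ℕ) (F : (SimplexCategory.Truncated n)ᵒᵖ ⥤ Limits.FormalCoproduct.{u} C),
      (SimplexCategory.Truncated.inclusion n).op.HasRightKanExtension F]

include J in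
theorem pAcyc_injective (hK : Hyper.IsHypercoveringSite J K) (Q : Sheaf J AddCommGrpCat.{u})
    (hQ : Injective Q) : Groth.Agent.LD.GSS.PAcyc.{u} PP ((TT J K).obj Q) := by
  intro k
  obtain ⟨e⟩ := ext_equiv_homology (k + 1) ((TT J K).obj Q)
  have hz : IsZero (((TT J K).obj Q).homology (k + 1)) :=
    (Groth.Agent.H6.HyInjV.main_site J K hK Q).1 k
  haveI : Subsingleton (((TT J K).obj Q).homology (k + 1) : AddCommGrpCat.{u}) :=
    AddCommGrpCat.subsingleton_of_isZero hz
  exact e.toEquiv.subsingleton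

theorem rightDerived_iso (F : Sheaf J AddCommGrpCat.{u}) (q : ℕ) :
    Nonempty (((TT J K).rightDerived q).obj F ≅
      (Psi K).obj (Sheaf.cohomologyPresheaf.{u} F q)) := by
  obtain ⟨e⟩ := Groth.Agent.LD.SC.nonempty_rightDerived_sheafToPresheaf_iso F q
  exact ⟨Groth.Agent.H7.RD.rightDerivedPostcompIso (sheafToPresheaf J AddCommGrpCat.{u}) (Psi K)
    (TT J K) (Iso.refl _) F q ≪≫ (Psi K).mapIso e⟩

theorem main (hK : Hyper.IsHypercoveringSite J K) (F : Sheaf J AddCommGrpCat.{u}) :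
    ∃ (E : E₂CohomologicalSpectralSequence AddCommGrpCat.{u})
      (a : SpSeq.Abutment E (fun n : ℤ => if 0 ≤ n then AddCommGrpCat.of (Sheaf.H F n.toNat)
        else AddCommGrpCat.of PUnit.{u + 1})),
      (∀ n, a.IsFinite n) ∧ SpSeq.IsBounded E ∧
      ∀ p q : ℤ, Nonempty ((E.page 2 le_rfl).X (p, q) ≅
        (if 0 ≤ p ∧ 0 ≤ q then
          (Hyper.cechCxSite K (Sheaf.cohomologyPresheaf F q.toNat)).homology p.toNat
         else AddCommGrpCat.of PUnit.{u + 1})) := by
  have hZ : IsZero (AddCommGrpCat.of PUnit.{u + 1}) :=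
    AddCommGrpCat.isZero_of_subsingleton _
  obtain ⟨E, a, h1, h2, h3⟩ := Groth.Agent.LD.GSS.exists_gss'' (TT J K) PP (Zs J)
    (phiIso hK.1 hK.2.1) (pAcyc_injective J K hK) F
    (fun q => (Psi K).obj (Sheaf.cohomologyPresheaf.{u} F q))
    (fun q => rightDerived_iso J K F q)
    (fun n => AddCommGrpCat.of (Sheaf.H F n)) (fun n => ⟨Iso.refl _⟩)
    (AddCommGrpCat.of PUnit.{u + 1}) (AddCommGrpCat.of PUnit.{u + 1}) hZ hZ
  refine ⟨E, a, h1, h2, fun p q => ?_⟩
  obtain ⟨e⟩ := h3 p q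
  by_cases h : 0 ≤ p ∧ 0 ≤ q
  · rw [if_pos h] at e ⊢
    obtain ⟨e'⟩ := ext_equiv_homology p.toNat
      ((Psi K).obj (Sheaf.cohomologyPresheaf.{u} F q.toNat))
    exact ⟨e ≪≫ e'.toAddCommGrpIso⟩
  · rw [if_neg h] at e ⊢
    exact ⟨e⟩

end Groth.Agent.H6.SsMain
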