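import Mathlib

set_option autoImplicit false
open CategoryTheory CategoryTheory.Limits Opposite Simplicial SimplexCategory
universe u

namespace Groth.Agent.H6.StdCosk

variable (n : ℕ)

/-- evaluation of a simplex of the standard simplex at a vertex -/
def ev {Y : SimplexCategoryᵒᵖ} (y : (SSet.stdSimplex.{u}.obj ⦋n⦌).obj Y) :
    Fin (Y.unop.len + 1) →o Fin (n + 1) :=
  (SSet.stdSimplex.objEquiv y).toOrderHom

theorem ev_map {Y Y' : SimplexCategoryᵒᵖ} (g : Y ⟶ Y')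
    (y : (SSet.stdSimplex.{u}.obj ⦋n⦌).obj Y) (k : Fin (Y'.unop.len + 1)) :
    ev n ((SSet.stdSimplex.{u}.obj ⦋n⦌).map g y) k = ev n y (g.unop.toOrderHom k) := rfl

theorem ev_ext {Y : SimplexCategoryᵒᵖ} (y y' : (SSet.stdSimplex.{u}.obj ⦋n⦌).obj Y)
    (h : ∀ k, ev n y k = ev n y' k) : y = y' := by
  apply SSet.stdSimplex.objEquiv.injective
  apply SimplexCategory.Hom.ext
  exact OrderHom.ext _ _ (funext h)

abbrev strArrowMk {i m : ℕ} (φ : ⦋i⦌ ⟶ ⦋m⦌) (hi : i ≤ 1) :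
    StructuredArrow (op ⦋m⦌) (Truncated.inclusion 1).op :=
  StructuredArrow.mk (Y := op (⟨⦋i⦌, hi⟩ : SimplexCategory.Truncated 1)) φ.op

variable {n} {m : ℕ}
  (s : Cone (StructuredArrow.proj (op ⦋m⦌) (Truncated.inclusion 1).op ⋙
      (Truncated.inclusion 1).op ⋙ SSet.stdSimplex.{u}.obj ⦋n⦌))

/-- the vertices of the simplex to be constructed -/
def vertex (x : s.pt) (i : Fin (m + 1)) : Fin (n + 1) :=
  ev n (s.π.app (strArrowMk (⦋0⦌.const ⦋m⦌ i) zero_le_one) x) 0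

theorem ev_π {i : ℕ} (hi : i ≤ 1) (f : ⦋i⦌ ⟶ ⦋m⦌) (x : s.pt) (k : Fin (i + 1)) :
    ev n (s.π.app (strArrowMk f hi) x) k = vertex s x (f.toOrderHom k) := by
  let α : strArrowMk f hi ⟶ strArrowMk (⦋0⦌.const ⦋m⦌ (f.toOrderHom k)) zero_le_one :=
    StructuredArrow.homMk ((Truncated.Hom.tr (⦋0⦌.const ⦋i⦌ k)).op) (by
      apply Quiver.Hom.unop_inj
      ext t
      rfl)
  have h := ConcreteCategory.congr_hom (s.w α) x
  unfold vertex
  rw [← h]
  rfl

theorem vertex_mono (x : s.pt) : Monotone (vertex s x) := by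
  intro i i' hii
  have h0 := ev_π s (le_refl 1) (mkOfLe i i' hii) x 0
  have h1 := ev_π s (le_refl 1) (mkOfLe i i' hii) x 1
  have e0 : (mkOfLe i i' hii).toOrderHom 0 = i := rfl
  have e1 : (mkOfLe i i' hii).toOrderHom 1 = i' := rfl
  rw [e0] at h0
  rw [e1] at h1
  rw [← h0, ← h1]
  exact (ev n _).monotone (Fin.zero_le _)

/-- the lift -/
def lift (x : s.pt) : (SSet.stdSimplex.{u}.obj ⦋n⦌).obj (op ⦋m⦌) :=
  SSet.stdSimplex.objEquiv.symm (SimplexCategory.Hom.mk ⟨vertex s x, vertex_mono s x⟩)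

theorem ev_lift (x : s.pt) (k : Fin (m + 1)) : ev n (lift s x) k = vertex s x k := rfl

variable (n m) in
noncomputable def isLimit :
    (SSet.Truncated.rightExtensionInclusion (SSet.stdSimplex.{u}.obj ⦋n⦌)
      1).IsPointwiseRightKanExtensionAt (op ⦋m⦌) where
  lift s := TypeCat.ofHom (fun x => lift s x)
  fac s j := by
    ext x
    obtain ⟨⟨i, hi⟩, ⟨f : _ ⟶ _⟩, rfl⟩ := j.mk_surjective
    obtain ⟨i, rfl⟩ : ∃ j, ⦋j⦌ = i := ⟨_, i.mk_len⟩
    apply ev_ext
    intro k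
    have h1 := ev_π s hi f x k
    refine Eq.trans ?_ h1.symm
    rfl
  uniq s m' hm := by
    ext x
    apply ev_ext
    intro k
    have h := ConcreteCategory.congr_hom (hm (strArrowMk (⦋0⦌.const ⦋m⦌ k) zero_le_one)) x
    have h2 : ev n (lift s x) k =
      ev n (s.π.app (strArrowMk (⦋0⦌.const ⦋m⦌ k) zero_le_one) x) 0 := rfl
    have h3 := congrArg (fun y => ev n y 0) h
    exact Eq.trans h3 h2.symm

theorem main (n : ℕ) :
    SimplicialObject.IsCoskeletal (SSet.stdSimplex.{u}.obj (SimplexCategory.mk n)) 1 where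
  isRightKanExtension :=
    Functor.RightExtension.IsPointwiseRightKanExtension.isRightKanExtension
      (E := SSet.Truncated.rightExtensionInclusion (SSet.stdSimplex.{u}.obj ⦋n⦌) 1)
      (fun Δ => isLimit n Δ.unop.len)

end Groth.Agent.H6.StdCosk
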