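import Groth.Agent.Lib.Helper6.Sp4

/-! # Pro-open subsets of spectral spaces are spectral; a dimension estimate -/

set_option autoImplicit false

open CategoryTheory TopologicalSpace Opposite TopCat Set Topology

namespace Groth.Agent.H6.Sv

open Groth.Agent.H6.Sp

universe u

section Sober

variable {X : Type u} [TopologicalSpace X] [QuasiSober X] (W : Set X)

/-- a subset stable under generalization (in the sense that it contains every point all of whose
open neighbourhoods meet it... ) is quasi-sober: here for intersections of opens -/
lemma quasiSober_of_iInter_opens (P : Opens X → Prop) (hW : ∀ x, x ∈ W ↔ ∀ U, P U → x ∈ U) :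
    QuasiSober W := by
  constructor
  intro T hT hTc
  -- the closure in `X` of the image
  have hirr : IsIrreducible (closure (Subtype.val '' T : Set X)) :=
    (hT.image Subtype.val continuous_subtype_val.continuousOn).closure
  obtain ⟨η, hη⟩ := QuasiSober.sober hirr isClosed_closure
  have hηW : η ∈ W := by
    rw [hW]
    intro U hU
    obtain ⟨t, ht⟩ := hT.nonempty
    exact (hη.mem_open_set_iff U.2).mpr
      ⟨t.1, subset_closure ⟨t, ht, rfl⟩, (hW t.1).mp t.2 U hU⟩
  refine ⟨⟨η, hηW⟩, ?_⟩
  rw [isGenericPoint_def]
  have h1 : closure ({(⟨η, hηW⟩ : W)} : Set W) = Subtype.val ⁻¹' closure ({η} : Set X) := by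
    rw [Topology.IsInducing.subtypeVal.closure_eq_preimage_closure_image, image_singleton]
  rw [h1, hη.def]
  have h2 : T = Subtype.val ⁻¹' closure (Subtype.val '' T : Set X) := by
    have := Topology.IsInducing.subtypeVal.closure_eq_preimage_closure_image T
    rw [hTc.closure_eq] at this
    exact this
  exact h2.symm

end Sober

section Spectral

variable {X : TopCat.{u}} [SpectralSpace X] (P : Opens X → Prop)
  (hPc : ∀ U, P U → IsCompact (U : Set X))
  (W : Set X) (hW : ∀ x, x ∈ W ↔ ∀ U, P U → x ∈ U)

include hPc hW in
lemma spectralSpace_W : SpectralSpace (TopCat.of W) :=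
  { toT0Space := inferInstanceAs (T0Space W)
    toCompactSpace := compactSpace_W P hPc W hW
    toQuasiSober := quasiSober_of_iInter_opens W P hW
    toQuasiSeparatedSpace := quasiSeparatedSpace_W P hPc W hW
    toPrespectralSpace := prespectralSpace_W P hPc W hW }

end Spectral

section Dim

/-- if every point of `D` specializes to a point of the closed set `Z` disjoint from `D`, then
the dimension of `D` is smaller than that of the ambient space -/
lemma dim_lt_of_specializes {X : Type u} [TopologicalSpace X] (D Z : Set X) (hZ : IsClosed Z)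
    (hDZ : Disjoint D Z) (hD : ∀ t ∈ D, ∃ z ∈ Z, z ∈ closure ({t} : Set X)) (n : ℕ)
    (h : topologicalKrullDim X < ((n + 1 : ℕ) : WithBot ℕ∞)) :
    topologicalKrullDim D < ((n : ℕ) : WithBot ℕ∞) := by
  unfold topologicalKrullDim at h ⊢
  rw [Order.krullDim_lt_coe_iff] at h ⊢
  intro l
  let f : IrreducibleCloseds D → IrreducibleCloseds X :=
    IrreducibleCloseds.map (Subtype.val : D → X) continuous_subtype_val
  have hf : StrictMono f := IrreducibleCloseds.map_strictMono_of_isInducing IsInducing.subtypeVal
  obtain ⟨t, ht⟩ := l.head.isIrreducible.nonempty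
  obtain ⟨z, hzZ, hzt⟩ := hD t.1 t.2
  let bot : IrreducibleCloseds X :=
    ⟨closure {z}, isIrreducible_singleton.closure, isClosed_closure⟩
  have htf : t.1 ∈ ((f l.head : IrreducibleCloseds X) : Set X) :=
    subset_closure ⟨t, ht, rfl⟩
  have hhead : bot < (l.map f hf).head := by
    rw [LTSeries.head_map]
    refine lt_of_le_of_ne ?_ ?_
    · change closure {z} ⊆ ((f l.head : IrreducibleCloseds X) : Set X)
      refine closure_minimal ?_ (f l.head).isClosed
      rw [singleton_subset_iff]
      have : closure ({t.1} : Set X) ⊆ ((f l.head : IrreducibleCloseds X) : Set X) :=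
        closure_minimal (singleton_subset_iff.mpr htf) (f l.head).isClosed
      exact this hzt
    · intro heq
      have h1 : ((f l.head : IrreducibleCloseds X) : Set X) = closure {z} :=
        (congrArg (fun s : IrreducibleCloseds X => (s : Set X)) heq).symm
      have h2 : closure ({z} : Set X) ⊆ Z := closure_minimal (singleton_subset_iff.mpr hzZ) hZ
      rw [h1] at htf
      exact Set.disjoint_left.mp hDZ t.2 (h2 htf)
  have h2 := h ((l.map f hf).cons bot hhead)
  rw [RelSeries.cons_length] at h2
  have : (l.map f hf).length = l.length := rfl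
  omega

end Dim

end Groth.Agent.H6.Sv
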