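import Groth.Agent.Lib.Helper6.Sp3b
import Groth.Agent.Lib.Helper6.CL4
import Groth.Agent.Lib.Lead.SC.MV
import Mathlib.Topology.Sheaves.MayerVietoris

/-! # Surjectivity of restriction in top degree implies vanishing above; Mayer–Vietoris gluing -/

set_option autoImplicit false

open CategoryTheory CategoryTheory.Limits TopologicalSpace Opposite TopCat Set Abelian

namespace Groth.Agent.H6.Sv

open Groth.Agent.H6.Sp Groth.Agent.H6.CL Groth.Agent.LD.SC

universe w v u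

section Abstract

variable {A : Type u} [Category.{v} A] [Abelian A] [HasExt.{w} A]

lemma glue_abstract {S : ShortComplex A} (hS : S.ShortExact) {P : A} (π : S.X₂ ⟶ P)
    (ι : P ⟶ S.X₂) (hιπ : ι ≫ π = 𝟙 P) (F : A) {n : ℕ} (ξ : Ext P F n)
    (h : (Ext.mk₀ (S.f ≫ π)).comp ξ (zero_add n) = 0) :
    ∃ ζ : Ext S.X₃ F n, (Ext.mk₀ (ι ≫ S.g)).comp ζ (zero_add n) = ξ := by
  have hx₂ : (Ext.mk₀ S.f).comp ((Ext.mk₀ π).comp ξ (zero_add n)) (zero_add n) = 0 := by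
    rw [← Ext.comp_assoc_of_second_deg_zero, Ext.mk₀_comp_mk₀]
    exact h
  obtain ⟨ζ, hζ⟩ := Ext.contravariant_sequence_exact₂ hS F _ hx₂
  refine ⟨ζ, ?_⟩
  rw [← Ext.mk₀_comp_mk₀, Ext.comp_assoc_of_second_deg_zero, hζ,
    ← Ext.comp_assoc_of_second_deg_zero, Ext.mk₀_comp_mk₀, hιπ, Ext.mk₀_id_comp]

end Abstract

variable {X : TopCat.{u}}

section Glue

variable [HasExt.{u} (Sheaf (Opens.grothendieckTopology X) AddCommGrpCat.{u})]

/-- Mayer–Vietoris: a class on `U` dying on `U ⊓ V` extends to `U ⊔ V` -/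
lemma exists_glue_sup (F : Sheaf (Opens.grothendieckTopology X) AddCommGrpCat.{u}) (U V : Opens X)
    {n : ℕ} (ξ : Ext (ZU (Opens.grothendieckTopology X) U) F n)
    (h : Hres (homOfLE (inf_le_left : U ⊓ V ≤ U)) ξ = 0) :
    ∃ ζ : Ext (ZU (Opens.grothendieckTopology X) (U ⊔ V)) F n,
      Hres (homOfLE (le_sup_left : U ≤ U ⊔ V)) ζ = ξ := by
  let S := Opens.mayerVietorisSquare U V
  let π : S.shortComplex.X₂ ⟶ ZU (Opens.grothendieckTopology X) U :=
    (biprod.fst : ZU (Opens.grothendieckTopology X) U ⊞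
      ZU (Opens.grothendieckTopology X) V ⟶ ZU (Opens.grothendieckTopology X) U)
  let ι : ZU (Opens.grothendieckTopology X) U ⟶ S.shortComplex.X₂ :=
    (biprod.inl : ZU (Opens.grothendieckTopology X) U ⟶
      ZU (Opens.grothendieckTopology X) U ⊞ ZU (Opens.grothendieckTopology X) V)
  have hιπ : ι ≫ π = 𝟙 _ := biprod.inl_fst
  have h1 : S.shortComplex.f ≫ π =
      ZUmap (Opens.grothendieckTopology X) (homOfLE (inf_le_left : U ⊓ V ≤ U)) := by
    change biprod.lift (ZUmap _ S.f₁₂) (-ZUmap _ S.f₁₃) ≫ biprod.fst = _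
    rw [biprod.lift_fst]
    rfl
  have h2 : ι ≫ S.shortComplex.g =
      ZUmap (Opens.grothendieckTopology X) (homOfLE (le_sup_left : U ≤ U ⊔ V)) := by
    change biprod.inl ≫ biprod.desc (ZUmap _ S.f₂₄) (ZUmap _ S.f₃₄) = _
    rw [biprod.inl_desc]
    rfl
  obtain ⟨ζ, hζ⟩ := glue_abstract S.shortComplex_shortExact π ι hιπ F ξ (by rw [h1]; exact h)
  rw [h2] at hζ
  exact ⟨ζ, hζ⟩

/-- Mayer–Vietoris: a class on `U` dying on `U ⊓ V` extends to the whole space if `U ⊔ V = ⊤` -/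
lemma exists_glue_top (F : Sheaf (Opens.grothendieckTopology X) AddCommGrpCat.{u}) (U V : Opens X)
    (hUV : U ⊔ V = ⊤) {n : ℕ} (ξ : Ext (ZU (Opens.grothendieckTopology X) U) F n)
    (h : Hres (homOfLE (inf_le_left : U ⊓ V ≤ U)) ξ = 0) :
    ∃ ζ : Ext (ZU (Opens.grothendieckTopology X) (⊤ : Opens X)) F n,
      Hres (homOfLE (le_top : U ≤ ⊤)) ζ = ξ := by
  obtain ⟨ζ, hζ⟩ := exists_glue_sup F U V ξ h
  have hle : (⊤ : Opens X) ≤ U ⊔ V := le_of_eq hUV.symm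
  refine ⟨Hres (homOfLE hle) ζ, ?_⟩
  rw [← Hres_comp]
  exact hζ

end Glue

end Groth.Agent.H6.Sv
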