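import Groth.Agent.Lib.Helper6.Sv2

/-! # Surjectivity of restriction in degree `m` implies vanishing above `m` -/

set_option autoImplicit false

open CategoryTheory CategoryTheory.Limits TopologicalSpace Opposite TopCat Set Abelian

namespace Groth.Agent.H6.Sv

open Groth.Agent.H6.Sp Groth.Agent.H6.CL Groth.Agent.LD.SC

universe u

variable {X : TopCat.{u}}
  [HasExt.{u} (Sheaf (Opens.grothendieckTopology X) AddCommGrpCat.{u})]

/-- restriction from the whole space is surjective in degree `m` for compact opens -/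
def SurjRes (m : ℕ) (F : Sheaf (Opens.grothendieckTopology X) AddCommGrpCat.{u}) : Prop :=
  ∀ U : Opens X, IsCompact (U : Set X) →
    ∀ η : Ext (ZU (Opens.grothendieckTopology X) U) F m,
      ∃ ζ : Ext (ZU (Opens.grothendieckTopology X) (⊤ : Opens X)) F m,
        Hres (homOfLE (le_top : U ≤ ⊤)) ζ = η

lemma qf_of_surjRes_zero (F : Sheaf (Opens.grothendieckTopology X) AddCommGrpCat.{u})
    (h : SurjRes 0 F) : QF F := by
  intro V hV s
  obtain ⟨ζ, hζ⟩ := h V hV ((H0Equiv V F).symm s)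
  refine ⟨H0Equiv ⊤ F ζ, ?_⟩
  have h1 := H0Equiv_res (homOfLE (le_top : V ≤ ⊤)) F ζ
  have h2 : (Ext.mk₀ (ZUmap (Opens.grothendieckTopology X) (homOfLE (le_top : V ≤ ⊤)))).comp ζ
      (zero_add 0) = (H0Equiv V F).symm s := hζ
  rw [h2, AddEquiv.apply_symm_apply] at h1
  exact h1.symm

lemma Hres_sub {U V : Opens X} (f : V ⟶ U)
    {F : Sheaf (Opens.grothendieckTopology X) AddCommGrpCat.{u}} {n : ℕ}
    (x y : Ext (ZU (Opens.grothendieckTopology X) U) F n) :
    Hres f (x - y) = Hres f x - Hres f y := by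
  simp only [Hres]
  rw [sub_eq_add_neg, Ext.comp_add, Ext.comp_neg, ← sub_eq_add_neg]

variable [EnoughInjectives (Sheaf (Opens.grothendieckTopology X) AddCommGrpCat.{u})]

lemma surjRes_X₃ (m : ℕ) (F : Sheaf (Opens.grothendieckTopology X) AddCommGrpCat.{u})
    (h : SurjRes (m + 1) F) : SurjRes m (sesU F).X₃ := by
  intro U hU η
  have hS := sesU_shortExact F
  haveI := sesU_injective F
  -- lift `δ η`
  obtain ⟨ζ, hζ⟩ := h U hU (η.comp hS.extClass rfl)
  obtain ⟨η', hη'⟩ := Ext.covariant_sequence_exact₁ (ZU (Opens.grothendieckTopology X) ⊤) hS ζ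
    (Ext.eq_zero_of_injective _) rfl
  have h1 : (Hres (homOfLE (le_top : U ≤ ⊤)) η' - η).comp hS.extClass (rfl : m + 1 = m + 1) = 0 := by
    rw [sub_eq_add_neg, Ext.add_comp, Ext.neg_comp, ← sub_eq_add_neg, ← Hres_comp_right, hη', hζ,
      sub_self]
  obtain ⟨ι, hι⟩ := Ext.covariant_sequence_exact₃ (ZU (Opens.grothendieckTopology X) U) hS _ rfl h1
  -- lift `ι`
  have hlift : ∃ ι' : Ext (ZU (Opens.grothendieckTopology X) (⊤ : Opens X)) (sesU F).X₂ m,
      Hres (homOfLE (le_top : U ≤ ⊤)) ι' = ι := by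
    cases m with
    | zero =>
      haveI : TopCat.Sheaf.IsFlasque (sesU F).X₂ := isFlasque_of_injective (sesU F).X₂
      obtain ⟨t, ht⟩ := qf_of_isFlasque (sesU F).X₂ U hU (H0Equiv U (sesU F).X₂ ι)
      refine ⟨(H0Equiv ⊤ (sesU F).X₂).symm t, ?_⟩
      apply (H0Equiv U (sesU F).X₂).injective
      have h2 := H0Equiv_res (homOfLE (le_top : U ≤ ⊤)) (sesU F).X₂
        ((H0Equiv ⊤ (sesU F).X₂).symm t)
      rw [AddEquiv.apply_symm_apply] at h2
      exact h2.trans ht
    | succ k =>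
      refine ⟨0, ?_⟩
      rw [Hres_zero]
      exact (Ext.eq_zero_of_injective ι).symm
  obtain ⟨ι', hι'⟩ := hlift
  refine ⟨η' - ι'.comp (Ext.mk₀ (sesU F).g) (add_zero m), ?_⟩
  rw [Hres_sub, Hres_comp_right, hι', hι]
  abel

/-- surjectivity of restriction in degree `m` implies vanishing in degrees `> m` -/
theorem subsingleton_of_surjRes [CompactSpace X] [QuasiSeparatedSpace X] [PrespectralSpace X]
    (m : ℕ) : ∀ (F : Sheaf (Opens.grothendieckTopology X) AddCommGrpCat.{u}), SurjRes m F →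
      ∀ (q k : ℕ), k = m + (q + 1) →
        Subsingleton (Ext (ZU (Opens.grothendieckTopology X) (⊤ : Opens X)) F k) := by
  induction m with
  | zero =>
    intro F h q k hk
    have : k = q + 1 := by omega
    subst this
    exact subsingleton_ext_of_qf q F (qf_of_surjRes_zero F h)
  | succ m ih =>
    intro F h q k hk
    obtain ⟨k', rfl⟩ : ∃ k', k = k' + 1 := ⟨m + (q + 1), by omega⟩
    have hS := sesU_shortExact F
    haveI := sesU_injective F
    haveI := ih (sesU F).X₃ (surjRes_X₃ m F h) q k' (by omega)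
    refine ⟨fun a b => ?_⟩
    suffices hz : ∀ ξ : Ext (ZU (Opens.grothendieckTopology X) (⊤ : Opens X)) F (k' + 1), ξ = 0 by
      rw [hz a, hz b]
    intro ξ
    obtain ⟨x₃, hx₃⟩ := Ext.covariant_sequence_exact₁ (ZU (Opens.grothendieckTopology X) ⊤) hS ξ
      (Ext.eq_zero_of_injective _) rfl
    rw [← hx₃, Subsingleton.elim x₃ 0, Ext.zero_comp]

end Groth.Agent.H6.Sv
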