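import Groth.Agent.Lib.Helper6.Sv1
import Groth.Agent.Lib.Helper6.Sv2b
import Groth.Agent.Lib.Helper6.Sp5
import Groth.Agent.Lib.Helper6.GVA

/-! # Scheiderer's theorem: cohomological dimension of spectral spaces (S0469, S0470) -/

set_option autoImplicit false

open CategoryTheory CategoryTheory.Limits TopologicalSpace Opposite TopCat Set Abelian Topology

namespace Groth.Agent.H6.Sv

open Groth.Agent.H6.Sp Groth.Agent.H6.CL Groth.Agent.LD.SC Groth.Agent.H6.GV

universe u

/-- the family of traces on `U` of compact open neighbourhoods of the complement of `U` -/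
def PU {X : TopCat.{u}} (U : Opens X) : Opens X → Prop :=
  fun O => ∃ V : Opens X, (U : Set X)ᶜ ⊆ V ∧ IsCompact (V : Set X) ∧ O = V ⊓ U

/-- the points of `U` specializing into the complement of `U` -/
def WU {X : TopCat.{u}} (U : Opens X) : Set X :=
  {x | x ∈ U ∧ ∃ z ∈ (U : Set X)ᶜ, z ∈ closure ({x} : Set X)}

section

variable {X : TopCat.{u}} [SpectralSpace X] (U : Opens X) (hU : IsCompact (U : Set X))

include hU in
lemma PU_isCompact : ∀ O, PU U O → IsCompact (O : Set X) := by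
  rintro O ⟨V, -, hVc, rfl⟩
  exact QuasiSeparatedSpace.inter_isCompact _ _ V.2 hVc U.2 hU

lemma PU_inf : ∀ O O', PU U O → PU U O' → PU U (O ⊓ O') := by
  rintro O O' ⟨V, hV, hVc, rfl⟩ ⟨V', hV', hVc', rfl⟩
  exact ⟨V ⊓ V', subset_inter hV hV',
    QuasiSeparatedSpace.inter_isCompact _ _ V.2 hVc V'.2 hVc', (inf_inf_distrib_right V V' U).symm⟩

lemma PU_nonempty : ∃ O, PU U O := ⟨⊤ ⊓ U, ⊤, subset_univ _, isCompact_univ, rfl⟩

lemma mem_WU_iff (x : X) : x ∈ WU U ↔ ∀ O, PU U O → x ∈ O := by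
  constructor
  · rintro ⟨hxU, z, hzZ, hzx⟩ O ⟨V, hV, -, rfl⟩
    refine ⟨?_, hxU⟩
    obtain ⟨y, hyV, hy⟩ := mem_closure_iff.mp hzx V V.2 (hV hzZ)
    rw [mem_singleton_iff] at hy
    subst hy
    exact hyV
  · intro h
    have hxU : x ∈ U := (h (⊤ ⊓ U) ⟨⊤, subset_univ _, isCompact_univ, rfl⟩).2
    refine ⟨hxU, ?_⟩
    by_contra hcon
    have hsub : (U : Set X)ᶜ ⊆ (closure ({x} : Set X))ᶜ := by
      intro z hz hzx
      exact hcon ⟨z, hz, hzx⟩
    obtain ⟨V, hVc, hZV, hVN⟩ := exists_compact_open_between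
      U.2.isClosed_compl.isCompact isClosed_closure.isOpen_compl hsub
    exact hVN (h (V ⊓ U) ⟨V, hZV, hVc, rfl⟩).1 (subset_closure (mem_singleton x))

end

/-- vanishing in degrees `≥ n` for spectral spaces of dimension `< n` -/
def AA (n : ℕ) : Prop :=
  ∀ (X : TopCat.{u}) [SpectralSpace X], topologicalKrullDim X < ((n : ℕ) : WithBot ℕ∞) → GVn n X

/-- surjectivity of restriction in degree `n` for spectral spaces of dimension `≤ n` -/
def BB (n : ℕ) : Prop :=
  ∀ (X : TopCat.{u}) [SpectralSpace X], topologicalKrullDim X < ((n + 1 : ℕ) : WithBot ℕ∞) →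
    ∀ F : CohTop.Ab X, SurjRes n F

lemma bb_of_aa (n : ℕ) (h : AA.{u} n) : BB.{u} n := by
  intro X _ hdim F U hU η
  -- the pro-open subset `W ∩ U`
  have hW := mem_WU_iff U
  haveI : SpectralSpace (TopCat.of (WU U)) :=
    spectralSpace_W (PU U) (PU_isCompact U hU) (WU U) hW
  have hdimW : topologicalKrullDim (TopCat.of (WU U)) < ((n : ℕ) : WithBot ℕ∞) :=
    dim_lt_of_specializes (WU U) ((U : Set X)ᶜ) U.2.isClosed_compl
      (Set.disjoint_left.mpr (fun x hx hx' => hx' hx.1)) (fun t ht => ht.2) n hdim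
  have hvan := h (TopCat.of (WU U)) hdimW ((CohTop.pull (iW (WU U))).obj F) n le_rfl
  obtain ⟨e⟩ := nonempty_colimit_equiv (PU U) (PU_isCompact U hU) (PU_inf U) (PU_nonempty U)
    (WU U) hW F n
  haveI : Subsingleton (Tc (BP (PP (PU U))) n F) := e.toEquiv.subsingleton
  haveI : IsFiltered (PP (PU U)).FullSubcategory :=
    isFiltered_of_inf (PP (PU U)) (fun O O' hO hO' => PU_inf U O O' hO hO') (PU_nonempty U)
  let k₀ : (PP (PU U)).FullSubcategory := ⟨op (⊤ ⊓ U), ⟨⊤, subset_univ _, isCompact_univ, rfl⟩⟩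
  let η₀ : Ext (ZU (Opens.grothendieckTopology X) (⊤ ⊓ U)) F n :=
    Hres (homOfLE (inf_le_right : ⊤ ⊓ U ≤ U)) η
  obtain ⟨k', f, hf⟩ := inc_eq_zero (BP (PP (PU U))) n F (k := k₀) η₀ (Subsingleton.elim _ _)
  obtain ⟨V, hZV, hVc, hk'⟩ := k'.property
  -- `η` dies on `U ⊓ V`
  have hle : U ⊓ V ≤ k'.obj.unop := by
    rw [hk']
    exact le_of_eq (inf_comm _ _)
  have h0 : Hres (homOfLE (inf_le_left : U ⊓ V ≤ U)) η = 0 := by
    have h1 : Hres (f.hom.unop) η₀ = 0 := hf
    have h2 : Hres (homOfLE hle) (Hres (f.hom.unop) η₀) = 0 := by rw [h1, Hres_zero]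
    rw [← Hres_comp, ← Hres_comp] at h2
    exact h2
  have hUV : U ⊔ V = ⊤ := by
    apply le_antisymm le_top
    intro x _
    by_cases hx : x ∈ U
    · exact Or.inl hx
    · exact Or.inr (hZV hx)
  exact exists_glue_top F U V hUV η h0

theorem aa (n : ℕ) : AA.{u} n := by
  induction n with
  | zero =>
    intro X _ hdim
    haveI : IsEmpty X := by
      by_contra hne
      rw [not_isEmpty_iff] at hne
      obtain ⟨x⟩ := hne
      have : (0 : WithBot ℕ∞) ≤ topologicalKrullDim X := by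
        unfold topologicalKrullDim
        rw [Order.krullDim_nonneg_iff]
        exact ⟨⟨closure {x}, isIrreducible_singleton.closure, isClosed_closure⟩⟩
      exact absurd hdim (not_lt.2 (by simpa using this))
    exact gvn_of_isEmpty 0
  | succ n ih =>
    intro X _ hdim F p hp
    have hB := bb_of_aa n ih X hdim F
    rw [subsingleton_H_iff]
    exact subsingleton_of_surjRes n F hB (p - (n + 1)) p (by omega)

theorem s469 {X : TopCat.{u}} [SpectralSpace X] (d : ℕ) (hd : topologicalKrullDim X ≤ d)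
    (F : CohTop.Ab X) (p : ℕ) (hp : d < p) : Subsingleton (CohTop.H F p) := by
  refine aa (d + 1) X ?_ F p (by omega)
  refine lt_of_le_of_lt hd ?_
  exact_mod_cast Nat.lt_succ_self d

theorem s470 {X : TopCat.{u}} [SpectralSpace X] (d : ℕ)
    (hd : topologicalKrullDim X = d) (F : CohTop.Ab X) (U : Opens X) (hU : IsCompact (U : Set X)) :
    Function.Surjective (CohTop.res F d (le_top : U ≤ ⊤)) := by
  have hdim : topologicalKrullDim X < ((d + 1 : ℕ) : WithBot ℕ∞) := by
    rw [hd]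
    exact_mod_cast Nat.lt_succ_self d
  intro η
  obtain ⟨ζ, hζ⟩ := bb_of_aa d (aa d) X hdim F U hU η
  exact ⟨ζ, hζ⟩

end Groth.Agent.H6.Sv
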