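import Mathlib

/-!
# Symmetric algebras: functoriality along ring maps and compatibility with localisation (helper6)
-/

set_option autoImplicit false

namespace Groth.Agent.H6.Sym

open SymmetricAlgebra

section alg

variable {R R' R'' : Type*} [CommRing R] [CommRing R'] [CommRing R''] [Algebra R R']
  {M M' : Type*} [AddCommGroup M] [Module R M] [AddCommGroup M'] [Module R' M'] [Module R M']
  [IsScalarTower R R' M']

/-- The map of symmetric algebras induced by a ring map `R → R'` and a compatible map `M → M'`. -/
noncomputable def symMap (f : M →ₗ[R] M') : SymmetricAlgebra R M →ₐ[R] SymmetricAlgebra R' M' :=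
  SymmetricAlgebra.lift ((ι R' M').restrictScalars R ∘ₗ f)

@[simp] lemma symMap_ι (f : M →ₗ[R] M') (m : M) : symMap (R' := R') f (ι R M m) = ι R' M' (f m) := by
  simp [symMap]

lemma symMap_algebraMap (f : M →ₗ[R] M') (r : R) :
    symMap (R' := R') f (algebraMap R _ r) = algebraMap R' _ (algebraMap R R' r) := by
  rw [AlgHom.commutes, IsScalarTower.algebraMap_apply R R' (SymmetricAlgebra R' M')]

/-- ring homs out of a symmetric algebra are determined by scalars and generators. -/
lemma ringHom_ext {A : Type*} [Semiring A] {g h : SymmetricAlgebra R M →+* A}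
    (h1 : ∀ r, g (algebraMap R _ r) = h (algebraMap R _ r))
    (h2 : ∀ m, g (ι R M m) = h (ι R M m)) : g = h := by
  refine RingHom.ext fun x => ?_
  induction x using SymmetricAlgebra.induction with
  | algebraMap r => exact h1 r
  | ι m => exact h2 m
  | mul a b ha hb => rw [map_mul, map_mul, ha, hb]
  | add a b ha hb => rw [map_add, map_add, ha, hb]

/-- surjectivity of `symMap` for surjective data. -/
lemma symMap_surjective (f : M →ₗ[R] M') (hR : Function.Surjective (algebraMap R R'))
    (hf : Function.Surjective f) : Function.Surjective (symMap (R' := R') f) := by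
  intro x
  induction x using SymmetricAlgebra.induction with
  | algebraMap r =>
    obtain ⟨a, rfl⟩ := hR r
    exact ⟨algebraMap R _ a, symMap_algebraMap f a⟩
  | ι m =>
    obtain ⟨a, rfl⟩ := hf m
    exact ⟨ι R M a, symMap_ι f a⟩
  | mul a b ha hb =>
    obtain ⟨a, rfl⟩ := ha
    obtain ⟨b, rfl⟩ := hb
    exact ⟨a * b, map_mul _ _ _⟩
  | add a b ha hb =>
    obtain ⟨a, rfl⟩ := ha
    obtain ⟨b, rfl⟩ := hb
    exact ⟨a + b, map_add _ _ _⟩

end alg

section loc

variable {R R' : Type*} [CommRing R] [CommRing R'] [Algebra R R']
  {M M' : Type*} [AddCommGroup M] [Module R M] [AddCommGroup M'] [Module R' M'] [Module R M']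
  [IsScalarTower R R' M']

/-- **Symmetric algebras commute with localisation away from an element.** -/
theorem isLocalization_symMap (r : R) [IsLocalization.Away r R'] (f : M →ₗ[R] M')
    [IsLocalizedModule.Away r f] :
    letI := (symMap (R' := R') f).toRingHom.toAlgebra
    IsLocalization.Away (algebraMap R (SymmetricAlgebra R M) r) (SymmetricAlgebra R' M') := by
  letI := (symMap (R' := R') f).toRingHom.toAlgebra
  have halg : ∀ x, algebraMap (SymmetricAlgebra R M) (SymmetricAlgebra R' M') x = symMap f x :=
    fun _ => rfl
  have hx : algebraMap (SymmetricAlgebra R M) (SymmetricAlgebra R' M')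
      (algebraMap R (SymmetricAlgebra R M) r) = algebraMap R' _ (algebraMap R R' r) := by
    rw [halg, symMap_algebraMap]
  refine IsLocalization.Away.mk _ ?_ ?_ ?_
  · rw [hx]
    exact (IsLocalization.Away.algebraMap_isUnit r).map _
  · intro t
    rw [hx]
    induction t using SymmetricAlgebra.induction with
    | algebraMap a' =>
      obtain ⟨n, a, ha⟩ := IsLocalization.Away.surj r a'
      refine ⟨n, algebraMap R _ a, ?_⟩
      rw [halg, symMap_algebraMap, ← ha, map_mul, map_pow]
    | ι m' =>
      obtain ⟨n, m, hm⟩ := IsLocalizedModule.Away.surj f r m'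
      refine ⟨n, ι R M m, ?_⟩
      rw [halg, symMap_ι, ← hm, ← map_pow, mul_comm, ← Algebra.smul_def, ← map_smul,
        ← map_pow, algebraMap_smul]
    | mul a b ha hb =>
      obtain ⟨n₁, s₁, h₁⟩ := ha
      obtain ⟨n₂, s₂, h₂⟩ := hb
      refine ⟨n₁ + n₂, s₁ * s₂, ?_⟩
      rw [map_mul, ← h₁, ← h₂, pow_add]
      ring
    | add a b ha hb =>
      obtain ⟨n₁, s₁, h₁⟩ := ha
      obtain ⟨n₂, s₂, h₂⟩ := hb
      refine ⟨n₁ + n₂, s₁ * algebraMap R _ (r ^ n₂) + s₂ * algebraMap R _ (r ^ n₁), ?_⟩
      rw [map_add, map_mul, map_mul, ← h₁, ← h₂, halg (algebraMap R _ (r ^ n₂)),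
        halg (algebraMap R _ (r ^ n₁)), symMap_algebraMap, symMap_algebraMap, pow_add, map_pow,
        map_pow, map_pow, map_pow]
      ring
  · intro a b hab
    -- the inverse map into the localisation
    let x : SymmetricAlgebra R M := algebraMap R _ r
    let L := Localization.Away x
    let g₀ : R →+* L := (algebraMap (SymmetricAlgebra R M) L).comp (algebraMap R _)
    have hg₀ : IsUnit (g₀ r) := IsLocalization.Away.algebraMap_isUnit x
    let ρ : R' →+* L := IsLocalization.Away.lift r hg₀
    have hρ : ∀ c, ρ (algebraMap R R' c) = g₀ c := IsLocalization.Away.lift_eq r hg₀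
    letI : Algebra R' L := ρ.toAlgebra
    haveI : IsScalarTower R R' L := IsScalarTower.of_algebraMap_eq fun c => by
      change algebraMap R L c = ρ (algebraMap R R' c)
      rw [hρ]
      exact IsScalarTower.algebraMap_apply R (SymmetricAlgebra R M) L c
    let h₀ : M →ₗ[R] L := (IsScalarTower.toAlgHom R (SymmetricAlgebra R M) L).toLinearMap ∘ₗ ι R M
    have hunit : ∀ s : Submonoid.powers r, IsUnit (algebraMap R (Module.End R L) s) := by
      rintro ⟨_, n, rfl⟩
      rw [Module.End.isUnit_iff]
      have hu : IsUnit (algebraMap R L (r ^ n)) := by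
        rw [map_pow]
        exact (show IsUnit (algebraMap R L r) from by
          rw [IsScalarTower.algebraMap_apply R (SymmetricAlgebra R M) L]
          exact IsLocalization.Away.algebraMap_isUnit x).pow n
      obtain ⟨v, hv⟩ := hu
      refine ⟨fun y z hyz => ?_, fun y => ⟨(↑v⁻¹ : L) * y, ?_⟩⟩
      · have h1 : algebraMap R L (r ^ n) * y = algebraMap R L (r ^ n) * z := by
          have h2 : (r ^ n) • y = (r ^ n) • z := hyz
          rwa [Algebra.smul_def, Algebra.smul_def] at h2
        rw [← hv] at h1
        exact (Units.mul_right_inj v).mp h1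
      · change (r ^ n) • ((↑v⁻¹ : L) * y) = y
        rw [Algebra.smul_def, ← hv, Units.mul_inv_cancel_left]
    let h₁ : M' →ₗ[R] L := IsLocalizedModule.lift (Submonoid.powers r) f h₀ hunit
    have hh₁ : ∀ m, h₁ (f m) = h₀ m := IsLocalizedModule.lift_apply (Submonoid.powers r) f h₀ hunit
    let h₂ : M' →ₗ[R'] L := LinearMap.extendScalarsOfIsLocalization (Submonoid.powers r) R' h₁
    let g : SymmetricAlgebra R' M' →ₐ[R'] L := SymmetricAlgebra.lift h₂
    have hg : g.toRingHom.comp (symMap (R' := R') f).toRingHom =
        algebraMap (SymmetricAlgebra R M) L := by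
      apply ringHom_ext
      · intro c
        change g (symMap f (algebraMap R _ c)) = _
        rw [symMap_algebraMap, AlgHom.commutes]
        change ρ (algebraMap R R' c) = _
        rw [hρ]
        rfl
      · intro m
        change g (symMap f (ι R M m)) = _
        rw [symMap_ι, SymmetricAlgebra.lift_ι_apply]
        change h₁ (f m) = _
        rw [hh₁]
        rfl
    have hab' : algebraMap (SymmetricAlgebra R M) L a = algebraMap (SymmetricAlgebra R M) L b := by
      rw [← hg]
      change g (symMap f a) = g (symMap f b)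
      rw [← halg, ← halg, hab]
    exact IsLocalization.Away.exists_of_eq x hab'

end loc

section fin

variable {R : Type*} [CommRing R] {M : Type*} [AddCommGroup M] [Module R M]

/-- the symmetric algebra of a finite module is an algebra of finite type. -/
theorem finiteType_symmetricAlgebra [Module.Finite R M] :
    Algebra.FiniteType R (SymmetricAlgebra R M) := by
  classical
  obtain ⟨s, hs⟩ := (Module.Finite.fg_top : (⊤ : Submodule R M).FG)
  refine ⟨⟨s.image (ι R M), ?_⟩⟩
  rw [eq_top_iff]
  rintro x -
  have hM : ∀ m : M, ι R M m ∈ Algebra.adjoin R ((s.image (ι R M) : Finset _) : Set (SymmetricAlgebra R M)) := by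
    intro m
    have hm : m ∈ Submodule.span R (s : Set M) := hs ▸ Submodule.mem_top
    induction hm using Submodule.span_induction with
    | mem y hy => exact Algebra.subset_adjoin (by simpa using ⟨y, hy, rfl⟩)
    | zero => rw [map_zero]; exact Subalgebra.zero_mem _
    | add a b _ _ ha hb => rw [map_add]; exact Subalgebra.add_mem _ ha hb
    | smul c a _ ha => rw [map_smul]; exact Subalgebra.smul_mem _ ha c
  induction x using SymmetricAlgebra.induction with
  | algebraMap r => exact Subalgebra.algebraMap_mem _ r
  | ι m => exact hM m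
  | mul a b ha hb => exact Subalgebra.mul_mem _ ha hb
  | add a b ha hb => exact Subalgebra.add_mem _ ha hb

end fin

end Groth.Agent.H6.Sym
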