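import Mathlib

set_option autoImplicit false
universe u
open TensorProduct MvPolynomial

namespace Groth.Agent.H6.SymPres

variable {A : Type u} [CommRing A] {M : Type u} [AddCommGroup M] [Module A M] {m : ℕ}
  (x : Fin m → M) (G : Algebra.Generators A (SymmetricAlgebra A M) (Fin m))

/-- the linear form attached to a vector of coefficients, as a linear map. -/
noncomputable def lfLin (A : Type u) [CommRing A] (m : ℕ) :
    (Fin m → A) →ₗ[A] MvPolynomial (Fin m) A :=
  Fintype.linearCombination A (fun j => (X j : MvPolynomial (Fin m) A))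

theorem lfLin_apply (k : Fin m → A) : lfLin A m k = ∑ j, C (k j) * X j := by
  rw [lfLin, Fintype.linearCombination_apply]
  refine Finset.sum_congr rfl fun j _ => ?_
  rw [MvPolynomial.smul_eq_C_mul]

variable {x G}

theorem algebraMap_lf (hG : ∀ j, G.val j = SymmetricAlgebra.ι A M (x j)) (k : Fin m → A) :
    algebraMap G.toExtension.Ring (SymmetricAlgebra A M) (lfLin A m k) =
      SymmetricAlgebra.ι A M (Fintype.linearCombination A x k) := by
  rw [lfLin_apply]
  change algebraMap G.Ring (SymmetricAlgebra A M) _ = _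
  rw [G.algebraMap_apply, map_sum, Fintype.linearCombination_apply, map_sum]
  refine Finset.sum_congr rfl fun j _ => ?_
  rw [map_mul, aeval_C, aeval_X, hG, map_smul, Algebra.smul_def]

theorem lf_mem_ker (hG : ∀ j, G.val j = SymmetricAlgebra.ι A M (x j))
    (k : LinearMap.ker (Fintype.linearCombination A x)) :
    lfLin A m (k : Fin m → A) ∈ G.toExtension.ker := by
  change algebraMap G.toExtension.Ring (SymmetricAlgebra A M) (lfLin A m (k : Fin m → A)) = 0
  rw [algebraMap_lf hG, LinearMap.mem_ker.mp k.2, map_zero]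

/-- `K → ker`, `k ↦ Σ k_j X_j`. -/
noncomputable def lfK (hG : ∀ j, G.val j = SymmetricAlgebra.ι A M (x j)) :
    LinearMap.ker (Fintype.linearCombination A x) →ₗ[A] G.toExtension.ker :=
  LinearMap.codRestrict (G.toExtension.ker.restrictScalars A)
    (lfLin A m ∘ₗ (LinearMap.ker (Fintype.linearCombination A x)).subtype)
    (fun k => lf_mem_ker hG k)

/-- `K → J/J²`. -/
noncomputable def f0 (hG : ∀ j, G.val j = SymmetricAlgebra.ι A M (x j)) :
    LinearMap.ker (Fintype.linearCombination A x) →ₗ[A] G.toExtension.Cotangent :=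
  (Algebra.Extension.Cotangent.mk.restrictScalars A) ∘ₗ lfK hG

/-- the comparison map `C ⊗ K → J/J²`. -/
noncomputable def emap (hG : ∀ j, G.val j = SymmetricAlgebra.ι A M (x j)) :
    SymmetricAlgebra A M ⊗[A] (LinearMap.ker (Fintype.linearCombination A x)) →ₗ[SymmetricAlgebra A M]
      G.toExtension.Cotangent :=
  LinearMap.liftBaseChange (SymmetricAlgebra A M) (f0 hG)

theorem emap_tmul (hG : ∀ j, G.val j = SymmetricAlgebra.ι A M (x j)) (s : SymmetricAlgebra A M)
    (k : LinearMap.ker (Fintype.linearCombination A x)) :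
    emap hG (s ⊗ₜ k) = s • Algebra.Extension.Cotangent.mk ⟨lfLin A m k, lf_mem_ker hG k⟩ := by
  rw [emap, LinearMap.liftBaseChange_tmul]
  rfl


theorem D_lincomb {P Ω : Type*} [CommRing P] [Algebra A P] [AddCommGroup Ω] [Module P Ω] [Module A Ω]
    [IsScalarTower A P Ω] (D : Derivation A P Ω) (v : Fin m → P) (k : Fin m → A) :
    D (Fintype.linearCombination A v k) = ∑ j, k j • D (v j) := by
  rw [Fintype.linearCombination_apply, map_sum]
  refine Finset.sum_congr rfl fun j _ => ?_
  rw [Derivation.map_smul]

section kernel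
variable (hx : Function.Surjective (Fintype.linearCombination A x))
  (hG : ∀ j, G.val j = SymmetricAlgebra.ι A M (x j))

/-- the ideal generated by the linear forms of relations -/
noncomputable def Lid (x : Fin m → M) (G : Algebra.Generators A (SymmetricAlgebra A M) (Fin m)) :
    Ideal G.toExtension.Ring :=
  Ideal.span ((fun k => (lfLin A m k : G.toExtension.Ring)) ''
    (LinearMap.ker (Fintype.linearCombination A x) : Set (Fin m → A)))

theorem lf_mem_Lid (k : Fin m → A) (hk : k ∈ LinearMap.ker (Fintype.linearCombination A x)) :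
    lfLin A m k ∈ Lid x G :=
  Ideal.subset_span ⟨k, hk, rfl⟩

include hx hG in
theorem ker_le_Lid : ∀ z : G.toExtension.Ring,
    algebraMap G.toExtension.Ring (SymmetricAlgebra A M) z = 0 → z ∈ Lid x G := by
  classical
  -- f₁ : A^m → P/L
  let f₁ : (Fin m → A) →ₗ[A] (G.toExtension.Ring ⧸ Lid x G) :=
    (Ideal.Quotient.mkₐ A (Lid x G)).toLinearMap ∘ₗ lfLin A m
  have hf₁ : LinearMap.ker (Fintype.linearCombination A x) ≤ LinearMap.ker f₁ := by
    intro k hk
    rw [LinearMap.mem_ker]
    exact (Ideal.Quotient.eq_zero_iff_mem (I := Lid x G)).mpr (lf_mem_Lid k hk)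
  let eq : ((Fin m → A) ⧸ LinearMap.ker (Fintype.linearCombination A x)) ≃ₗ[A] M :=
    (Fintype.linearCombination A x).quotKerEquivOfSurjective hx
  let f₂ : M →ₗ[A] (G.toExtension.Ring ⧸ Lid x G) :=
    ((LinearMap.ker (Fintype.linearCombination A x)).liftQ f₁ hf₁) ∘ₗ eq.symm.toLinearMap
  have hf₂ : ∀ v : Fin m → A, f₂ (Fintype.linearCombination A x v) = f₁ v := by
    intro v
    have : eq.symm (Fintype.linearCombination A x v) = Submodule.Quotient.mk v := by
      rw [LinearEquiv.symm_apply_eq]
      rfl
    change ((LinearMap.ker (Fintype.linearCombination A x)).liftQ f₁ hf₁) (eq.symm _) = _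
    rw [this, Submodule.liftQ_apply]
  have hxj : ∀ j, x j = Fintype.linearCombination A x (Pi.single j 1) := by
    intro j
    rw [Fintype.linearCombination_apply]
    simp [Pi.single_apply]
  have hlfj : ∀ j, lfLin A m (Pi.single j 1) = X j := by
    intro j
    rw [lfLin, Fintype.linearCombination_apply]
    simp [Pi.single_apply]
  let ψ : SymmetricAlgebra A M →ₐ[A] (G.toExtension.Ring ⧸ Lid x G) := SymmetricAlgebra.lift f₂
  have hψ : ∀ j, ψ (SymmetricAlgebra.ι A M (x j)) = Ideal.Quotient.mk (Lid x G) (X j) := by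
    intro j
    rw [SymmetricAlgebra.lift_ι_apply, hxj j, hf₂]
    change Ideal.Quotient.mk (Lid x G) (lfLin A m (Pi.single j 1)) = _
    rw [hlfj]
  -- the composite P → S → P/L is the quotient map
  have hcomp : ∀ z : G.toExtension.Ring,
      ψ (algebraMap G.toExtension.Ring (SymmetricAlgebra A M) z) = Ideal.Quotient.mk (Lid x G) z := by
    intro z
    have : (ψ.comp (IsScalarTower.toAlgHom A G.toExtension.Ring (SymmetricAlgebra A M))) =
        Ideal.Quotient.mkₐ A (Lid x G) := by
      apply MvPolynomial.algHom_ext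
      intro j
      change ψ (algebraMap G.Ring (SymmetricAlgebra A M) (X j)) = _
      rw [G.algebraMap_apply, aeval_X, hG, hψ]
      rfl
    exact DFunLike.congr_fun this z
  intro z hz0
  have := hcomp z
  rw [hz0, map_zero] at this
  exact Ideal.Quotient.eq_zero_iff_mem.mp this.symm


include hG in
theorem Lid_le_ker (z : G.toExtension.Ring) (hz : z ∈ Lid x G) : z ∈ G.toExtension.ker := by
  have : Lid x G ≤ G.toExtension.ker := by
    rw [Lid, Ideal.span_le]
    rintro _ ⟨k, hk, rfl⟩
    exact lf_mem_ker hG ⟨k, hk⟩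
  exact this hz

include hx in
theorem emap_surjective : Function.Surjective (emap hG) := by
  intro c
  obtain ⟨⟨z, hz⟩, rfl⟩ := Algebra.Extension.Cotangent.mk_surjective c
  have hzL : z ∈ Lid x G := ker_le_Lid hx hG z hz
  have key : ∀ (z : G.toExtension.Ring) (hzL : z ∈ Lid x G) (hz : z ∈ G.toExtension.ker),
      Algebra.Extension.Cotangent.mk ⟨z, hz⟩ ∈ LinearMap.range (emap hG) := by
    intro z hzL
    rw [Lid] at hzL
    induction hzL using Submodule.span_induction with
    | mem y hy =>
      obtain ⟨k, hk, rfl⟩ := hy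
      intro hz
      exact ⟨1 ⊗ₜ ⟨k, hk⟩, by rw [emap_tmul, one_smul]⟩
    | zero =>
      intro hz
      have : (⟨0, hz⟩ : G.toExtension.ker) = 0 := rfl
      rw [this, map_zero]
      exact Submodule.zero_mem _
    | add y₁ y₂ h₁ h₂ ih₁ ih₂ =>
      intro hz
      have hk₁ := Lid_le_ker hG y₁ h₁
      have hk₂ := Lid_le_ker hG y₂ h₂
      have : (⟨y₁ + y₂, hz⟩ : G.toExtension.ker) = ⟨y₁, hk₁⟩ + ⟨y₂, hk₂⟩ := rfl
      rw [this, map_add]
      exact Submodule.add_mem _ (ih₁ hk₁) (ih₂ hk₂)
    | smul r y h ih =>
      intro hz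
      have hk := Lid_le_ker hG y h
      have : (⟨r • y, hz⟩ : G.toExtension.ker) = r • ⟨y, hk⟩ := rfl
      rw [this, map_smul, ← algebraMap_smul (SymmetricAlgebra A M) r]
      exact Submodule.smul_mem _ _ (ih hk)
  exact key z hzL hz


include hx in
theorem emap_injective [Module.Projective A M] : Function.Injective (emap hG) := by
  classical
  -- a section of the surjection A^m → M
  obtain ⟨s, hs⟩ := Module.projective_lifting_property (Fintype.linearCombination A x)
    (LinearMap.id : M →ₗ[A] M) hx
  -- the retraction A^m → K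
  let r : (Fin m → A) →ₗ[A] LinearMap.ker (Fintype.linearCombination A x) :=
    LinearMap.codRestrict _ (LinearMap.id - s ∘ₗ Fintype.linearCombination A x) (by
      intro v
      rw [LinearMap.mem_ker, LinearMap.sub_apply, map_sub, LinearMap.id_apply, LinearMap.comp_apply]
      have := LinearMap.congr_fun hs (Fintype.linearCombination A x v)
      rw [LinearMap.comp_apply, LinearMap.id_apply] at this
      rw [this, sub_self])
  have hr : ∀ k : LinearMap.ker (Fintype.linearCombination A x), r k = k := by
    intro k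
    apply Subtype.ext
    change (k : Fin m → A) - s (Fintype.linearCombination A x k) = k
    rw [LinearMap.mem_ker.mp k.2, map_zero, sub_zero]
  let γ : G.toExtension.CotangentSpace →ₗ[SymmetricAlgebra A M]
      SymmetricAlgebra A M ⊗[A] (LinearMap.ker (Fintype.linearCombination A x)) :=
    G.cotangentSpaceBasis.constr (SymmetricAlgebra A M) (fun j => (1 : SymmetricAlgebra A M) ⊗ₜ r (Pi.single j 1))
  have hγ : ∀ j, γ ((1 : SymmetricAlgebra A M) ⊗ₜ[G.toExtension.Ring]
      KaehlerDifferential.D A G.toExtension.Ring (X j)) = (1 : SymmetricAlgebra A M) ⊗ₜ r (Pi.single j 1) := by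
    intro j
    have h := G.cotangentSpaceBasis.constr_basis (SymmetricAlgebra A M)
      (fun j => (1 : SymmetricAlgebra A M) ⊗ₜ[A] r (Pi.single j 1)) j
    rw [G.cotangentSpaceBasis_apply] at h
    exact h
  have key : ∀ t, γ (G.toExtension.cotangentComplex (emap hG t)) = t := by
    intro t
    induction t using TensorProduct.induction_on with
    | zero => simp
    | add t₁ t₂ h₁ h₂ => rw [map_add, map_add, map_add, h₁, h₂]
    | tmul c k =>
      rw [emap_tmul, map_smul, map_smul, Algebra.Extension.cotangentComplex_mk]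
      have hD : KaehlerDifferential.D A G.toExtension.Ring (lfLin A m (k : Fin m → A)) =
          ∑ j, (k : Fin m → A) j • KaehlerDifferential.D A G.toExtension.Ring (X j) := by
        exact D_lincomb (KaehlerDifferential.D A G.toExtension.Ring) (fun j => X j) (k : Fin m → A)
      change c • γ ((1 : SymmetricAlgebra A M) ⊗ₜ[G.toExtension.Ring]
        KaehlerDifferential.D A G.toExtension.Ring (lfLin A m (k : Fin m → A))) = _
      rw [hD, TensorProduct.tmul_sum, map_sum]
      have : ∀ j, γ ((1 : SymmetricAlgebra A M) ⊗ₜ[G.toExtension.Ring]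
          ((k : Fin m → A) j • KaehlerDifferential.D A G.toExtension.Ring (X j))) =
          (1 : SymmetricAlgebra A M) ⊗ₜ ((k : Fin m → A) j • r (Pi.single j 1)) := by
        intro j
        rw [TensorProduct.tmul_smul, LinearMap.map_smul_of_tower, hγ, TensorProduct.tmul_smul]
      simp only [this]
      rw [← TensorProduct.tmul_sum]
      have hk : ∑ j, (k : Fin m → A) j • (Pi.single j 1 : Fin m → A) = k := by
        funext i
        simp [Finset.sum_apply, Pi.single_apply]
      have hsum : ∑ j, (k : Fin m → A) j • r (Pi.single j 1) = k := by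
        have : ∑ j, (k : Fin m → A) j • r (Pi.single j 1) =
            r (∑ j, (k : Fin m → A) j • (Pi.single j 1 : Fin m → A)) := by
          rw [map_sum]
          refine Finset.sum_congr rfl fun j _ => ?_
          rw [map_smul]
        rw [this, hk, hr]
      rw [hsum, TensorProduct.smul_tmul', smul_eq_mul, mul_one]
  intro t₁ t₂ h
  rw [← key t₁, ← key t₂, h]

end kernel

theorem main (A : Type u) [CommRing A] (M : Type u)
    [AddCommGroup M] [Module A M] (m : ℕ) (x : Fin m → M)
    (hx : Function.Surjective (Fintype.linearCombination A x))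
    (G : Algebra.Generators A (SymmetricAlgebra A M) (Fin m))
    (hG : ∀ j, G.val j = SymmetricAlgebra.ι A M (x j)) :
    ∃ e : SymmetricAlgebra A M ⊗[A] (LinearMap.ker (Fintype.linearCombination A x)) →ₗ[SymmetricAlgebra A M]
        G.toExtension.Cotangent,
      (∀ (k : LinearMap.ker (Fintype.linearCombination A x))
        (hk : (∑ j, C ((k : Fin m → A) j) * X j : MvPolynomial (Fin m) A) ∈ G.toExtension.ker),
        e (1 ⊗ₜ k) = Algebra.Extension.Cotangent.mk ⟨_, hk⟩) ∧
      Function.Surjective e ∧ (Module.Projective A M → Function.Bijective e) := by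
  refine ⟨emap hG, ?_, emap_surjective hx hG, fun hP => ⟨emap_injective hx hG, emap_surjective hx hG⟩⟩
  intro k hk
  rw [emap_tmul, one_smul]
  congr 1
  apply Subtype.ext
  exact lfLin_apply _

end Groth.Agent.H6.SymPres
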