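import Mathlib
import Groth.Agent.Lib.Helper6.DepthKit

universe u
set_option linter.style.haveILetI false
open CategoryTheory

namespace Groth.Agent.H6.Syz

variable {B : Type u} [CommRing B]

/-- a module `M₀` fitting into an exact sequence `0 → M₀ → M₁ → ⋯ → M_k` with `M₁, …, M_k`
projective, over a ring of global dimension `≤ k`, is projective. -/
theorem projective_of_exact (k : ℕ) (M : ℕ → Type u) [∀ i, AddCommGroup (M i)]
    [∀ i, Module B (M i)] (δ : ∀ i, M i →ₗ[B] M (i + 1)) (hinj : Function.Injective (δ 0))
    (hex : ∀ i, i + 1 < k → LinearMap.range (δ i) = LinearMap.ker (δ (i + 1)))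
    (hproj : ∀ i, 1 ≤ i → i ≤ k → Module.Projective B (M i))
    (gd : ∀ X : ModuleCat.{u} B, HasProjectiveDimensionLT X (k + 1)) :
    Module.Projective B (M 0) := by
  rcases Nat.eq_zero_or_pos k with hk | hk
  · subst hk
    have h1 := gd (ModuleCat.of B (M 0))
    rw [zero_add] at h1
    have hP : Projective (ModuleCat.of B (M 0)) :=
      (projective_iff_hasProjectiveDimensionLT_one (X := ModuleCat.of B (M 0))).mpr h1
    exact (IsProjective.iff_projective (R := B) (P := M 0)).mpr hP
  -- the cokernels
  let C : ℕ → Type u := fun i => M (i + 1) ⧸ LinearMap.range (δ i)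
  have hprojLT : ∀ i, 1 ≤ i → i ≤ k → ∀ n, 1 ≤ n →
      HasProjectiveDimensionLT (ModuleCat.of B (M i)) n := by
    intro i h1 h2 n hn
    haveI := hproj i h1 h2
    haveI hP : Projective (ModuleCat.of B (M i)) :=
      (IsProjective.iff_projective (R := B) (P := M i)).mp inferInstance
    have : HasProjectiveDimensionLT (ModuleCat.of B (M i)) 1 :=
      (projective_iff_hasProjectiveDimensionLT_one (X := ModuleCat.of B (M i))).mp hP
    exact hasProjectiveDimensionLT_of_ge _ 1 n hn
  have key : ∀ t i : ℕ, i + 1 + t = k →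
      HasProjectiveDimensionLT (ModuleCat.of B (C i)) (i + 2) := by
    intro t
    induction t with
    | zero =>
      intro i hi
      have := gd (ModuleCat.of B (C i))
      have h2 : i + 2 = k + 1 := by omega
      rw [h2]
      exact this
    | succ t ih =>
      intro i hi
      have h1 := ih (i + 1) (by omega)
      have hexi := hex i (by omega)
      -- the SES `0 → C i → M (i+2) → C (i+1) → 0`
      let f : C i →ₗ[B] M (i + 2) := Submodule.liftQ _ (δ (i + 1)) (le_of_eq hexi)
      let g : M (i + 2) →ₗ[B] C (i + 1) := Submodule.mkQ _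
      have hf : Function.Injective f := by
        rw [← LinearMap.ker_eq_bot]
        exact Submodule.ker_liftQ_eq_bot _ _ _ (le_of_eq hexi.symm)
      have hg : Function.Surjective g := Submodule.mkQ_surjective _
      have hfg : Function.Exact f g := by
        intro y
        change Submodule.mkQ _ y = 0 ↔ _
        rw [← LinearMap.mem_ker, Submodule.ker_mkQ]
        constructor
        · rintro ⟨x, rfl⟩
          exact ⟨Submodule.mkQ _ x, rfl⟩
        · rintro ⟨x, rfl⟩
          obtain ⟨x, rfl⟩ := Submodule.mkQ_surjective _ x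
          exact ⟨x, rfl⟩
      obtain ⟨w, hS⟩ := Depth.shortExact_mk f g hf hg hfg
      exact hS.hasProjectiveDimensionLT_X₁ (i + 2) (hprojLT (i + 2) (by omega) (by omega) _ (by omega)) h1
  have h0 := key (k - 1) 0 (by omega)
  -- the SES `0 → M 0 → M 1 → C 0 → 0`
  let g : M 1 →ₗ[B] C 0 := Submodule.mkQ _
  have hg : Function.Surjective g := Submodule.mkQ_surjective _
  have hfg : Function.Exact (δ 0) g := by
    intro y
    change Submodule.mkQ _ y = 0 ↔ _
    rw [← LinearMap.mem_ker, Submodule.ker_mkQ]
    rfl
  obtain ⟨w, hS⟩ := Depth.shortExact_mk (δ 0) g hinj hg hfg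
  have h1 : HasProjectiveDimensionLT (ModuleCat.of B (M 0)) 1 :=
    hS.hasProjectiveDimensionLT_X₁ 1 (hprojLT 1 le_rfl hk 1 le_rfl) h0
  have hP : Projective (ModuleCat.of B (M 0)) :=
    (projective_iff_hasProjectiveDimensionLT_one (X := ModuleCat.of B (M 0))).mpr h1
  exact (IsProjective.iff_projective (R := B) (P := M 0)).mpr hP

end Groth.Agent.H6.Syz
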