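import Mathlib
set_option autoImplicit false
universe u

namespace Groth.Agent.H6.S11299Lib

variable {P : Type u} [CommRing P] (J : Ideal P)

section defs
variable (F : Type u) [AddCommGroup F] [Module P F] (j : F →ₗ[P] P)

/-- trivial relations inside Q -/
abbrev Qtr : Submodule P (LinearMap.ker j) :=
  Submodule.comap (LinearMap.ker j).subtype
    (Submodule.span P {y : F | ∃ u v : F, y = j u • v - j v • u})

abbrev Bd : Submodule P (LinearMap.ker j →ₗ[P] (P ⧸ J)) :=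
  LinearMap.range (LinearMap.lcomp P (P ⧸ J) (LinearMap.ker j).subtype)

abbrev Z : Submodule P (LinearMap.ker j →ₗ[P] (P ⧸ J)) :=
  LinearMap.ker (LinearMap.lcomp P (P ⧸ J) (Qtr F j).subtype)

abbrev T2 : Submodule P ((LinearMap.ker j →ₗ[P] (P ⧸ J)) ⧸ Bd J F j) :=
  Submodule.map (Bd J F j).mkQ (Z J F j)

end defs

section maps
variable {F : Type u} [AddCommGroup F] [Module P F] {j : F →ₗ[P] P}
variable {F' : Type u} [AddCommGroup F'] [Module P F'] {j' : F' →ₗ[P] P}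
variable (α : F →ₗ[P] F') (hα : j' ∘ₗ α = j)

/-- restriction of α to Q → Q' -/
def resQ : LinearMap.ker j →ₗ[P] LinearMap.ker j' :=
  LinearMap.restrict α (p := LinearMap.ker j) (q := LinearMap.ker j') (fun x hx => by
    rw [LinearMap.mem_ker] at hx ⊢
    rw [← LinearMap.comp_apply, hα, hx])

@[simp] lemma resQ_coe (x : LinearMap.ker j) : ((resQ α hα x : LinearMap.ker j') : F') = α x := rfl

lemma resQ_mem_Qtr (x : LinearMap.ker j) (hx : x ∈ Qtr F j) : resQ α hα x ∈ Qtr F' j' := by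
  rw [Submodule.mem_comap] at hx ⊢
  have h1 : ((LinearMap.ker j').subtype (resQ α hα x)) = α ((LinearMap.ker j).subtype x) := rfl
  rw [h1]
  have : Submodule.span P {y : F | ∃ u v : F, y = j u • v - j v • u} ≤
      Submodule.comap α (Submodule.span P {y : F' | ∃ u v : F', y = j' u • v - j' v • u}) := by
    refine Submodule.span_le.mpr ?_
    rintro _ ⟨u, v, rfl⟩
    refine Submodule.subset_span ⟨α u, α v, ?_⟩
    have h2 : ∀ w, j' (α w) = j w := fun w => by rw [← LinearMap.comp_apply, hα]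
    rw [map_sub, map_smul, map_smul, h2, h2]
  exact this hx

/-- the pullback on Hom(Q', B) → Hom(Q, B) -/
def pullH : (LinearMap.ker j' →ₗ[P] (P ⧸ J)) →ₗ[P] (LinearMap.ker j →ₗ[P] (P ⧸ J)) :=
  LinearMap.lcomp P (P ⧸ J) (resQ α hα)

lemma pullH_Bd : Bd J F' j' ≤ (Bd J F j).comap (pullH J α hα) := by
  rintro _ ⟨ψ, rfl⟩
  refine ⟨ψ ∘ₗ α, ?_⟩
  ext x
  rfl

lemma pullH_Z : Z J F' j' ≤ (Z J F j).comap (pullH J α hα) := by
  intro φ hφ
  rw [Submodule.mem_comap, LinearMap.mem_ker]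
  rw [LinearMap.mem_ker] at hφ
  ext x
  have := LinearMap.congr_fun hφ ⟨resQ α hα x.1, resQ_mem_Qtr α hα x.1 x.2⟩
  exact this

/-- induced map on T2 -/
def pullT : T2 J F' j' →ₗ[P] T2 J F j :=
  LinearMap.restrict (Submodule.mapQ _ _ (pullH J α hα) (pullH_Bd J α hα)) (by
    rintro _ ⟨φ, hφ, rfl⟩
    exact ⟨pullH J α hα φ, pullH_Z J α hα hφ, rfl⟩)

lemma pullT_mk (φ : LinearMap.ker j' →ₗ[P] (P ⧸ J)) (h : (Bd J F' j').mkQ φ ∈ T2 J F' j') :
    (pullT J α hα ⟨(Bd J F' j').mkQ φ, h⟩ : (LinearMap.ker j →ₗ[P] (P ⧸ J)) ⧸ Bd J F j) =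
      (Bd J F j).mkQ (pullH J α hα φ) := rfl

end maps


section comp
variable {F : Type u} [AddCommGroup F] [Module P F] {j : F →ₗ[P] P}
variable {F' : Type u} [AddCommGroup F'] [Module P F'] {j' : F' →ₗ[P] P}
variable (α : F →ₗ[P] F') (hα : j' ∘ₗ α = j) (β : F' →ₗ[P] F) (hβ : j ∘ₗ β = j')

lemma pull_pull (x : T2 J F j) : pullT J α hα (pullT J β hβ x) = x := by
  obtain ⟨y, hy⟩ := x
  obtain ⟨φ, hφ, rfl⟩ := id hy
  apply Subtype.ext
  have hmem : (Bd J F' j').mkQ (pullH J β hβ φ) ∈ T2 J F' j' :=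
    ⟨pullH J β hβ φ, pullH_Z J β hβ hφ, rfl⟩
  have h1 : pullT J β hβ ⟨(Bd J F j).mkQ φ, hy⟩
      = ⟨(Bd J F' j').mkQ (pullH J β hβ φ), hmem⟩ :=
    Subtype.ext (pullT_mk J β hβ φ hy)
  rw [h1, pullT_mk J α hα _ hmem]
  show (Bd J F j).mkQ _ = (Bd J F j).mkQ φ
  rw [Submodule.mkQ_apply, Submodule.mkQ_apply, Submodule.Quotient.eq]
  -- γ : F → Q
  let γ : F →ₗ[P] LinearMap.ker j := LinearMap.codRestrict (LinearMap.ker j) (β ∘ₗ α - LinearMap.id)
    (fun x => by
      rw [LinearMap.mem_ker, LinearMap.sub_apply, map_sub, LinearMap.comp_apply,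
        ← LinearMap.comp_apply (f := j), hβ, ← LinearMap.comp_apply (f := j'), hα,
        LinearMap.id_apply, sub_self])
  refine ⟨φ ∘ₗ γ, ?_⟩
  ext x
  show φ (γ x.1) = φ (resQ β hβ (resQ α hα x)) - φ x
  rw [← map_sub]
  congr 1

end comp


section lift
variable {F : Type u} [AddCommGroup F] [Module P F] [Module.Free P F] (j : F →ₗ[P] P)
variable {F' : Type u} [AddCommGroup F'] [Module P F'] (j' : F' →ₗ[P] P)

lemma exists_lift (h : LinearMap.range j ≤ LinearMap.range j') : ∃ α : F →ₗ[P] F', j' ∘ₗ α = j := by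
  let jJ : F →ₗ[P] LinearMap.range j' := LinearMap.codRestrict _ j (fun x => h ⟨x, rfl⟩)
  obtain ⟨α, hα⟩ := Module.projective_lifting_property j'.rangeRestrict jJ (LinearMap.surjective_rangeRestrict j')
  refine ⟨α, ?_⟩
  ext x
  have := congrArg Subtype.val (LinearMap.congr_fun hα x)
  exact this

end lift

theorem main (F : Type u) [AddCommGroup F] [Module P F] [Module.Free P F]
    (F' : Type u) [AddCommGroup F'] [Module P F'] [Module.Free P F']
    (j : F →ₗ[P] P) (j' : F' →ₗ[P] P) (hj : LinearMap.range j = J) (hj' : LinearMap.range j' = J) :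
    Nonempty (T2 J F j ≃ₗ[P] T2 J F' j') := by
  obtain ⟨α, hα⟩ := exists_lift j j' (by rw [hj, hj'])
  obtain ⟨β, hβ⟩ := exists_lift j' j (by rw [hj, hj'])
  exact ⟨LinearEquiv.ofLinearMap (pullT J β hβ) (pullT J α hα)
    (LinearMap.ext fun x => pull_pull J β hβ α hα x)
    (LinearMap.ext fun x => pull_pull J α hα β hβ x)⟩

end Groth.Agent.H6.S11299Lib
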