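import Mathlib
import Groth.Agent.Lib.Helper6.TD1
set_option autoImplicit false
universe u
open CategoryTheory CategoryTheory.Limits AlgebraicGeometry Order
namespace Groth.Agent.H6.TD

section Top

attribute [local instance] specializationOrder

theorem le_iff_specializes {X : Type*} [TopologicalSpace X] [T0Space X] (a b : X) :
    a ≤ b ↔ b ⤳ a := Iff.rfl

/-- closed maps do not decrease the height in the specialization order -/
theorem height_le_of_isClosedMap {X Y : Type*} [TopologicalSpace X] [TopologicalSpace Y]
    [T0Space X] [T0Space Y] (f : X → Y) (hc : IsClosedMap f) (x : X) :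
    height (f x) ≤ height x := by
  suffices H : ∀ m : ℕ, ∀ x : X, (m : ℕ∞) ≤ height (f x) → (m : ℕ∞) ≤ height x by
    exact ENat.forall_natCast_le_iff_le.mp (fun m hm => H m x hm)
  intro m
  induction m with
  | zero => intro x _; simp
  | succ m ih =>
    intro x hx
    obtain ⟨p, hplast, hplen⟩ := exists_series_of_le_height (f x) (n := m + 1) (by exact_mod_cast hx)
    let i : Fin (p.length + 1) := ⟨m, by omega⟩
    have hilt : p i < p.last := by
      apply p.strictMono
      rw [Fin.lt_def]
      simp only [i, Fin.val_last]
      omega
    have hih : (m : ℕ∞) ≤ height (p i) := by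
      have := index_le_height p i
      simpa [i] using this
    rw [hplast] at hilt
    obtain ⟨x', hx', hfx'⟩ := hc.specializingMap (a := x) (b := p i) ((le_iff_specializes _ _).mp hilt.le)
    have hxx' : x' < x := by
      refine lt_of_le_of_ne ((le_iff_specializes _ _).mpr hx') ?_
      rintro rfl
      rw [hfx'] at hilt
      exact lt_irrefl _ hilt
    have h1 := ih x' (by rw [hfx']; exact hih)
    have h2 := height_add_one_le hxx'
    calc ((m + 1 : ℕ) : ℕ∞) = (m : ℕ∞) + 1 := by push_cast; rfl
      _ ≤ height x' + 1 := add_le_add h1 le_rfl
      _ ≤ height x := h2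

/-- along an `LTSeries` the height grows at least by the length -/
theorem height_head_add_length_le {α : Type*} [Preorder α] (p : LTSeries α) :
    height p.head + p.length ≤ height p.last := by
  suffices H : ∀ i : ℕ, ∀ hi : i ≤ p.length, height p.head + i ≤ height (p ⟨i, by omega⟩) by
    exact H p.length le_rfl
  intro i
  induction i with
  | zero => intro _; simp [RelSeries.head]
  | succ i ih =>
    intro hi
    have h1 := ih (by omega)
    have hlt : p ⟨i, by omega⟩ < p ⟨i + 1, by omega⟩ := by
      apply p.strictMono
      rw [Fin.lt_def]
      simp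
    have h2 := height_add_one_le hlt
    calc height p.head + ((i + 1 : ℕ) : ℕ∞) = height p.head + i + 1 := by push_cast; rw [add_assoc]
      _ ≤ height (p ⟨i, by omega⟩) + 1 := add_le_add h1 le_rfl
      _ ≤ _ := h2

theorem topologicalKrullDim_eq_krullDim {T : Type*} [TopologicalSpace T] [QuasiSober T]
    [T0Space T] : topologicalKrullDim T = krullDim T := by
  unfold topologicalKrullDim
  rw [krullDim_eq_of_orderIso (irreducibleSetEquivPoints (α := T))]

end Top

end Groth.Agent.H6.TD
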