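import Mathlib
import Groth.Agent.Lib.Helper6.TD2
import Groth.Agent.Lib.Helper1.DimFormula2
import Groth.Agent.Lib.Helper3.TopDim
set_option autoImplicit false
universe u
open CategoryTheory CategoryTheory.Limits AlgebraicGeometry Order
namespace Groth.Agent.H6.TD

attribute [local instance] specializationOrder

theorem dim_ge_of_closed {X Y : Scheme.{u}} [IsIntegral X] [IsIntegral Y]
    (f : X ⟶ Y) [IsDominant f] [LocallyOfFiniteType f] (n : ℕ)
    (hn : letI := (f.residueFieldMap (genericPoint ↥X)).hom.toAlgebra
      Algebra.trdeg (Y.residueField (f.base (genericPoint ↥X))) (X.residueField (genericPoint ↥X)) = n)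
    (hc : IsClosedMap f.base) :
    topologicalKrullDim ↥Y + n ≤ topologicalKrullDim ↥X := by
  set ξ := genericPoint ↥X with hξ
  have hξspec : ∀ x : X, ξ ⤳ x := fun x => (genericPoint_spec X).specializes (Set.mem_univ x)
  have hx : ∀ x' : X, f x' = f ξ → x' ⤳ ξ → x' = ξ := fun x' _ h => (h.antisymm (hξspec x')).eq
  obtain ⟨t, ht, hdim⟩ := Groth.Agent.H1.DimFormula.fibreDimAt_eq_trdeg_of_generic f ξ hx
  have htn : t = n := by
    have : (t : Cardinal.{u}) = n := ht.symm.trans hn
    exact_mod_cast this
  subst htn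
  -- the generic fibre has dimension ≥ t
  have h4 : (t : WithBot ℕ∞) ≤ topologicalKrullDim (f.fiber (f ξ)) := by
    rw [← hdim]
    exact Groth.Agent.H3.TopDim.localDim_le_dim _
  rw [topologicalKrullDim_eq_krullDim] at h4
  obtain ⟨l, hl⟩ := le_krullDim_iff.mp h4
  -- map the chain to X
  let g : f.fiber (f ξ) → X := (f.fiberι (f ξ))
  have hemb : Topology.IsEmbedding g := (f.fiberι (f ξ)).isEmbedding
  have hg : StrictMono g := by
    intro a b hab
    refine lt_of_le_of_ne ?_ (fun h => hab.ne (hemb.injective h))
    exact (le_iff_specializes _ _).mpr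
      ((hemb.isInducing.specializes_iff).mpr ((le_iff_specializes _ _).mp hab.le))
  let p : LTSeries X := l.map g hg
  have hplen : p.length = t := hl
  have hfp : f p.head = f ξ := by
    have : p.head ∈ Set.range (f.fiberι (f ξ)) := ⟨l.head, rfl⟩
    rw [Scheme.Hom.range_fiberι] at this
    exact this
  -- heights
  have h7 : height (f ξ) ≤ height p.head := by
    rw [← hfp]
    exact height_le_of_isClosedMap f hc p.head
  have h8 := height_head_add_length_le p
  have hsurj : Function.Surjective f := by
    have h1 : IsClosed (Set.range f) := hc.isClosed_range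
    have h2 : DenseRange f := IsDominant.denseRange
    rw [← Set.range_eq_univ, ← h1.closure_eq, h2.closure_range]
  have h9 : krullDim Y ≤ (height (f ξ) : WithBot ℕ∞) := by
    rw [krullDim_eq_iSup_height]
    refine iSup_le fun y => ?_
    obtain ⟨x, rfl⟩ := hsurj y
    have : f x ≤ f ξ := (le_iff_specializes _ _).mpr ((hξspec x).map f.continuous)
    exact_mod_cast height_mono this
  rw [topologicalKrullDim_eq_krullDim, topologicalKrullDim_eq_krullDim]
  calc krullDim Y + (t : WithBot ℕ∞) ≤ (height (f ξ) : WithBot ℕ∞) + (t : WithBot ℕ∞) :=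
        add_le_add h9 le_rfl
    _ ≤ (height p.head : WithBot ℕ∞) + (t : WithBot ℕ∞) := add_le_add (by exact_mod_cast h7) le_rfl
    _ = ((height p.head + (p.length : ℕ∞) : ℕ∞) : WithBot ℕ∞) := by rw [hplen]; rfl
    _ ≤ (height p.last : WithBot ℕ∞) := by exact_mod_cast h8
    _ ≤ krullDim X := height_le_krullDim _

end Groth.Agent.H6.TD
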