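import Mathlib

/-! Torsionless / reflexive modules over a reduced finite free algebra over a PID (S17988). -/

universe u
set_option autoImplicit false
open scoped nonZeroDivisors

namespace Groth.Agent.H6.TLFree

variable (Λ : Type u) [CommRing Λ] [IsDomain Λ] [IsPrincipalIdealRing Λ]
  (S : Type u) [CommRing S] [Algebra Λ S] [Module.Finite Λ S] [Module.Free Λ S]
  (M : Type u) [AddCommGroup M] [Module S M] [Module Λ M] [IsScalarTower Λ S M] [Module.Finite S M]

/-- torsionless implies free over the PID -/
theorem free_of_torsionless (h : Function.Injective (Module.Dual.eval S M)) : Module.Free Λ M := by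
  haveI : Module.Finite Λ M := Module.Finite.trans S M
  haveI : Module.IsTorsionFree Λ M := by
    refine ⟨fun r hr m₁ m₂ hm => ?_⟩
    have hr0 : r ≠ 0 := hr.ne_zero
    apply h
    ext φ
    simp only [Module.Dual.eval_apply]
    have h1 : φ (r • m₁) = φ (r • m₂) := congrArg φ hm
    rw [← algebraMap_smul S r m₁, ← algebraMap_smul S r m₂, map_smul, map_smul, smul_eq_mul,
      smul_eq_mul, ← Algebra.smul_def, ← Algebra.smul_def] at h1
    exact (smul_right_injective S hr0) h1
  infer_instance


/-- free over the PID implies torsionless, for reduced `S` -/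
theorem torsionless_of_free [IsReduced S] [Module.Free Λ M] :
    Function.Injective (Module.Dual.eval S M) := by
  classical
  let T : Submonoid S := Algebra.algebraMapSubmonoid S Λ⁰
  have hT : T ≤ S⁰ := by
    rintro _ ⟨l, hl, rfl⟩
    have hl0 : l ≠ 0 := nonZeroDivisors.ne_zero hl
    rw [mem_nonZeroDivisors_iff_right]
    intro z hz
    rw [mul_comm, ← Algebra.smul_def] at hz
    exact (smul_eq_zero.mp hz).resolve_left hl0
  haveI : Module.Finite (FractionRing Λ) (Localization T) := inferInstance
  haveI : IsArtinianRing (Localization T) := IsArtinianRing.of_finite (FractionRing Λ) _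
  haveI : IsSemisimpleRing (Localization T) := IsArtinianRing.isSemisimpleRing_of_isReduced _
  haveI : Module.Projective (Localization T) (LocalizedModule T M) :=
    Module.projective_of_isSemisimpleRing _ _
  obtain ⟨n, f, hf⟩ := Module.Finite.exists_fin' (Localization T) (LocalizedModule T M)
  obtain ⟨s, hs⟩ := Module.projective_lifting_property f LinearMap.id hf
  have hsinj : Function.Injective s := by
    intro a b hab
    have := congrArg f hab
    rwa [← LinearMap.comp_apply, ← LinearMap.comp_apply, hs] at this
  rw [injective_iff_map_eq_zero]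
  intro m hm
  by_contra hm0
  have hm1 : LocalizedModule.mkLinearMap T M m ≠ 0 := by
    intro h0
    rw [IsLocalizedModule.eq_zero_iff T] at h0
    obtain ⟨⟨_, l, hl, rfl⟩, hc⟩ := h0
    have hl0 : l ≠ 0 := nonZeroDivisors.ne_zero hl
    change algebraMap Λ S l • m = 0 at hc
    rw [algebraMap_smul] at hc
    exact hm0 ((smul_eq_zero.mp hc).resolve_left hl0)
  have hs1 : s (LocalizedModule.mkLinearMap T M m) ≠ 0 := by
    intro h0
    exact hm1 (hsinj (by rw [h0, map_zero]))
  obtain ⟨i, hi⟩ : ∃ i, s (LocalizedModule.mkLinearMap T M m) i ≠ 0 := by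
    by_contra hcon
    push Not at hcon
    exact hs1 (funext hcon)
  let ψ : M →ₗ[S] Localization T :=
    ((LinearMap.proj i ∘ₗ s).restrictScalars S) ∘ₗ LocalizedModule.mkLinearMap T M
  have hψm : ψ m ≠ 0 := hi
  obtain ⟨G, hG⟩ := (inferInstance : Module.Finite S M)
  obtain ⟨b, hb⟩ := IsLocalization.exist_integer_multiples_of_finset T (G.image ψ)
  have hrange : ∀ x : M, ((b : S) • ψ) x ∈ LinearMap.range (Algebra.linearMap S (Localization T)) := by
    have : (⊤ : Submodule S M) ≤
        (LinearMap.range (Algebra.linearMap S (Localization T))).comap ((b : S) • ψ) := by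
      rw [← hG, Submodule.span_le]
      intro g hg
      have := hb (ψ g) (Finset.mem_image_of_mem ψ hg)
      obtain ⟨c, hc⟩ := this
      exact ⟨c, hc⟩
    intro x
    exact this (Submodule.mem_top)
  have hinj : Function.Injective (Algebra.linearMap S (Localization T)) :=
    IsLocalization.injective _ hT
  let φ : Module.Dual S M := (LinearEquiv.ofInjective _ hinj).symm.toLinearMap ∘ₗ
    (((b : S) • ψ).codRestrict _ hrange)
  have hφ : Algebra.linearMap S (Localization T) (φ m) = (b : S) • ψ m := by
    have := (LinearEquiv.ofInjective _ hinj).apply_symm_apply ((((b : S) • ψ).codRestrict _ hrange) m)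
    exact congrArg Subtype.val this
  have hφ0 : φ m = 0 := by
    have := LinearMap.congr_fun hm φ
    simpa using this
  rw [hφ0, map_zero] at hφ
  have hbu : IsUnit (algebraMap S (Localization T) b) := IsLocalization.map_units _ b
  rw [← algebraMap_smul (Localization T) (b : S) (ψ m), smul_eq_mul] at hφ
  exact hψm ((hbu.mul_right_eq_zero).mp hφ.symm)

end Groth.Agent.H6.TLFree
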