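import Mathlib
import Groth.Prelude.Def_Wider
import Groth.Agent.Lib.Helper6.CodepthOpen
import Groth.Agent.Lib.Helper6.LCExtVanish

/-! Torsionless finite modules over a Gorenstein ring of dimension ≤ 1 are reflexive. -/

universe u
set_option autoImplicit false
open CategoryTheory CategoryTheory.Abelian

namespace Groth.Agent.H6.TLRefl

variable {S : Type u} [CommRing S]

/-- extension of functionals along an injection whose cokernel has no `Ext¹` -/
theorem exists_extension {N' N : Type u} [AddCommGroup N'] [Module S N'] [AddCommGroup N]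
    [Module S N] (ι : N' →ₗ[S] N) (hι : Function.Injective ι)
    (hE : Subsingleton (Ext.{u} (ModuleCat.of S (N ⧸ LinearMap.range ι)) (ModuleCat.of S S) 1))
    (φ : N' →ₗ[S] S) : ∃ φ' : N →ₗ[S] S, φ' ∘ₗ ι = φ := by
  have hS := LC.rangeSES_shortExact ι hι
  obtain ⟨x₂, hx₂⟩ := Ext.contravariant_sequence_exact₁ hS (ModuleCat.of S S)
    (Ext.mk₀ (ModuleCat.ofHom φ)) (n₁ := 1) rfl (Subsingleton.elim (h := hE) _ _)
  obtain ⟨g, rfl⟩ := (Ext.mk₀_bijective _ _).2 x₂
  rw [Ext.mk₀_comp_mk₀] at hx₂
  have h := (Ext.mk₀_bijective _ _).1 hx₂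
  refine ⟨g.hom, ?_⟩
  have := congrArg ModuleCat.Hom.hom h
  simpa using this

variable [hG : LocCoh.IsGorensteinRing S] (hdim : ringKrullDim S ≤ 1)

include hdim in
theorem ext_two_subsingleton (C : Type u) [AddCommGroup C] [Module S C] [Module.Finite S C] :
    Subsingleton (Ext.{u} (ModuleCat.of S C) (ModuleCat.of S S) 2) := by
  haveI hfinE : Module.Finite S (Ext.{u} (ModuleCat.of S C) (ModuleCat.of S S) 2) :=
    ModuleCat.finite_ext S (ModuleCat.of S C) (ModuleCat.of S S) 2
  rw [← Module.support_eq_empty_iff (R := S)]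
  rw [Set.eq_empty_iff_forall_notMem]
  intro Q
  rw [Module.notMem_support_iff]
  haveI := Q.2
  haveI := hG.isGorensteinLocalRing_localization Q.asIdeal
  obtain ⟨h, hh⟩ := ENat.ne_top_iff_exists.mp (Ideal.height_ne_top_of_isPrime (I := Q.asIdeal))
  have hle : h ≤ 1 := by
    have h1 : ((Q.asIdeal.height : ℕ∞) : WithBot ℕ∞) ≤ ringKrullDim S :=
      Ideal.height_le_ringKrullDim_of_ne_top Q.2.ne_top
    have h2 := h1.trans hdim
    rw [← hh] at h2
    exact_mod_cast h2
  exact Codepth.locExt_vanish C Q.asIdeal h hh.symm 2 (by omega)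


omit hG in
/-- the dual of a finite module over a Noetherian ring is finite -/
theorem dual_finite [IsNoetherianRing S] (N : Type u) [AddCommGroup N] [Module S N]
    [Module.Finite S N] : Module.Finite S (Module.Dual S N) := by
  obtain ⟨n, p, hp⟩ := Module.Finite.exists_fin' S N
  exact Module.Finite.of_injective p.dualMap (LinearMap.dualMap_injective_of_surjective hp)

omit hG in
/-- a finite torsionless module embeds in a finite free module -/
theorem exists_embedding [IsNoetherianRing S] (N : Type u) [AddCommGroup N] [Module S N]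
    [Module.Finite S N] (hN : Function.Injective (Module.Dual.eval S N)) :
    ∃ (k : ℕ) (ι : N →ₗ[S] (Fin k → S)), Function.Injective ι := by
  haveI := dual_finite (S := S) N
  obtain ⟨k, s, hs⟩ := Module.Finite.exists_fin (R := S) (M := Module.Dual S N)
  refine ⟨k, LinearMap.pi (fun i => s i), ?_⟩
  rw [injective_iff_map_eq_zero]
  intro n hn
  apply hN
  rw [map_zero]
  ext φ
  simp only [Module.Dual.eval_apply, LinearMap.zero_apply]
  have hφ : φ ∈ Submodule.span S (Set.range s) := by rw [hs]; trivial
  induction hφ using Submodule.span_induction with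
  | mem x hx =>
    obtain ⟨i, rfl⟩ := hx
    exact congrFun hn i
  | zero => rfl
  | add x y _ _ hx hy => rw [LinearMap.add_apply, hx, hy, add_zero]
  | smul a x _ hx => rw [LinearMap.smul_apply, hx, smul_zero]

include hdim in
/-- `Ext¹(N, S) = 0` for finite torsionless `N` -/
theorem ext_one_subsingleton (N : Type u) [AddCommGroup N] [Module S N]
    [Module.Finite S N] (hN : Function.Injective (Module.Dual.eval S N)) :
    Subsingleton (Ext.{u} (ModuleCat.of S N) (ModuleCat.of S S) 1) := by
  obtain ⟨k, ι, hι⟩ := exists_embedding N hN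
  have hS := LC.rangeSES_shortExact ι hι
  have h2 := ext_two_subsingleton hdim ((Fin k → S) ⧸ LinearMap.range ι)
  refine ⟨fun a b => ?_⟩
  have h0 : ∀ x : Ext.{u} (ModuleCat.of S N) (ModuleCat.of S S) 1, x = 0 := by
    intro x
    obtain ⟨x₂, hx₂⟩ := Ext.contravariant_sequence_exact₁ hS (ModuleCat.of S S) x (n₁ := 2) rfl
      (Subsingleton.elim (h := h2) _ _)
    rw [← hx₂, Ext.eq_zero_of_projective x₂, Ext.comp_zero]
  rw [h0 a, h0 b]


include hdim in
/-- finite torsionless modules are reflexive -/
theorem reflexive_of_torsionless (M : Type u) [AddCommGroup M] [Module S M]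
    [Module.Finite S M] (hM : Function.Injective (Module.Dual.eval S M)) :
    Module.IsReflexive S M := by
  refine ⟨⟨hM, ?_⟩⟩
  intro ξ
  obtain ⟨r, p, hp⟩ := Module.Finite.exists_fin' S M
  have hpinj : Function.Injective p.dualMap := LinearMap.dualMap_injective_of_surjective hp
  haveI : Module.Finite S (Module.Dual S (Fin r → S)) := dual_finite (S := S) _
  -- the cokernel of `p.dualMap` is torsionless
  have hQ : Function.Injective
      (Module.Dual.eval S (Module.Dual S (Fin r → S) ⧸ LinearMap.range p.dualMap)) := by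
    rw [injective_iff_map_eq_zero]
    intro q hq
    obtain ⟨θ, rfl⟩ := Submodule.Quotient.mk_surjective _ q
    rw [Submodule.Quotient.mk_eq_zero,
      LinearMap.range_dualMap_eq_dualAnnihilator_ker_of_surjective p hp,
      Submodule.mem_dualAnnihilator]
    intro k hk
    -- evaluation at `k` descends to the quotient
    let evk : Module.Dual S (Fin r → S) →ₗ[S] S := Module.Dual.eval S (Fin r → S) k
    have hle : LinearMap.range p.dualMap ≤ LinearMap.ker evk := by
      rintro _ ⟨φ, rfl⟩
      rw [LinearMap.mem_ker]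
      change (p.dualMap φ) k = 0
      rw [LinearMap.dualMap_apply, LinearMap.mem_ker.mp hk, map_zero]
    have := LinearMap.congr_fun hq ((LinearMap.range p.dualMap).liftQ evk hle)
    have h2 : evk θ = 0 := by simpa using this
    exact h2
  have hE := ext_one_subsingleton hdim _ hQ
  obtain ⟨ξ', hξ'⟩ := exists_extension p.dualMap hpinj hE ξ
  obtain ⟨g, hg⟩ := (Module.bijective_dual_eval S (Fin r → S)).2 ξ'
  refine ⟨p g, ?_⟩
  ext φ
  rw [Module.Dual.eval_apply, ← hξ', LinearMap.comp_apply, ← hg, Module.Dual.eval_apply,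
    LinearMap.dualMap_apply]

end Groth.Agent.H6.TLRefl
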