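import Mathlib

namespace Groth.Agent.H6.Tame

section Coset

variable {G : Type*} [Group G] (H : Subgroup G)

/-- `H × (G ⧸ H) ≃ G`, `(h, q) ↦ h * q.out⁻¹` (right coset decomposition). -/
noncomputable def cosetEquiv : H × (G ⧸ H) ≃ G where
  toFun p := (p.1 : G) * (p.2.out)⁻¹
  invFun g := (⟨g * (QuotientGroup.mk g⁻¹ : G ⧸ H).out, by
      obtain ⟨h, hh⟩ := QuotientGroup.mk_out_eq_mul H g⁻¹
      rw [hh, ← mul_assoc, mul_inv_cancel, one_mul]
      exact h.2⟩, QuotientGroup.mk g⁻¹)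
  left_inv := by
    rintro ⟨h, q⟩
    have hq : (QuotientGroup.mk ((h : G) * q.out⁻¹)⁻¹ : G ⧸ H) = q := by
      rw [mul_inv_rev, inv_inv]
      conv_rhs => rw [← QuotientGroup.out_eq' q]
      rw [QuotientGroup.eq]
      simp
    ext
    · simp only [hq]
      simp
    · exact hq
  right_inv := by
    intro g
    simp

theorem sum_eq_card_smul {M : Type*} [AddCommMonoid M] [Fintype G] [Fintype (G ⧸ H)] (f : G → M)
    (hf : ∀ h ∈ H, ∀ g, f (h * g) = f g) :
    ∑ g, f g = Nat.card H • ∑ q : G ⧸ H, f (q.out)⁻¹ := by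
  classical
  have : Fintype H := Fintype.ofFinite H
  rw [← Fintype.sum_equiv (cosetEquiv H) (fun p => f ((p.1 : G) * (p.2.out)⁻¹)) f (fun _ => rfl),
    Fintype.sum_prod_type]
  simp only [hf _ (Subtype.mem _)]
  rw [Finset.sum_const, Finset.card_univ, Nat.card_eq_fintype_card]

end Coset

end Groth.Agent.H6.Tame
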