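import Groth.Agent.Lib.Helper6.TameA

namespace Groth.Agent.H6.Tame

section Main

variable {B : Type*} [CommRing B] {Γ : Type*} [Group Γ] [MulSemiringAction Γ B]

/-- `χ_γ : B →* B ⧸ P`, `x ↦ γ • x mod P`. -/
noncomputable def chi (P : Ideal B) (γ : Γ) : B →* (B ⧸ P) :=
  ((Ideal.Quotient.mk P).comp (MulSemiringAction.toRingHom Γ B γ) : B →+* B ⧸ P)

theorem chi_apply (P : Ideal B) (γ : Γ) (x : B) : chi P γ x = Ideal.Quotient.mk P (γ • x) := rfl

theorem chi_inertia_mul (P : Ideal B) (h : Γ) (hh : h ∈ P.inertia Γ) (g : Γ) (x : B) :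
    chi P (h * g) x = chi P g x := by
  rw [chi_apply, chi_apply, mul_smul, Ideal.Quotient.eq]
  exact hh (g • x)

theorem chi_injective_out (P : Ideal B) :
    Function.Injective (fun q : Γ ⧸ P.inertia Γ => chi P (q.out)⁻¹) := by
  intro q q' h
  rw [← QuotientGroup.out_eq' q, ← QuotientGroup.out_eq' q', QuotientGroup.eq]
  intro y
  have := DFunLike.congr_fun h (q'.out • y)
  simp only [chi_apply] at this
  rw [inv_smul_smul, Ideal.Quotient.eq, ← mul_smul] at this
  exact this

theorem card_inertia_eq_zero [Fintype Γ] (P : Ideal B) [P.IsPrime]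
    (hall : ∀ b : B, ∑ γ : Γ, γ • b ∈ P) :
    ((Nat.card (P.inertia Γ) : ℕ) : B ⧸ P) = 0 := by
  classical
  have hli := (linearIndependent_monoidHom B (B ⧸ P)).comp _ (chi_injective_out (Γ := Γ) P)
  rw [Fintype.linearIndependent_iff] at hli
  refine hli (fun _ => ((Nat.card (P.inertia Γ) : ℕ) : B ⧸ P)) ?_ (QuotientGroup.mk 1)
  funext b
  have h1 := sum_eq_card_smul (P.inertia Γ) (fun γ => chi P γ b)
    (fun h hh g => chi_inertia_mul P h hh g b)
  have h2 : ∑ γ : Γ, chi P γ b = 0 := by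
    simp only [chi_apply]
    rw [← map_sum]
    exact Ideal.Quotient.eq_zero_iff_mem.2 (hall b)
  rw [h2, nsmul_eq_mul] at h1
  simp only [Function.comp_apply, Finset.sum_apply, Pi.smul_apply, smul_eq_mul, Pi.zero_apply]
  rw [← Finset.mul_sum]
  exact h1.symm

end Main

end Groth.Agent.H6.Tame
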