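import Groth.Agent.Lib.Helper6.TameB

namespace Groth.Agent.H6.Tame

section Main

variable {B : Type*} [CommRing B] {Γ : Type*} [Group Γ] [MulSemiringAction Γ B]

theorem card_inertia_ne_zero [Fintype Γ] (P : Ideal B) [P.IsPrime] (b : B)
    (hb : ∑ γ : Γ, γ • b = 1) :
    ((Nat.card (P.inertia Γ) : ℕ) : B ⧸ P) ≠ 0 := by
  classical
  intro h0
  have h1 := sum_eq_card_smul (P.inertia Γ) (fun γ => chi P γ b)
    (fun h hh g => chi_inertia_mul P h hh g b)
  have h2 : ∑ γ : Γ, chi P γ b = 1 := by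
    simp only [chi_apply]
    rw [← map_sum, hb, map_one]
  rw [h2, nsmul_eq_mul, h0, zero_mul] at h1
  exact one_ne_zero h1

theorem smul_trace [Fintype Γ] (g : Γ) (b : B) : g • ∑ γ : Γ, γ • b = ∑ γ : Γ, γ • b := by
  rw [Finset.smul_sum]
  simp only [← mul_smul]
  exact Fintype.sum_equiv (Equiv.mulLeft g) _ _ (fun _ => rfl)

theorem exists_trace_eq_one [Fintype Γ]
    (h : ∀ P : Ideal B, P.IsPrime → ((Nat.card (P.inertia Γ) : ℕ) : B ⧸ P) ≠ 0) :
    ∃ b : B, ∑ γ : Γ, γ • b = 1 := by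
  by_contra hne
  push Not at hne
  let A := FixedPoints.subring B Γ
  let J : Ideal A :=
    { carrier := {a | ∃ b : B, ∑ γ : Γ, γ • b = (a : B)}
      add_mem' := by
        rintro a a' ⟨b, hb⟩ ⟨b', hb'⟩
        refine ⟨b + b', ?_⟩
        simp only [smul_add, Finset.sum_add_distrib, hb, hb']
        rfl
      zero_mem' := ⟨0, by simp⟩
      smul_mem' := by
        rintro c a ⟨b, hb⟩
        refine ⟨(c : B) * b, ?_⟩
        have hc : ∀ γ : Γ, γ • (c : B) = c := fun γ => c.2 γ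
        simp only [smul_mul', hc, ← Finset.mul_sum, hb]
        rfl }
  have hJ : J ≠ ⊤ := by
    rw [Ideal.ne_top_iff_one]
    rintro ⟨b, hb⟩
    exact hne b hb
  obtain ⟨m, hm, hJm⟩ := Ideal.exists_le_maximal J hJ
  have : Algebra.IsInvariant A B Γ := ⟨fun b hb => ⟨⟨b, hb⟩, rfl⟩⟩
  have : Algebra.IsIntegral A B := Algebra.IsInvariant.isIntegral A B Γ
  have hker : RingHom.ker (algebraMap A B) ≤ m := by
    intro x hx
    rw [RingHom.mem_ker] at hx
    have : x = 0 := Subtype.ext hx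
    rw [this]
    exact m.zero_mem
  obtain ⟨Q, hQ, hQm⟩ := Ideal.exists_ideal_over_maximal_of_isIntegral m hker
  have := hQ.isPrime
  refine h Q hQ.isPrime (card_inertia_eq_zero Q ?_)
  intro b
  have hmem : (⟨∑ γ : Γ, γ • b, fun g => smul_trace g b⟩ : A) ∈ m := hJm ⟨b, rfl⟩
  rw [← hQm] at hmem
  exact hmem

end Main

end Groth.Agent.H6.Tame
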