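import Mathlib

/-! Tensoring a (finitely generated) projective module with a submodule of a product / an inverse
limit of a tower. -/

universe u v w
open TensorProduct

namespace Groth.Agent.H6

namespace TensorLim

variable {R : Type u} [CommRing R] {M : Type v} [AddCommGroup M] [Module R M]
  {P : Type w} [AddCommGroup P] [Module R P]

/-- For projective `M` and a jointly injective family `e i : P → T i`, the family
`M ⊗ e i : M ⊗ P → M ⊗ T i` is jointly injective. -/
theorem pi_lTensor_injective_of_projective [Module.Projective R M]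
    {ι : Type*} {T : ι → Type*} [∀ i, AddCommGroup (T i)] [∀ i, Module R (T i)]
    (e : ∀ i, P →ₗ[R] T i) (he : ∀ x : P, (∀ i, e i x = 0) → x = 0) :
    Function.Injective (LinearMap.pi fun i => LinearMap.lTensor M (e i) :
      M ⊗[R] P →ₗ[R] (Π i, M ⊗[R] T i)) := by
  classical
  rw [injective_iff_map_eq_zero]
  intro x hx
  have hx' : ∀ i, LinearMap.lTensor M (e i) x = 0 := fun i => congrFun hx i
  obtain ⟨s, hs⟩ := Module.projective_def'.mp (inferInstance : Module.Projective R M)
  have h1 : x = LinearMap.rTensor P (Finsupp.linearCombination R id)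
      (LinearMap.rTensor P s x) := by
    rw [← LinearMap.comp_apply, ← LinearMap.rTensor_comp, hs, LinearMap.rTensor_id,
      LinearMap.id_apply]
  suffices h : LinearMap.rTensor P s x = 0 by rw [h1, h, map_zero]
  apply (TensorProduct.finsuppScalarLeft R P M).injective
  rw [map_zero]
  ext m0
  rw [TensorProduct.finsuppScalarLeft_apply, Finsupp.zero_apply]
  apply he
  intro i
  have key : ∀ x : M ⊗[R] P, e i (TensorProduct.lid R P (LinearMap.rTensor P (Finsupp.lapply m0)
      (LinearMap.rTensor P s x))) =
      TensorProduct.lid R (T i) (LinearMap.rTensor (T i) (Finsupp.lapply m0)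
        (LinearMap.rTensor (T i) s (LinearMap.lTensor M (e i) x))) := by
    intro x
    induction x using TensorProduct.induction_on with
    | zero => simp
    | tmul m q => simp
    | add a b ha hb => simp only [map_add, ha, hb]
  rw [key, hx' i]
  simp

/-- coordinates of an element of `(Fin n → R) ⊗ N` -/
noncomputable def coord (n : ℕ) (N : Type*) [AddCommGroup N] [Module R N] (j : Fin n) :
    (Fin n → R) ⊗[R] N →ₗ[R] N :=
  (TensorProduct.lid R N).toLinearMap ∘ₗ LinearMap.rTensor N (LinearMap.proj j)

theorem coord_tmul (n : ℕ) (N : Type*) [AddCommGroup N] [Module R N] (j : Fin n)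
    (v : Fin n → R) (q : N) : coord n N j (v ⊗ₜ[R] q) = v j • q := by
  simp [coord]

theorem sum_coord (n : ℕ) (N : Type*) [AddCommGroup N] [Module R N]
    (z : (Fin n → R) ⊗[R] N) :
    ∑ j, (Pi.single j (1 : R) : Fin n → R) ⊗ₜ[R] coord n N j z = z := by
  induction z using TensorProduct.induction_on with
  | zero => simp
  | tmul v q =>
    simp only [coord_tmul]
    have : ∀ j, (Pi.single j (1 : R) : Fin n → R) ⊗ₜ[R] (v j • q) =
        (v j • (Pi.single j (1 : R) : Fin n → R)) ⊗ₜ[R] q := by
      intro j; rw [TensorProduct.smul_tmul]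
    simp only [this]
    rw [← TensorProduct.sum_tmul]
    congr 1
    funext i
    simp [Finset.sum_apply, Pi.single_apply]
  | add a b ha hb =>
    simp only [map_add, TensorProduct.tmul_add, Finset.sum_add_distrib, ha, hb]

theorem coord_lTensor (n : ℕ) {N N' : Type*} [AddCommGroup N] [Module R N] [AddCommGroup N']
    [Module R N'] (f : N →ₗ[R] N') (j : Fin n) (z : (Fin n → R) ⊗[R] N) :
    coord n N' j (LinearMap.lTensor (Fin n → R) f z) = f (coord n N j z) := by
  induction z using TensorProduct.induction_on with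
  | zero => simp
  | tmul v q => simp [coord_tmul]
  | add a b ha hb => simp only [map_add, ha, hb]

/-- For finitely generated projective `M` and a tower `F i : T (i+1) → T i` with "limit" `P`
(via `e i : P → T i`), the image of `M ⊗ P → Π i, M ⊗ T i` is the set of compatible sequences. -/
theorem mem_range_pi_lTensor_iff [Module.Finite R M] [Module.Projective R M]
    {T : ℕ → Type*} [∀ i, AddCommGroup (T i)] [∀ i, Module R (T i)]
    (F : ∀ i, T (i + 1) →ₗ[R] T i)
    (e : ∀ i, P →ₗ[R] T i) (hcompat : ∀ (q : P) (i : ℕ), F i (e (i + 1) q) = e i q)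
    (hlim : ∀ w : (Π i, T i), (∀ i, F i (w (i + 1)) = w i) → ∃ q : P, ∀ i, e i q = w i)
    (y : Π i, M ⊗[R] T i) :
    y ∈ LinearMap.range (LinearMap.pi fun i => LinearMap.lTensor M (e i) :
      M ⊗[R] P →ₗ[R] (Π i, M ⊗[R] T i)) ↔
      ∀ i, LinearMap.lTensor M (F i) (y (i + 1)) = y i := by
  constructor
  · rintro ⟨x, rfl⟩ i
    change LinearMap.lTensor M (F i) (LinearMap.lTensor M (e (i + 1)) x) =
      LinearMap.lTensor M (e i) x
    rw [← LinearMap.comp_apply, ← LinearMap.lTensor_comp]
    congr 2
    ext q
    exact hcompat q i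
  · intro hy
    obtain ⟨n, π, s, -, -, hπs⟩ := Module.Finite.exists_comp_eq_id_of_projective R M
    let z : ∀ i, (Fin n → R) ⊗[R] T i := fun i => LinearMap.rTensor (T i) s (y i)
    have hz : ∀ i, LinearMap.lTensor (Fin n → R) (F i) (z (i + 1)) = z i := by
      intro i
      change LinearMap.lTensor (Fin n → R) (F i) (LinearMap.rTensor (T (i + 1)) s (y (i + 1))) =
        LinearMap.rTensor (T i) s (y i)
      rw [← hy i, ← LinearMap.comp_apply, ← LinearMap.comp_apply, LinearMap.lTensor_comp_rTensor,
        LinearMap.rTensor_comp_lTensor]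
    have hw : ∀ j : Fin n, ∃ q : P, ∀ i, e i q = coord n (T i) j (z i) := by
      intro j
      apply hlim
      intro i
      rw [← coord_lTensor, hz i]
    choose q hq using hw
    refine ⟨∑ j, π (Pi.single j 1) ⊗ₜ[R] q j, ?_⟩
    funext i
    change LinearMap.lTensor M (e i) (∑ j, π (Pi.single j 1) ⊗ₜ[R] q j) = y i
    rw [map_sum]
    simp only [LinearMap.lTensor_tmul, hq]
    have h1 : ∑ j, π (Pi.single j 1) ⊗ₜ[R] coord n (T i) j (z i) =
        LinearMap.rTensor (T i) π (∑ j, (Pi.single j (1 : R) : Fin n → R) ⊗ₜ[R]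
          coord n (T i) j (z i)) := by
      rw [map_sum]
      simp only [LinearMap.rTensor_tmul]
    rw [h1, sum_coord]
    change LinearMap.rTensor (T i) π (LinearMap.rTensor (T i) s (y i)) = y i
    rw [← LinearMap.comp_apply, ← LinearMap.rTensor_comp, hπs, LinearMap.rTensor_id,
      LinearMap.id_apply]

end TensorLim

end Groth.Agent.H6
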