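import Groth.Agent.Lib.Lead.QC.Pullback

/-! # Pushforward of `M~` along `Spec φ` is `(M_A)~`, naturally in `M` -/

universe u
open CategoryTheory Limits AlgebraicGeometry TopologicalSpace Opposite

namespace Groth.Agent.H6.TildePush

variable {A B : CommRingCat.{u}} (φ : A ⟶ B)

instance isIso_fromTildeΓ_tilde (N : ModuleCat.{u} B) :
    IsIso (Scheme.Modules.fromTildeΓ ((tilde.functor B).obj N)) :=
  isIso_fromTildeΓ_iff.mpr ⟨N, ⟨Iso.refl _⟩⟩

/-- the counit at `f_*(N~)`. -/
noncomputable def cNat :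
    (tilde.functor B ⋙ Scheme.Modules.pushforward (Spec.map φ)) ⋙
      (moduleSpecΓFunctor (R := A) ⋙ tilde.functor A) ⟶
    tilde.functor B ⋙ Scheme.Modules.pushforward (Spec.map φ) :=
  Functor.whiskerLeft _ (Scheme.Modules.fromTildeΓNatTrans (R := A)) ≫ (Functor.rightUnitor _).hom

instance isIso_cNat : IsIso (cNat φ) := by
  haveI : ∀ N, IsIso ((cNat φ).app N) := by
    intro N
    haveI : IsIso (Scheme.Modules.fromTildeΓ ((Scheme.Modules.pushforward (Spec.map φ)).obj
        ((tilde.functor B).obj N))) := isIso_fromTildeΓ_pushforward φ _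
    dsimp [cNat, Scheme.Modules.fromTildeΓNatTrans]
    rw [Category.comp_id]
    exact this
  exact NatIso.isIso_of_isIso_app _

/-- **pushforward of `N~` along `Spec φ` is `(N_A)~`**, naturally in `N`. -/
noncomputable def tildePushIso :
    tilde.functor B ⋙ Scheme.Modules.pushforward (Spec.map φ) ≅
      ModuleCat.restrictScalars φ.hom ⋙ tilde.functor A :=
  (asIso (cNat φ)).symm ≪≫ Functor.associator _ _ _ ≪≫
    Functor.isoWhiskerLeft (tilde.functor B) ((Functor.associator _ _ _).symm ≪≫
      Functor.isoWhiskerRight (Groth.Agent.LD.QC.ΓPushIso φ) (tilde.functor A) ≪≫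
      Functor.associator _ _ _) ≪≫
    (Functor.associator _ _ _).symm ≪≫
    Functor.isoWhiskerRight (tilde.toTildeΓNatIso (R := B)).symm
      (ModuleCat.restrictScalars φ.hom ⋙ tilde.functor A) ≪≫
    Functor.leftUnitor _

end Groth.Agent.H6.TildePush
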