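import Groth.Agent.Lib.Helper6.RFTri9

/-! # Comparing `T ⋙ RF` with a composition of exact functors on derived categories -/

open CategoryTheory Limits DerivedCategory

namespace Groth.Agent.H6.TildePush

variable {𝒜 ℬ 𝒞 𝒟 : Type*} [Category 𝒜] [Abelian 𝒜] [HasDerivedCategory 𝒜]
  [Category ℬ] [Abelian ℬ] [HasDerivedCategory ℬ]
  [Category 𝒞] [Abelian 𝒞] [HasDerivedCategory 𝒞]
  [Category 𝒟] [Abelian 𝒟] [HasDerivedCategory 𝒟]
  (T : 𝒜 ⥤ ℬ) [T.Additive] [PreservesFiniteLimits T] [PreservesFiniteColimits T]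
  (F : ℬ ⥤ 𝒞) [F.Additive]
  (R : 𝒜 ⥤ 𝒟) [R.Additive] [PreservesFiniteLimits R] [PreservesFiniteColimits R]
  (T' : 𝒟 ⥤ 𝒞) [T'.Additive] [PreservesFiniteLimits T'] [PreservesFiniteColimits T']
  [(F.mapHomotopyCategory (ComplexShape.up ℤ) ⋙ Qh).HasRightDerivedFunctor
    (HomotopyCategory.quasiIso ℬ (ComplexShape.up ℤ))]

/-- if `F(T M) ⟶ RF(T M)` is an isomorphism for every complex `M`, `T`, `R`, `T'` are exact and
`T ⋙ F ≅ R ⋙ T'`, then `D(T) ⋙ RF ≅ D(R) ⋙ D(T')`. -/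
theorem nonempty_iso_of_unit_iso (ν : T ⋙ F ≅ R ⋙ T')
    (h : ∀ M : CochainComplex 𝒜 ℤ, IsIso (((F.mapHomotopyCategory (ComplexShape.up ℤ) ⋙
      Qh).totalRightDerivedUnit Qh (HomotopyCategory.quasiIso ℬ (ComplexShape.up ℤ))).app
        ((HomotopyCategory.quotient ℬ (ComplexShape.up ℤ)).obj
          ((T.mapHomologicalComplex (ComplexShape.up ℤ)).obj M)))) :
    Nonempty (T.mapDerivedCategory ⋙
      (F.mapHomotopyCategory (ComplexShape.up ℤ) ⋙ Qh).totalRightDerived Qh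
        (HomotopyCategory.quasiIso ℬ (ComplexShape.up ℤ)) ≅
      R.mapDerivedCategory ⋙ T'.mapDerivedCategory) := by
  let RF := (F.mapHomotopyCategory (ComplexShape.up ℤ) ⋙ Qh).totalRightDerived Qh
    (HomotopyCategory.quasiIso ℬ (ComplexShape.up ℤ))
  let α := (F.mapHomotopyCategory (ComplexShape.up ℤ) ⋙ Qh).totalRightDerivedUnit Qh
    (HomotopyCategory.quasiIso ℬ (ComplexShape.up ℤ))
  -- the unit whiskered with `K(T)` is an isomorphism
  let w : T.mapHomotopyCategory (ComplexShape.up ℤ) ⋙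
      (F.mapHomotopyCategory (ComplexShape.up ℤ) ⋙ Qh) ⟶
      T.mapHomotopyCategory (ComplexShape.up ℤ) ⋙ (Qh ⋙ RF) :=
    Functor.whiskerLeft (T.mapHomotopyCategory (ComplexShape.up ℤ)) α
  haveI : IsIso w := by
    haveI : ∀ X, IsIso (w.app X) := by
      intro X
      obtain ⟨M, rfl⟩ := HomotopyCategory.quotient_obj_surjective X
      exact h M
    exact NatIso.isIso_of_isIso_app _
  let F₁ : HomotopyCategory 𝒜 (ComplexShape.up ℤ) ⥤ DerivedCategory 𝒞 :=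
    T.mapHomotopyCategory (ComplexShape.up ℤ) ⋙ (F.mapHomotopyCategory (ComplexShape.up ℤ) ⋙ Qh)
  let F₂ : HomotopyCategory 𝒜 (ComplexShape.up ℤ) ⥤ DerivedCategory 𝒞 :=
    R.mapHomotopyCategory (ComplexShape.up ℤ) ⋙ (T'.mapHomotopyCategory (ComplexShape.up ℤ) ⋙ Qh)
  let l₁ : Qh ⋙ (T.mapDerivedCategory ⋙ RF) ≅ F₁ :=
    (Functor.associator _ _ _).symm ≪≫
      Functor.isoWhiskerRight T.mapDerivedCategoryFactorsh RF ≪≫
      Functor.associator _ _ _ ≪≫ (asIso w).symm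
  let l₂ : Qh ⋙ (R.mapDerivedCategory ⋙ T'.mapDerivedCategory) ≅ F₂ :=
    (Functor.associator _ _ _).symm ≪≫
      Functor.isoWhiskerRight R.mapDerivedCategoryFactorsh T'.mapDerivedCategory ≪≫
      Functor.associator _ _ _ ≪≫
      Functor.isoWhiskerLeft _ T'.mapDerivedCategoryFactorsh
  haveI : Localization.Lifting Qh (HomotopyCategory.quasiIso 𝒜 (ComplexShape.up ℤ)) F₁
      (T.mapDerivedCategory ⋙ RF) := ⟨l₁⟩
  haveI : Localization.Lifting Qh (HomotopyCategory.quasiIso 𝒜 (ComplexShape.up ℤ)) F₂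
      (R.mapDerivedCategory ⋙ T'.mapDerivedCategory) := ⟨l₂⟩
  let e1 : T.mapHomotopyCategory (ComplexShape.up ℤ) ⋙ F.mapHomotopyCategory (ComplexShape.up ℤ) ≅
      (R ⋙ T').mapHomotopyCategory (ComplexShape.up ℤ) :=
    Functor.mapHomotopyCategoryCompIso ν _
  let e2 : R.mapHomotopyCategory (ComplexShape.up ℤ) ⋙ T'.mapHomotopyCategory (ComplexShape.up ℤ) ≅
      (R ⋙ T').mapHomotopyCategory (ComplexShape.up ℤ) :=
    Functor.mapHomotopyCategoryCompIso (Iso.refl _) _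
  let e : F₁ ≅ F₂ :=
    (Functor.associator _ _ _).symm ≪≫ Functor.isoWhiskerRight (e1 ≪≫ e2.symm) Qh ≪≫
      Functor.associator _ _ _
  exact ⟨Localization.liftNatIso Qh (HomotopyCategory.quasiIso 𝒜 (ComplexShape.up ℤ)) F₁ F₂ _ _ e⟩

end Groth.Agent.H6.TildePush
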