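import Groth.Agent.Lib.Helper6.TildePush1
import Groth.Agent.Lib.Helper6.TildePush2
import Groth.Agent.Lib.Helper6.LerayBB3
import Groth.Prelude.Def_DDual2

/-! # `Rf_*(M~) ≅ (M_A)~` on derived categories, `f : Spec B ⟶ Spec A` -/

universe u
open CategoryTheory Limits AlgebraicGeometry TopologicalSpace Opposite

namespace Groth.Agent.H6.TildePush

attribute [local instance] HasDerivedCategory.standard

theorem s7268 {A B : Type u} [CommRing A] [CommRing B] (φ : A →+* B)
    [PreservesFiniteLimits (tilde.functor (CommRingCat.of A))]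
    [PreservesFiniteLimits (tilde.functor (CommRingCat.of B))]
    [DCoh.HasRpush (Spec.map (CommRingCat.ofHom φ))] :
    Nonempty (DCoh.tildeD (CommRingCat.of B) ⋙ DCoh.Rpush (Spec.map (CommRingCat.ofHom φ)) ≅
      DRing.restrictD φ ⋙ DCoh.tildeD (CommRingCat.of A)) := by
  haveI : PreservesFiniteColimits (tilde.functor (CommRingCat.of B)) := by
    haveI : (tilde.functor (CommRingCat.of B)).IsLeftAdjoint := tilde.adjunction.isLeftAdjoint
    infer_instance
  haveI : PreservesFiniteColimits (tilde.functor (CommRingCat.of A)) := by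
    haveI : (tilde.functor (CommRingCat.of A)).IsLeftAdjoint := tilde.adjunction.isLeftAdjoint
    infer_instance
  refine nonempty_iso_of_unit_iso (tilde.functor (CommRingCat.of B))
    (Scheme.Modules.pushforward (Spec.map (CommRingCat.ofHom φ)))
    (ModuleCat.restrictScalars.{u} φ) (tilde.functor (CommRingCat.of A))
    (tildePushIso (CommRingCat.ofHom φ)) (fun M => ?_)
  exact Groth.Agent.H6.LerayBB.s7245 _ _ (fun n =>
    inferInstanceAs (tilde (R := CommRingCat.of B) (M.X n)).IsQuasicoherent)

end Groth.Agent.H6.TildePush
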