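import Mathlib
import Groth.Agent.Lib.Helper6.InjHullLocal
import Groth.Agent.Lib.Helper6.LCTorsion

/-! The topological dual of a Noetherian local algebra over a field with finite residue extension
is an injective hull of the residue field. -/

set_option autoImplicit false
universe u
set_option linter.style.haveILetI false
open IsLocalRing CategoryTheory

namespace Groth.Agent.H6.TopDual

variable (k₀ : Type u) [Field k₀] (A : Type u) [CommRing A] [Algebra k₀ A]

/-- the coextended module `Hom_{k₀}(A, k₀)` -/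
noncomputable abbrev D : ModuleCat.{u} A := (ModuleCat.coextendScalars (algebraMap k₀ A)).obj (ModuleCat.of k₀ k₀)

theorem D_injective : Module.Injective A (D k₀ A) := by
  haveI : Module.Injective k₀ k₀ := Module.injective_of_isSemisimpleRing k₀ k₀
  haveI : CategoryTheory.Injective (ModuleCat.of k₀ k₀) :=
    Module.injective_object_of_injective_module k₀ k₀
  haveI := CategoryTheory.Injective.injective_of_adjoint
    (ModuleCat.restrictCoextendScalarsAdj (algebraMap k₀ A)) (ModuleCat.of k₀ k₀)
  exact Module.injective_module_of_injective_object A _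

variable {k₀ A}

theorem D_smul_apply (a x : A) (φ : D k₀ A) : (a • φ) x = φ (x * a) := rfl

theorem D_ext {φ ψ : D k₀ A} (h : ∀ x : A, φ x = ψ x) : φ = ψ :=
  ModuleCat.CoextendScalars.ext (LinearMap.ext h)

theorem D_map_add (φ : D k₀ A) (x y : A) : φ (x + y) = φ x + φ y :=
  map_add (ModuleCat.CoextendScalars.equiv (algebraMap k₀ A) (ModuleCat.of k₀ k₀) φ) x y

theorem D_map_smul (φ : D k₀ A) (r : k₀) (x : A) : φ (r • x) = r * φ x := by
  have := map_smul (ModuleCat.CoextendScalars.equiv (algebraMap k₀ A) (ModuleCat.of k₀ k₀) φ) r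
    (show (ModuleCat.restrictScalars (algebraMap k₀ A)).obj (ModuleCat.of A A) from x)
  rw [smul_eq_mul] at this
  rw [← this]
  congr 1
  rw [ModuleCat.restrictScalars.smul_def (M := ModuleCat.of A A), Algebra.smul_def]
  rfl


section Local
variable [IsLocalRing A] [hfin : Module.Finite k₀ (A ⧸ maximalIdeal A)]

/-- a form killed by `m` vanishes on `m` -/
theorem apply_eq_zero_of_mem {φ : D k₀ A}
    (hφ : φ ∈ Submodule.torsionBySet A (D k₀ A) ((maximalIdeal A : Ideal A) : Set A)) {a : A}
    (ha : a ∈ maximalIdeal A) : φ a = 0 := by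
  have h1 := (Submodule.mem_torsionBySet_iff _ _).1 hφ ⟨a, ha⟩
  have h2 : (a • φ) (1 : A) = 0 := by
    have : a • φ = 0 := h1
    rw [this]; rfl
  rwa [D_smul_apply, one_mul] at h2

/-- the form on the residue field induced by a form killed by `m` -/
noncomputable def bar (φ : D k₀ A)
    (hφ : φ ∈ Submodule.torsionBySet A (D k₀ A) ((maximalIdeal A : Ideal A) : Set A)) :
    (A ⧸ maximalIdeal A) →ₗ[k₀] k₀ where
  toFun := Quotient.lift (fun a : A => φ a) (by
    intro a b hab
    have h1 : a - b ∈ maximalIdeal A := by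
      have := (Submodule.quotientRel_def _).1 hab
      exact this
    have h2 := apply_eq_zero_of_mem hφ h1
    have h3 : φ a = φ ((a - b) + b) := by rw [sub_add_cancel]
    show φ a = φ b
    rw [h3, D_map_add, h2, zero_add])
  map_add' := by
    intro x y
    obtain ⟨a, rfl⟩ := Ideal.Quotient.mk_surjective x
    obtain ⟨b, rfl⟩ := Ideal.Quotient.mk_surjective y
    exact D_map_add φ a b
  map_smul' := by
    intro r x
    obtain ⟨a, rfl⟩ := Ideal.Quotient.mk_surjective x
    exact D_map_smul φ r a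

theorem bar_mk (φ : D k₀ A)
    (hφ : φ ∈ Submodule.torsionBySet A (D k₀ A) ((maximalIdeal A : Ideal A) : Set A)) (a : A) :
    bar φ hφ (Ideal.Quotient.mk _ a) = φ a := rfl


theorem exists_smul_eq (φ ψ : D k₀ A)
    (hφ : φ ∈ Submodule.torsionBySet A (D k₀ A) ((maximalIdeal A : Ideal A) : Set A))
    (hψ : ψ ∈ Submodule.torsionBySet A (D k₀ A) ((maximalIdeal A : Ideal A) : Set A))
    (hne : φ ≠ 0) : ∃ a : A, a • φ = ψ := by
  letI : Field (A ⧸ maximalIdeal A) := Ideal.Quotient.field _
  let T : (A ⧸ maximalIdeal A) →ₗ[k₀] ((A ⧸ maximalIdeal A) →ₗ[k₀] k₀) :=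
    (LinearMap.llcomp k₀ (A ⧸ maximalIdeal A) (A ⧸ maximalIdeal A) k₀ (bar φ hφ)) ∘ₗ
      (LinearMap.mul k₀ (A ⧸ maximalIdeal A))
  have hT : ∀ c x, T c x = bar φ hφ (c * x) := fun c x => rfl
  have hinj : Function.Injective T := by
    rw [injective_iff_map_eq_zero]
    intro c hc
    by_contra hc0
    apply hne
    apply D_ext
    intro x
    have h1 : T c (c⁻¹ * Ideal.Quotient.mk _ x) = 0 := by rw [hc]; rfl
    rw [hT, ← mul_assoc, mul_inv_cancel₀ hc0, one_mul, bar_mk] at h1
    rw [h1]; rfl
  have hrank : Module.finrank k₀ (A ⧸ maximalIdeal A) =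
      Module.finrank k₀ ((A ⧸ maximalIdeal A) →ₗ[k₀] k₀) :=
    (Subspace.dual_finrank_eq (K := k₀) (V := A ⧸ maximalIdeal A)).symm
  have hsurj : Function.Surjective T :=
    (LinearMap.injective_iff_surjective_of_finrank_eq_finrank hrank).1 hinj
  obtain ⟨c, hc⟩ := hsurj (bar ψ hψ)
  obtain ⟨a, rfl⟩ := Ideal.Quotient.mk_surjective c
  refine ⟨a, D_ext fun x => ?_⟩
  rw [D_smul_apply, ← bar_mk φ hφ, ← bar_mk ψ hψ, ← hc, hT, map_mul, mul_comm]


/-- a nonzero form killed by `m` -/
theorem exists_ne_zero_mem : ∃ φ : D k₀ A, φ ≠ 0 ∧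
    φ ∈ Submodule.torsionBySet A (D k₀ A) ((maximalIdeal A : Ideal A) : Set A) := by
  have h1 : ¬ ∀ f : Module.Dual k₀ (A ⧸ maximalIdeal A), f 1 = 0 := by
    rw [Module.forall_dual_apply_eq_zero_iff]
    exact one_ne_zero
  push Not at h1
  obtain ⟨f, hf⟩ := h1
  let g : (ModuleCat.restrictScalars (algebraMap k₀ A)).obj (ModuleCat.of A A) →ₗ[k₀] k₀ :=
    { toFun := fun x => f (Ideal.Quotient.mk (maximalIdeal A) (show A from x))
      map_add' := fun x y => by
        show f (Ideal.Quotient.mk (maximalIdeal A) ((show A from x) + (show A from y))) = _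
        rw [map_add, map_add]
      map_smul' := fun r x => by
        have : (show A from (r • x)) = r • (show A from x) := by
          have h1 : (show A from (r • x)) = algebraMap k₀ A r * (show A from x) := by
            rw [ModuleCat.restrictScalars.smul_def (M := ModuleCat.of A A)]
            rfl
          rw [h1, ← Algebra.smul_def]
        show f (Ideal.Quotient.mk (maximalIdeal A) (show A from (r • x))) = _
        rw [this]
        have h2 : Ideal.Quotient.mk (maximalIdeal A) (r • (show A from x)) =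
            r • Ideal.Quotient.mk (maximalIdeal A) (show A from x) := rfl
        rw [h2, map_smul]
        rfl }
  let φ : D k₀ A := (ModuleCat.CoextendScalars.equiv (algebraMap k₀ A) (ModuleCat.of k₀ k₀)).symm g
  have hφ : ∀ x : A, φ x = f (Ideal.Quotient.mk (maximalIdeal A) x) := fun x => rfl
  refine ⟨φ, ?_, ?_⟩
  · intro h0
    apply hf
    rw [← map_one (Ideal.Quotient.mk (maximalIdeal A)), ← hφ, h0]
    rfl
  · rw [Submodule.mem_torsionBySet_iff]
    rintro ⟨a, ha⟩
    apply D_ext
    intro x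
    show (a • φ) x = 0
    rw [D_smul_apply, hφ, map_mul, Ideal.Quotient.eq_zero_iff_mem.2 ha, mul_zero, map_zero]

theorem isSimpleModule_socle :
    IsSimpleModule A (Submodule.torsionBySet A (D k₀ A) ((maximalIdeal A : Ideal A) : Set A)) := by
  rw [isSimpleModule_iff_toSpanSingleton_surjective]
  constructor
  · obtain ⟨φ, hne, hφ⟩ := exists_ne_zero_mem (k₀ := k₀) (A := A)
    exact ⟨⟨⟨φ, hφ⟩, 0, fun h => hne (congrArg Subtype.val h)⟩⟩
  · rintro ⟨φ, hφ⟩ hne ⟨ψ, hψ⟩
    obtain ⟨a, ha⟩ := exists_smul_eq φ ψ hφ hψ (fun h => hne (Subtype.ext h))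
    exact ⟨a, Subtype.ext ha⟩

end Local

end Groth.Agent.H6.TopDual
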