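import Mathlib
import Groth.Agent.Lib.Helper6.TopDual1

set_option autoImplicit false
universe u
set_option linter.style.haveILetI false
open IsLocalRing CategoryTheory

namespace Groth.Agent.H6.TopDual

variable (k₀ : Type u) [Field k₀] (A : Type u) [CommRing A] [Algebra k₀ A] [IsLocalRing A]

theorem iSup_eq_torsionSub :
    (⨆ n : ℕ, Submodule.torsionBySet A (D k₀ A) ((maximalIdeal A ^ n : Ideal A) : Set A)) =
      DRing.torsionSub (maximalIdeal A) (D k₀ A) := by
  ext φ
  rw [Submodule.mem_iSup_of_directed]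
  · constructor
    · rintro ⟨n, hn⟩
      exact ⟨n, fun a ha => (Submodule.mem_torsionBySet_iff _ _).1 hn ⟨a, ha⟩⟩
    · rintro ⟨n, hn⟩
      refine ⟨n, (Submodule.mem_torsionBySet_iff _ _).2 ?_⟩
      rintro ⟨a, ha⟩
      exact hn a ha
  · intro i j
    refine ⟨max i j, ?_, ?_⟩
    · intro φ hφ
      rw [Submodule.mem_torsionBySet_iff] at hφ ⊢
      rintro ⟨a, ha⟩
      exact hφ ⟨a, Ideal.pow_le_pow_right (le_max_left i j) ha⟩
    · intro φ hφ
      rw [Submodule.mem_torsionBySet_iff] at hφ ⊢
      rintro ⟨a, ha⟩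
      exact hφ ⟨a, Ideal.pow_le_pow_right (le_max_right i j) ha⟩

theorem main [IsNoetherianRing A] [Module.Finite k₀ (A ⧸ maximalIdeal A)] :
    ∃ f : IsLocalRing.ResidueField A →ₗ[A]
      ↥(⨆ n : ℕ, Submodule.torsionBySet A (D k₀ A) ((maximalIdeal A ^ n : Ideal A) : Set A)),
      InjHull.IsInjectiveHull f := by
  set E' := (⨆ n : ℕ, Submodule.torsionBySet A (D k₀ A) ((maximalIdeal A ^ n : Ideal A) : Set A))
    with hE'
  have heq := iSup_eq_torsionSub k₀ A
  haveI : Module.Injective A (D k₀ A) := D_injective k₀ A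
  have hinj : Module.Injective A E' := by
    rw [hE', heq]
    exact LC.torsionSub_injective (maximalIdeal A) (D k₀ A)
  have htors : LocCoh.IsPowerTorsion (maximalIdeal A) E' := by
    rintro ⟨φ, hφ⟩
    rw [hE', heq] at hφ
    obtain ⟨n, hn⟩ := hφ
    exact ⟨n, fun a ha => Subtype.ext (hn a ha)⟩
  have hsimple : IsSimpleModule A ((A ⧸ maximalIdeal A) →ₗ[A] E') := by
    have hle : Submodule.torsionBySet A (D k₀ A) ((maximalIdeal A : Ideal A) : Set A) ≤ E' := by
      refine le_trans ?_ (le_iSup _ 1)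
      rw [pow_one]
    -- the socle of `E'` is the socle of `D`
    let e1 : ((A ⧸ maximalIdeal A) →ₗ[A] E') ≃ₗ[A]
        Submodule.torsionBySet A E' ((maximalIdeal A : Ideal A) : Set A) :=
      IH.homQuotEquiv (maximalIdeal A) E'
    have hcomap : Submodule.torsionBySet A E' ((maximalIdeal A : Ideal A) : Set A) =
        (Submodule.torsionBySet A (D k₀ A) ((maximalIdeal A : Ideal A) : Set A)).comap E'.subtype := by
      ext x
      rw [Submodule.mem_comap, Submodule.mem_torsionBySet_iff, Submodule.mem_torsionBySet_iff]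
      constructor
      · intro h a
        exact congrArg Subtype.val (h a)
      · intro h a
        exact Subtype.ext (h a)
    let e2 : Submodule.torsionBySet A E' ((maximalIdeal A : Ideal A) : Set A) ≃ₗ[A]
        Submodule.torsionBySet A (D k₀ A) ((maximalIdeal A : Ideal A) : Set A) :=
      (LinearEquiv.ofEq _ _ hcomap).trans (Submodule.comapSubtypeEquivOfLe hle)
    haveI := isSimpleModule_socle (k₀ := k₀) (A := A)
    exact IsSimpleModule.congr (e1.trans e2)
  obtain ⟨f, hf⟩ := (IH.exists_hull_iff E').2 ⟨hinj, htors, hsimple⟩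
  exact ⟨f, hf⟩

end Groth.Agent.H6.TopDual
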