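import Mathlib
import Groth.Agent.Lib.Helper6.TopLCMax

set_option autoImplicit false
universe u
open IsLocalRing

namespace Groth.Agent.H6.S17763aux

variable {R : Type u} [CommRing R] [IsNoetherianRing R] [IsLocalRing R]

/-- nonvanishing of top local cohomology propagates from `a` to `a ⊔ J` for `J ≤ m` -/
theorem nontrivial_sup_ideal (n : ℕ) (hn : ringKrullDim R = (n + 1 : ℕ)) (a J : Ideal R)
    (hJ : J ≤ maximalIdeal R) (h : Nontrivial (LocCoh.H a (n + 1) R)) :
    Nontrivial (LocCoh.H (a ⊔ J) (n + 1) R) := by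
  classical
  have hfg : J.FG := IsNoetherian.noetherian J
  obtain ⟨s, rfl⟩ := hfg
  induction s using Finset.induction_on with
  | empty =>
    simp only [Finset.coe_empty, Ideal.span_empty, sup_bot_eq] at *
    exact h
  | insert b s hb ih =>
    have hJ' : Ideal.span (s : Set R) ≤ maximalIdeal R :=
      le_trans (Ideal.span_mono (by simp)) hJ
    have hbm : b ∈ maximalIdeal R := hJ (Ideal.subset_span (by simp))
    have := S11640aux.nontrivial_sup n hn (a ⊔ Ideal.span (s : Set R)) b hbm (ih hJ')
    have e : a ⊔ Ideal.span ((insert b s : Finset R) : Set R) =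
        a ⊔ Ideal.span (s : Set R) ⊔ Ideal.span {b} := by
      rw [Finset.coe_insert, Ideal.span_insert, sup_assoc, sup_comm (Ideal.span {b})]
    rw [e]
    exact this

theorem main (d : ℕ) (hd : ringKrullDim R = d) :
    (∀ I : Ideal R, 0 < ringKrullDim (R ⧸ I) → Subsingleton (LocCoh.H I d R)) ↔
      (∀ (p : Ideal R) [p.IsPrime], ringKrullDim (R ⧸ p) = 1 → Subsingleton (LocCoh.H p d R)) := by
  constructor
  · intro h p _ hp
    exact h p (by rw [hp]; exact zero_lt_one)
  · intro h I hI
    -- d ≥ 1
    have hd1 : 1 ≤ d := by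
      have h1 : ringKrullDim (R ⧸ I) ≤ d := hd ▸ ringKrullDim_quotient_le I
      have h2 : (0 : WithBot ℕ∞) < d := lt_of_lt_of_le hI h1
      have : (0 : ℕ) < d := by exact_mod_cast h2
      omega
    obtain ⟨k, rfl⟩ : ∃ k, d = k + 1 := ⟨d - 1, by omega⟩
    -- find a prime over I which is not maximal
    obtain ⟨q0, q1, hIq0, hq01⟩ : ∃ q0 q1 : PrimeSpectrum R, I ≤ q0.asIdeal ∧ q0 < q1 := by
      rw [ringKrullDim_quotient, Order.krullDim_pos_iff] at hI
      obtain ⟨x, y, hxy⟩ := hI
      exact ⟨x.1, y.1, x.2, hxy⟩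
    -- a maximal such prime
    let S : Set (Ideal R) := {q | q.IsPrime ∧ I ≤ q ∧ q ≠ maximalIdeal R}
    have hq0S : q0.asIdeal ∈ S := by
      refine ⟨q0.2, hIq0, fun h => ?_⟩
      have : q1.asIdeal ≤ maximalIdeal R := IsLocalRing.le_maximalIdeal q1.2.ne_top
      have h2 : q0.asIdeal < q1.asIdeal := hq01
      rw [h] at h2
      exact absurd this (not_le_of_gt h2)
    obtain ⟨p, hpS, hpmax⟩ := set_has_maximal_iff_noetherian.mpr (inferInstance : IsNoetherian R R) S ⟨_, hq0S⟩
    obtain ⟨hpprime, hIp, hpm⟩ := hpS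
    haveI := hpprime
    -- dim R/p = 1
    have hdim : ringKrullDim (R ⧸ p) = 1 := by
      have h1 := Dim.ringKrullDim_quotient_eq_coheight (⟨p, hpprime⟩ : PrimeSpectrum R)
      change ringKrullDim (R ⧸ p) = _ at h1
      rw [h1, Order.coheight_eq_iSup_gt_coheight]
      have key : ∀ y : PrimeSpectrum R, y > (⟨p, hpprime⟩ : PrimeSpectrum R) →
          Order.coheight y + 1 = 1 := by
        intro y hy
        have hy' : y.asIdeal = maximalIdeal R := by
          by_contra hne
          have : y.asIdeal ∈ S := ⟨y.2, le_trans hIp (le_of_lt hy), hne⟩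
          exact hpmax _ this hy
        have : IsMax y := by
          rw [PrimeSpectrum.isMax_iff, hy']
          exact maximalIdeal.isMaximal R
        rw [Order.coheight_eq_zero.mpr this, zero_add]
      have hm : (⟨maximalIdeal R, (maximalIdeal.isMaximal R).isPrime⟩ : PrimeSpectrum R) >
          (⟨p, hpprime⟩ : PrimeSpectrum R) :=
        lt_of_le_of_ne (IsLocalRing.le_maximalIdeal hpprime.ne_top)
          (fun h => hpm (congrArg PrimeSpectrum.asIdeal h))
      have : (⨆ y > (⟨p, hpprime⟩ : PrimeSpectrum R), Order.coheight y + 1) = 1 := by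
        apply le_antisymm
        · refine iSup₂_le ?_
          intro y hy
          rw [key y hy]
        · have h3 := le_iSup₂ (f := fun (y : PrimeSpectrum R) (_ : y > (⟨p, hpprime⟩ : PrimeSpectrum R)) =>
            Order.coheight y + 1) _ hm
          rw [key _ hm] at h3
          exact h3
      rw [this]; rfl
    have hsub := h p hdim
    by_contra hnon
    rw [not_subsingleton_iff_nontrivial] at hnon
    have h2 := nontrivial_sup_ideal k (by exact_mod_cast hd) I p
      (IsLocalRing.le_maximalIdeal hpprime.ne_top) hnon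
    rw [sup_eq_right.mpr hIp] at h2
    exact not_subsingleton _ hsub

end Groth.Agent.H6.S17763aux
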