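import Mathlib
import Groth.Prelude.Def_ArtFun4
import Groth.Prelude.Def_CotT
import Groth.Agent.Lib.Helper6.ObsAff11

/-!
# Extensions of deformations of an affine scheme form a torsor under `T¹`: coordinates on `T¹`
(helper6)
-/

set_option autoImplicit false
universe u
open CategoryTheory ArtFun ArtFun.Art TensorProduct

namespace Groth.Agent.H6.TorsAff

open Groth.Agent.H6.DefAff Groth.Agent.H6.ObsAff

variable {k : Type u} [Field k] {B₀ : Type u} [CommRing B₀] [Algebra k B₀] {ι σ : Type u}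
variable {P : Algebra.Presentation k B₀ ι σ}

section T1

variable [Fintype σ] {M : Type u} [AddCommGroup M] [Module B₀ M]

variable (P) in
/-- the linear map on `L₁` with prescribed values on the basis -/
noncomputable def ofVals (h : σ → M) : CotT.L1 P →ₗ[B₀] M := (CotT.L1basis P).constr B₀ h

theorem ofVals_basis (h : σ → M) (s : σ) : ofVals P h (CotT.L1basis P s) = h s :=
  Module.Basis.constr_basis _ _ _ _

theorem ofVals_one_tmul (h : σ → M) (f : CotT.relMod P) :
    ofVals P h ((1 : B₀) ⊗ₜ[P.toExtension.Ring] f) =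
      ∑ s, MvPolynomial.aeval P.val (relFun f s) • h s := by
  classical
  rw [one_tmul_eq_sum, map_sum]
  exact Finset.sum_congr rfl fun s _ => by rw [map_smul, ofVals_basis]

theorem eq_ofVals (c : CotT.L1 P →ₗ[B₀] M) : c = ofVals P (fun s => c (CotT.L1basis P s)) := by
  apply (CotT.L1basis P).ext
  intro s
  rw [ofVals_basis]

theorem ofVals_add (h h' : σ → M) : ofVals P (fun s => h s + h' s) = ofVals P h + ofVals P h' := by
  apply (CotT.L1basis P).ext
  intro s
  rw [LinearMap.add_apply, ofVals_basis, ofVals_basis, ofVals_basis]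

theorem ofVals_mem_cocycles1_iff (h : σ → M) :
    ofVals P h ∈ CotT.cocycles1 P M ↔ ∀ q : CotT.relKer P,
      ∑ s, MvPolynomial.aeval P.val (relFun (q : CotT.relMod P) s) • h s = 0 := by
  rw [LinearMap.mem_ker, CotT.d2Star_apply]
  constructor
  · intro h0 q
    have h1 := LinearMap.congr_fun h0 (Submodule.Quotient.mk ((1 : B₀) ⊗ₜ q))
    rw [LinearMap.comp_apply, CotT.d2_mk_tmul, ofVals_one_tmul, LinearMap.zero_apply] at h1
    exact h1
  · intro h0
    apply LinearMap.ext
    intro z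
    obtain ⟨q, rfl⟩ := Groth.Agent.H6.CotTT2.exists_mk_one_tmul P z
    rw [LinearMap.comp_apply, CotT.d2_mk_tmul, ofVals_one_tmul, LinearMap.zero_apply]
    exact h0 q

theorem d1_basis (s : σ) : CotT.d1 P (CotT.L1basis P s) =
    (1 : B₀) ⊗ₜ KaehlerDifferential.D k P.toExtension.Ring (P.relation s) := by
  rw [CotT.L1basis_apply, CotT.d1_tmul, one_smul]
  congr 2
  unfold CotT.jmap
  rw [Finsupp.linearCombination_single, one_smul]

theorem apply_one_tmul_D [Fintype ι] (ψ : CotT.L0 P →ₗ[B₀] M) (f : P.toExtension.Ring) :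
    ψ ((1 : B₀) ⊗ₜ KaehlerDifferential.D k P.toExtension.Ring f) =
      ∑ i, MvPolynomial.aeval P.val (MvPolynomial.pderiv i (show MvPolynomial ι k from f)) •
        ψ (P.cotangentSpaceBasis i) := by
  conv_lhs => rw [← P.cotangentSpaceBasis.sum_repr
    ((1 : B₀) ⊗ₜ KaehlerDifferential.D k P.toExtension.Ring f)]
  rw [map_sum]
  refine Finset.sum_congr rfl fun i _ => ?_
  rw [map_smul, Algebra.Generators.cotangentSpaceBasis_repr_one_tmul]

theorem ofVals_mem_range_d1Star_iff [Fintype ι] (h : σ → M) :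
    ofVals P h ∈ LinearMap.range (CotT.d1Star P M) ↔ ∃ a : ι → M, ∀ s,
      h s = ∑ i, MvPolynomial.aeval P.val (MvPolynomial.pderiv i (P.relation s)) • a i := by
  constructor
  · rintro ⟨ψ, hψ⟩
    refine ⟨fun i => ψ (P.cotangentSpaceBasis i), fun s => ?_⟩
    have h1 := LinearMap.congr_fun hψ (CotT.L1basis P s)
    rw [CotT.d1Star_apply, LinearMap.comp_apply, d1_basis, ofVals_basis, apply_one_tmul_D] at h1
    exact h1.symm
  · rintro ⟨a, ha⟩
    refine ⟨P.cotangentSpaceBasis.constr B₀ a, ?_⟩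
    apply (CotT.L1basis P).ext
    intro s
    rw [CotT.d1Star_apply, LinearMap.comp_apply, d1_basis, ofVals_basis, apply_one_tmul_D, ha]
    exact Finset.sum_congr rfl fun i _ => by rw [Module.Basis.constr_basis]

/-- the class in `T¹` of a cocycle given by its values -/
noncomputable def cls (h : σ → M) (hh : ∀ q : CotT.relKer P,
    ∑ s, MvPolynomial.aeval P.val (relFun (q : CotT.relMod P) s) • h s = 0) : CotT.T1 P M :=
  Submodule.Quotient.mk ⟨ofVals P h, (ofVals_mem_cocycles1_iff h).mpr hh⟩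

theorem cls_surjective (t : CotT.T1 P M) : ∃ h hh, cls (P := P) h hh = t := by
  obtain ⟨c, rfl⟩ := Submodule.Quotient.mk_surjective _ t
  have h1 : (c : CotT.L1 P →ₗ[B₀] M) = ofVals P (fun s => (c : CotT.L1 P →ₗ[B₀] M) (CotT.L1basis P s)) :=
    eq_ofVals _
  have h2 : ofVals P (fun s => (c : CotT.L1 P →ₗ[B₀] M) (CotT.L1basis P s)) ∈ CotT.cocycles1 P M := by
    rw [← h1]
    exact c.2
  refine ⟨fun s => (c : CotT.L1 P →ₗ[B₀] M) (CotT.L1basis P s),
    (ofVals_mem_cocycles1_iff _).mp h2, ?_⟩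
  unfold cls
  congr 1
  exact Subtype.ext h1.symm

theorem cls_eq_zero_iff [Fintype ι] (h : σ → M) (hh : ∀ q : CotT.relKer P,
    ∑ s, MvPolynomial.aeval P.val (relFun (q : CotT.relMod P) s) • h s = 0) :
    cls (P := P) h hh = 0 ↔ ∃ a : ι → M, ∀ s,
      h s = ∑ i, MvPolynomial.aeval P.val (MvPolynomial.pderiv i (P.relation s)) • a i := by
  unfold cls
  rw [Submodule.Quotient.mk_eq_zero, Submodule.mem_comap, Submodule.coe_subtype,
    ofVals_mem_range_d1Star_iff]

theorem cls_add (h h' : σ → M) (hh hh') (hh'' : ∀ q : CotT.relKer P,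
    ∑ s, MvPolynomial.aeval P.val (relFun (q : CotT.relMod P) s) • (h s + h' s) = 0) :
    cls (P := P) (fun s => h s + h' s) hh'' = cls h hh + cls h' hh' := by
  unfold cls
  rw [← Submodule.Quotient.mk_add]
  congr 1
  exact Subtype.ext (ofVals_add h h')

end T1

end Groth.Agent.H6.TorsAff
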