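import Mathlib
import Groth.Prelude.Def_ArtFun4
import Groth.Prelude.Def_CotT
import Groth.Agent.Lib.Helper6.ObsAff11

/-!
# Extensions of deformations of an affine scheme form a torsor under `T¹`: polynomial lemmas
(helper6)
-/

set_option autoImplicit false
universe u
open CategoryTheory ArtFun ArtFun.Art TensorProduct

namespace Groth.Agent.H6.TorsAff

open Groth.Agent.H6.DefAff Groth.Agent.H6.ObsAff

variable {k : Type u} [Field k] {B₀ : Type u} [CommRing B₀] [Algebra k B₀] {ι σ : Type u}
variable {P : Algebra.Presentation k B₀ ι σ}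

/-- first order Taylor expansion for the difference of two ring maps out of a polynomial ring
which agree modulo a square-zero ideal -/
theorem hom_sub_hom_eq_sum {A S : Type*} [CommRing A] [CommRing S] {ι : Type*} [Fintype ι]
    (φ₁ φ₂ : MvPolynomial ι A →+* S)
    (hC : ∀ a, φ₁ (MvPolynomial.C a) = φ₂ (MvPolynomial.C a)) (N : Ideal S)
    (hN : ∀ x ∈ N, ∀ y ∈ N, x * y = 0)
    (hX : ∀ i, φ₁ (MvPolynomial.X i) - φ₂ (MvPolynomial.X i) ∈ N) (G : MvPolynomial ι A) :
    φ₁ G - φ₂ G =
      ∑ i, φ₂ (MvPolynomial.pderiv i G) * (φ₁ (MvPolynomial.X i) - φ₂ (MvPolynomial.X i)) := by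
  classical
  induction G using MvPolynomial.induction_on with
  | C a =>
    rw [hC, sub_self]
    symm
    refine Finset.sum_eq_zero fun i _ => ?_
    rw [MvPolynomial.pderiv_C, map_zero, zero_mul]
  | add G H hG hH =>
    rw [map_add, map_add, add_sub_add_comm, hG, hH, ← Finset.sum_add_distrib]
    refine Finset.sum_congr rfl fun i _ => ?_
    rw [map_add, map_add, add_mul]
  | mul_X G j hG =>
    have hmem : φ₁ G - φ₂ G ∈ N := by
      rw [hG]
      exact Ideal.sum_mem _ fun i _ => Ideal.mul_mem_left _ _ (hX i)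
    have h0 := hN _ hmem _ (hX j)
    have h1 : φ₁ (G * MvPolynomial.X j) - φ₂ (G * MvPolynomial.X j) =
        φ₂ G * (φ₁ (MvPolynomial.X j) - φ₂ (MvPolynomial.X j)) +
          (φ₁ G - φ₂ G) * φ₂ (MvPolynomial.X j) := by
      rw [map_mul, map_mul]
      linear_combination h0
    rw [h1, hG, Finset.sum_mul]
    have h2 : ∀ i, φ₂ (MvPolynomial.pderiv i (G * MvPolynomial.X j)) *
        (φ₁ (MvPolynomial.X i) - φ₂ (MvPolynomial.X i)) =
        φ₂ (MvPolynomial.pderiv i G) * (φ₁ (MvPolynomial.X i) - φ₂ (MvPolynomial.X i)) *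
          φ₂ (MvPolynomial.X j) +
        (if i = j then φ₂ G * (φ₁ (MvPolynomial.X j) - φ₂ (MvPolynomial.X j)) else 0) := by
      intro i
      rw [Derivation.leibniz, MvPolynomial.pderiv_X, smul_eq_mul, smul_eq_mul, map_add, map_mul,
        map_mul]
      by_cases hij : i = j
      · subst hij
        rw [Pi.single_eq_same, if_pos rfl, map_one]
        ring
      · rw [Pi.single_eq_of_ne (Ne.symm hij), if_neg hij, map_zero]
        ring
    rw [Finset.sum_congr rfl fun i _ => h2 i, Finset.sum_add_distrib, Finset.sum_ite_eq' ,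
      if_pos (Finset.mem_univ j)]
    ring

section Z

variable {C' C : Art k k} (p : C' ⟶ C) (hp : IsSemismallExt p) (D' : PDef P C')

include hp in
/-- on the kernel of the base change, polynomials vanishing in a flat lift vanish in the trivial
deformation -/
theorem thetaP_eq_zero_of_ev_eq_zero (G : MvPolynomial ι C') (hmap : mapP p G = 0)
    (hev : D'.ev G = 0) : thetaP P.val C' G = 0 := by
  have hI : G ∈ (RingHom.ker (p.toAlgHom : C' →+* C)).map
      (MvPolynomial.C : C' →+* MvPolynomial ι C') := by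
    rw [← ker_mapP]
    exact hmap
  have h1 := D'.mem_smul_kerC_of_mem_map _ G hev hI
  refine Submodule.smul_induction_on h1 ?_ ?_
  · intro j hj H hH
    have hH' : D'.ev H = 0 := hH
    have hj' : p j = 0 := hj
    have h2 : trMap p ((1 : B₀) ⊗ₜ[k] j) = 0 := by
      rw [trMap_tmul, hj', TensorProduct.tmul_zero]
    rw [MvPolynomial.smul_eq_C_mul, map_mul, thetaP_C, mul_comm,
      mul_eq_res_smul p hp _ _ h2, trRes_thetaP, ← D'.pr_ev, hH', map_zero, zero_smul]
  · intro x y hx hy
    rw [map_add, hx, hy, add_zero]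

include hp in
/-- conversely -/
theorem ev_eq_zero_of_thetaP_eq_zero [Fintype σ] (G : MvPolynomial ι C') (hmap : mapP p G = 0)
    (hθ : thetaP P.val C' G = 0) : D'.ev G = 0 := by
  obtain ⟨d, hd1, hd2⟩ := exists_of_thetaP_eq_zero P p G hmap hθ
  rw [hd2, map_sum]
  refine Finset.sum_eq_zero fun s _ => ?_
  have h1 := mul_eq_constP_mul p hp (D'.F s) (d s) (hd1 s)
  rw [D'.red_F] at h1
  rw [mul_comm, ← h1, map_mul, D'.ev_F, zero_mul]

end Z

end Groth.Agent.H6.TorsAff
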