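import Mathlib
import Groth.Prelude.Def_ArtFun4
import Groth.Prelude.Def_CotT
import Groth.Agent.Lib.Helper6.TorsAff1
import Groth.Agent.Lib.Helper6.TorsAff2

/-!
# Extensions of deformations of an affine scheme form a torsor under `T¹`: the difference class
(helper6)
-/

set_option autoImplicit false
universe u
open CategoryTheory ArtFun ArtFun.Art TensorProduct

namespace Groth.Agent.H6.TorsAff

open Groth.Agent.H6.DefAff Groth.Agent.H6.ObsAff

variable {k : Type u} [Field k] {B₀ : Type u} [CommRing B₀] [Algebra k B₀] {ι σ : Type u}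
variable {P : Algebra.Presentation k B₀ ι σ} {C' C : Art k k}

/-- a presentation of an extension of a presented deformation -/
structure PExt (p : C' ⟶ C) (D : PDef P C) (R' : RDef B₀ C') (h : RDef.HomOver p R' D.R) where
  /-- lifts of the generators -/
  v : ι → R'.E
  h_v : ∀ i, h.hom (v i) = D.v i
  /-- lifts of the relations -/
  F : σ → MvPolynomial ι C'
  ev_F : ∀ s, evP R' v (F s) = 0
  map_F : ∀ s, mapP p (F s) = D.F s

namespace PExt

variable {p : C' ⟶ C} {D : PDef P C} {R' : RDef B₀ C'} {h : RDef.HomOver p R' D.R}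
  (E : PExt p D R' h)

theorem pr_v (i : ι) : R'.pr (E.v i) = P.val i := by
  rw [← h.pr_hom, E.h_v, D.pr_v]

/-- the underlying presented deformation -/
def toPDef : PDef P C' where
  R := R'
  v := E.v
  pr_v := E.pr_v
  F := E.F
  ev_F := E.ev_F
  red_F := fun s => by rw [← redP_mapP p, E.map_F, D.red_F]

theorem toPDef_ev (G : MvPolynomial ι C') : E.toPDef.ev G = evP R' E.v G := rfl

theorem hom_ev [Fintype σ] (G : MvPolynomial ι C') : h.hom (evP R' E.v G) = D.ev (mapP p G) :=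
  hom_evP R' h E.v E.h_v G

theorem ev_surjective : Function.Surjective (evP R' E.v) := E.toPDef.ev_surjective

end PExt

section Basic

variable [Fintype σ] {p : C' ⟶ C} {D : PDef P C}

theorem nonempty_pext (hp : IsSemismallExt p) (R' : RDef B₀ C') (h : RDef.HomOver p R' D.R) :
    Nonempty (PExt p D R' h) := by
  have hsurj : Function.Surjective h.hom := h.surjective hp.1
  choose v' hv' using fun i => hsurj (D.v i)
  have hprv' : ∀ i, R'.pr (v' i) = P.val i := by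
    intro i
    rw [← h.pr_hom, hv', D.pr_v]
  have hev'surj : Function.Surjective (evP R' v') := evP_surjective P R' v' hprv'
  have hF₁ : ∀ s, ∃ F₁ : MvPolynomial ι C', mapP p F₁ = D.F s ∧ evP R' v' F₁ = 0 := by
    intro s
    obtain ⟨G', hG'⟩ := mapP_surjective (ι := ι) p hp.1 (D.F s)
    have h1 : evP R' v' G' ∈ RingHom.ker h.hom := by
      rw [RingHom.mem_ker, hom_evP R' h v' hv', hG', D.ev_F]
    rw [h.ker_hom hp.1] at h1
    obtain ⟨g, hg1, hg2⟩ := exists_mapP_eq_zero_of_mem R' v' hev'surj _ h1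
    exact ⟨G' - g, by rw [map_sub, hG', hg1, sub_zero], by rw [map_sub, hg2, sub_self]⟩
  choose F₁ hF₁a hF₁b using hF₁
  exact ⟨⟨v', hv', F₁, hF₁b, hF₁a⟩⟩

variable {R'₁ R'₂ R'₃ : RDef B₀ C'} {h₁ : RDef.HomOver p R'₁ D.R} {h₂ : RDef.HomOver p R'₂ D.R}
  {h₃ : RDef.HomOver p R'₃ D.R}

/-- the obstruction cochain of a genuine extension vanishes -/
theorem cochainQ_eq_zero (hp : IsSemismallExt p) (E : PExt p D R'₁ h₁) (q : CotT.relKer P) :
    cochainQ E.F E.map_F hp q = 0 := by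
  apply epsJ_injective p
  obtain ⟨Q', hQ'1, hQ'2⟩ := E.toPDef.exists_lift_relation (relFun (q : CotT.relMod P))
    (sum_eq_zero_of_mem_relKer q)
  have h0 : cochP E.F Q' = 0 := hQ'2
  have hlift : IsLiftRel p D (relFun (q : CotT.relMod P)) Q' := by
    refine ⟨hQ'1, ?_⟩
    rw [← mapP_cochP E.F E.map_F, h0, map_zero]
  unfold cochainQ
  rw [epsJ_cochain E.F E.map_F hp _ _ _ hlift, h0, map_zero, map_zero]

theorem exists_delta (hp : IsSemismallExt p) (E₁ : PExt p D R'₁ h₁) (E₂ : PExt p D R'₂ h₂)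
    (s : σ) : ∃ z : B₀ ⊗[k] ↥(RingHom.ker p.toAlgHom),
      epsJ p z = thetaP P.val C' (E₁.F s - E₂.F s) := by
  refine exists_epsJ_eq p hp.1 _ ?_
  rw [trMap_thetaP, map_sub, E₁.map_F, E₂.map_F, sub_self, map_zero]

/-- the difference cochain of two presented extensions -/
noncomputable def delta (hp : IsSemismallExt p) (E₁ : PExt p D R'₁ h₁) (E₂ : PExt p D R'₂ h₂) :
    σ → B₀ ⊗[k] ↥(RingHom.ker p.toAlgHom) := fun s => (exists_delta hp E₁ E₂ s).choose

theorem epsJ_delta (hp : IsSemismallExt p) (E₁ : PExt p D R'₁ h₁) (E₂ : PExt p D R'₂ h₂) (s : σ) :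
    epsJ p (delta hp E₁ E₂ s) = thetaP P.val C' (E₁.F s - E₂.F s) :=
  (exists_delta hp E₁ E₂ s).choose_spec

theorem delta_cocycle (hp : IsSemismallExt p) (E₁ : PExt p D R'₁ h₁) (E₂ : PExt p D R'₂ h₂)
    (q : CotT.relKer P) :
    ∑ s, MvPolynomial.aeval P.val (relFun (q : CotT.relMod P) s) • delta hp E₁ E₂ s = 0 := by
  have h1 := cochain_sub_cochain E₁.F E₁.map_F hp E₂.F E₂.map_F (delta hp E₁ E₂)
    (epsJ_delta hp E₁ E₂) (relFun (q : CotT.relMod P)) (sum_eq_zero_of_mem_relKer q)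
  have h2 := cochainQ_eq_zero hp E₁ q
  have h3 := cochainQ_eq_zero hp E₂ q
  unfold cochainQ at h2 h3
  rw [h2, h3, sub_zero] at h1
  exact h1.symm

/-- the difference class of two presented extensions -/
noncomputable def tau (hp : IsSemismallExt p) (E₁ : PExt p D R'₁ h₁) (E₂ : PExt p D R'₂ h₂) :
    CotT.T1 P (B₀ ⊗[k] ↥(RingHom.ker p.toAlgHom)) :=
  cls (delta hp E₁ E₂) (delta_cocycle hp E₁ E₂)

theorem delta_add (hp : IsSemismallExt p) (E₁ : PExt p D R'₁ h₁) (E₂ : PExt p D R'₂ h₂)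
    (E₃ : PExt p D R'₃ h₃) (s : σ) :
    delta hp E₁ E₃ s = delta hp E₁ E₂ s + delta hp E₂ E₃ s := by
  apply epsJ_injective p
  rw [map_add, epsJ_delta, epsJ_delta, epsJ_delta, ← map_add]
  congr 1
  ring

theorem tau_add (hp : IsSemismallExt p) (E₁ : PExt p D R'₁ h₁) (E₂ : PExt p D R'₂ h₂)
    (E₃ : PExt p D R'₃ h₃) : tau hp E₁ E₃ = tau hp E₁ E₂ + tau hp E₂ E₃ := by
  unfold tau
  rw [← cls_add (delta hp E₁ E₂) (delta hp E₂ E₃) (delta_cocycle hp E₁ E₂)
    (delta_cocycle hp E₂ E₃) (fun q => by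
      have := delta_cocycle hp E₁ E₃ q
      simp only [delta_add hp E₁ E₂ E₃] at this
      exact this)]
  congr 1
  funext s
  exact delta_add hp E₁ E₂ E₃ s

theorem tau_self (hp : IsSemismallExt p) (E₁ : PExt p D R'₁ h₁) : tau hp E₁ E₁ = 0 := by
  have h := tau_add hp E₁ E₁ E₁
  exact left_eq_add.mp h

theorem tau_eq_tau_of_eq_zero (hp : IsSemismallExt p) (E₁ : PExt p D R'₁ h₁)
    (E₂ : PExt p D R'₂ h₂) (E₃ : PExt p D R'₃ h₃) (h0 : tau hp E₁ E₂ = 0) :
    tau hp E₁ E₃ = tau hp E₂ E₃ := by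
  rw [tau_add hp E₁ E₂ E₃, h0, zero_add]

theorem tau_eq_zero_of_tau_eq_tau (hp : IsSemismallExt p) (E₁ : PExt p D R'₁ h₁)
    (E₂ : PExt p D R'₂ h₂) (E₃ : PExt p D R'₃ h₃) (h0 : tau hp E₁ E₃ = tau hp E₂ E₃) :
    tau hp E₁ E₂ = 0 := by
  rw [tau_add hp E₁ E₂ E₃] at h0
  exact add_eq_right.mp h0

end Basic

end Groth.Agent.H6.TorsAff
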