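import Mathlib
import Groth.Prelude.Def_ArtFun4
import Groth.Prelude.Def_CotT
import Groth.Agent.Lib.Helper6.TorsAff3

/-!
# Extensions of deformations of an affine scheme form a torsor under `T¹`: the difference class
vanishes exactly for equivalent extensions (helper6)
-/

set_option autoImplicit false
universe u
open CategoryTheory ArtFun ArtFun.Art TensorProduct

namespace Groth.Agent.H6.TorsAff

open Groth.Agent.H6.DefAff Groth.Agent.H6.ObsAff

variable {k : Type u} [Field k] {B₀ : Type u} [CommRing B₀] [Algebra k B₀] {ι σ : Type u}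
variable {P : Algebra.Presentation k B₀ ι σ} {C' C : Art k k}
variable [Fintype σ] [Fintype ι] {p : C' ⟶ C} {D : PDef P C}
variable {R'₁ R'₂ : RDef B₀ C'} {h₁ : RDef.HomOver p R'₁ D.R} {h₂ : RDef.HomOver p R'₂ D.R}

theorem ker_mul_ker (hp : IsSemismallExt p) :
    RingHom.ker (p.toAlgHom : C' →+* C) * RingHom.ker (p.toAlgHom : C' →+* C) = ⊥ := by
  refine le_bot_iff.mp ?_
  rw [← hp.2]
  exact Ideal.mul_mono_left (art_ker_le_maximalIdeal p)

theorem mul_eq_zero_of_mem_ker_hom (hp : IsSemismallExt p) (h : RDef.HomOver p R'₂ D.R)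
    (x : R'₂.E) (hx : x ∈ RingHom.ker h.hom) (y : R'₂.E) (hy : y ∈ RingHom.ker h.hom) :
    x * y = 0 := by
  have h1 : x * y ∈ RingHom.ker h.hom * RingHom.ker h.hom := Ideal.mul_mem_mul hx hy
  rw [h.ker_hom hp.1, ← Ideal.map_mul, ker_mul_ker hp, Ideal.map_bot] at h1
  exact h1

theorem redP_pderiv (i : ι) (G : MvPolynomial ι C') :
    redP C' (MvPolynomial.pderiv i G) = MvPolynomial.pderiv i (redP C' G) := by
  unfold redP
  rw [MvPolynomial.pderiv_map]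

theorem thetaP_pderiv_mul (hp : IsSemismallExt p) (E₁ : PExt p D R'₁ h₁) (s : σ) (i : ι)
    (G : MvPolynomial ι C') (hG : mapP p G = 0) :
    thetaP P.val C' (MvPolynomial.pderiv i (E₁.F s) * G) =
      MvPolynomial.aeval P.val (MvPolynomial.pderiv i (P.relation s)) • thetaP P.val C' G := by
  have hw : trMap p (thetaP P.val C' G) = 0 := by rw [trMap_thetaP, hG, map_zero]
  have hred : redP C' (E₁.F s) = P.relation s := E₁.toPDef.red_F s
  rw [map_mul, mul_eq_res_smul p hp _ _ hw, trRes_thetaP, redP_pderiv, hred]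

/-- equivalent extensions have the same class -/
theorem tau_eq_zero_of_hom (hp : IsSemismallExt p) (E₁ : PExt p D R'₁ h₁) (E₂ : PExt p D R'₂ h₂)
    (g : RDef.Hom R'₁ R'₂) (hg : ∀ e, h₂.hom (g.hom e) = h₁.hom e) : tau hp E₁ E₂ = 0 := by
  unfold tau
  rw [cls_eq_zero_iff]
  have hNeq : RingHom.ker h₂.hom = (RingHom.ker (p.toAlgHom : C' →+* C)).map R'₂.toE :=
    h₂.ker_hom hp.1
  set φ₁ : MvPolynomial ι C' →+* R'₂.E := g.hom.comp (evP R'₁ E₁.v) with hφ₁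
  set φ₂ : MvPolynomial ι C' →+* R'₂.E := evP R'₂ E₂.v with hφ₂
  have hφ₁a : ∀ G, φ₁ G = g.hom (evP R'₁ E₁.v G) := fun G => rfl
  have hC : ∀ a, φ₁ (MvPolynomial.C a) = φ₂ (MvPolynomial.C a) := by
    intro a
    rw [hφ₁a, hφ₂, evP_C, evP_C, g.hom_toE]
  have hX : ∀ i, φ₁ (MvPolynomial.X i) - φ₂ (MvPolynomial.X i) ∈ RingHom.ker h₂.hom := by
    intro i
    rw [hφ₁a, hφ₂, evP_X, evP_X, RingHom.mem_ker, map_sub, hg, E₁.h_v, E₂.h_v, sub_self]
  have key := fun G => hom_sub_hom_eq_sum φ₁ φ₂ hC (RingHom.ker h₂.hom)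
    (mul_eq_zero_of_mem_ker_hom hp h₂) hX G
  have hGi : ∀ i, ∃ G : MvPolynomial ι C', mapP p G = 0 ∧
      evP R'₂ E₂.v G = φ₁ (MvPolynomial.X i) - φ₂ (MvPolynomial.X i) := by
    intro i
    have h1 := hX i
    rw [hNeq] at h1
    exact exists_mapP_eq_zero_of_mem R'₂ E₂.v E₂.ev_surjective _ h1
  choose Gi hGi1 hGi2 using hGi
  have ha : ∀ i, ∃ a, epsJ p a = thetaP P.val C' (Gi i) := fun i =>
    exists_epsJ_eq p hp.1 _ (by rw [trMap_thetaP, hGi1, map_zero])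
  choose a ha using ha
  refine ⟨fun i => - a i, fun s => ?_⟩
  apply epsJ_injective p
  rw [epsJ_delta, map_sum]
  have hH : thetaP P.val C' (E₁.F s - E₂.F s +
      ∑ i, MvPolynomial.pderiv i (E₁.F s) * Gi i) = 0 := by
    apply thetaP_eq_zero_of_ev_eq_zero p hp E₂.toPDef
    · rw [map_add, map_sub, E₁.map_F, E₂.map_F, sub_self, zero_add, map_sum]
      exact Finset.sum_eq_zero fun i _ => by rw [map_mul, hGi1, mul_zero]
    · show evP R'₂ E₂.v _ = 0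
      rw [map_add, map_sub, E₂.ev_F, sub_zero, map_sum]
      have h1 := key (E₁.F s)
      have h2 : φ₁ (E₁.F s) = 0 := by rw [hφ₁a, E₁.ev_F, map_zero]
      rw [h2, zero_sub] at h1
      have h3 : ∑ i, evP R'₂ E₂.v (MvPolynomial.pderiv i (E₁.F s) * Gi i) =
          ∑ i, φ₂ (MvPolynomial.pderiv i (E₁.F s)) *
            (φ₁ (MvPolynomial.X i) - φ₂ (MvPolynomial.X i)) :=
        Finset.sum_congr rfl fun i _ => by rw [map_mul, hGi2]
      rw [h3, ← h1]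
      exact add_neg_cancel _
  rw [map_add, map_sum] at hH
  have h4 : thetaP P.val C' (E₁.F s - E₂.F s) =
      - ∑ i, thetaP P.val C' (MvPolynomial.pderiv i (E₁.F s) * Gi i) :=
    eq_neg_of_add_eq_zero_left hH
  rw [h4, ← Finset.sum_neg_distrib]
  refine Finset.sum_congr rfl fun i _ => ?_
  rw [thetaP_pderiv_mul hp E₁ s i _ (hGi1 i), map_smul, map_neg, ha, smul_neg]

/-- extensions with the same class are equivalent -/
theorem exists_hom_of_tau_eq_zero (hp : IsSemismallExt p) (E₁ : PExt p D R'₁ h₁)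
    (E₂ : PExt p D R'₂ h₂) (h0 : tau hp E₁ E₂ = 0) :
    ∃ g : RDef.Hom R'₁ R'₂, ∀ e, h₂.hom (g.hom e) = h₁.hom e := by
  unfold tau at h0
  obtain ⟨a, ha⟩ := (cls_eq_zero_iff _ _).mp h0
  choose Gi hGi1 hGi2 using fun i => exists_thetaP_eq_epsJ P p (a i)
  set w : ι → R'₂.E := fun i => E₂.v i - evP R'₂ E₂.v (Gi i) with hw
  set φ₁ : MvPolynomial ι C' →+* R'₂.E := evP R'₂ w with hφ₁
  set φ₂ : MvPolynomial ι C' →+* R'₂.E := evP R'₂ E₂.v with hφ₂
  have hC : ∀ c, φ₁ (MvPolynomial.C c) = φ₂ (MvPolynomial.C c) := by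
    intro c
    rw [hφ₁, hφ₂, evP_C, evP_C]
  have hXeq : ∀ i, φ₁ (MvPolynomial.X i) - φ₂ (MvPolynomial.X i) = - evP R'₂ E₂.v (Gi i) := by
    intro i
    rw [hφ₁, hφ₂, evP_X, evP_X, hw]
    ring
  have hGker : ∀ i, evP R'₂ E₂.v (Gi i) ∈ RingHom.ker h₂.hom := by
    intro i
    rw [RingHom.mem_ker, E₂.hom_ev, hGi1, map_zero]
  have hX : ∀ i, φ₁ (MvPolynomial.X i) - φ₂ (MvPolynomial.X i) ∈ RingHom.ker h₂.hom := by
    intro i
    rw [hXeq]
    exact Ideal.neg_mem_iff _ |>.mpr (hGker i)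
  have key := fun G => hom_sub_hom_eq_sum φ₁ φ₂ hC (RingHom.ker h₂.hom)
    (mul_eq_zero_of_mem_ker_hom hp h₂) hX G
  have hkill : ∀ s, φ₁ (E₁.F s) = 0 := by
    intro s
    have h1 := key (E₁.F s)
    have h2 : φ₁ (E₁.F s) = evP R'₂ E₂.v (E₁.F s - E₂.F s -
        ∑ i, MvPolynomial.pderiv i (E₁.F s) * Gi i) := by
      rw [map_sub, map_sub, E₂.ev_F, sub_zero, map_sum]
      rw [sub_eq_iff_eq_add] at h1
      rw [h1, add_comm, sub_eq_add_neg]
      congr 1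
      rw [← Finset.sum_neg_distrib]
      refine Finset.sum_congr rfl fun i _ => ?_
      rw [hXeq, map_mul, mul_neg]
    rw [h2]
    apply ev_eq_zero_of_thetaP_eq_zero p hp E₂.toPDef
    · rw [map_sub, map_sub, E₁.map_F, E₂.map_F, sub_self, zero_sub, neg_eq_zero, map_sum]
      exact Finset.sum_eq_zero fun i _ => by rw [map_mul, hGi1, mul_zero]
    · rw [map_sub, ← epsJ_delta hp E₁ E₂ s, ha s, map_sum, map_sum, sub_eq_zero]
      refine Finset.sum_congr rfl fun i _ => ?_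
      rw [thetaP_pderiv_mul hp E₁ s i _ (hGi1 i), map_smul, hGi2]
  have hker : RingHom.ker (evP R'₁ E₁.v) ≤ RingHom.ker φ₁ := by
    have h1 : RingHom.ker (evP R'₁ E₁.v) = Ideal.span (Set.range E₁.F) :=
      E₁.toPDef.ker_ev_eq_span
    rw [h1, Ideal.span_le]
    rintro _ ⟨s, rfl⟩
    exact hkill s
  let g : R'₁.E →+* R'₂.E :=
    RingHom.liftOfSurjective (evP R'₁ E₁.v) E₁.ev_surjective ⟨φ₁, hker⟩
  have hg : ∀ G, g (evP R'₁ E₁.v G) = φ₁ G := fun G =>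
    RingHom.liftOfSurjective_comp_apply (evP R'₁ E₁.v) E₁.ev_surjective ⟨φ₁, hker⟩ G
  have hred : ∀ i, redP C' (Gi i) = 0 := fun i => redP_eq_zero_of_mapP p _ (hGi1 i)
  have hw_pr : ∀ i, R'₂.pr (w i) = P.val i := by
    intro i
    rw [hw]
    show R'₂.pr (E₂.v i - evP R'₂ E₂.v (Gi i)) = _
    rw [map_sub, E₂.pr_v, pr_evP P R'₂ E₂.v E₂.pr_v, hred, map_zero, sub_zero]
  have hw_h : ∀ i, h₂.hom (w i) = D.v i := by
    intro i
    rw [hw]
    show h₂.hom (E₂.v i - evP R'₂ E₂.v (Gi i)) = _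
    rw [map_sub, E₂.h_v, E₂.hom_ev, hGi1, map_zero, sub_zero]
  refine ⟨⟨g, fun c => ?_, fun e => ?_⟩, fun e => ?_⟩
  · rw [← evP_C R'₁ E₁.v c, hg, hφ₁, evP_C]
  · obtain ⟨G, rfl⟩ := E₁.ev_surjective e
    rw [hg, hφ₁, pr_evP P R'₂ w hw_pr G, pr_evP P R'₁ E₁.v E₁.pr_v G]
  · obtain ⟨G, rfl⟩ := E₁.ev_surjective e
    show h₂.hom (g (evP R'₁ E₁.v G)) = _
    rw [hg, hφ₁, E₁.hom_ev, hom_evP R'₂ h₂ w hw_h G]

end Groth.Agent.H6.TorsAff
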