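import Mathlib
import Groth.Prelude.Def_ArtFun4
import Groth.Prelude.Def_CotT
import Groth.Agent.Lib.Helper6.TorsAff4

/-!
# Extensions of deformations of an affine scheme form a torsor under `T¹`: every class is realised
(helper6)
-/

set_option autoImplicit false
universe u
open CategoryTheory ArtFun ArtFun.Art TensorProduct

namespace Groth.Agent.H6.TorsAff

open Groth.Agent.H6.DefAff Groth.Agent.H6.ObsAff

variable {k : Type u} [Field k] {B₀ : Type u} [CommRing B₀] [Algebra k B₀] {ι σ : Type u}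
variable {P : Algebra.Presentation k B₀ ι σ} {C' C : Art k k}
variable [Fintype σ] {p : C' ⟶ C} {D : PDef P C}

theorem cls_congr {M : Type u} [AddCommGroup M] [Module B₀ M] (h h' : σ → M) (e : h = h')
    (hh : ∀ q : CotT.relKer P,
      ∑ s, MvPolynomial.aeval P.val (relFun (q : CotT.relMod P) s) • h s = 0)
    (hh' : ∀ q : CotT.relKer P,
      ∑ s, MvPolynomial.aeval P.val (relFun (q : CotT.relMod P) s) • h' s = 0) :
    cls (P := P) h hh = cls h' hh' := by
  subst e
  rfl

/-- a family of lifted relations all of whose relations lift defines a presented extension -/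
theorem exists_pext_of_true_relations (hp : IsSemismallExt p) (F₂ : σ → MvPolynomial ι C')
    (hF₂ : ∀ s, mapP p (F₂ s) = D.F s)
    (htrue : ∀ q : σ → MvPolynomial ι k, ∑ s, q s * P.relation s = 0 →
      ∃ Q'' : σ → MvPolynomial ι C', (∀ s, redP C' (Q'' s) = q s) ∧ ∑ s, Q'' s * F₂ s = 0) :
    ∃ (R' : RDef B₀ C') (h : RDef.HomOver p R' D.R) (E : PExt p D R' h), E.F = F₂ := by
  haveI := flat_quotient F₂ hF₂ htrue
  set I' : Ideal (MvPolynomial ι C') := Ideal.span (Set.range F₂) with hI'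
  let toE' : C' →+* (MvPolynomial ι C' ⧸ I') := algebraMap C' (MvPolynomial ι C' ⧸ I')
  have htoE' : ∀ a, toE' a = Ideal.Quotient.mk I' (MvPolynomial.C a) := fun a => rfl
  have hflat : toE'.Flat := RingHom.flat_algebraMap_iff.mpr inferInstance
  have hkill : ∀ x ∈ I', (D.ev.comp (mapP p)) x = 0 := by
    intro x hx
    have hle : I' ≤ RingHom.ker (D.ev.comp (mapP p)) := by
      rw [hI', Ideal.span_le]
      rintro _ ⟨s, rfl⟩
      show D.ev (mapP p (F₂ s)) = 0
      rw [hF₂, D.ev_F]
    exact hle hx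
  let q' : (MvPolynomial ι C' ⧸ I') →+* D.R.E := Ideal.Quotient.lift I' (D.ev.comp (mapP p)) hkill
  have hq'mk : ∀ G, q' (Ideal.Quotient.mk I' G) = D.ev (mapP p G) := fun G => rfl
  have hq' : Function.Surjective q' := by
    intro e
    obtain ⟨G, rfl⟩ := D.ev_surjective e
    obtain ⟨G', rfl⟩ := mapP_surjective (ι := ι) p hp.1 G
    exact ⟨Ideal.Quotient.mk I' G', hq'mk G'⟩
  have hqt : ∀ a, q' (toE' a) = D.R.toE (p a) := by
    intro a
    rw [htoE', hq'mk]
    unfold mapP
    rw [MvPolynomial.map_C]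
    exact evP_C D.R D.v _
  have hker : RingHom.ker q' = (RingHom.ker (p.toAlgHom : C' →+* C)).map toE' := by
    refine le_antisymm ?_ ?_
    · intro x hx
      obtain ⟨G, rfl⟩ := Ideal.Quotient.mk_surjective x
      have h1 : D.ev (mapP p G) = 0 := hx
      have h2 : mapP p G ∈ Ideal.span (Set.range D.F) := by
        rw [← D.ker_ev_eq_span]
        exact h1
      obtain ⟨H, hH⟩ := (Ideal.mem_span_range_iff_exists_fun).mp h2
      choose H' hH' using fun s => mapP_surjective (ι := ι) p hp.1 (H s)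
      have h3 : mapP p (G - ∑ s, H' s * F₂ s) = 0 := by
        rw [map_sub, map_sum, ← hH, sub_eq_zero]
        exact Finset.sum_congr rfl fun s _ => by rw [map_mul, hH', hF₂]
      have h4 : G - ∑ s, H' s * F₂ s ∈ (RingHom.ker (p.toAlgHom : C' →+* C)).map
          (MvPolynomial.C : C' →+* MvPolynomial ι C') := by
        rw [← ker_mapP]
        exact h3
      have h5 : Ideal.Quotient.mk I' G = Ideal.Quotient.mk I' (G - ∑ s, H' s * F₂ s) := by
        rw [map_sub, eq_comm, sub_eq_self, Ideal.Quotient.eq_zero_iff_mem]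
        refine Ideal.sum_mem _ fun s _ => ?_
        exact Ideal.mul_mem_left _ _ (Ideal.subset_span ⟨s, rfl⟩)
      rw [h5]
      have h6 := Ideal.mem_map_of_mem (Ideal.Quotient.mk I') h4
      rw [Ideal.map_map] at h6
      exact h6
    · rw [Ideal.map_le_iff_le_comap]
      intro a ha
      rw [Ideal.mem_comap, RingHom.mem_ker, hqt]
      have : p a = 0 := ha
      rw [this, map_zero]
  set R' : RDef B₀ C' := RDef.ofLift p D.R toE' hflat q' hq' hqt hker hp.1 with hR'
  set h : RDef.HomOver p R' D.R := RDef.ofLiftHom p D.R toE' hflat q' hq' hqt hker hp.1 with hh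
  let v : ι → R'.E := fun i => Ideal.Quotient.mk I' (MvPolynomial.X i)
  have hev0 : evP R' v = (Ideal.Quotient.mk I' : MvPolynomial ι C' →+* MvPolynomial ι C' ⧸ I') := by
    apply MvPolynomial.ringHom_ext
    · intro c
      rw [evP_C]
      rfl
    · intro i
      rw [evP_X]
      rfl
  have hev : ∀ G, evP R' v G = (Ideal.Quotient.mk I' G : MvPolynomial ι C' ⧸ I') := fun G =>
    DFunLike.congr_fun hev0 G
  refine ⟨R', h, ⟨v, fun i => ?_, F₂, fun s => ?_, hF₂⟩, rfl⟩
  · show q' (Ideal.Quotient.mk I' (MvPolynomial.X i)) = D.v i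
    rw [hq'mk]
    unfold mapP
    rw [MvPolynomial.map_X]
    exact evP_X D.R D.v i
  · refine (hev (F₂ s)).trans ?_
    exact Ideal.Quotient.eq_zero_iff_mem.mpr (Ideal.subset_span ⟨s, rfl⟩)

variable {R'₁ : RDef B₀ C'} {h₁ : RDef.HomOver p R'₁ D.R}

/-- every class in `T¹` is the difference class of some extension -/
theorem exists_tau_eq (hp : IsSemismallExt p) (E₁ : PExt p D R'₁ h₁)
    (t : CotT.T1 P (B₀ ⊗[k] ↥(RingHom.ker p.toAlgHom))) :
    ∃ (R'₂ : RDef B₀ C') (h₂ : RDef.HomOver p R'₂ D.R) (E₂ : PExt p D R'₂ h₂),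
      tau hp E₂ E₁ = t := by
  obtain ⟨c, hc, rfl⟩ := cls_surjective t
  choose d hd1 hd2 using fun s => exists_thetaP_eq_epsJ P p (c s)
  have hF₂ : ∀ s, mapP p (E₁.F s + d s) = D.F s := by
    intro s
    rw [map_add, E₁.map_F, hd1, add_zero]
  have hz : ∀ q : CotT.relKer P, cochainQ (fun s => E₁.F s + d s) hF₂ hp q = 0 := by
    intro q
    have h1 := cochain_sub_cochain (fun s => E₁.F s + d s) hF₂ hp E₁.F E₁.map_F c
      (fun s => by rw [add_sub_cancel_left, hd2]) (relFun (q : CotT.relMod P))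
      (sum_eq_zero_of_mem_relKer q)
    have h2 := cochainQ_eq_zero hp E₁ q
    unfold cochainQ at h2 ⊢
    rw [h2, sub_zero, hc q] at h1
    exact h1
  obtain ⟨R'₂, h₂, E₂, hE₂⟩ := exists_pext_of_true_relations hp (fun s => E₁.F s + d s) hF₂
    (exists_true_relation (fun s => E₁.F s + d s) hF₂ hp hz)
  refine ⟨R'₂, h₂, E₂, ?_⟩
  unfold tau
  apply cls_congr
  funext s
  apply epsJ_injective p
  rw [epsJ_delta, hE₂, add_sub_cancel_left, hd2]

end Groth.Agent.H6.TorsAff
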