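import Mathlib
import Groth.Prelude.Def_ArtFun4
import Groth.Prelude.Def_CotT
import Groth.Agent.Lib.Helper6.TorsAff5

/-!
# Extensions of deformations of an affine scheme form a torsor under `T¹`: the ring-level
classification (helper6)
-/

set_option autoImplicit false
universe u
open CategoryTheory ArtFun ArtFun.Art TensorProduct

namespace Groth.Agent.H6.TorsAff

open Groth.Agent.H6.DefAff Groth.Agent.H6.ObsAff

variable {k : Type u} [Field k] {B₀ : Type u} [CommRing B₀] [Algebra k B₀] {ι σ : Type u}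
variable (P : Algebra.Presentation k B₀ ι σ) {C' C : Art k k}
variable [Fintype σ] [Fintype ι] {p : C' ⟶ C}

/-- the identity morphism of a ring-level deformation -/
def homId (R' : RDef B₀ C') : RDef.Hom R' R' where
  hom := RingHom.id _
  hom_toE := fun _ => rfl
  pr_hom := fun _ => rfl

/-- classification of the extensions of a ring-level deformation along a semismall extension -/
theorem exists_classification (hp : IsSemismallExt p) (R : RDef B₀ C)
    (hne : Nonempty (Σ R' : RDef B₀ C', RDef.HomOver p R' R)) :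
    ∃ τ : (Σ R' : RDef B₀ C', RDef.HomOver p R' R) →
        CotT.T1 P (B₀ ⊗[k] ↥(RingHom.ker p.toAlgHom)),
      Function.Surjective τ ∧ ∀ x y, τ x = τ y ↔
        ∃ g : RDef.Hom x.1 y.1, ∀ e, y.2.hom (g.hom e) = x.2.hom e := by
  obtain ⟨D, rfl⟩ := exists_pdef P R
  obtain ⟨x₀⟩ := hne
  obtain ⟨E₀⟩ := nonempty_pext hp x₀.1 x₀.2
  have hE : ∀ x : (Σ R' : RDef B₀ C', RDef.HomOver p R' D.R), Nonempty (PExt p D x.1 x.2) :=
    fun x => nonempty_pext hp x.1 x.2
  choose E _ using fun x => (⟨(hE x).some, trivial⟩ : ∃ _ : PExt p D x.1 x.2, True)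
  refine ⟨fun x => tau hp (E x) E₀, ?_, ?_⟩
  · intro t
    obtain ⟨R'₂, h₂, E₂, hE₂⟩ := exists_tau_eq hp E₀ t
    refine ⟨⟨R'₂, h₂⟩, ?_⟩
    show tau hp (E ⟨R'₂, h₂⟩) E₀ = t
    rw [tau_add hp (E ⟨R'₂, h₂⟩) E₂ E₀, hE₂,
      tau_eq_zero_of_hom hp (E ⟨R'₂, h₂⟩) E₂ (homId R'₂) (fun _ => rfl), zero_add]
  · intro x y
    constructor
    · intro h
      exact exists_hom_of_tau_eq_zero hp (E x) (E y) (tau_eq_zero_of_tau_eq_tau hp _ _ _ h)
    · rintro ⟨g, hg⟩
      exact tau_eq_tau_of_eq_zero hp _ _ _ (tau_eq_zero_of_hom hp (E x) (E y) g hg)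

end Groth.Agent.H6.TorsAff
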