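import Mathlib
import Groth.Prelude.Def_ArtFun4
import Groth.Prelude.Def_CotT
import Groth.Agent.Lib.Helper6.DefGlue1

/-!
# Extensions of deformations of an affine scheme: from schemes to rings (helper6)
-/

set_option autoImplicit false
universe u
open CategoryTheory CategoryTheory.Limits AlgebraicGeometry ArtFun ArtFun.Art TensorProduct

namespace Groth.Agent.H6.TorsAff

open Groth.Agent.H6.DefAff

variable {k : Type u} [Field k] {B₀ : Type u} [CommRing B₀] [Algebra k B₀] {C' C : Art k k}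

section General

variable {p : C' ⟶ C}
  {η : DefSch (Spec (CommRingCat.of B₀)) (Spec.map (CommRingCat.ofHom (algebraMap k B₀))) C}
  {η' : DefSch (Spec (CommRingCat.of B₀)) (Spec.map (CommRingCat.ofHom (algebraMap k B₀))) C'}

theorem appTop_toB' (φ : η.total ⟶ η'.total) (hf : φ ≫ η'.f = η.f ≫ specMap p) (c : C') :
    φ.appTop.hom (toB η' c) = toB η (p c) := by
  have h1 : ringOfHom η'.f ≫ φ.appTop =
      CommRingCat.ofHom p.toAlgHom.toRingHom ≫ ringOfHom η.f := by
    rw [ringOfHom, ringOfHom, Category.assoc, ← Scheme.Hom.comp_appTop, hf,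
      Scheme.Hom.comp_appTop, ← Category.assoc, ← Category.assoc]
    congr 1
    exact (Scheme.ΓSpecIso_inv_naturality _).symm
  exact congrArg (fun f => f.hom c) h1

theorem toB₀_appTop' (φ : η.total ⟶ η'.total) (hi : η.i ≫ φ = η'.i) (y : Γ(η'.total, ⊤)) :
    toB₀ η (φ.appTop.hom y) = toB₀ η' y := by
  have h1 : φ.appTop ≫ ringOfHom' η.i = ringOfHom' η'.i := by
    rw [ringOfHom', ringOfHom', ← Category.assoc, ← Scheme.Hom.comp_appTop, hi]
  exact congrArg (fun f => f.hom y) h1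

end General

variable (p : C' ⟶ C)
  (𝒳 : DefSch (Spec (CommRingCat.of B₀)) (Spec.map (CommRingCat.ofHom (algebraMap k B₀))) C)

/-- scheme-level extensions -/
abbrev SPair : Type (u + 1) :=
  Σ 𝒳' : DefSch (Spec (CommRingCat.of B₀)) (Spec.map (CommRingCat.ofHom (algebraMap k B₀))) C',
    (𝒳'.baseChange p).Iso 𝒳

/-- ring-level extensions -/
abbrev RPair : Type (u + 1) := Σ R' : RDef B₀ C', RDef.HomOver p R' (RDef.ofDefSch 𝒳)

variable {p 𝒳}

/-- the morphism from the deformation to its extension -/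
noncomputable def rho (a : SPair p 𝒳) : 𝒳.total ⟶ a.1.total :=
  a.2.iso.inv ≫ pullback.fst a.1.f (specMap p)

theorem rho_f (a : SPair p 𝒳) : rho a ≫ a.1.f = 𝒳.f ≫ specMap p := by
  unfold rho
  rw [Category.assoc, pullback.condition, ← Category.assoc]
  congr 1
  exact a.2.symm.hom_f

theorem i_rho (a : SPair p 𝒳) : 𝒳.i ≫ rho a = a.1.i := by
  unfold rho
  rw [← Category.assoc]
  have h1 : 𝒳.i ≫ a.2.iso.inv = (a.1.baseChange p).i := a.2.symm.i_hom
  rw [h1]
  exact DefSch.baseChange_i_fst _ p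

/-- the ring-level extension of a scheme-level extension -/
noncomputable def toRPair (a : SPair p 𝒳) : RPair p 𝒳 :=
  ⟨RDef.ofDefSch a.1,
    { hom := (rho a).appTop.hom
      hom_toE := fun c => appTop_toB' (rho a) (rho_f a) c
      pr_hom := fun e => toB₀_appTop' (rho a) (i_rho a) e }⟩

theorem toRPair_hom (a : SPair p 𝒳) (e : Γ(a.1.total, ⊤)) :
    (toRPair a).2.hom e = (rho a).appTop.hom e := rfl

/-- equivalent scheme-level extensions give equivalent ring-level extensions -/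
theorem exists_hom_of_rel (a b : SPair p 𝒳) (ψ : a.1.Iso b.1)
    (hψ : ((ψ.baseChange p).trans b.2).iso = a.2.iso) :
    ∃ g : RDef.Hom (toRPair b).1 (toRPair a).1,
      ∀ e, (toRPair a).2.hom (g.hom e) = (toRPair b).2.hom e := by
  have hρ : rho a ≫ ψ.iso.hom = rho b := by
    unfold rho
    have h1 : a.2.iso.inv = b.2.iso.inv ≫ (ψ.baseChange p).iso.inv := by
      rw [← hψ]
      rfl
    have h2 : (ψ.baseChange p).iso.inv ≫ pullback.fst a.1.f (specMap p) =
        pullback.fst b.1.f (specMap p) ≫ ψ.iso.inv :=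
      DefSch.pullMap_fst ψ.iso.inv (ψ.symm.hom_f : ψ.iso.inv ≫ a.1.f = b.1.f) p
    rw [h1, Category.assoc, Category.assoc, ← Category.assoc _ _ ψ.iso.hom, h2, Category.assoc,
      ψ.iso.inv_hom_id, Category.comp_id]
  refine ⟨⟨ψ.iso.hom.appTop.hom, fun c => appTop_toB ψ.iso.hom ψ.hom_f c,
    fun e => toB₀_appTop ψ.iso.hom ψ.i_hom e⟩, fun e => ?_⟩
  show (rho a).appTop.hom (ψ.iso.hom.appTop.hom e) = (rho b).appTop.hom e
  rw [← hρ, Scheme.Hom.comp_appTop]
  rfl

/-- equivalent ring-level extensions come from equivalent scheme-level extensions -/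
theorem exists_rel_of_hom (a b : SPair p 𝒳) (g : RDef.Hom (toRPair b).1 (toRPair a).1)
    (hg : ∀ e, (toRPair a).2.hom (g.hom e) = (toRPair b).2.hom e) :
    ∃ ψ : a.1.Iso b.1, ((ψ.baseChange p).trans b.2).iso = a.2.iso := by
  haveI := isAffine_total a.1
  haveI := isAffine_total b.1
  haveI := isAffine_total 𝒳
  let gC : Γ(b.1.total, ⊤) ⟶ Γ(a.1.total, ⊤) := CommRingCat.ofHom g.hom
  let ψh : a.1.total ⟶ b.1.total :=
    a.1.total.isoSpec.hom ≫ Spec.map gC ≫ b.1.total.isoSpec.inv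
  have h1 : ringOfHom b.1.f ≫ gC = ringOfHom a.1.f := by
    ext c
    exact g.hom_toE c
  have h2 : gC ≫ ringOfHom' a.1.i = ringOfHom' b.1.i := by
    ext e
    exact g.pr_hom e
  have h3 : gC ≫ (rho a).appTop = (rho b).appTop := by
    ext e
    exact hg e
  have hf : ψh ≫ b.1.f = a.1.f := by
    conv_lhs => rw [← isoSpec_hom_SpecMap_ringOfHom b.1.f]
    show (a.1.total.isoSpec.hom ≫ Spec.map gC ≫ b.1.total.isoSpec.inv) ≫
      b.1.total.isoSpec.hom ≫ Spec.map (ringOfHom b.1.f) = _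
    rw [Category.assoc, Category.assoc, Iso.inv_hom_id_assoc, ← Spec.map_comp, h1]
    exact isoSpec_hom_SpecMap_ringOfHom a.1.f
  have hi : a.1.i ≫ ψh = b.1.i := by
    show a.1.i ≫ a.1.total.isoSpec.hom ≫ Spec.map gC ≫ b.1.total.isoSpec.inv = _
    rw [← Category.assoc, ← SpecMap_ringOfHom' a.1.i, ← Category.assoc, ← Spec.map_comp, h2,
      SpecMap_ringOfHom' b.1.i, Category.assoc, Iso.hom_inv_id, Category.comp_id]
  have hρ : rho a ≫ ψh = rho b := by
    show rho a ≫ a.1.total.isoSpec.hom ≫ Spec.map gC ≫ b.1.total.isoSpec.inv = _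
    rw [← Category.assoc, ← Scheme.isoSpec_hom_naturality (rho a), Category.assoc,
      ← Category.assoc (Spec.map _), ← Spec.map_comp, h3, ← Category.assoc,
      Scheme.isoSpec_hom_naturality (rho b), Category.assoc, Iso.hom_inv_id, Category.comp_id]
  haveI : IsIso ψh := isIso_of_hom ψh hf hi
  let ψ : a.1.Iso b.1 := ⟨asIso ψh, hf, hi⟩
  refine ⟨ψ, ?_⟩
  apply Iso.ext
  show DefSch.pullMap ψh hf p ≫ b.2.iso.hom = a.2.iso.hom
  rw [← Iso.eq_comp_inv]
  apply pullback.hom_ext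
  · rw [DefSch.pullMap_fst, Category.assoc]
    have h4 : b.2.iso.inv ≫ pullback.fst b.1.f (specMap p) = rho b := rfl
    rw [h4, ← hρ]
    unfold rho
    rw [Category.assoc, Iso.hom_inv_id_assoc]
  · rw [DefSch.pullMap_snd, Category.assoc]
    have h5 : b.2.iso.inv ≫ pullback.snd b.1.f (specMap p) = 𝒳.f := b.2.symm.hom_f
    rw [h5]
    exact a.2.hom_f.symm

/-- every ring-level extension comes from a scheme-level extension -/
theorem exists_spair (y : RPair p 𝒳) :
    ∃ (a : SPair p 𝒳) (g : RDef.Hom y.1 (toRPair a).1),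
      ∀ e, (toRPair a).2.hom (g.hom e) = y.2.hom e := by
  haveI := isAffine_total 𝒳
  obtain ⟨R', h⟩ := y
  let hC : CommRingCat.of R'.E ⟶ Γ(𝒳.total, ⊤) := CommRingCat.ofHom h.hom
  let φ₁ : 𝒳.total ⟶ R'.toDefSch.total := 𝒳.total.isoSpec.hom ≫ Spec.map hC
  have h1 : CommRingCat.ofHom R'.toE ≫ hC =
      CommRingCat.ofHom p.toAlgHom.toRingHom ≫ ringOfHom 𝒳.f := by
    ext c
    exact h.hom_toE c
  have h2 : hC ≫ ringOfHom' 𝒳.i = CommRingCat.ofHom R'.pr := by
    ext e
    exact h.pr_hom e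
  have hw : φ₁ ≫ R'.toDefSch.f = 𝒳.f ≫ specMap p := by
    show (𝒳.total.isoSpec.hom ≫ Spec.map hC) ≫ Spec.map (CommRingCat.ofHom R'.toE) = _
    rw [Category.assoc, ← Spec.map_comp, h1, Spec.map_comp, ← Category.assoc,
      isoSpec_hom_SpecMap_ringOfHom]
  let φ : 𝒳.total ⟶ (R'.toDefSch.baseChange p).total := pullback.lift φ₁ 𝒳.f hw
  have hf : φ ≫ (R'.toDefSch.baseChange p).f = 𝒳.f := pullback.lift_snd _ _ _
  have hi : 𝒳.i ≫ φ = (R'.toDefSch.baseChange p).i := by
    apply pullback.hom_ext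
    · rw [Category.assoc, pullback.lift_fst, DefSch.baseChange_i_fst]
      show 𝒳.i ≫ 𝒳.total.isoSpec.hom ≫ Spec.map hC = Spec.map (CommRingCat.ofHom R'.pr)
      rw [← Category.assoc, ← SpecMap_ringOfHom' 𝒳.i, ← Spec.map_comp, h2]
    · rw [Category.assoc, pullback.lift_snd, DefSch.i_f]
      exact (pullback.lift_snd _ _ _).symm
  haveI : IsIso φ := isIso_of_hom (η := 𝒳) (η' := R'.toDefSch.baseChange p) φ hf hi
  let e' : 𝒳.Iso (R'.toDefSch.baseChange p) := ⟨asIso φ, hf, hi⟩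
  let a : SPair p 𝒳 := ⟨R'.toDefSch, e'.symm⟩
  have hρ : rho a = φ₁ := by
    show φ ≫ pullback.fst _ _ = φ₁
    exact pullback.lift_fst _ _ _
  let gC : CommRingCat.of R'.E ⟶ Γ(Spec (CommRingCat.of R'.E), ⊤) :=
    (Scheme.ΓSpecIso (CommRingCat.of R'.E)).inv
  refine ⟨a, ⟨gC.hom, fun c => ?_, fun e => ?_⟩, fun e => ?_⟩
  · have h3 : CommRingCat.ofHom R'.toE ≫ gC = ringOfHom R'.toDefSch.f :=
      Scheme.ΓSpecIso_inv_naturality _
    exact congrArg (fun f => f.hom c) h3
  · have h3 : gC ≫ ringOfHom' R'.toDefSch.i = CommRingCat.ofHom R'.pr := by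
      show (Scheme.ΓSpecIso (CommRingCat.of R'.E)).inv ≫
        (Spec.map (CommRingCat.ofHom R'.pr)).appTop ≫ (Scheme.ΓSpecIso _).hom = _
      rw [Scheme.ΓSpecIso_naturality, Iso.inv_hom_id_assoc]
    exact congrArg (fun f => f.hom e) h3
  · have h3 : gC ≫ (rho a).appTop = hC := by
      rw [hρ]
      show (Scheme.ΓSpecIso (CommRingCat.of R'.E)).inv ≫
        (𝒳.total.isoSpec.hom ≫ Spec.map hC).appTop = hC
      rw [Scheme.Hom.comp_appTop, Scheme.isoSpec_hom, Scheme.toSpecΓ_appTop,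
        Scheme.ΓSpecIso_naturality, Iso.inv_hom_id_assoc]
    exact congrArg (fun f => f.hom e) h3

end Groth.Agent.H6.TorsAff
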