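import Mathlib
import Groth.Prelude.Def_ArtFun4
import Groth.Prelude.Def_CotT
import Groth.Agent.Lib.Helper6.TorsAff6
import Groth.Agent.Lib.Helper6.TorsAff7
import Groth.Agent.Lib.Helper6.CotTHom2

/-!
# Extensions of deformations of an affine scheme form a torsor under `T¹`: main theorem (helper6)
-/

set_option autoImplicit false
universe u
open CategoryTheory CategoryTheory.Limits AlgebraicGeometry ArtFun ArtFun.Art TensorProduct

namespace Groth.Agent.H6.TorsAff

open Groth.Agent.H6.DefAff Groth.Agent.H6.ObsAff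

theorem main12294
    (k : Type u) [Field k] (B₀ : Type u) [CommRing B₀] [Algebra k B₀] [Algebra.FiniteType k B₀]
    {C' C : ArtFun.Art k k} (p : C' ⟶ C) (hp : ArtFun.Art.IsSemismallExt p)
    (𝒳 : ArtFun.DefSch (Spec (CommRingCat.of B₀)) (Spec.map (CommRingCat.ofHom (algebraMap k B₀))) C)
    (hne : ∃ 𝒳' : ArtFun.DefSch (Spec (CommRingCat.of B₀)) (Spec.map (CommRingCat.ofHom (algebraMap k B₀))) C', Nonempty ((𝒳'.baseChange p).Iso 𝒳)) :
    Nonempty (Quot (fun a b : (Σ 𝒳' : ArtFun.DefSch (Spec (CommRingCat.of B₀)) (Spec.map (CommRingCat.ofHom (algebraMap k B₀))) C', (𝒳'.baseChange p).Iso 𝒳) =>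
        ∃ ψ : a.1.Iso b.1, ((ψ.baseChange p).trans b.2).iso = a.2.iso) ≃
      CotT.T1 (CotT.canon k B₀) (B₀ ⊗[k] ↥(RingHom.ker p.toAlgHom))) := by
  classical
  haveI : Algebra.FinitePresentation k B₀ := Algebra.FinitePresentation.of_finiteType.mp inferInstance
  let P₀ := Algebra.Presentation.ofFinitePresentation k B₀
  let P : Algebra.Presentation k B₀
      (ULift.{u} (Fin (Algebra.Presentation.ofFinitePresentationVars k B₀)))
      (ULift.{u} (Fin (Algebra.Presentation.ofFinitePresentationRels k B₀))) :=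
    P₀.reindex Equiv.ulift Equiv.ulift
  obtain ⟨𝒳'₀, ⟨e₀⟩⟩ := hne
  have hneR : Nonempty (RPair p 𝒳) := ⟨toRPair ⟨𝒳'₀, e₀⟩⟩
  obtain ⟨τ, hτs, hτ⟩ := exists_classification P hp (RDef.ofDefSch 𝒳) hneR
  obtain ⟨eT⟩ := Groth.Agent.H6.CotTHom.nonempty_T1equiv P (CotT.canon k B₀)
    (B₀ ⊗[k] ↥(RingHom.ker p.toAlgHom))
  let T : SPair p 𝒳 → CotT.T1 P (B₀ ⊗[k] ↥(RingHom.ker p.toAlgHom)) := fun a => τ (toRPair a)
  have hT : ∀ a b : SPair p 𝒳,
      (∃ ψ : a.1.Iso b.1, ((ψ.baseChange p).trans b.2).iso = a.2.iso) → T a = T b := by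
    rintro a b ⟨ψ, hψ⟩
    exact ((hτ (toRPair b) (toRPair a)).mpr (exists_hom_of_rel a b ψ hψ)).symm
  let Tq : Quot (fun a b : SPair p 𝒳 =>
      ∃ ψ : a.1.Iso b.1, ((ψ.baseChange p).trans b.2).iso = a.2.iso) →
      CotT.T1 P (B₀ ⊗[k] ↥(RingHom.ker p.toAlgHom)) := Quot.lift T hT
  have hbij : Function.Bijective Tq := by
    constructor
    · intro x y hxy
      induction x using Quot.ind with | mk a => ?_
      induction y using Quot.ind with | mk b => ?_
      have h1 : τ (toRPair a) = τ (toRPair b) := hxy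
      obtain ⟨g, hg⟩ := (hτ (toRPair b) (toRPair a)).mp h1.symm
      exact Quot.sound (exists_rel_of_hom a b g hg)
    · intro t
      obtain ⟨y, hy⟩ := hτs t
      obtain ⟨a, g, hg⟩ := exists_spair y
      refine ⟨Quot.mk _ a, ?_⟩
      show τ (toRPair a) = t
      rw [← hy]
      exact ((hτ y (toRPair a)).mpr ⟨g, hg⟩).symm
  exact ⟨(Equiv.ofBijective Tq hbij).trans eT.toEquiv⟩

end Groth.Agent.H6.TorsAff
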