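import Mathlib
import Groth.Prelude.Def_SiteCmp

/-! # The torsion subsheaf of an abelian sheaf on a site -/

set_option autoImplicit false
universe u
open CategoryTheory CategoryTheory.Limits Opposite

namespace Groth.Agent.H6.TorsSh

variable {C : Type u} [SmallCategory C] {J : GrothendieckTopology C}

/-- a section is locally torsion. -/
def LocTors (F : Sheaf J AddCommGrpCat.{u}) (U : C) (s : F.obj.obj (op U)) : Prop :=
  ∃ S ∈ J U, ∀ ⦃V : C⦄ (g : V ⟶ U), S g → IsOfFinAddOrder ((F.obj.map g.op).hom s)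

lemma isTorsionSh_iff (F : Sheaf J AddCommGrpCat.{u}) :
    SiteCmp.IsTorsionSh J F ↔ ∀ U s, LocTors F U s := Iff.rfl

lemma map_comp_apply (F : Sheaf J AddCommGrpCat.{u}) {U V W : C} (f : V ⟶ U) (g : W ⟶ V)
    (s : F.obj.obj (op U)) :
    (F.obj.map (g ≫ f).op).hom s = (F.obj.map g.op).hom ((F.obj.map f.op).hom s) := by
  rw [op_comp, Functor.map_comp]
  rfl

lemma locTors_map (F : Sheaf J AddCommGrpCat.{u}) {U V : C} (f : V ⟶ U) (s : F.obj.obj (op U))
    (hs : LocTors F U s) : LocTors F V ((F.obj.map f.op).hom s) := by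
  obtain ⟨S, hS, h⟩ := hs
  refine ⟨S.pullback f, J.pullback_stable f hS, fun W g hg => ?_⟩
  rw [← map_comp_apply]
  exact h (g ≫ f) hg

/-- the subgroup of locally torsion sections. -/
def torsSub (F : Sheaf J AddCommGrpCat.{u}) (U : C) : AddSubgroup (F.obj.obj (op U)) where
  carrier := {s | LocTors F U s}
  zero_mem' := ⟨⊤, J.top_mem U, fun V g _ => by rw [map_zero]; exact IsOfFinAddOrder.zero⟩
  add_mem' := by
    rintro a b ⟨S₁, hS₁, h₁⟩ ⟨S₂, hS₂, h₂⟩
    refine ⟨S₁ ⊓ S₂, J.intersection_covering hS₁ hS₂, fun V g hg => ?_⟩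
    rw [map_add]
    exact (h₁ g hg.1).add (h₂ g hg.2)
  neg_mem' := by
    rintro a ⟨S, hS, h⟩
    refine ⟨S, hS, fun V g hg => ?_⟩
    rw [map_neg]
    exact (h g hg).neg

lemma mem_torsSub (F : Sheaf J AddCommGrpCat.{u}) (U : C) (s : F.obj.obj (op U)) :
    s ∈ torsSub F U ↔ LocTors F U s := Iff.rfl

/-- restriction of locally torsion sections. -/
def torsRes (F : Sheaf J AddCommGrpCat.{u}) {U V : C} (f : V ⟶ U) :
    torsSub F U →+ torsSub F V :=
  ((F.obj.map f.op).hom.comp (torsSub F U).subtype).codRestrict (torsSub F V)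
    (fun s => locTors_map F f s.1 s.2)

@[simp] lemma torsRes_coe (F : Sheaf J AddCommGrpCat.{u}) {U V : C} (f : V ⟶ U)
    (s : torsSub F U) : (torsRes F f s : F.obj.obj (op V)) = (F.obj.map f.op).hom s.1 := rfl

/-- the presheaf of locally torsion sections. -/
def TP (F : Sheaf J AddCommGrpCat.{u}) : Cᵒᵖ ⥤ AddCommGrpCat.{u} where
  obj U := AddCommGrpCat.of (torsSub F U.unop)
  map {U V} f := AddCommGrpCat.ofHom (torsRes F f.unop)
  map_id U := by
    ext s
    change (F.obj.map (𝟙 U)).hom s.1 = s.1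
    rw [F.obj.map_id]
    rfl
  map_comp {U V W} f g := by
    ext s
    change (F.obj.map (f ≫ g)).hom s.1 = (F.obj.map g).hom ((F.obj.map f).hom s.1)
    rw [F.obj.map_comp]
    rfl

/-- the inclusion of presheaves. -/
def TPι (F : Sheaf J AddCommGrpCat.{u}) : TP F ⟶ F.obj where
  app U := AddCommGrpCat.ofHom (torsSub F U.unop).subtype
  naturality U V f := by
    ext s
    rfl

lemma isSheaf_forget (F : Sheaf J AddCommGrpCat.{u}) :
    Presieve.IsSheaf J (F.obj ⋙ forget AddCommGrpCat.{u}) :=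
  (isSheaf_iff_isSheaf_of_type J _).1
    ((Presheaf.isSheaf_iff_isSheaf_forget J F.obj (forget _)).1 F.property)

/-- a section which is locally locally torsion is locally torsion. -/
lemma locTors_of_locally (F : Sheaf J AddCommGrpCat.{u}) (U : C) (s : F.obj.obj (op U))
    (S : Sieve U) (hS : S ∈ J U)
    (h : ∀ ⦃V : C⦄ (g : V ⟶ U), S g → LocTors F V ((F.obj.map g.op).hom s)) : LocTors F U s := by
  refine ⟨Sieve.bind S.arrows (fun V g hg => (h g hg).choose), ?_, ?_⟩
  · exact J.bind_covering hS (fun V g hg => (h g hg).choose_spec.1)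
  · rintro W k ⟨V, a, g, hg, ha, rfl⟩
    rw [map_comp_apply]
    exact (h g hg).choose_spec.2 a ha

/-- view an element of the forgetful presheaf as an element of the subgroup. -/
def toSub (F : Sheaf J AddCommGrpCat.{u}) (V : C)
    (a : (TP F ⋙ forget AddCommGrpCat.{u}).obj (op V)) : torsSub F V := a

/-- view an element of the subgroup as an element of the forgetful presheaf. -/
def ofSub (F : Sheaf J AddCommGrpCat.{u}) (V : C) (a : torsSub F V) :
    (TP F ⋙ forget AddCommGrpCat.{u}).obj (op V) := a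

lemma isSheaf_TP (F : Sheaf J AddCommGrpCat.{u}) : Presheaf.IsSheaf J (TP F) := by
  rw [Presheaf.isSheaf_iff_isSheaf_forget J (TP F) (forget AddCommGrpCat.{u}),
    isSheaf_iff_isSheaf_of_type]
  have hF := isSheaf_forget F
  intro U S hS x hx
  let y : Presieve.FamilyOfElements (F.obj ⋙ forget AddCommGrpCat.{u}) S.arrows :=
    fun V f hf => (toSub F V (x f hf)).1
  have hy : y.Compatible := by
    intro Y₁ Y₂ Z g₁ g₂ f₁ f₂ h₁ h₂ e
    exact congrArg (fun a => (toSub F Z a).1) (hx g₁ g₂ h₁ h₂ e)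
  let t : F.obj.obj (op U) := (hF _ hS).amalgamate y hy
  have ht : ∀ (V : C) (f : V ⟶ U) (hf : S f), (F.obj.map f.op).hom t = y f hf :=
    fun V f hf => (hF _ hS).valid_glue hy f hf
  have htm : LocTors F U t := by
    refine locTors_of_locally F U t S hS (fun V g hg => ?_)
    rw [ht V g hg]
    exact (toSub F V (x g hg)).2
  refine ⟨ofSub F U ⟨t, htm⟩, ?_, ?_⟩
  · intro V f hf
    apply Subtype.ext
    exact ht V f hf
  · intro t' ht'
    apply Subtype.ext
    apply (hF _ hS).isSeparatedFor.ext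
    intro V f hf
    change (F.obj.map f.op).hom (toSub F U t').1 = (F.obj.map f.op).hom t
    rw [ht V f hf]
    exact congrArg (fun a => (toSub F V a).1) (ht' f hf)

/-- the torsion subsheaf. -/
def TObj (F : Sheaf J AddCommGrpCat.{u}) : Sheaf J AddCommGrpCat.{u} := ⟨TP F, isSheaf_TP F⟩

/-- the inclusion of the torsion subsheaf. -/
def εT (F : Sheaf J AddCommGrpCat.{u}) : TObj F ⟶ F := ⟨TPι F⟩

lemma isTorsionSh_TObj (F : Sheaf J AddCommGrpCat.{u}) : SiteCmp.IsTorsionSh J (TObj F) := by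
  intro U s
  obtain ⟨S, hS, h⟩ := (s : torsSub F U).2
  refine ⟨S, hS, fun V g hg => ?_⟩
  have h1 := h g hg
  change IsOfFinAddOrder (torsRes F g s)
  have h2 : IsOfFinAddOrder ((torsRes F g s : (torsSub F V).toAddSubmonoid) :
      F.obj.obj (op V)) := h1
  exact AddSubmonoid.isOfFinAddOrder_coe.1 h2

instance mono_εT (F : Sheaf J AddCommGrpCat.{u}) : Mono (εT F) := by
  rw [Sheaf.Hom.mono_iff_presheaf_mono]
  haveI : ∀ U, Mono ((TPι F).app U) := fun U => by
    rw [AddCommGrpCat.mono_iff_injective]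
    exact Subtype.val_injective
  exact NatTrans.mono_of_mono_app (TPι F)

lemma sheafHom_naturality_apply {G F : Sheaf J AddCommGrpCat.{u}} (ψ : G ⟶ F) {U V : C}
    (g : V ⟶ U) (s : G.obj.obj (op U)) :
    (F.obj.map g.op).hom ((ψ.hom.app (op U)).hom s) =
      (ψ.hom.app (op V)).hom ((G.obj.map g.op).hom s) :=
  (congrArg (fun m => m s) (congrArg AddCommGrpCat.Hom.hom (ψ.hom.naturality g.op))).symm

lemma locTors_image {G F : Sheaf J AddCommGrpCat.{u}} (ψ : G ⟶ F) (U : C)
    (s : G.obj.obj (op U)) (hs : LocTors G U s) : LocTors F U ((ψ.hom.app (op U)).hom s) := by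
  obtain ⟨S, hS, h⟩ := hs
  refine ⟨S, hS, fun V g hg => ?_⟩
  rw [sheafHom_naturality_apply]
  exact (ψ.hom.app (op V)).hom.isOfFinAddOrder (h g hg)

/-- a morphism from a torsion sheaf factors through the torsion subsheaf. -/
def liftT {G F : Sheaf J AddCommGrpCat.{u}} (hG : SiteCmp.IsTorsionSh J G) (ψ : G ⟶ F) :
    G ⟶ TObj F :=
  ⟨{ app := fun U => AddCommGrpCat.ofHom ((ψ.hom.app U).hom.codRestrict (torsSub F U.unop)
        (fun s => locTors_image ψ U.unop s (hG U.unop s)))
     naturality := fun U V f => by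
        ext s
        apply Subtype.ext
        exact (sheafHom_naturality_apply ψ f.unop s).symm }⟩

@[reassoc (attr := simp)]
lemma liftT_εT {G F : Sheaf J AddCommGrpCat.{u}} (hG : SiteCmp.IsTorsionSh J G) (ψ : G ⟶ F) :
    liftT hG ψ ≫ εT F = ψ := by
  ext U s
  rfl

end Groth.Agent.H6.TorsSh
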