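import Groth.Agent.Lib.Helper6.TorsSh1
import Groth.Agent.Lib.Lead.SC.Basic
import Groth.Agent.Lib.Lead.KT.Core

/-! # Torsion abelian sheaves: uniquely divisible sheaves, divisibility of injectives -/

set_option autoImplicit false
universe u
open CategoryTheory CategoryTheory.Limits Opposite

namespace Groth.Agent.H6.TorsSh

variable {C : Type u} [SmallCategory C] {J : GrothendieckTopology C}

/-- evaluation of endomorphisms on sections, as an additive map. -/
def evalHom (G : Sheaf J AddCommGrpCat.{u}) (U : Cᵒᵖ) :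
    (G ⟶ G) →+ (G.obj.obj U →+ G.obj.obj U) :=
  AddMonoidHom.mk' (fun f => (f.hom.app U).hom) (fun f g => rfl)

lemma nsmul_id_apply (G : Sheaf J AddCommGrpCat.{u}) (n : ℕ) (U : Cᵒᵖ) (s : G.obj.obj U) :
    ((n • 𝟙 G : G ⟶ G).hom.app U).hom s = n • s := by
  have h := map_nsmul (evalHom G U) n (𝟙 G)
  have h2 : (evalHom G U (n • 𝟙 G)) s = (n • evalHom G U (𝟙 G)) s := by rw [h]
  exact h2

/-- killed by a positive integer implies torsion. -/
lemma isTorsionSh_of_nsmul_eq_zero (G : Sheaf J AddCommGrpCat.{u}) (n : ℕ) (hn : n ≠ 0)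
    (h : n • 𝟙 G = 0) : SiteCmp.IsTorsionSh J G := by
  intro U s
  refine ⟨⊤, J.top_mem U, fun V g _ => ?_⟩
  rw [isOfFinAddOrder_iff_nsmul_eq_zero]
  refine ⟨n, Nat.pos_of_ne_zero hn, ?_⟩
  rw [← nsmul_id_apply G n (op V), h]
  rfl

/-- a torsion sheaf on which every positive integer is a monomorphism is zero. -/
lemma isZero_of_isTorsionSh_of_mono (G : Sheaf J AddCommGrpCat.{u})
    (hG : SiteCmp.IsTorsionSh J G) (h : ∀ n : ℕ, n ≠ 0 → Mono (n • 𝟙 G)) : IsZero G := by
  have key : ∀ (U : C) (s : G.obj.obj (op U)), s = 0 := by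
    intro U s
    obtain ⟨S, hS, hs⟩ := hG U s
    apply (isSheaf_forget G _ hS).isSeparatedFor.ext
    intro V g hg
    change (G.obj.map g.op).hom s = (G.obj.map g.op).hom 0
    rw [map_zero]
    obtain ⟨n, hn, hn0⟩ := isOfFinAddOrder_iff_nsmul_eq_zero.1 (hs g hg)
    haveI := h n (Nat.pos_iff_ne_zero.1 hn)
    apply Groth.Agent.LD.CH.app_injective_of_mono (n • 𝟙 G) V
    rw [map_zero]
    exact (nsmul_id_apply G n (op V) _).trans hn0
  rw [IsZero.iff_id_eq_zero]
  ext U s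
  exact key U.unop s

open Groth.Agent.LD.SC in
lemma mono_nsmul_id_ZU (U : C) (n : ℕ) (hn : n ≠ 0) : Mono (n • 𝟙 (ZU J U)) := by
  have hTF : Groth.Agent.LD.KT.IsTF (ZU J U) := Groth.Agent.LD.KT.isTF_ZR (yoneda.obj U)
  rw [Sheaf.Hom.mono_iff_presheaf_mono]
  haveI : ∀ V, Mono ((n • 𝟙 (ZU J U) : ZU J U ⟶ ZU J U).hom.app V) := fun V => by
    rw [AddCommGrpCat.mono_iff_injective]
    refine (injective_iff_map_eq_zero
      ((n • 𝟙 (ZU J U) : ZU J U ⟶ ZU J U).hom.app V).hom).mpr (fun s hs => ?_)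
    rw [nsmul_id_apply] at hs
    exact hTF V.unop n s hn hs
  exact NatTrans.mono_of_mono_app _

open Groth.Agent.LD.SC in
/-- injective abelian sheaves are divisible. -/
lemma epi_nsmul_id_of_injective (I : Sheaf J AddCommGrpCat.{u}) [Injective I] (n : ℕ)
    (hn : n ≠ 0) : Epi (n • 𝟙 I) := by
  refine (Sheaf.isLocallySurjective_iff_epi' (φ := (n • 𝟙 I : I ⟶ I))).mp ?_
  constructor
  intro U s
  haveI := mono_nsmul_id_ZU (J := J) U n hn
  let σ : ZU J U ⟶ I := (homEquiv U I).symm s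
  let σ' : ZU J U ⟶ I := Injective.factorThru σ (n • 𝟙 (ZU J U))
  have hσ : (n • 𝟙 (ZU J U)) ≫ σ' = σ := Injective.comp_factorThru σ _
  have hσ2 : σ' ≫ (n • 𝟙 I) = σ := by
    rw [← hσ, Preadditive.nsmul_comp, Preadditive.comp_nsmul, Category.id_comp, Category.comp_id]
  have hs : (n • 𝟙 I : I ⟶ I).hom.app (op U) (homEquiv U I σ') = s := by
    rw [← homEquiv_comp, hσ2]
    exact (homEquiv U I).apply_symm_apply s
  refine J.superset_covering ?_ (J.top_mem U)
  intro V g _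
  refine ⟨I.obj.map g.op (homEquiv U I σ'), ?_⟩
  have hnat := congrArg (fun m => m (homEquiv U I σ'))
    (congrArg AddCommGrpCat.Hom.hom ((n • 𝟙 I : I ⟶ I).hom.naturality g.op))
  refine hnat.trans ?_
  exact congrArg (I.obj.map g.op) hs

end Groth.Agent.H6.TorsSh
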