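import Mathlib
import Groth.Prelude.Def_WeakSerre
import Groth.Agent.Lib.Helper6.KInjG2

/-! # Abstract torsion theory: the quotient of a divisible object by its largest torsion
subobject is uniquely divisible; homology of uniquely divisible complexes -/

set_option autoImplicit false
universe v₁ u₁
open CategoryTheory CategoryTheory.Limits Opposite

namespace Groth.Agent.H6.TorsSh

section Abstract

variable {𝒜 : Type u₁} [Category.{v₁} 𝒜] [Abelian 𝒜] (P : ObjectProperty 𝒜) [P.IsSerreClass]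

omit [P.IsSerreClass] in
lemma nsmul_id_comm {X Y : 𝒜} (f : X ⟶ Y) (n : ℕ) : (n • 𝟙 X) ≫ f = f ≫ (n • 𝟙 Y) := by
  rw [Preadditive.nsmul_comp, Preadditive.comp_nsmul, Category.id_comp, Category.comp_id]

include P in
theorem isIso_nsmul_X₃ (hT4 : ∀ (G : 𝒜) (n : ℕ), n ≠ 0 → n • 𝟙 G = 0 → P G)
    (S : ShortComplex 𝒜) (hS : S.ShortExact) (h₁ : P S.X₁)
    (hdiv : ∀ n : ℕ, n ≠ 0 → Epi (n • 𝟙 S.X₂))
    (hmax : ∀ {E : 𝒜} (e : E ⟶ S.X₂) [Mono e], P E → ∃ l : E ⟶ S.X₁, l ≫ S.f = e)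
    (n : ℕ) (hn : n ≠ 0) : IsIso (n • 𝟙 S.X₃) := by
  haveI := hS.mono_f
  haveI := hS.epi_g
  have hcomm : (n • 𝟙 S.X₂) ≫ S.g = S.g ≫ (n • 𝟙 S.X₃) := nsmul_id_comm S.g n
  -- epi
  haveI hepi : Epi (n • 𝟙 S.X₃) := by
    haveI := hdiv n hn
    haveI : Epi (S.g ≫ (n • 𝟙 S.X₃)) := by rw [← hcomm]; infer_instance
    exact epi_of_epi S.g _
  -- mono
  let e : kernel (S.g ≫ (n • 𝟙 S.X₃)) ⟶ S.X₂ := kernel.ι _
  let p : kernel (S.g ≫ (n • 𝟙 S.X₃)) ⟶ S.X₃ := e ≫ S.g
  have hp : p ≫ (n • 𝟙 S.X₃) = 0 := by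
    change (kernel.ι _ ≫ S.g) ≫ _ = 0
    rw [Category.assoc, kernel.condition]
  have hPk : P (kernel p) := by
    have h0 : (kernel.ι p ≫ e) ≫ S.g = 0 := by
      rw [Category.assoc]; exact kernel.condition p
    let l := hS.exact.lift (kernel.ι p ≫ e) h0
    have hl : l ≫ S.f = kernel.ι p ≫ e := hS.exact.lift_f _ _
    haveI : Mono l := by
      haveI : Mono (l ≫ S.f) := by rw [hl]; infer_instance
      exact mono_of_mono l S.f
    exact P.prop_of_mono l h₁
  have hPi : P (Abelian.image p) := by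
    apply hT4 _ n hn
    have h1 := nsmul_id_comm (Abelian.image.ι p) n
    rw [← cancel_mono (Abelian.image.ι p), zero_comp, h1,
      ← cancel_epi (Abelian.factorThruImage p), comp_zero, ← Category.assoc, Abelian.image.fac]
    exact hp
  have hPE : P (kernel (S.g ≫ (n • 𝟙 S.X₃))) := by
    let S₁ : ShortComplex 𝒜 := ShortComplex.mk (kernel.ι p) (Abelian.factorThruImage p)
      (by rw [← cancel_mono (Abelian.image.ι p)]; simp)
    have hS₁ : S₁.ShortExact := by
      haveI : Mono S₁.f := inferInstanceAs (Mono (kernel.ι p))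
      haveI : Epi S₁.g := inferInstanceAs (Epi (Abelian.factorThruImage p))
      refine ShortComplex.ShortExact.mk ?_
      have hex : (ShortComplex.mk (kernel.ι p) p (kernel.condition p)).Exact :=
        ShortComplex.exact_kernel p
      let φ : S₁ ⟶ ShortComplex.mk (kernel.ι p) p (kernel.condition p) :=
        { τ₁ := 𝟙 _, τ₂ := 𝟙 _, τ₃ := Abelian.image.ι p
          comm₁₂ := by simp [S₁]
          comm₂₃ := by simp [S₁] }
      haveI : Epi φ.τ₁ := inferInstanceAs (Epi (𝟙 _))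
      haveI : IsIso φ.τ₂ := inferInstanceAs (IsIso (𝟙 _))
      haveI : Mono φ.τ₃ := inferInstanceAs (Mono (Abelian.image.ι p))
      exact (ShortComplex.exact_iff_of_epi_of_isIso_of_mono φ).2 hex
    exact P.prop_X₂_of_shortExact hS₁ hPk hPi
  have hp0 : p = 0 := by
    obtain ⟨l, hl⟩ := hmax e hPE
    change e ≫ S.g = 0
    rw [← hl, Category.assoc, S.zero, comp_zero]
  haveI hmono : Mono (n • 𝟙 S.X₃) := by
    refine Preadditive.mono_of_cancel_zero _ (fun {Z} a ha => ?_)
    have hc : pullback.fst a S.g ≫ a = pullback.snd a S.g ≫ S.g := pullback.condition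
    have h1 : pullback.snd a S.g ≫ S.g ≫ (n • 𝟙 S.X₃) = 0 := by
      rw [← Category.assoc, ← hc, Category.assoc, ha, comp_zero]
    have h2 : pullback.snd a S.g ≫ S.g = 0 := by
      have : pullback.snd a S.g = kernel.lift _ (pullback.snd a S.g) h1 ≫ e :=
        (kernel.lift_ι _ _ _).symm
      rw [this, Category.assoc]
      change _ ≫ p = 0
      rw [hp0, comp_zero]
    haveI : Epi (pullback.fst a S.g) := Abelian.epi_pullback_of_epi_g a S.g
    rw [← cancel_epi (pullback.fst a S.g), comp_zero, hc, h2]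
  exact isIso_of_mono_of_epi _

/-- the homology of a complex with terms in `P` is in `P`. -/
lemma prop_homology (K : CochainComplex 𝒜 ℤ) (hK : ∀ n, P (K.X n)) (j : ℤ) :
    P (K.homology j) :=
  P.prop_of_epi (K.homologyπ j) (P.prop_of_mono (K.iCycles j) (hK j))

include P in
/-- a short exact sequence of complexes `0 → K → I → Q → 0` with `K` termwise in `P`, `I` with
homology in `P` and `Q` termwise uniquely divisible: `K → I` is a quasi-isomorphism. -/
theorem quasiIso_f_of_ud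
    (hT3 : ∀ G : 𝒜, P G → (∀ n : ℕ, n ≠ 0 → Mono (n • 𝟙 G)) → IsZero G)
    (S : ShortComplex (CochainComplex 𝒜 ℤ)) (hS : S.ShortExact)
    (h₁ : ∀ n, P (S.X₁.X n)) (h₂ : ∀ j, P (S.X₂.homology j))
    (hud : ∀ (i : ℤ) (n : ℕ), n ≠ 0 → IsIso (n • 𝟙 (S.X₃.X i))) : QuasiIso S.f := by
  apply Groth.Agent.H6.KInjG.quasiIso_f_of_acyclic S hS
  intro j
  rw [HomologicalComplex.exactAt_iff_isZero_homology]
  apply hT3
  · exact P.prop_X₂_of_exact (hS.homology_exact₃ j (j + 1) rfl) (h₂ j)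
      (prop_homology P S.X₁ h₁ (j + 1))
  · intro n hn
    haveI : IsIso (n • 𝟙 S.X₃) := by
      haveI : ∀ i, IsIso ((n • 𝟙 S.X₃ : S.X₃ ⟶ S.X₃).f i) := fun i => by
        have e : (n • 𝟙 S.X₃ : S.X₃ ⟶ S.X₃).f i = n • 𝟙 (S.X₃.X i) := by
          rw [HomologicalComplex.nsmul_f_apply, HomologicalComplex.id_f]
        rw [e]
        exact hud i n hn
      exact HomologicalComplex.Hom.isIso_of_components _
    have e : n • 𝟙 (S.X₃.homology j) =
        (HomologicalComplex.homologyFunctor 𝒜 (ComplexShape.up ℤ) j).map (n • 𝟙 S.X₃) := by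
      rw [Functor.map_nsmul, CategoryTheory.Functor.map_id]
      rfl
    rw [e]
    have hiso : IsIso ((HomologicalComplex.homologyFunctor 𝒜 (ComplexShape.up ℤ) j).map
        (n • 𝟙 S.X₃)) := Functor.map_isIso _ _
    exact @IsIso.mono_of_iso _ _ _ _ _ hiso

end Abstract

end Groth.Agent.H6.TorsSh
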