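import Groth.Agent.Lib.Helper6.TorsSh3
import Groth.Agent.Lib.Helper6.DerAdj1
import Groth.Agent.Lib.Helper6.KInjG6
import Groth.Agent.Lib.Helper6.PushSum5

/-! # `D(P) → D_P(𝒜)` is an equivalence for a Serre class `P` with a torsion-theoretic
coreflection -/

set_option autoImplicit false
universe w w' v u
open CategoryTheory CategoryTheory.Limits Opposite DerivedCategory

namespace Groth.Agent.H6.TorsSh

open Groth.Agent.H6.DerAdj

variable {𝒜 : Type u} [Category.{v} 𝒜] [Abelian 𝒜] [IsGrothendieckAbelian.{v} 𝒜]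
  [HasDerivedCategory.{w} 𝒜]
  (P : ObjectProperty 𝒜) [P.IsSerreClass] [HasDerivedCategory.{w'} P.FullSubcategory]
  {T : 𝒜 ⥤ P.FullSubcategory} (adj : P.ι ⊣ T) [T.Additive]
  (hmono : ∀ F : 𝒜, Mono (adj.counit.app F))
  (hT3 : ∀ G : 𝒜, P G → (∀ n : ℕ, n ≠ 0 → Mono (n • 𝟙 G)) → IsZero G)
  (hT4 : ∀ (G : 𝒜) (n : ℕ), n ≠ 0 → n • 𝟙 G = 0 → P G)
  (hdiv : ∀ I : 𝒜, Injective I → ∀ n : ℕ, n ≠ 0 → Epi (n • 𝟙 I))

include hmono hT3 hT4 hdiv in
/-- the complex-level counit is a quasi-isomorphism at complexes of injectives with homology in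
`P`. -/
theorem quasiIso_counit (I : CochainComplex 𝒜 ℤ) (hI : ∀ n, Injective (I.X n))
    (hP : ∀ j, P (I.homology j)) :
    QuasiIso ((Groth.Agent.LD.DAdj.mapHCAdj adj (ComplexShape.up ℤ)).counit.app I) := by
  let ε := (Groth.Agent.LD.DAdj.mapHCAdj adj (ComplexShape.up ℤ)).counit.app I
  have hεf : ∀ i, ε.f i = adj.counit.app (I.X i) := fun i => rfl
  haveI : ∀ i, Mono (ε.f i) := fun i => by rw [hεf]; exact hmono _
  haveI : Mono ε := HomologicalComplex.mono_of_mono_f ε inferInstance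
  let S : ShortComplex (CochainComplex 𝒜 ℤ) := ShortComplex.mk ε (cokernel.π ε) (cokernel.condition ε)
  have hS : S.ShortExact := by
    haveI : Mono S.f := inferInstanceAs (Mono ε)
    haveI : Epi S.g := inferInstanceAs (Epi (cokernel.π ε))
    exact ShortComplex.ShortExact.mk (ShortComplex.exact_cokernel ε)
  refine quasiIso_f_of_ud P hT3 S hS (fun n => (T.obj (I.X n)).property) hP (fun i n hn => ?_)
  have hSi := hS.map_of_exact (HomologicalComplex.eval 𝒜 (ComplexShape.up ℤ) i)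
  refine isIso_nsmul_X₃ P hT4 _ hSi (T.obj (I.X i)).property
    (fun m hm => hdiv (I.X i) (hI i) m hm) (fun {E} e _ hE => ?_) n hn
  let e' : P.ι.obj ⟨E, hE⟩ ⟶ I.X i := e
  refine ⟨P.ι.map (adj.homEquiv ⟨E, hE⟩ (I.X i) e'), ?_⟩
  change P.ι.map (adj.homEquiv ⟨E, hE⟩ (I.X i) e') ≫ adj.counit.app (I.X i) = e'
  exact (adj.homEquiv_counit _ _ _).symm.trans (Equiv.symm_apply_apply _ _)

include hmono hT3 hT4 hdiv in
theorem main_abstract :
    (WSerre.toDerived P).Full ∧ (WSerre.toDerived P).Faithful ∧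
      ∀ K : DerivedCategory 𝒜, WSerre.cohIn P K ↔ (WSerre.toDerived P).essImage K := by
  haveI : (Gh T).HasRightDerivedFunctor
      (HomotopyCategory.quasiIso 𝒜 (ComplexShape.up ℤ)) := by
    haveI := KInjDS.hasPointwiseRightDerivedFunctor (Gh T)
    infer_instance
  let RT := (Gh T).totalRightDerived Qh (HomotopyCategory.quasiIso 𝒜 (ComplexShape.up ℤ))
  haveI := isRightDerivedFunctor_cx_of_h (Gh T) RT _ (eG T)
    ((Gh T).totalRightDerivedUnit Qh (HomotopyCategory.quasiIso 𝒜 (ComplexShape.up ℤ)))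
  let α := (eG T).hom ≫ unitCx (Gh T) _
    ((Gh T).totalRightDerivedUnit Qh (HomotopyCategory.quasiIso 𝒜 (ComplexShape.up ℤ)))
  let a := derivedAdj adj RT α
  have key : ∀ I : CochainComplex 𝒜 ℤ, I.IsKInjective → (∀ n, Injective (I.X n)) →
      (∀ j, P (I.homology j)) → IsIso (a.counit.app (Q.obj I)) := by
    intro I hI hinj hP
    haveI := hI
    haveI := isIso_unit_app RT α I
    haveI := quasiIso_counit P adj hmono hT3 hT4 hdiv I hinj hP
    haveI : IsIso (Q.map ((Groth.Agent.LD.DAdj.mapHCAdj adj (ComplexShape.up ℤ)).counit.app I)) :=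
      (isIso_Q_map_iff_quasiIso _ _).2 inferInstance
    exact IsIso.of_isIso_fac_left (derivedAdj_counit_fac adj RT α I)
  have hcounit : ∀ X : DerivedCategory 𝒜, WSerre.cohIn P X → IsIso (a.counit.app X) := by
    intro X hX
    obtain ⟨I, f, hI, hf, -, hinj⟩ := Groth.Agent.H6.KInjG.main (Q.objPreimage X)
    haveI : IsIso (Q.map f) := (isIso_Q_map_iff_quasiIso _ f).2 hf
    have e : X ≅ Q.obj I := (Q.objObjPreimageIso X).symm ≪≫ asIso (Q.map f)
    refine (NatTrans.isIso_app_iff_of_iso _ e).2 (key I hI hinj (fun j => ?_))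
    exact P.prop_of_iso ((homologyFunctor 𝒜 j).mapIso e ≪≫ (homologyFunctorFactors 𝒜 j).app I)
      (hX j)
  have hcoh : ∀ Y : DerivedCategory P.FullSubcategory,
      WSerre.cohIn P (P.ι.mapDerivedCategory.obj Y) := by
    intro Y j
    exact P.prop_of_iso ((Groth.Agent.H6.PushSum.homologyMapDerivedNatIso P.ι j).app Y).symm
      ((homologyFunctor P.FullSubcategory j).obj Y).property
  have hrefl : ∀ {Y Y' : DerivedCategory P.FullSubcategory} (f : Y ⟶ Y'),
      IsIso (P.ι.mapDerivedCategory.map f) → IsIso f := by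
    intro Y Y' f hf
    rw [DerivedCategory.isIso_iff]
    intro j
    have h1 : IsIso ((P.ι.mapDerivedCategory ⋙ homologyFunctor 𝒜 j).map f) := by
      change IsIso ((homologyFunctor 𝒜 j).map (P.ι.mapDerivedCategory.map f))
      infer_instance
    have h2 : IsIso ((homologyFunctor P.FullSubcategory j ⋙ P.ι).map f) :=
      (NatIso.isIso_map_iff (Groth.Agent.H6.PushSum.homologyMapDerivedNatIso P.ι j) f).1 h1
    haveI : IsIso (P.ι.map ((homologyFunctor P.FullSubcategory j).map f)) := h2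
    exact isIso_of_reflects_iso _ P.ι
  have hunit : ∀ Y : DerivedCategory P.FullSubcategory, IsIso (a.unit.app Y) := by
    intro Y
    haveI := hcounit _ (hcoh Y)
    apply hrefl
    have h := a.left_triangle_components Y
    have h2 : P.ι.mapDerivedCategory.map (a.unit.app Y) =
        inv (a.counit.app (P.ι.mapDerivedCategory.obj Y)) := IsIso.eq_inv_of_inv_hom_id h
    rw [h2]
    infer_instance
  haveI : IsIso a.unit := NatIso.isIso_of_isIso_app _
  refine ⟨a.fullyFaithfulLOfIsIsoUnit.full, a.fullyFaithfulLOfIsIsoUnit.faithful, fun K => ⟨?_, ?_⟩⟩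
  · intro hK
    haveI := hcounit K hK
    exact ⟨RT.obj K, ⟨asIso (a.counit.app K)⟩⟩
  · rintro ⟨Y, ⟨e⟩⟩ j
    exact P.prop_of_iso ((homologyFunctor 𝒜 j).mapIso e) (hcoh Y j)

end Groth.Agent.H6.TorsSh
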