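import Groth.Agent.Lib.Helper6.TorsSh2
import Groth.Agent.Lib.Helper6.TorsSh4

/-! # S9063: `D(torsion sheaves) → D_tors(Ab(C))` is an equivalence -/

set_option autoImplicit false
universe u
open CategoryTheory CategoryTheory.Limits Opposite DerivedCategory
attribute [local instance] HasDerivedCategory.standard

namespace Groth.Agent.H6.TorsSh

variable {C : Type u} [SmallCategory C] (J : GrothendieckTopology C)

/-- the torsion subsheaf as an object of the full subcategory of torsion sheaves. -/
def TObj' (F : Sheaf J AddCommGrpCat.{u}) : (SiteCmp.torsionSh J).FullSubcategory :=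
  ⟨TObj F, isTorsionSh_TObj F⟩

lemma prop_torsion (G : (SiteCmp.torsionSh J).FullSubcategory) :
    SiteCmp.IsTorsionSh J G.obj := G.property

/-- `Hom(G, F) ≃ Hom(G, F_tors)` for `G` torsion. -/
def homEquivT (G : (SiteCmp.torsionSh J).FullSubcategory) (F : Sheaf J AddCommGrpCat.{u}) :
    ((SiteCmp.torsionSh J).ι.obj G ⟶ F) ≃ (G ⟶ TObj' J F) where
  toFun ψ := ObjectProperty.homMk (liftT (prop_torsion J G) ψ)
  invFun χ := χ.hom ≫ εT F
  left_inv ψ := liftT_εT (prop_torsion J G) ψ
  right_inv χ := by
    apply ObjectProperty.hom_ext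
    have h : liftT (prop_torsion J G) (χ.hom ≫ εT F) ≫ εT F = χ.hom ≫ εT F := liftT_εT _ _
    exact (cancel_mono (εT F)).1 h

lemma homEquivT_naturality (X' X : (SiteCmp.torsionSh J).FullSubcategory)
    (Y : Sheaf J AddCommGrpCat.{u}) (f : X' ⟶ X) (g : (SiteCmp.torsionSh J).ι.obj X ⟶ Y) :
    homEquivT J X' Y ((SiteCmp.torsionSh J).ι.map f ≫ g) = f ≫ homEquivT J X Y g := by
  apply ObjectProperty.hom_ext
  have h : liftT (prop_torsion J X') ((SiteCmp.torsionSh J).ι.map f ≫ g) ≫ εT Y =
      (f.hom ≫ liftT (prop_torsion J X) g) ≫ εT Y := by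
    rw [liftT_εT, Category.assoc, liftT_εT]
    rfl
  exact (cancel_mono (εT Y)).1 h

/-- the torsion subsheaf functor. -/
noncomputable def T : Sheaf J AddCommGrpCat.{u} ⥤ (SiteCmp.torsionSh J).FullSubcategory :=
  Adjunction.rightAdjointOfEquiv (homEquivT J) (homEquivT_naturality J)

/-- the adjunction between the inclusion of torsion sheaves and the torsion subsheaf functor. -/
noncomputable def adjT : (SiteCmp.torsionSh J).ι ⊣ T J :=
  Adjunction.adjunctionOfEquivRight (homEquivT J) (homEquivT_naturality J)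

lemma adjT_counit_app (F : Sheaf J AddCommGrpCat.{u}) : (adjT J).counit.app F = εT F := by
  have h : (adjT J).counit.app F = (homEquivT J (TObj' J F) F).symm (𝟙 _) := by
    simp [adjT]
  rw [h]
  change (𝟙 (TObj' J F) : TObj' J F ⟶ TObj' J F).hom ≫ εT F = εT F
  exact Category.id_comp _

theorem s9063 [(SiteCmp.torsionSh J).IsSerreClass] :
    (WSerre.toDerived (SiteCmp.torsionSh J)).Full ∧
      (WSerre.toDerived (SiteCmp.torsionSh J)).Faithful ∧
      ∀ K : DerivedCategory (Sheaf J AddCommGrpCat.{u}),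
        WSerre.cohIn (SiteCmp.torsionSh J) K ↔
          (WSerre.toDerived (SiteCmp.torsionSh J)).essImage K := by
  haveI : (T J).Additive := (adjT J).right_adjoint_additive
  refine main_abstract (SiteCmp.torsionSh J) (adjT J) (fun F => ?_)
    (fun G hG h => isZero_of_isTorsionSh_of_mono G hG h)
    (fun G n hn h => isTorsionSh_of_nsmul_eq_zero G n hn h)
    (fun I hI n hn => by haveI := hI; exact epi_nsmul_id_of_injective I n hn)
  rw [adjT_counit_app]
  exact mono_εT F

end Groth.Agent.H6.TorsSh
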