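import Mathlib

set_option autoImplicit false
set_option linter.unusedSectionVars false
universe u

namespace Groth.Agent.H6.TripleCover

open PowerSeries

variable {k : Type u} [Field k]

local notation "R" => PowerSeries k
local notation "M" => (Fin 3 → PowerSeries k)

/-- the augmentation R/(X^m) → k for m ≥ 1 -/
noncomputable def cc (m : ℕ) (hm : 1 ≤ m) : (R ⧸ Ideal.span {(X : R) ^ m}) →+* k :=
  Ideal.Quotient.lift _ (constantCoeff : PowerSeries k →+* k) (by
    intro a ha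
    rw [Ideal.mem_span_singleton] at ha
    obtain ⟨b, rfl⟩ := ha
    rw [map_mul, map_pow, constantCoeff_X, zero_pow (by omega), zero_mul])

@[simp] theorem cc_mk (m : ℕ) (hm : 1 ≤ m) (a : R) :
    cc m hm (Ideal.Quotient.mk _ a) = constantCoeff a := rfl

theorem one_eq : (1 : M) = Pi.single 0 1 + Pi.single 1 1 + Pi.single 2 1 := by
  ext i; fin_cases i <;> simp

theorem smul_top_le (m n : ℕ) (hmn : m ≤ n) (S : Submodule R M)
    (e : (M ⧸ S) ≃ₗ[R]
      ((R ⧸ Ideal.span {(X : R) ^ m}) × (R ⧸ Ideal.span {(X : R) ^ n}))) :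
    Ideal.span {(X : R) ^ n} • (⊤ : Submodule R M) ≤ S := by
  rw [Submodule.smul_le]
  intro r hr v _
  rw [Ideal.mem_span_singleton] at hr
  obtain ⟨c, rfl⟩ := hr
  rw [← Submodule.Quotient.mk_eq_zero, ← e.map_eq_zero_iff, Submodule.Quotient.mk_smul, map_smul]
  obtain ⟨q1, q2⟩ := e (Submodule.Quotient.mk v)
  obtain ⟨a, rfl⟩ := Ideal.Quotient.mk_surjective q1
  obtain ⟨b, rfl⟩ := Ideal.Quotient.mk_surjective q2
  ext
  · change (X ^ n * c) • (Ideal.Quotient.mk _ a) = 0
    rw [← Ideal.Quotient.mk_eq_mk, ← Submodule.Quotient.mk_smul, Ideal.Quotient.mk_eq_mk,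
      Ideal.Quotient.eq_zero_iff_mem, Ideal.mem_span_singleton, smul_eq_mul, mul_assoc]
    exact Dvd.dvd.mul_right (pow_dvd_pow _ hmn) _
  · change (X ^ n * c) • (Ideal.Quotient.mk _ b) = 0
    rw [← Ideal.Quotient.mk_eq_mk, ← Submodule.Quotient.mk_smul, Ideal.Quotient.mk_eq_mk,
      Ideal.Quotient.eq_zero_iff_mem, Ideal.mem_span_singleton, smul_eq_mul, mul_assoc]
    exact Dvd.dvd.mul_right dvd_rfl _

/-- final assembly -/
theorem assemble (m n : ℕ) (S : Submodule R M) (h1 : (1 : M) ∈ S)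
    (hn : Ideal.span {(X : R) ^ n} • (⊤ : Submodule R M) ≤ S) (f g : M)
    (G : ∀ v : M, ∃ a b c : R, v = a • 1 + b • f + c • g)
    (K : ∀ a b c : R, a • (1 : M) + b • f + c • g ∈ S ↔ (X : R) ^ m ∣ b ∧ (X : R) ^ n ∣ c) :
    S = Submodule.span R {(1 : M), ((X : R) ^ m) • f} ⊔
      Ideal.span {(X : R) ^ n} • (⊤ : Submodule R M) := by
  apply le_antisymm
  · intro s hs
    obtain ⟨a, b, c, rfl⟩ := G s
    obtain ⟨⟨b', rfl⟩, ⟨c', rfl⟩⟩ := (K a b c).mp hs
    refine Submodule.add_mem_sup ?_ ?_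
    · rw [Submodule.mem_span_pair]
      exact ⟨a, b', by rw [smul_smul, mul_comm]⟩
    · rw [mul_smul]
      exact Submodule.smul_mem_smul (Ideal.mem_span_singleton_self _) Submodule.mem_top
  · refine sup_le ?_ hn
    rw [Submodule.span_le]
    rintro x (rfl | rfl)
    · exact h1
    · have := (K 0 (X ^ m) 0).mpr ⟨dvd_rfl, dvd_zero _⟩
      simpa using this

/-- membership in `R·1 + X M` forces proportional constant coefficients. -/
theorem const_of_mem (f : M)
    (hf : f ∈ Submodule.span R {(1 : M)} ⊔ Ideal.span {(X : R)} • (⊤ : Submodule R M)) :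
    ∃ c : k, ∀ i, constantCoeff (f i) = c := by
  obtain ⟨y, hy, z, hz, rfl⟩ := Submodule.mem_sup.mp hf
  obtain ⟨c, rfl⟩ := Submodule.mem_span_singleton.mp hy
  refine ⟨constantCoeff c, fun i => ?_⟩
  have hz' : ∀ i, constantCoeff (z i) = 0 := by
    intro i
    refine Submodule.smul_induction_on hz ?_ ?_
    · intro r hr v _
      rw [Ideal.mem_span_singleton] at hr
      obtain ⟨c, rfl⟩ := hr
      simp
    · intro x y hx hy
      simp [hx, hy]
  simp [hz' i]


section main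

/-- the target `R/(X^m) × R/(X^n)` -/
abbrev Qt (k : Type u) [Field k] (m n : ℕ) : Type u :=
  (PowerSeries k ⧸ Ideal.span {(X : PowerSeries k) ^ m}) ×
    (PowerSeries k ⧸ Ideal.span {(X : PowerSeries k) ^ n})

/-- the projection `M → Q` -/
noncomputable def proj (m n : ℕ) (S : Submodule R M) (e : (M ⧸ S) ≃ₗ[R] Qt k m n) :
    M →ₗ[R] Qt k m n :=
  e.toLinearMap ∘ₗ S.mkQ

theorem proj_eq_zero_iff (m n : ℕ) (S : Submodule R M) (e : (M ⧸ S) ≃ₗ[R] Qt k m n) (v : M) :
    proj m n S e v = 0 ↔ v ∈ S := by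
  rw [proj, LinearMap.comp_apply, LinearEquiv.coe_coe, e.map_eq_zero_iff, Submodule.mkQ_apply,
    Submodule.Quotient.mk_eq_zero]

theorem proj_surjective (m n : ℕ) (S : Submodule R M) (e : (M ⧸ S) ≃ₗ[R] Qt k m n) :
    Function.Surjective (proj m n S e) :=
  e.surjective.comp (Submodule.mkQ_surjective S)

/-- `Q` is generated by the images of `ε₀, ε₁` as soon as `1 ∈ S`. -/
theorem gen_two (m n : ℕ) (S : Submodule R M) (e : (M ⧸ S) ≃ₗ[R] Qt k m n)
    (h1 : (1 : M) ∈ S) (q : Qt k m n) :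
    ∃ α β : R, q = α • proj m n S e (Pi.single 0 1) + β • proj m n S e (Pi.single 1 1) := by
  obtain ⟨v, rfl⟩ := proj_surjective m n S e q
  have h2 : proj m n S e (Pi.single 2 1) =
      - proj m n S e (Pi.single 0 1) - proj m n S e (Pi.single 1 1) := by
    have := (proj_eq_zero_iff m n S e 1).mpr h1
    rw [one_eq, map_add, map_add] at this
    linear_combination (exp := 1) this
  have hv : v = v 0 • Pi.single 0 1 + v 1 • Pi.single 1 1 + v 2 • Pi.single 2 1 := by
    ext i; fin_cases i <;> simp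
  refine ⟨v 0 - v 2, v 1 - v 2, ?_⟩
  conv_lhs => rw [hv]
  rw [map_add, map_add, map_smul, map_smul, map_smul, h2]
  simp only [smul_sub, sub_smul, smul_neg]
  abel


theorem subsingleton_quot_zero : Subsingleton (R ⧸ Ideal.span {(X : R) ^ 0}) := by
  rw [Ideal.Quotient.subsingleton_iff, pow_zero, Ideal.span_singleton_one]

/-- `X^m ∣ b ↔ mk b = 0` -/
theorem mk_eq_zero_iff (m : ℕ) (b : R) :
    (Ideal.Quotient.mk (Ideal.span {(X : R) ^ m}) b = 0) ↔ (X : R) ^ m ∣ b := by
  rw [Ideal.Quotient.eq_zero_iff_mem, Ideal.mem_span_singleton]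

theorem smul_pair (m n : ℕ) (b c : R) :
    (b • ((1, 0) : Qt k m n) + c • ((0, 1) : Qt k m n)) =
      (Ideal.Quotient.mk _ b, Ideal.Quotient.mk _ c) := by
  have h : ∀ (I : Ideal R) (b : R), b • (1 : R ⧸ I) = Ideal.Quotient.mk I b := by
    intro I b
    change b • Ideal.Quotient.mk I 1 = _
    rw [← Ideal.Quotient.mk_eq_mk, ← Submodule.Quotient.mk_smul, smul_eq_mul, mul_one,
      Ideal.Quotient.mk_eq_mk]
  ext
  · simp [h]
  · simp [h]

/-- the case `n = 0`. -/
theorem case_zero (S : Submodule R M) (e : (M ⧸ S) ≃ₗ[R] Qt k 0 0) :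
    ∃ f g : M, (f ∉ Submodule.span R {(1 : M)} ⊔ Ideal.span {(X : R)} • (⊤ : Submodule R M)) ∧
      (∀ v : M, ∃ a b c : R, v = a • 1 + b • f + c • g) ∧
      (∀ a b c : R, a • (1 : M) + b • f + c • g ∈ S ↔ (X : R) ^ 0 ∣ b ∧ (X : R) ^ 0 ∣ c) := by
  have hsub : Subsingleton (Qt k 0 0) := by
    have := subsingleton_quot_zero (k := k)
    infer_instance
  have hS : ∀ v : M, v ∈ S := fun v => (proj_eq_zero_iff 0 0 S e v).mp (Subsingleton.elim _ _)
  refine ⟨Pi.single 0 1, Pi.single 1 1, ?_, ?_, ?_⟩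
  · intro hf
    obtain ⟨c, hc⟩ := const_of_mem _ hf
    have h0 := hc 0
    have h1 := hc 1
    simp at h0 h1
    rw [← h0] at h1
    exact one_ne_zero h1.symm
  · intro v
    refine ⟨v 2, v 0 - v 2, v 1 - v 2, ?_⟩
    ext i; fin_cases i <;> simp
  · intro a b c
    simp only [pow_zero, one_dvd, and_self, iff_true]
    exact hS _


theorem cc_smul (m : ℕ) (hm : 1 ≤ m) (a : R) (x : R ⧸ Ideal.span {(X : R) ^ m}) :
    cc m hm (a • x) = constantCoeff a * cc m hm x := by
  obtain ⟨y, rfl⟩ := Ideal.Quotient.mk_surjective x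
  have : a • Ideal.Quotient.mk (Ideal.span {(X : R) ^ m}) y =
      Ideal.Quotient.mk (Ideal.span {(X : R) ^ m}) (a * y) := rfl
  rw [this, cc_mk, cc_mk, map_mul]

/-- elements of `X M` project to elements with vanishing augmentation. -/
theorem cc_proj_of_mem (m n : ℕ) (hm : 1 ≤ m) (S : Submodule R M) (e : (M ⧸ S) ≃ₗ[R] Qt k m n)
    (z : M) (hz : z ∈ Ideal.span {(X : R)} • (⊤ : Submodule R M)) :
    cc m hm (proj m n S e z).1 = 0 := by
  refine Submodule.smul_induction_on hz ?_ ?_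
  · intro r hr v _
    rw [Ideal.mem_span_singleton] at hr
    obtain ⟨c, rfl⟩ := hr
    rw [map_smul, Prod.smul_fst, cc_smul]
    simp
  · intro x y hx hy
    rw [map_add, Prod.fst_add, map_add, hx, hy, add_zero]

theorem case_pos (m n : ℕ) (hm : 1 ≤ m) (hn : 1 ≤ n) (S : Submodule R M)
    (e : (M ⧸ S) ≃ₗ[R] Qt k m n) (h1 : (1 : M) ∈ S) :
    ∃ f g : M, (f ∉ Submodule.span R {(1 : M)} ⊔ Ideal.span {(X : R)} • (⊤ : Submodule R M)) ∧
      (∀ v : M, ∃ a b c : R, v = a • 1 + b • f + c • g) ∧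
      (∀ a b c : R, a • (1 : M) + b • f + c • g ∈ S ↔ (X : R) ^ m ∣ b ∧ (X : R) ^ n ∣ c) := by
  obtain ⟨α, β, h10⟩ := gen_two m n S e h1 (1, 0)
  obtain ⟨γ, δ, h01⟩ := gen_two m n S e h1 (0, 1)
  set π := proj m n S e with hπ
  have hπ1 : π 1 = 0 := (proj_eq_zero_iff m n S e 1).mpr h1
  set g₁ : M := α • Pi.single 0 1 + β • Pi.single 1 1 with hg₁
  set g₂ : M := γ • Pi.single 0 1 + δ • Pi.single 1 1 with hg₂
  have hπg₁ : π g₁ = (1, 0) := by rw [hg₁, map_add, map_smul, map_smul, ← h10]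
  have hπg₂ : π g₂ = (0, 1) := by rw [hg₂, map_add, map_smul, map_smul, ← h01]
  -- the determinant is a unit
  set p₀ := cc m hm (π (Pi.single 0 1)).1 with hp₀
  set s₀ := cc n hn (π (Pi.single 0 1)).2 with hs₀
  set p₁ := cc m hm (π (Pi.single 1 1)).1 with hp₁
  set s₁ := cc n hn (π (Pi.single 1 1)).2 with hs₁
  have e1 : constantCoeff α * p₀ + constantCoeff β * p₁ = 1 := by
    have := congrArg (fun q : Qt k m n => cc m hm q.1) h10
    simp only [Prod.fst_add, Prod.smul_fst, map_add, cc_smul, map_one] at this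
    exact this.symm
  have e2 : constantCoeff α * s₀ + constantCoeff β * s₁ = 0 := by
    have := congrArg (fun q : Qt k m n => cc n hn q.2) h10
    simp only [Prod.snd_add, Prod.smul_snd, map_add, cc_smul, map_zero] at this
    exact this.symm
  have e3 : constantCoeff γ * p₀ + constantCoeff δ * p₁ = 0 := by
    have := congrArg (fun q : Qt k m n => cc m hm q.1) h01
    simp only [Prod.fst_add, Prod.smul_fst, map_add, cc_smul, map_zero] at this
    exact this.symm
  have e4 : constantCoeff γ * s₀ + constantCoeff δ * s₁ = 1 := by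
    have := congrArg (fun q : Qt k m n => cc n hn q.2) h01
    simp only [Prod.snd_add, Prod.smul_snd, map_add, cc_smul, map_one] at this
    exact this.symm
  have hΔ0 : constantCoeff (α * δ - β * γ) ≠ 0 := by
    intro h0
    rw [map_sub, map_mul, map_mul] at h0
    have : (constantCoeff α * constantCoeff δ - constantCoeff β * constantCoeff γ) *
        (p₀ * s₁ - p₁ * s₀) = 1 := by
      linear_combination (constantCoeff γ * s₀ + constantCoeff δ * s₁) * e1
        - (constantCoeff γ * p₀ + constantCoeff δ * p₁) * e2 + e4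
    rw [h0, zero_mul] at this
    exact zero_ne_one this
  have hΔu : IsUnit (α * δ - β * γ) := isUnit_iff_constantCoeff.mpr (isUnit_iff_ne_zero.mpr hΔ0)
  obtain ⟨Δ', hΔ'⟩ := hΔu.exists_right_inv
  refine ⟨g₁, g₂, ?_, ?_, ?_⟩
  · intro hf
    obtain ⟨y, hy, z, hz, hyz⟩ := Submodule.mem_sup.mp hf
    obtain ⟨c, rfl⟩ := Submodule.mem_span_singleton.mp hy
    have h2 : π g₁ = π z := by
      rw [← hyz, map_add, map_smul, hπ1, smul_zero, zero_add]
    have h3 := cc_proj_of_mem m n hm S e z hz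
    rw [← hπ, ← h2, hπg₁] at h3
    simp at h3
  · intro v
    refine ⟨v 2, Δ' * ((v 0 - v 2) * δ - (v 1 - v 2) * γ),
      Δ' * (-(v 0 - v 2) * β + (v 1 - v 2) * α), ?_⟩
    funext i; fin_cases i
    · simp [hg₁, hg₂]
      linear_combination (-(v 0 - v 2)) * hΔ'
    · simp [hg₁, hg₂]
      linear_combination (-(v 1 - v 2)) * hΔ'
    · simp [hg₁, hg₂]
  · intro a b c
    rw [← proj_eq_zero_iff m n S e, ← hπ, map_add, map_add, map_smul, map_smul, map_smul, hπ1,
      smul_zero, zero_add, hπg₁, hπg₂, smul_pair, Prod.mk_eq_zero, mk_eq_zero_iff, mk_eq_zero_iff]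


theorem G_aux {A V : Type*} [CommRing A] [AddCommGroup V] [Module A V] (vi vj vl ci ci' cj : A)
    (Ei Ej El : V) (hi : (ci * ci') • Ei = Ei) :
    vi • Ei + vj • Ej + vl • El = vl • (Ei + Ej + El) + (vj - vl) • (Ej - cj • ci' • Ei) +
      ((vi - vl) * ci + (vj - vl) * cj) • ci' • Ei := by
  linear_combination (norm := module) (-(vi - vl)) • hi

theorem case_mixed_aux (n : ℕ) (hn : 1 ≤ n) (S : Submodule R M)
    (e : (M ⧸ S) ≃ₗ[R] Qt k 0 n) (h1 : (1 : M) ∈ S) (i j l : Fin 3) (hij : i ≠ j) (hil : i ≠ l)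
    (hjl : j ≠ l)
    (hone : (1 : M) = Pi.single i 1 + Pi.single j 1 + Pi.single l 1)
    (hdec : ∀ v : M, v = v i • Pi.single i 1 + v j • Pi.single j 1 + v l • Pi.single l 1)
    (hs : cc n hn (proj 0 n S e (Pi.single i 1)).2 ≠ 0) :
    ∃ f g : M, (f ∉ Submodule.span R {(1 : M)} ⊔ Ideal.span {(X : R)} • (⊤ : Submodule R M)) ∧
      (∀ v : M, ∃ a b c : R, v = a • 1 + b • f + c • g) ∧
      (∀ a b c : R, a • (1 : M) + b • f + c • g ∈ S ↔ (X : R) ^ 0 ∣ b ∧ (X : R) ^ n ∣ c) := by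
  have hsub := subsingleton_quot_zero (k := k)
  set π := proj 0 n S e with hπ
  have hπ1 : π 1 = 0 := (proj_eq_zero_iff 0 n S e 1).mpr h1
  obtain ⟨ci, hci⟩ := Ideal.Quotient.mk_surjective (π (Pi.single i 1)).2
  obtain ⟨cj, hcj⟩ := Ideal.Quotient.mk_surjective (π (Pi.single j 1)).2
  rw [← hci, cc_mk] at hs
  have hciu : IsUnit ci := isUnit_iff_constantCoeff.mpr (isUnit_iff_ne_zero.mpr hs)
  obtain ⟨ci', hci'⟩ := hciu.exists_right_inv
  set g : M := ci' • Pi.single i 1 with hg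
  set f : M := Pi.single j 1 - cj • g with hf
  have hsm : ∀ (a y : R), a • Ideal.Quotient.mk (Ideal.span {(X : R) ^ n}) y =
      Ideal.Quotient.mk (Ideal.span {(X : R) ^ n}) (a * y) := fun _ _ => rfl
  have hπg : π g = (0, 1) := by
    ext
    · exact Subsingleton.elim _ _
    · rw [hg, map_smul, Prod.smul_snd, ← hci, hsm, mul_comm, hci', map_one]
  have hπf : π f = 0 := by
    ext
    · exact Subsingleton.elim _ _
    · rw [hf, map_sub, map_smul, hπg, Prod.snd_sub, Prod.smul_snd, ← hcj]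
      change _ - cj • Ideal.Quotient.mk _ 1 = 0
      rw [hsm, mul_one, sub_self]
  refine ⟨f, g, ?_, ?_, ?_⟩
  · intro hmem
    obtain ⟨c, hc⟩ := const_of_mem _ hmem
    have h0 := hc j
    have h1' := hc l
    simp [hf, hg, hij.symm, hjl.symm, hil.symm] at h0 h1'
    rw [← h0] at h1'
    exact one_ne_zero h1'.symm
  · intro v
    refine ⟨v l, v j - v l, (v i - v l) * ci + (v j - v l) * cj, ?_⟩
    have hi : (ci * ci') • (Pi.single i 1 : M) = Pi.single i 1 := by rw [hci', one_smul]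
    conv_lhs => rw [hdec v]
    rw [hone, hf, hg]
    exact G_aux _ _ _ _ _ _ _ _ _ hi
  · intro a b c
    rw [← proj_eq_zero_iff 0 n S e, ← hπ, map_add, map_add, map_smul, map_smul, map_smul, hπ1,
      smul_zero, zero_add, hπf, smul_zero, zero_add, hπg]
    simp only [pow_zero, one_dvd, true_and]
    rw [← mk_eq_zero_iff]
    constructor
    · intro h
      have := congrArg Prod.snd h
      rw [Prod.smul_snd] at this
      change c • Ideal.Quotient.mk _ 1 = 0 at this
      rwa [hsm, mul_one] at this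
    · intro h
      ext
      · exact Subsingleton.elim _ _
      · rw [Prod.smul_snd]
        change c • Ideal.Quotient.mk _ 1 = 0
        rw [hsm, mul_one]
        exact h


theorem case_mixed (n : ℕ) (hn : 1 ≤ n) (S : Submodule R M)
    (e : (M ⧸ S) ≃ₗ[R] Qt k 0 n) (h1 : (1 : M) ∈ S) :
    ∃ f g : M, (f ∉ Submodule.span R {(1 : M)} ⊔ Ideal.span {(X : R)} • (⊤ : Submodule R M)) ∧
      (∀ v : M, ∃ a b c : R, v = a • 1 + b • f + c • g) ∧
      (∀ a b c : R, a • (1 : M) + b • f + c • g ∈ S ↔ (X : R) ^ 0 ∣ b ∧ (X : R) ^ n ∣ c) := by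
  obtain ⟨α, β, h01⟩ := gen_two 0 n S e h1 (0, 1)
  have e4 : constantCoeff α * cc n hn (proj 0 n S e (Pi.single 0 1)).2 +
      constantCoeff β * cc n hn (proj 0 n S e (Pi.single 1 1)).2 = 1 := by
    have := congrArg (fun q : Qt k 0 n => cc n hn q.2) h01
    simp only [Prod.snd_add, Prod.smul_snd, map_add, cc_smul, map_one] at this
    exact this.symm
  by_cases hs : cc n hn (proj 0 n S e (Pi.single 0 1)).2 = 0
  · have hs1 : cc n hn (proj 0 n S e (Pi.single 1 1)).2 ≠ 0 := by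
      intro h
      rw [hs, h, mul_zero, mul_zero, add_zero] at e4
      exact zero_ne_one e4
    refine case_mixed_aux n hn S e h1 1 0 2 (by decide) (by decide) (by decide) ?_ ?_ hs1
    · funext t; fin_cases t <;> simp
    · intro v; funext t; fin_cases t <;> simp
  · refine case_mixed_aux n hn S e h1 0 1 2 (by decide) (by decide) (by decide) ?_ ?_ hs
    · funext t; fin_cases t <;> simp
    · intro v; funext t; fin_cases t <;> simp

theorem main (m n : ℕ) (hmn : m ≤ n) (S : Submodule R M) (h1 : (1 : M) ∈ S)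
    (e : (M ⧸ S) ≃ₗ[R]
      ((R ⧸ Ideal.span {(X : R) ^ m}) × (R ⧸ Ideal.span {(X : R) ^ n}))) :
    Ideal.span {(X : R) ^ n} • (⊤ : Submodule R M) ≤ S ∧
    ∃ f : M,
      f ∉ Submodule.span R {(1 : M)} ⊔ Ideal.span {(X : R)} • (⊤ : Submodule R M) ∧
      S = Submodule.span R {(1 : M), ((X : R) ^ m) • f} ⊔
        Ideal.span {(X : R) ^ n} • (⊤ : Submodule R M) := by
  have hn := smul_top_le m n hmn S e
  refine ⟨hn, ?_⟩
  have key : ∃ f g : M,
      (f ∉ Submodule.span R {(1 : M)} ⊔ Ideal.span {(X : R)} • (⊤ : Submodule R M)) ∧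
      (∀ v : M, ∃ a b c : R, v = a • 1 + b • f + c • g) ∧
      (∀ a b c : R, a • (1 : M) + b • f + c • g ∈ S ↔ (X : R) ^ m ∣ b ∧ (X : R) ^ n ∣ c) := by
    rcases Nat.eq_zero_or_pos n with hn0 | hnpos
    · subst hn0
      obtain rfl : m = 0 := by omega
      exact case_zero S e
    · rcases Nat.eq_zero_or_pos m with hm0 | hmpos
      · subst hm0
        exact case_mixed n hnpos S e h1
      · exact case_pos m n hmpos hnpos S e h1
  obtain ⟨f, g, hF, hG, hK⟩ := key
  exact ⟨f, hF, assemble m n S h1 hn f g hG hK⟩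

end main

end Groth.Agent.H6.TripleCover
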