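import Mathlib
set_option autoImplicit false
universe u

namespace Groth.Agent.H6.TruncPoly
open Polynomial

variable (p : ℕ) [hp : Fact p.Prime] (A : Type u) [CommRing A] [CharP A p]

/-- membership in the monomial ideal `(X0^N, X1^N)` -/
lemma support_of_mem (N : ℕ) (f : MvPolynomial (Fin 2) A)
    (hf : f ∈ Ideal.span ({MvPolynomial.X 0 ^ N, MvPolynomial.X 1 ^ N} : Set (MvPolynomial (Fin 2) A)))
    (m : Fin 2 →₀ ℕ) (hm : MvPolynomial.coeff m f ≠ 0) : N ≤ m 0 ∨ N ≤ m 1 := by
  classical
  rw [Ideal.mem_span_pair] at hf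
  obtain ⟨a, b, rfl⟩ := hf
  by_contra hcon
  push Not at hcon
  apply hm
  rw [MvPolynomial.coeff_add]
  have h0 : MvPolynomial.coeff m (a * MvPolynomial.X 0 ^ N) = 0 := by
    rw [MvPolynomial.X_pow_eq_monomial, MvPolynomial.coeff_mul_monomial', if_neg]
    intro hle
    have := hle 0
    simp at this
    omega
  have h1 : MvPolynomial.coeff m (b * MvPolynomial.X 1 ^ N) = 0 := by
    rw [MvPolynomial.X_pow_eq_monomial, MvPolynomial.coeff_mul_monomial', if_neg]
    intro hle
    have := hle 1
    simp at this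
    omega
  rw [h0, h1, add_zero]

/-- the "additivity defect" -/
noncomputable def D (q : A[X]) : MvPolynomial (Fin 2) A :=
  Polynomial.aeval (MvPolynomial.X 0 + MvPolynomial.X 1 : MvPolynomial (Fin 2) A) q -
    Polynomial.aeval (MvPolynomial.X 0 : MvPolynomial (Fin 2) A) q -
    Polynomial.aeval (MvPolynomial.X 1 : MvPolynomial (Fin 2) A) q

lemma D_add (q r : A[X]) : D A (q + r) = D A q + D A r := by
  simp only [D, map_add]; ring

lemma coeff_D (q : A[X]) (m : Fin 2 →₀ ℕ) (h0 : 1 ≤ m 0) (h1 : 1 ≤ m 1) :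
    MvPolynomial.coeff m (D A q) = ((m 0 + m 1).choose (m 0) : A) * q.coeff (m 0 + m 1) := by
  classical
  induction q using Polynomial.induction_on' with
  | add q r hq hr => rw [D_add, MvPolynomial.coeff_add, hq, hr, Polynomial.coeff_add]; ring
  | monomial n a =>
    simp only [D, Polynomial.aeval_monomial, MvPolynomial.coeff_sub, MvPolynomial.algebraMap_eq,
      MvPolynomial.coeff_C_mul, MvPolynomial.coeff_add_pow, Polynomial.coeff_monomial]
    have e0 : MvPolynomial.coeff m ((MvPolynomial.X 0 : MvPolynomial (Fin 2) A) ^ n) = 0 := by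
      rw [MvPolynomial.X_pow_eq_monomial, MvPolynomial.coeff_monomial, if_neg]
      intro h
      have := DFunLike.congr_fun h 1
      simp at this
      omega
    have e1 : MvPolynomial.coeff m ((MvPolynomial.X 1 : MvPolynomial (Fin 2) A) ^ n) = 0 := by
      rw [MvPolynomial.X_pow_eq_monomial, MvPolynomial.coeff_monomial, if_neg]
      intro h
      have := DFunLike.congr_fun h 0
      simp at this
      omega
    rw [e0, e1]
    by_cases h : m 0 + m 1 = n
    · subst h; simp [mul_comm]
    · rw [if_neg (by rw [Finset.HasAntidiagonal.mem_antidiagonal]; exact h), if_neg (fun h' => h h'.symm)]; simp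

lemma coeff_D_zero (q : A[X]) :
    MvPolynomial.coeff 0 (D A q) = - q.coeff 0 := by
  simp only [D, MvPolynomial.coeff_sub]
  have h : ∀ x : MvPolynomial (Fin 2) A, MvPolynomial.coeff 0 x = MvPolynomial.constantCoeff x :=
    fun x => rfl
  simp only [h]
  have h2 : ∀ x : MvPolynomial (Fin 2) A, MvPolynomial.constantCoeff x = 0 →
      MvPolynomial.constantCoeff (Polynomial.aeval x q) = q.coeff 0 := by
    intro x hx
    rw [Polynomial.aeval_def, Polynomial.hom_eval₂, hx, Polynomial.eval₂_at_zero]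
    simp [Polynomial.coeff_zero_eq_eval_zero]
  rw [h2 _ (by simp), h2 _ (by simp), h2 _ (by simp)]
  ring


lemma exists_choose (n : ℕ) (h2 : 2 ≤ n) (hn : n < p ^ 2) (hnp : n ≠ p) :
    ∃ i, 1 ≤ i ∧ i < n ∧ ¬ p ∣ n.choose i := by
  have hpp := hp.out
  by_cases hd : p ∣ n
  · obtain ⟨m, rfl⟩ := hd
    have hm2 : 2 ≤ m := by
      rcases m with _ | _ | m
      · omega
      · simp at hnp
      · omega
    have hmp : m < p := by
      have : p * m < p * p := by rw [← sq]; exact hn
      exact lt_of_mul_lt_mul_left this (Nat.zero_le _)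
    refine ⟨p, hpp.one_le, ?_, ?_⟩
    · calc p = p * 1 := (mul_one p).symm
        _ < p * m := Nat.mul_lt_mul_of_pos_left (by omega) hpp.pos
    · intro hdvd
      have h := Choose.choose_modEq_choose_mod_mul_choose_div_nat (n := p * m) (k := p) (p := p)
      rw [Nat.mul_mod_right, Nat.mod_self, Nat.choose_zero_right, one_mul,
        Nat.mul_div_cancel_left _ hpp.pos, Nat.div_self hpp.pos, Nat.choose_one_right] at h
      have : p ∣ m := (Nat.modEq_zero_iff_dvd.mp ((h.symm.trans (Nat.modEq_zero_iff_dvd.mpr hdvd))))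
      exact absurd (Nat.le_of_dvd (by omega) this) (by omega)
  · exact ⟨1, le_rfl, by omega, by rwa [Nat.choose_one_right]⟩

lemma part1 (q : A[X]) (hq : q.natDegree < p ^ 2) :
    D A q ∈ Ideal.span ({MvPolynomial.X 0 ^ p ^ 2, MvPolynomial.X 1 ^ p ^ 2} :
        Set (MvPolynomial (Fin 2) A)) ↔
      ∃ a₁ ap : A, q = Polynomial.C a₁ * X + Polynomial.C ap * X ^ p := by
  have hpp := hp.out
  constructor
  · intro hmem
    have key : ∀ n, n ≠ 1 → n ≠ p → q.coeff n = 0 := by
      intro n hn1 hnp
      by_cases hlt : n < p ^ 2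
      · rcases Nat.lt_or_ge n 2 with h2 | h2
        · have h0 : n = 0 := by omega
          subst h0
          by_contra hne
          have := support_of_mem A (p ^ 2) _ hmem 0 (by rw [coeff_D_zero]; simpa using hne)
          have hpos : 0 < p ^ 2 := pow_pos hpp.pos 2
          simp at this
          omega
        · obtain ⟨i, hi1, hin, hnd⟩ := exists_choose p n h2 hlt hnp
          by_contra hne
          set m : Fin 2 →₀ ℕ := Finsupp.single 0 i + Finsupp.single 1 (n - i) with hm
          have hm0 : m 0 = i := by simp [hm]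
          have hm1 : m 1 = n - i := by simp [hm]
          have hc := coeff_D A q m (by omega) (by omega)
          rw [hm0, hm1, show i + (n - i) = n by omega] at hc
          have hu : IsUnit ((n.choose i : ℕ) : A) := (CharP.isUnit_natCast_iff hpp).mpr hnd
          have := support_of_mem A (p ^ 2) _ hmem m (by
            rw [hc]
            intro h0
            exact hne ((hu.mul_right_eq_zero).mp h0))
          rw [hm0, hm1] at this
          omega
      · exact Polynomial.coeff_eq_zero_of_natDegree_lt (by omega)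
    refine ⟨q.coeff 1, q.coeff p, ?_⟩
    ext n
    simp only [Polynomial.coeff_add, Polynomial.coeff_C_mul, Polynomial.coeff_X, Polynomial.coeff_X_pow]
    by_cases h1 : n = 1
    · subst h1
      have : (1 : ℕ) ≠ p := hpp.one_lt.ne
      simp [this]
    · by_cases hnp : n = p
      · subst hnp
        simp [Ne.symm h1]
      · rw [key n h1 hnp]
        simp [h1, hnp, Ne.symm h1]
  · rintro ⟨a₁, ap, rfl⟩
    have : D A (Polynomial.C a₁ * X + Polynomial.C ap * X ^ p) = 0 := by
      simp only [D, map_add, map_mul, Polynomial.aeval_C, Polynomial.aeval_X, map_pow, add_pow_char]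
      ring
    rw [this]
    exact zero_mem _


section part2
variable {A}

lemma mk_eq_aeval (I : Ideal A[X]) (g : A[X]) :
    Ideal.Quotient.mk I g = Polynomial.aeval (Ideal.Quotient.mk I X) g := by
  have := Polynomial.aeval_algHom_apply (Ideal.Quotient.mkₐ A I) X g
  simpa using this.symm

lemma phi_mk (I : Ideal A[X]) (φ : (A[X] ⧸ I) →ₐ[A] (A[X] ⧸ I)) (Y g : A[X])
    (hφ : φ (Ideal.Quotient.mk I X) = Ideal.Quotient.mk I Y) :
    φ (Ideal.Quotient.mk I g) = Ideal.Quotient.mk I (Polynomial.aeval Y g) := by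
  rw [mk_eq_aeval I g, ← Polynomial.aeval_algHom_apply, hφ]
  have := Polynomial.aeval_algHom_apply (Ideal.Quotient.mkₐ A I) Y g
  simpa using this

lemma coeff_one_aeval (a₁ ap : A) (n : ℕ) (hn : 2 ≤ n) (g : A[X]) :
    (Polynomial.aeval (Polynomial.C a₁ * X + Polynomial.C ap * X ^ n) g).coeff 1 = g.coeff 1 * a₁ := by
  obtain ⟨k, rfl⟩ : ∃ k, n = k + 2 := ⟨n - 2, by omega⟩
  set Y : A[X] := Polynomial.C a₁ * X + Polynomial.C ap * X ^ (k + 2) with hY
  have hYX : Y = X * (Polynomial.C a₁ + Polynomial.C ap * X ^ (k + 1)) := by rw [hY]; ring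
  have e1 : g = (g.divX.divX * X + Polynomial.C (g.coeff 1)) * X + Polynomial.C (g.coeff 0) := by
    have h1 := Polynomial.divX_mul_X_add g
    have h2 := Polynomial.divX_mul_X_add g.divX
    rw [Polynomial.coeff_divX] at h2
    rw [h2, h1]
  set H := g.divX.divX
  conv_lhs => rw [e1]
  simp only [map_add, map_mul, Polynomial.aeval_X, Polynomial.aeval_C, Polynomial.algebraMap_eq]
  set W := Polynomial.aeval Y H
  have : (W * Y + Polynomial.C (g.coeff 1)) * Y + Polynomial.C (g.coeff 0)
      = X ^ 2 * (W * (Polynomial.C a₁ + Polynomial.C ap * X ^ (k + 1)) ^ 2)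
        + X * (Polynomial.C (g.coeff 1) * (Polynomial.C a₁ + Polynomial.C ap * X ^ (k + 1)))
        + Polynomial.C (g.coeff 0) := by
    rw [hYX]; ring
  rw [this]
  simp [Polynomial.coeff_X_pow_mul', Polynomial.coeff_X_mul_zero, Polynomial.mul_coeff_zero]

lemma part2 (a₁ ap : A) (I : Ideal A[X]) (hI : I = Ideal.span ({X ^ p ^ 2} : Set A[X]))
    (φ : (A[X] ⧸ I) →ₐ[A] (A[X] ⧸ I))
    (hφ : φ (Ideal.Quotient.mk I X) =
          Ideal.Quotient.mk I (Polynomial.C a₁ * X + Polynomial.C ap * X ^ p)) :
    Function.Bijective φ ↔ IsUnit a₁ := by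
  have hpp := hp.out
  have hp2 : 2 ≤ p := hpp.two_le
  have hN : 2 ≤ p ^ 2 := by nlinarith
  set Y : A[X] := Polynomial.C a₁ * X + Polynomial.C ap * X ^ p with hY
  constructor
  · rintro ⟨-, hsurj⟩
    obtain ⟨z, hz⟩ := hsurj (Ideal.Quotient.mk I X)
    obtain ⟨g, rfl⟩ := Ideal.Quotient.mk_surjective z
    rw [phi_mk I φ Y g hφ, Ideal.Quotient.eq, hI, Ideal.mem_span_singleton'] at hz
    obtain ⟨G, hG⟩ := hz
    have hc := congrArg (fun f => Polynomial.coeff f 1) hG
    simp only [Polynomial.coeff_sub, Polynomial.coeff_X_one] at hc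
    rw [Polynomial.coeff_mul_X_pow', if_neg (by omega), hY, coeff_one_aeval a₁ ap p hp2 g] at hc
    exact IsUnit.of_mul_eq_one _ (by rw [mul_comm]; exact (sub_eq_zero.mp hc.symm))
  · rintro ⟨u, rfl⟩
    set a₁ : A := ↑u
    set b : A := ↑u⁻¹ with hb
    have hab : a₁ * b = 1 := u.mul_inv
    have hsurj : Function.Surjective φ := by
      have hx : ∃ z, φ z = Ideal.Quotient.mk I X := by
        refine ⟨Ideal.Quotient.mk I (Polynomial.C b * X - Polynomial.C (ap * b ^ (p + 1)) * X ^ p), ?_⟩
        rw [phi_mk I φ Y _ hφ, Ideal.Quotient.eq, hI, Ideal.mem_span_singleton']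
        refine ⟨- Polynomial.C (ap * b ^ (p + 1) * ap ^ p), ?_⟩
        simp only [map_sub, map_mul, Polynomial.aeval_X, Polynomial.aeval_C, map_pow,
          Polynomial.algebraMap_eq, hY, add_pow_char, mul_pow]
        have h : (Polynomial.C a₁ : A[X]) * Polynomial.C b = 1 := by
          rw [← Polynomial.C_mul, hab, Polynomial.C_1]
        have h' : (Polynomial.C a₁ : A[X]) ^ p * Polynomial.C b ^ p = 1 := by
          rw [← mul_pow, h, one_pow]
        linear_combination (-X) * h + (Polynomial.C ap * Polynomial.C b * X ^ p) * h'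
      obtain ⟨z, hz⟩ := hx
      intro w
      obtain ⟨f, rfl⟩ := Ideal.Quotient.mk_surjective w
      refine ⟨Polynomial.aeval z f, ?_⟩
      rw [← Polynomial.aeval_algHom_apply, hz, ← mk_eq_aeval]
    have : Module.Finite A (A[X] ⧸ I) := by
      rw [hI]
      exact (Polynomial.monic_X_pow (R := A) (p ^ 2)).finite_adjoinRoot
    exact ⟨OrzechProperty.injective_of_surjective_endomorphism φ.toLinearMap hsurj, hsurj⟩

end part2

end Groth.Agent.H6.TruncPoly
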