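import Mathlib

/-! Descent of unique factorization along a faithfully flat map to a local UFD. -/

set_option autoImplicit false
set_option linter.style.haveILetI false
universe u

namespace Groth.Agent.H6.UFDDescent

open Module in
/-- colon ideals commute with flat base change (elementwise form, via the equational criterion) -/
theorem mem_map_colon {R R' : Type u} [CommRing R] [CommRing R'] [Algebra R R'] [Module.Flat R R']
    (a b : R) (p : Ideal R) (hp : ∀ x : R, x * b ∈ Ideal.span {a} → x ∈ p)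
    (y z : R') (h : y * algebraMap R R' b = z * algebraMap R R' a) :
    y ∈ p.map (algebraMap R R') := by
  have hrel : ∑ i : Fin 2, (![b, -a] i) • (![y, z] i) = (0 : R') := by
    simp only [Fin.sum_univ_two, Matrix.cons_val_zero, Matrix.cons_val_one, Algebra.smul_def,
      map_neg]
    linear_combination h
  obtain ⟨k, c, w, hc, hw⟩ := Module.Flat.isTrivialRelation_of_sum_smul_eq_zero
    (R := R) (M := R') (f := ![b, -a]) (x := ![y, z]) (by convert hrel)
  have hy : y = ∑ j, c 0 j • w j := hc 0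
  rw [hy]
  refine Ideal.sum_mem _ fun j _ => ?_
  rw [Algebra.smul_def]
  refine Ideal.mul_mem_right _ _ (Ideal.mem_map_of_mem _ (hp _ ?_))
  have := hw j
  simp only [Fin.sum_univ_two, Matrix.cons_val_zero, Matrix.cons_val_one] at this
  rw [Ideal.mem_span_singleton']
  exact ⟨c 1 j, by linear_combination -this⟩

/-- in a UFD (more generally a GCD domain) colon ideals of principal ideals are principal -/
theorem exists_colon_eq {S : Type u} [CommRing S] [IsDomain S] [UniqueFactorizationMonoid S]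
    (a b : S) (ha : a ≠ 0) : ∃ a₁ : S, ∀ y : S, (∃ z, y * b = z * a) ↔ a₁ ∣ y := by
  classical
  letI : GCDMonoid S := UniqueFactorizationMonoid.toGCDMonoid S
  obtain ⟨a₁, b₁, g, ha₁, hb₁, hunit⟩ : ∃ a₁ b₁ g : S, a = g * a₁ ∧ b = g * b₁ ∧ IsUnit (gcd a₁ b₁) := by
    obtain ⟨a₁, b₁, h1, h2, h3⟩ := extract_gcd a b
    exact ⟨a₁, b₁, gcd a b, h1, h2, h3⟩
  have hg : g ≠ 0 := by rintro rfl; exact ha (by rw [ha₁, zero_mul])
  refine ⟨a₁, fun y => ⟨?_, ?_⟩⟩
  · rintro ⟨z, hz⟩
    have h1 : y * b₁ = z * a₁ := by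
      apply mul_left_cancel₀ hg
      rw [ha₁, hb₁] at hz
      linear_combination hz
    have h2 : a₁ ∣ y * b₁ := ⟨z, by rw [h1, mul_comm]⟩
    exact (IsRelPrime.dvd_of_dvd_mul_right ((gcd_isUnit_iff_isRelPrime).mp hunit) h2)
  · rintro ⟨t, rfl⟩
    exact ⟨t * b₁, by rw [ha₁, hb₁]; ring⟩


theorem main (R R' : Type u) [CommRing R] [CommRing R'] [IsDomain R] [IsDomain R']
    [IsNoetherianRing R] [IsLocalRing R'] [Algebra R R'] [Module.FaithfullyFlat R R']
    [UniqueFactorizationMonoid R'] : UniqueFactorizationMonoid R := by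
  classical
  rw [UniqueFactorizationMonoid.iff_exists_prime_mem_of_isPrime]
  intro q hq0 hq
  have hinj : Function.Injective (algebraMap R R') := FaithfulSMul.algebraMap_injective R R'
  obtain ⟨a, haq, ha0⟩ := Submodule.exists_mem_ne_zero_of_ne_bot hq0
  obtain ⟨p, hpmin, hpq⟩ := Ideal.exists_minimalPrimes_le
    (show Ideal.span {a} ≤ q from (Ideal.span_singleton_le_iff_mem _).mpr haq)
  haveI hpprime : p.IsPrime := hpmin.1.1
  have hap : a ∈ p := hpmin.1.2 (Ideal.mem_span_singleton_self a)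
  -- `p` is an associated prime of `R/(a)`
  have hass : p ∈ associatedPrimes R (R ⧸ Ideal.span {a}) := by
    apply Module.associatedPrimes.minimalPrimes_annihilator_subset_associatedPrimes
    rw [Ideal.annihilator_quotient]
    exact hpmin
  obtain ⟨-, m, hm⟩ := (isAssociatedPrime_iff).mp hass
  obtain ⟨b, rfl⟩ := Ideal.Quotient.mk_surjective m
  have hcolon : ∀ x : R, x * b ∈ Ideal.span {a} → x ∈ p := by
    intro x hx
    rw [hm, Submodule.mem_colon_singleton, Submodule.mem_bot]
    change x • Ideal.Quotient.mk (Ideal.span {a}) b = 0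
    rw [Algebra.smul_def, Ideal.Quotient.algebraMap_eq, ← map_mul]
    exact Ideal.Quotient.eq_zero_iff_mem.mpr hx
  have hcolon' : ∀ x ∈ p, x * b ∈ Ideal.span {a} := by
    intro x hx
    rw [hm, Submodule.mem_colon_singleton, Submodule.mem_bot] at hx
    change x • Ideal.Quotient.mk (Ideal.span {a}) b = 0 at hx
    rw [Algebra.smul_def, Ideal.Quotient.algebraMap_eq, ← map_mul] at hx
    exact Ideal.Quotient.eq_zero_iff_mem.mp hx
  -- the extension of `p` to `R'` is principal
  obtain ⟨a₁, ha₁⟩ := exists_colon_eq (algebraMap R R' a) (algebraMap R R' b)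
    (by rwa [Ne, map_eq_zero_iff _ hinj])
  have hmap : ∀ y : R', y ∈ p.map (algebraMap R R') ↔ a₁ ∣ y := by
    intro y
    rw [← ha₁]
    constructor
    · intro hy
      refine Submodule.span_induction ?_ ?_ ?_ ?_ hy
      · rintro _ ⟨x, hx, rfl⟩
        obtain ⟨c, hc⟩ := Ideal.mem_span_singleton'.mp (hcolon' x hx)
        exact ⟨algebraMap R R' c, by rw [← map_mul, ← map_mul, hc]⟩
      · exact ⟨0, by simp⟩
      · rintro u v _ _ ⟨z, hz⟩ ⟨z', hz'⟩
        exact ⟨z + z', by rw [add_mul, add_mul, hz, hz']⟩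
      · rintro c u _ ⟨z, hz⟩
        exact ⟨c * z, by rw [smul_eq_mul, mul_assoc, mul_assoc, hz]⟩
    · rintro ⟨z, hz⟩
      exact mem_map_colon a b p hcolon y z hz
  -- a₁ ≠ 0
  have ha₁0 : a₁ ≠ 0 := by
    rintro rfl
    have h1 : algebraMap R R' a ∈ p.map (algebraMap R R') := Ideal.mem_map_of_mem _ hap
    rw [hmap, zero_dvd_iff, map_eq_zero_iff _ hinj] at h1
    exact ha0 h1
  -- a generator of `p` whose image generates the extension
  have ha₁mem : a₁ ∈ p.map (algebraMap R R') := (hmap a₁).mpr dvd_rfl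
  obtain ⟨x, hxp, hxa, hax⟩ : ∃ x ∈ p, algebraMap R R' x ∣ a₁ ∧ a₁ ∣ algebraMap R R' x := by
    by_contra hcon
    push_neg at hcon
    have hle : p.map (algebraMap R R') ≤ Ideal.span {a₁} * IsLocalRing.maximalIdeal R' := by
      rw [Ideal.map_le_iff_le_comap]
      intro x hx
      rw [Ideal.mem_comap]
      obtain ⟨d, hd⟩ := (hmap _).mp (Ideal.mem_map_of_mem (algebraMap R R') hx)
      rw [hd]
      refine Ideal.mul_mem_mul (Ideal.mem_span_singleton_self a₁) ?_
      rw [IsLocalRing.mem_maximalIdeal, mem_nonunits_iff]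
      intro hu
      refine hcon x hx ?_ ⟨d, hd⟩
      obtain ⟨u, rfl⟩ := hu
      exact ⟨(↑u⁻¹ : R'), by rw [hd, mul_assoc, Units.mul_inv, mul_one]⟩
    obtain ⟨m, hm, hma⟩ := Ideal.mem_span_singleton_mul.mp (hle ha₁mem)
    have hm1 : m = 1 := by
      apply mul_left_cancel₀ ha₁0
      rw [hma, mul_one]
    rw [hm1] at hm
    exact (IsLocalRing.maximalIdeal.isMaximal R').ne_top ((Ideal.eq_top_iff_one _).mpr hm)
  have hpx : p = Ideal.span {x} := by
    have h1 : p.map (algebraMap R R') = (Ideal.span {x}).map (algebraMap R R') := by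
      rw [Ideal.map_span, Set.image_singleton]
      ext y
      rw [hmap, Ideal.mem_span_singleton]
      exact ⟨fun h => hxa.trans h, fun h => hax.trans h⟩
    rw [← Ideal.comap_map_eq_self_of_faithfullyFlat (B := R') p, h1,
      Ideal.comap_map_eq_self_of_faithfullyFlat]
  have hx0 : x ≠ 0 := by
    rintro rfl
    rw [hpx, Ideal.mem_span_singleton, zero_dvd_iff] at hap
    exact ha0 hap
  refine ⟨x, hpq hxp, ?_⟩
  rw [← Ideal.span_singleton_prime hx0, ← hpx]
  exact hpprime

end Groth.Agent.H6.UFDDescent
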