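import Mathlib
import Groth.Prelude.Def_Pi1
import Groth.Agent.Lib.Helper6.NZ10
import Groth.Agent.Lib.Helper6.UnrNormalAlg
import Groth.Agent.Lib.Helper6.PurePairMain

/-! S0288: the normalization of a normal integral scheme in a finite extension of its function
field is étale (and finite) as soon as it is unramified. -/

set_option autoImplicit false
set_option linter.style.haveILetI false
set_option linter.unusedSectionVars false
universe u
open CategoryTheory CategoryTheory.Limits AlgebraicGeometry TopologicalSpace

namespace Groth.Agent.H6.UnrNormalGeo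

section

variable {X : Scheme.{u}} [IsIntegral X] {L : Type u} [Field L] [Algebra X.functionField L]
  (g : Spec (CommRingCat.of L) ⟶ X)
  (hg : g = Spec.map (CommRingCat.ofHom (algebraMap X.functionField L)) ≫
    X.fromSpecStalk (genericPoint X))

include hg in
theorem app_injective (W : X.Opens) (hξ : genericPoint X ∈ W) :
    Function.Injective (g.app W).hom := by
  let ψ : X.presheaf.stalk (genericPoint X) ⟶ CommRingCat.of L :=
    CommRingCat.ofHom (algebraMap X.functionField L)
  have h1 := Groth.Agent.H6.NZ.app_secIso ψ g hg W hξ
  have h2 : Function.Injective (X.presheaf.germ W (genericPoint X) hξ ≫ ψ).hom := by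
    rw [CommRingCat.hom_comp]
    exact (algebraMap X.functionField L).injective.comp
      (germ_injective_of_isIntegral X (genericPoint X) hξ)
  rw [← h1, CommRingCat.hom_comp, RingHom.coe_comp] at h2
  exact Function.Injective.of_comp h2

include hg in
theorem isDomain_sections (W : X.Opens) (hξ : genericPoint X ∈ W) :
    IsDomain Γ(Spec (CommRingCat.of L), g ⁻¹ᵁ W) := by
  let ψ : X.presheaf.stalk (genericPoint X) ⟶ CommRingCat.of L :=
    CommRingCat.ofHom (algebraMap X.functionField L)
  let e : Γ(Spec (CommRingCat.of L), g ⁻¹ᵁ W) ≃+* L :=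
    (Groth.Agent.H6.NZ.secIso ψ g hg W hξ).commRingCatIsoToRingEquiv
  exact e.toMulEquiv.isDomain L

include hg in
theorem app_etale (hX : Pi1.IsNormalScheme X) [QuasiCompact g] [QuasiSeparated g]
    [FormallyUnramified g.fromNormalization] [LocallyOfFiniteType g.fromNormalization]
    (W : X.Opens) (hW : IsAffineOpen W) : (g.fromNormalization.app W).hom.Etale := by
  by_cases hξ : genericPoint X ∈ W
  · haveI hne : Nonempty W := ⟨⟨_, hξ⟩⟩
    haveI : IsIntegrallyClosed Γ(X, W) :=
      (Groth.Agent.H5.AG.isNormalScheme_iff_affine X).1 hX W hW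
    haveI : IsDomain Γ(X, W) := inferInstance
    letI alg : Algebra Γ(X, W) Γ(Spec (CommRingCat.of L), g ⁻¹ᵁ W) := (g.app W).hom.toAlgebra
    haveI : IsDomain Γ(Spec (CommRingCat.of L), g ⁻¹ᵁ W) := isDomain_sections g hg W hξ
    have hinj : Function.Injective (algebraMap Γ(X, W)
        (integralClosure Γ(X, W) Γ(Spec (CommRingCat.of L), g ⁻¹ᵁ W))) := by
      intro a b hab
      apply app_injective g hg W hξ
      exact congrArg Subtype.val hab
    have hν := g.fromNormalization_app hW
    have hb : Function.Bijective (g.normalizationObjIso hW).hom.hom :=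
      ConcreteCategory.bijective_of_isIso (g.normalizationObjIso hW).hom
    have e1 : algebraMap Γ(X, W)
        (integralClosure Γ(X, W) Γ(Spec (CommRingCat.of L), g ⁻¹ᵁ W)) =
        (g.normalizationObjIso hW).hom.hom.comp (g.fromNormalization.app W).hom := by
      rw [hν]
      apply RingHom.ext
      intro a
      have h1 : ∀ z, (g.normalizationObjIso hW).hom.hom ((g.normalizationObjIso hW).inv.hom z) = z := by
        intro z
        rw [← RingHom.comp_apply, ← CommRingCat.hom_comp, Iso.inv_hom_id]
        rfl
      show _ = (g.normalizationObjIso hW).hom.hom ((g.normalizationObjIso hW).inv.hom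
        (algebraMap _ _ a))
      rw [h1]
    have hft : (g.fromNormalization.app W).hom.FiniteType := by
      rw [Scheme.Hom.app_eq_appLE]
      exact g.fromNormalization.finiteType_appLE hW (hW.preimage _) _
    have hun : (g.fromNormalization.app W).hom.FormallyUnramified := by
      rw [Scheme.Hom.app_eq_appLE]
      exact g.fromNormalization.formallyUnramified_appLE hW (hW.preimage _) _
    haveI : Algebra.FiniteType Γ(X, W)
        (integralClosure Γ(X, W) Γ(Spec (CommRingCat.of L), g ⁻¹ᵁ W)) := by
      rw [← RingHom.finiteType_algebraMap, e1]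
      exact RingHom.FiniteType.comp (RingHom.FiniteType.of_surjective _ hb.2) hft
    haveI : Algebra.FormallyUnramified Γ(X, W)
        (integralClosure Γ(X, W) Γ(Spec (CommRingCat.of L), g ⁻¹ᵁ W)) := by
      rw [← RingHom.formallyUnramified_algebraMap, e1]
      exact RingHom.FormallyUnramified.comp hun (RingHom.FormallyUnramified.of_surjective hb.2)
    have het : Algebra.Etale Γ(X, W)
        (integralClosure Γ(X, W) Γ(Spec (CommRingCat.of L), g ⁻¹ᵁ W)) :=
      UnrNormalAlg.etale_of_unramified_of_normal _ _ hinj
    rw [hν]
    simp only [CommRingCat.hom_comp, CommRingCat.hom_ofHom]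
    exact RingHom.Etale.stableUnderComposition _ _ (RingHom.etale_algebraMap.mpr het)
      (RingHom.Etale.of_bijective
        (ConcreteCategory.bijective_of_isIso (g.normalizationObjIso hW).inv))
  · have hW0 : W = ⊥ := by
      by_contra hne
      apply hξ
      refine ((genericPoint_spec X).mem_open_set_iff W.2).mpr ?_
      obtain ⟨x, hx⟩ : (W : Set X).Nonempty := by
        rw [Set.nonempty_iff_ne_empty]
        intro h
        apply hne
        ext y
        simp only [Opens.coe_bot, Set.mem_empty_iff_false, iff_false]
        intro hy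
        have : y ∈ (W : Set X) := hy
        rw [h] at this
        exact this
      exact ⟨x, trivial, hx⟩
    have hs1 : Subsingleton Γ(X, W) := by rw [hW0]; infer_instance
    have hs2 : Subsingleton Γ(g.normalization, g.fromNormalization ⁻¹ᵁ W) := by
      rw [hW0, Scheme.Hom.preimage_bot]; infer_instance
    exact RingHom.Etale.of_bijective
      ⟨fun a b _ => Subsingleton.elim _ _, fun b => ⟨0, Subsingleton.elim _ _⟩⟩

include hg in
/-- **S0288**. -/
theorem main (hX : Pi1.IsNormalScheme X) [QuasiCompact g] [QuasiSeparated g]
    [FormallyUnramified g.fromNormalization] [LocallyOfFiniteType g.fromNormalization] :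
    Etale g.fromNormalization ∧ IsFinite g.fromNormalization := by
  refine ⟨Groth.Agent.H6.PurePairMain.etale_of_app _ (fun W hW => app_etale g hg hX W hW), ?_⟩
  exact (IsFinite.iff_isIntegralHom_and_locallyOfFiniteType _).mpr ⟨inferInstance, inferInstance⟩

end

end Groth.Agent.H6.UnrNormalGeo
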