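import Groth.Agent.Lib.Helper6.VC1
import Groth.Agent.Lib.Helper6.DenseSpec

universe u
open CategoryTheory CategoryTheory.Limits AlgebraicGeometry IsLocalRing

namespace Groth.Agent.H6.VC

/-- dominance: if `A → A'` is a local homomorphism of valuation subrings along a field
homomorphism `e`, then `A` is the preimage of `A'`. -/
lemma mem_of_map_mem {K K' : Type u} [Field K] [Field K'] (A : ValuationSubring K)
    (A' : ValuationSubring K') (e : K →+* K') (hA' : ∀ a : A, e a ∈ A')
    (hloc : IsLocalHom ((e.comp A.subtype).codRestrict A'.toSubring hA'))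
    (t : K) (ht : e t ∈ A') : t ∈ A := by
  by_contra hn
  have hti : t⁻¹ ∈ A := (A.mem_or_inv_mem t).resolve_left hn
  have ht0 : t ≠ 0 := fun h0 => hn (h0 ▸ A.zero_mem)
  have hunit : IsUnit (((e.comp A.subtype).codRestrict A'.toSubring hA') ⟨t⁻¹, hti⟩) := by
    refine IsUnit.of_mul_eq_one ⟨e t, ht⟩ ?_
    apply Subtype.ext
    change e t⁻¹ * e t = 1
    rw [← map_mul, inv_mul_cancel₀ ht0, map_one]
  have hu := hloc.map_nonunit _ hunit
  obtain ⟨⟨u, v, huv, hvu⟩, hu'⟩ := hu
  have hux : u = ⟨t⁻¹, hti⟩ := hu'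
  have h1 : t⁻¹ * (v : K) = 1 := by
    have := congrArg Subtype.val huv
    rw [hux] at this
    exact this
  have hv : (v : K) = t := by
    have := eq_inv_of_mul_eq_one_right h1
    rwa [inv_inv] at this
  exact hn (hv ▸ v.2)

theorem keyP {X Y Z : Scheme.{u}} (h : Z ⟶ Y) (f : Y ⟶ X) [QuasiCompact h]
    (hd : DenseRange h.base)
    (H : ∀ (z : ↥Z) (R : ValuationSubring ↑(Z.residueField z))
        (φ : Spec (CommRingCat.of ↥R) ⟶ X),
        Spec.map (CommRingCat.ofHom R.subtype) ≫ φ = Z.fromSpecResidueField z ≫ h ≫ f →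
        ∃! φ' : Spec (CommRingCat.of ↥R) ⟶ Y,
          Spec.map (CommRingCat.ofHom R.subtype) ≫ φ' = Z.fromSpecResidueField z ≫ h ∧
            φ' ≫ f = φ)
    (y : Y) (A : ValuationSubring (Y.residueField y)) (i₂ : Spec (CommRingCat.of A) ⟶ X)
    (hi : Spec.map (CommRingCat.ofHom A.subtype) ≫ i₂ = Y.fromSpecResidueField y ≫ f) :
    ∃ l : Spec (CommRingCat.of A) ⟶ Y,
      Spec.map (CommRingCat.ofHom A.subtype) ≫ l = Y.fromSpecResidueField y ∧ l ≫ f = i₂ := by
  classical
  obtain ⟨z, hz⟩ := Groth.Agent.H6.DenseSpec.exists_specializes_of_denseRange h hd y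
  -- the valuation ring `B` of `κ(z)` dominating `O_{Y,y}`
  let φB : Y.presheaf.stalk y ⟶ Z.residueField z :=
    Y.presheaf.stalkSpecializes hz ≫ h.stalkMap z ≫ Z.residue z
  obtain ⟨B, hB, hBloc⟩ := IsLocalRing.exists_factor_valuationRing φB.hom
  let β : Y.presheaf.stalk y ⟶ CommRingCat.of B :=
    CommRingCat.ofHom (φB.hom.codRestrict _ hB)
  have hβloc : IsLocalHom β.hom := hBloc
  have hβ : β ≫ CommRingCat.ofHom B.subtype = φB := rfl
  -- the point `x'` and the local homomorphism `χ`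
  let x' : X := i₂.base (closedPoint A)
  let χ : X.presheaf.stalk x' ⟶ CommRingCat.of A := Scheme.stalkClosedPointTo i₂
  have hi₂ : Spec.map χ ≫ X.fromSpecStalk x' = i₂ := Scheme.Spec_stalkClosedPointTo_fromSpecStalk i₂
  let b0 : X.presheaf.stalk (f.base y) ⟶ Y.residueField y := f.stalkMap y ≫ Y.residue y
  have hb0 : IsLocalHom b0.hom := by
    change IsLocalHom ((Y.residue y).hom.comp (f.stalkMap y).hom)
    have : IsLocalHom (Y.residue y).hom := by
      change IsLocalHom (IsLocalRing.residue (Y.presheaf.stalk y))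
      infer_instance
    infer_instance
  have h0 : Spec.map (χ ≫ CommRingCat.ofHom A.subtype) ≫ X.fromSpecStalk x' =
      Spec.map b0 ≫ X.fromSpecStalk (f.base y) := by
    rw [Spec.map_comp, Category.assoc, hi₂, hi, Scheme.fromSpecResidueField, Category.assoc,
      ← Scheme.SpecMap_stalkMap_fromSpecStalk, ← Spec.map_comp_assoc]
  obtain ⟨hsx, hχ⟩ := specializes_and_eq _ _ h0
  -- the extension `A'` of `A` to the residue field of `B`
  let e : ↑(Y.residueField y) →+* ResidueField B := ResidueField.map β.hom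
  have he : ∀ s : Y.presheaf.stalk y, e ((Y.residue y).hom s) = residue B (β.hom s) :=
    fun s => ResidueField.map_residue β.hom s
  let gA : A →+* ResidueField B := e.comp A.subtype
  obtain ⟨A', hA', hA'loc⟩ := IsLocalRing.exists_factor_valuationRing gA
  let α : A →+* A' := gA.codRestrict _ hA'
  have hαloc : IsLocalHom α := hA'loc
  have hαinj : Function.Injective α := by
    intro a₁ a₂ h12
    have : e (a₁ : Y.residueField y) = e (a₂ : Y.residueField y) := congrArg Subtype.val h12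
    exact Subtype.ext (e.injective this)
  -- the composite valuation ring
  let C : ValuationSubring ↑(Z.residueField z) := comp B A'
  let χ1 : X.presheaf.stalk x' ⟶ CommRingCat.of B :=
    X.presheaf.stalkSpecializes hsx ≫ f.stalkMap y ≫ β
  have hχ1 : ∀ s, residue B (χ1.hom s) = gA (χ.hom s) := by
    intro s
    have h1 := congrArg (fun q => q.hom s) hχ
    change ((χ.hom s : A) : Y.residueField y) = (Y.residue y).hom
      ((f.stalkMap y).hom ((X.presheaf.stalkSpecializes hsx).hom s)) at h1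
    change residue B (β.hom ((f.stalkMap y).hom ((X.presheaf.stalkSpecializes hsx).hom s))) =
      e ((χ.hom s : A) : Y.residueField y)
    rw [h1, he]
  have hχ1C : ∀ s, ((χ1.hom s : B) : Z.residueField z) ∈ C := by
    intro s
    refine ⟨(χ1.hom s).2, ?_⟩
    have : (⟨((χ1.hom s : B) : Z.residueField z), (χ1.hom s).2⟩ : B) = χ1.hom s := rfl
    rw [this, hχ1]
    exact hA' _
  let χC : X.presheaf.stalk x' ⟶ CommRingCat.of C :=
    CommRingCat.ofHom (((B.subtype).comp χ1.hom).codRestrict C.toSubring hχ1C)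
  have hχCB : χC ≫ CommRingCat.ofHom (compIncl B A') = χ1 := rfl
  have hχCproj : ∀ s, compProj B A' (χC.hom s) = α (χ.hom s) := by
    intro s
    apply Subtype.ext
    exact hχ1 s
  have hχCloc : IsLocalHom χC.hom := by
    constructor
    intro s hs
    have h1 : IsUnit (compProj B A' (χC.hom s)) := hs.map _
    rw [hχCproj] at h1
    have h2 : IsUnit (χ.hom s) := hαloc.map_nonunit _ h1
    exact (Scheme.isLocalHom_stalkClosedPointTo i₂).map_nonunit _ h2
  let Φ : Spec (CommRingCat.of C) ⟶ X := Spec.map χC ≫ X.fromSpecStalk x'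
  have hΦ : Spec.map (CommRingCat.ofHom C.subtype) ≫ Φ = Z.fromSpecResidueField z ≫ h ≫ f := by
    have e1 : χC ≫ CommRingCat.ofHom C.subtype =
        X.presheaf.stalkSpecializes hsx ≫ f.stalkMap y ≫ Y.presheaf.stalkSpecializes hz ≫
          h.stalkMap z ≫ Z.residue z := rfl
    change Spec.map (CommRingCat.ofHom C.subtype) ≫ Spec.map χC ≫ X.fromSpecStalk x' = _
    rw [← Spec.map_comp_assoc, e1]
    simp only [Spec.map_comp, Category.assoc, Scheme.SpecMap_stalkSpecializes_fromSpecStalk,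
      Scheme.SpecMap_stalkMap_fromSpecStalk, Scheme.SpecMap_stalkSpecializes_fromSpecStalk_assoc,
      Scheme.SpecMap_stalkMap_fromSpecStalk_assoc]
    rfl
  obtain ⟨φ', ⟨hφ'1, hφ'2⟩, -⟩ := H z C Φ hΦ
  -- restriction to `Spec B`
  let ιCB : CommRingCat.of C ⟶ CommRingCat.of B := CommRingCat.ofHom (compIncl B A')
  have hιsub : ιCB ≫ CommRingCat.ofHom B.subtype = CommRingCat.ofHom C.subtype := rfl
  let ΦB : Spec (CommRingCat.of B) ⟶ X := Spec.map ιCB ≫ Φ
  have hΦB : Spec.map (CommRingCat.ofHom B.subtype) ≫ ΦB =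
      Z.fromSpecResidueField z ≫ h ≫ f := by
    change Spec.map (CommRingCat.ofHom B.subtype) ≫ Spec.map ιCB ≫ Φ = _
    rw [← Spec.map_comp_assoc, hιsub, hΦ]
  obtain ⟨φB', -, huniq⟩ := H z B ΦB hΦB
  let ψB : Spec (CommRingCat.of B) ⟶ Y := Spec.map β ≫ Y.fromSpecStalk y
  have hψB1 : Spec.map (CommRingCat.ofHom B.subtype) ≫ ψB = Z.fromSpecResidueField z ≫ h := by
    change Spec.map (CommRingCat.ofHom B.subtype) ≫ Spec.map β ≫ Y.fromSpecStalk y = _
    rw [← Spec.map_comp_assoc, hβ]
    simp only [φB, Spec.map_comp, Category.assoc, Scheme.SpecMap_stalkSpecializes_fromSpecStalk,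
      Scheme.SpecMap_stalkMap_fromSpecStalk, Scheme.SpecMap_stalkSpecializes_fromSpecStalk_assoc,
      Scheme.SpecMap_stalkMap_fromSpecStalk_assoc]
    rfl
  have hψB2 : ψB ≫ f = ΦB := by
    change (Spec.map β ≫ Y.fromSpecStalk y) ≫ f = Spec.map ιCB ≫ Spec.map χC ≫ X.fromSpecStalk x'
    rw [← Spec.map_comp_assoc, hχCB]
    simp only [χ1, Spec.map_comp, Category.assoc, Scheme.SpecMap_stalkSpecializes_fromSpecStalk,
      Scheme.SpecMap_stalkMap_fromSpecStalk, Scheme.SpecMap_stalkSpecializes_fromSpecStalk_assoc,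
      Scheme.SpecMap_stalkMap_fromSpecStalk_assoc]
  have hφ'B1 : Spec.map (CommRingCat.ofHom B.subtype) ≫ (Spec.map ιCB ≫ φ') =
      Z.fromSpecResidueField z ≫ h := by
    rw [← Spec.map_comp_assoc, hιsub, hφ'1]
  have hφ'B2 : (Spec.map ιCB ≫ φ') ≫ f = ΦB := by
    rw [Category.assoc, hφ'2]
  have hEq : Spec.map ιCB ≫ φ' = ψB :=
    (huniq _ ⟨hφ'B1, hφ'B2⟩).trans (huniq _ ⟨hψB1, hψB2⟩).symm
  -- the closed point of `Spec C` and the local homomorphism `γ`
  let y'' : Y := φ'.base (closedPoint C)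
  let γ : Y.presheaf.stalk y'' ⟶ CommRingCat.of C := Scheme.stalkClosedPointTo φ'
  have hφ' : Spec.map γ ≫ Y.fromSpecStalk y'' = φ' :=
    Scheme.Spec_stalkClosedPointTo_fromSpecStalk φ'
  have h1 : Spec.map (γ ≫ ιCB) ≫ Y.fromSpecStalk y'' = Spec.map β ≫ Y.fromSpecStalk y := by
    rw [Spec.map_comp, Category.assoc, hφ', hEq]
  obtain ⟨hsy, hγ⟩ := specializes_and_eq _ _ h1
  -- the local homomorphism `δ : O_{Y,y''} → A`
  let δ0 : Y.presheaf.stalk y'' ⟶ Y.residueField y :=
    Y.presheaf.stalkSpecializes hsy ≫ Y.residue y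
  have hδ0 : ∀ s, e (δ0.hom s) = ((compProj B A' (γ.hom s) : A') : ResidueField B) := by
    intro s
    change e ((Y.residue y).hom ((Y.presheaf.stalkSpecializes hsy).hom s)) = _
    rw [he, compProj_coe]
    have := congrArg (fun q => q.hom s) hγ
    exact congrArg (residue B) this.symm
  have hδ0A : ∀ s, δ0.hom s ∈ A := by
    intro s
    apply mem_of_map_mem A A' e hA' hA'loc
    rw [hδ0]
    exact (compProj B A' (γ.hom s)).2
  let δ : Y.presheaf.stalk y'' ⟶ CommRingCat.of A :=
    CommRingCat.ofHom (δ0.hom.codRestrict A.toSubring hδ0A)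
  have hδsub : δ ≫ CommRingCat.ofHom A.subtype = δ0 := rfl
  have hδα : ∀ s, α (δ.hom s) = compProj B A' (γ.hom s) := by
    intro s
    apply Subtype.ext
    exact hδ0 s
  have hδloc : IsLocalHom δ.hom := by
    constructor
    intro s hs
    have h2 : IsUnit (α (δ.hom s)) := hs.map _
    rw [hδα] at h2
    have h3 : IsUnit (γ.hom s) := (isLocalHom_compProj B A').map_nonunit _ h2
    exact (Scheme.isLocalHom_stalkClosedPointTo φ').map_nonunit _ h3
  refine ⟨Spec.map δ ≫ Y.fromSpecStalk y'', ?_, ?_⟩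
  · rw [← Spec.map_comp_assoc, hδsub]
    simp only [δ0, Spec.map_comp, Category.assoc, Scheme.SpecMap_stalkSpecializes_fromSpecStalk]
    rfl
  · let αc : CommRingCat.of A ⟶ CommRingCat.of A' := CommRingCat.ofHom α
    have : IsLocalHom αc.hom := hαloc
    apply eq_of_SpecMap_comp_eq αc hαinj
    have e1 : δ ≫ αc = γ ≫ CommRingCat.ofHom (compProj B A') := by
      ext s
      exact congrArg Subtype.val (hδα s)
    have e2 : χC ≫ CommRingCat.ofHom (compProj B A') = χ ≫ αc := by
      ext s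
      exact congrArg Subtype.val (hχCproj s)
    rw [← Category.assoc, ← Category.assoc, ← Spec.map_comp, e1, Spec.map_comp, Category.assoc,
      Category.assoc, ← Category.assoc (Spec.map γ), hφ', hφ'2]
    change Spec.map _ ≫ Spec.map χC ≫ X.fromSpecStalk x' = _
    rw [← Spec.map_comp_assoc, e2, Spec.map_comp_assoc, hi₂]

end Groth.Agent.H6.VC
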