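import Groth.Agent.Lib.Helper6.VC3

universe u
open CategoryTheory CategoryTheory.Limits AlgebraicGeometry IsLocalRing

namespace Groth.Agent.H6.VC

/-- (C1') two morphisms from a local scheme agree if they agree after restriction along a local
homomorphism and along an injective homomorphism. -/
lemma eq_of_SpecMap_comp_eq' {X : Scheme.{u}} {A A' A'' : CommRingCat.{u}} [IsLocalRing A]
    [IsLocalRing A''] (σ : A ⟶ A'') [IsLocalHom σ.hom] (ι : A ⟶ A')
    (hι : Function.Injective ι.hom)
    (g₁ g₂ : Spec A ⟶ X) (hσ : Spec.map σ ≫ g₁ = Spec.map σ ≫ g₂)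
    (h : Spec.map ι ≫ g₁ = Spec.map ι ≫ g₂) : g₁ = g₂ := by
  rw [← Scheme.Spec_stalkClosedPointTo_fromSpecStalk g₁,
    ← Scheme.Spec_stalkClosedPointTo_fromSpecStalk g₂] at h hσ ⊢
  rw [← Spec.map_comp_assoc, ← Spec.map_comp_assoc] at h hσ
  have : IsLocalHom (Scheme.stalkClosedPointTo g₂ ≫ σ).hom := by
    rw [CommRingCat.hom_comp]; infer_instance
  obtain ⟨hs, -⟩ := specializes_and_eq _ _ hσ
  have hmono : Mono ι := by
    apply ConcreteCategory.mono_of_injective; exact hι
  rw [← Scheme.SpecMap_stalkSpecializes_fromSpecStalk hs, ← Spec.map_comp_assoc,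
    cancel_mono] at h
  have he := Spec.map_injective h
  rw [← Category.assoc, cancel_mono] at he
  rw [he, Spec.map_comp, Category.assoc, Scheme.SpecMap_stalkSpecializes_fromSpecStalk]

end Groth.Agent.H6.VC
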