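import Groth.Agent.Lib.Helper6.VC4
import Groth.Agent.S4447

universe u
open CategoryTheory CategoryTheory.Limits AlgebraicGeometry IsLocalRing

namespace Groth.Agent.H6.VC

/-- separatedness from uniqueness of lifts for residue-field valuation rings along a dominant
quasi-compact `h` (the proof of S19891 without the global qcqs hypotheses). -/
theorem isSeparated_of_unique {X Y Z : Scheme.{u}} (h : Z ⟶ Y) (f : Y ⟶ X)
    [QuasiCompact h] [QuasiSeparated f] (hd : DenseRange h.base)
    (H : ∀ (z : ↥Z) (R : ValuationSubring ↑(Z.residueField z)) (φ : Spec (CommRingCat.of ↥R) ⟶ X),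
        Spec.map (CommRingCat.ofHom R.subtype) ≫ φ = Z.fromSpecResidueField z ≫ h ≫ f →
        ∀ φ₁ φ₂ : Spec (CommRingCat.of ↥R) ⟶ Y,
          Spec.map (CommRingCat.ofHom R.subtype) ≫ φ₁ = Z.fromSpecResidueField z ≫ h → φ₁ ≫ f = φ →
          Spec.map (CommRingCat.ofHom R.subtype) ≫ φ₂ = Z.fromSpecResidueField z ≫ h → φ₂ ≫ f = φ →
          φ₁ = φ₂) : IsSeparated f := by
  classical
  let Δ := Limits.pullback.diagonal f
  have : QuasiCompact Δ := QuasiSeparated.quasiCompact_diagonal
  have hspec : SpecializingMap Δ.base := by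
    intro y w hyw
    suffices hw : ∃ y' : Y, Δ.base y' = w by
      obtain ⟨y', rfl⟩ := hw
      refine ⟨y', ?_, rfl⟩
      have h1 := hyw.map (Limits.pullback.fst f f).continuous
      have e : ∀ t : Y, (Limits.pullback.fst f f).base (Δ.base t) = t := fun t => by
        rw [← Scheme.Hom.comp_apply, Limits.pullback.diagonal_fst]; rfl
      rwa [e, e] at h1
    obtain ⟨z, hz⟩ := Groth.Agent.H6.DenseSpec.exists_specializes_of_denseRange h hd y
    have hzw : (h ≫ Δ).base z ⤳ w := by
      rw [Scheme.Hom.comp_apply]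
      exact (hz.map Δ.continuous).trans hyw
    by_cases hne : w = (h ≫ Δ).base z
    · exact ⟨h.base z, by rw [hne, Scheme.Hom.comp_apply]⟩
    · obtain ⟨A, ψ, -, hψcl, hψ⟩ := Groth.Agent.S4447.result (h ≫ Δ) z w hzw hne
      have e1 : Spec.map (CommRingCat.ofHom A.subtype) ≫ (ψ ≫ Limits.pullback.fst f f) =
          Z.fromSpecResidueField z ≫ h := by
        rw [← Category.assoc, hψ, Category.assoc, Category.assoc, Limits.pullback.diagonal_fst,
          Category.comp_id]
      have e2 : Spec.map (CommRingCat.ofHom A.subtype) ≫ (ψ ≫ Limits.pullback.snd f f) =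
          Z.fromSpecResidueField z ≫ h := by
        rw [← Category.assoc, hψ, Category.assoc, Category.assoc, Limits.pullback.diagonal_snd,
          Category.comp_id]
      have e0 : Spec.map (CommRingCat.ofHom A.subtype) ≫ (ψ ≫ Limits.pullback.fst f f ≫ f) =
          Z.fromSpecResidueField z ≫ h ≫ f := by
        rw [← Category.assoc ψ, ← Category.assoc, e1, Category.assoc]
      have e3 : (ψ ≫ Limits.pullback.snd f f) ≫ f = ψ ≫ Limits.pullback.fst f f ≫ f := by
        rw [Category.assoc, Limits.pullback.condition]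
      have heq := H z A (ψ ≫ Limits.pullback.fst f f ≫ f) e0 (ψ ≫ Limits.pullback.fst f f)
        (ψ ≫ Limits.pullback.snd f f) e1 (Category.assoc _ _ _) e2 e3
      have hψΔ : ψ = (ψ ≫ Limits.pullback.fst f f) ≫ Δ := by
        apply Limits.pullback.hom_ext
        · rw [Category.assoc, Limits.pullback.diagonal_fst, Category.comp_id]
        · rw [Category.assoc, Limits.pullback.diagonal_snd, Category.comp_id, heq]
      refine ⟨(ψ ≫ Limits.pullback.fst f f).base (IsLocalRing.closedPoint A), ?_⟩
      have e5 : ((ψ ≫ Limits.pullback.fst f f) ≫ Δ).base (IsLocalRing.closedPoint A) = w := by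
        rw [← hψΔ]; exact hψcl
      exact e5
  have hclosed : IsClosedMap Δ.base := (isClosedMap_iff_specializingMap Δ).2 hspec
  exact ⟨IsClosedImmersion.of_isPreimmersion _ hclosed.isClosed_range⟩

end Groth.Agent.H6.VC
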