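import Mathlib
import Groth.Prelude.Def_W4bk5brsh7111920
import Groth.Agent.Lib.Helper6.ConnDim

/-! Connectedness dimension: invariance, irreducible spaces, punctured spectra. -/

universe u
set_option linter.unusedSectionVars false

namespace Groth.Agent.H6.VDim

open TopologicalSpace Set

section top
variable {T T' : Type u} [TopologicalSpace T] [TopologicalSpace T']

theorem connDim_le_of_homeomorph (h : T ≃ₜ T') : LocCoh.connDim T ≤ LocCoh.connDim T' := by
  unfold LocCoh.connDim
  refine le_iInf₂ fun Z' hZ' => ?_
  have h1 : IsClosed (h ⁻¹' Z') := hZ'.1.preimage h.continuous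
  have h2 : ¬ IsConnected (h ⁻¹' Z')ᶜ := by
    rw [← Set.preimage_compl, Homeomorph.isConnected_preimage]
    exact hZ'.2
  refine (iInf₂_le (h ⁻¹' Z') ⟨h1, h2⟩).trans (le_of_eq ?_)
  have e : ↥(h ⁻¹' Z') ≃ₜ ↥Z' := by
    have := h.symm.image Z'
    rw [Homeomorph.image_symm] at this
    exact this.symm
  exact IsHomeomorph.topologicalKrullDim_eq e e.isHomeomorph

theorem connDim_homeomorph (h : T ≃ₜ T') : LocCoh.connDim T = LocCoh.connDim T' :=
  le_antisymm (connDim_le_of_homeomorph h) (connDim_le_of_homeomorph h.symm)

/-- the connectedness dimension of an irreducible space is at least its dimension -/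
theorem dim_le_connDim_of_irreducible [IrreducibleSpace T] :
    topologicalKrullDim T ≤ LocCoh.connDim T := by
  unfold LocCoh.connDim
  refine le_iInf₂ fun Z hZ => ?_
  have hZu : Z = Set.univ := by
    by_contra hne
    apply hZ.2
    have hne' : (Zᶜ).Nonempty := by
      rw [Set.nonempty_compl]; exact hne
    have hirr : IsIrreducible (Zᶜ) :=
      ⟨hne', (IrreducibleSpace.isIrreducible_univ T).isPreirreducible.open_subset
        hZ.1.isOpen_compl (Set.subset_univ _)⟩
    exact hirr.isConnected
  subst hZu
  exact le_of_eq (IsHomeomorph.topologicalKrullDim_eq _ (Homeomorph.Set.univ T).symm.isHomeomorph)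

/-- if the connectedness dimension is at least one, removing a closed point leaves a connected set -/
theorem isConnected_compl_singleton_of_connDim (x : T) (hx : IsClosed ({x} : Set T))
    (h : (1 : WithBot ℕ∞) ≤ LocCoh.connDim T) : IsConnected ({x}ᶜ : Set T) := by
  by_contra hc
  have h1 := Groth.Agent.H6.ConnDim.connDim_le hx hc
  have h2 : topologicalKrullDim ↥({x} : Set T) ≤ 0 := by
    haveI : Subsingleton ↥({x} : Set T) := Set.subsingleton_singleton.coe_sort
    haveI : DiscreteTopology ↥({x} : Set T) := Subsingleton.discreteTopology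
    exact topologicalKrullDim_zero_of_discreteTopology _
  have := h.trans (h1.trans h2)
  exact absurd this (by decide)

end top

end Groth.Agent.H6.VDim
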