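import Mathlib
import Groth.Prelude.Def_W4bk5brsh7111920
import Groth.Agent.Lib.Helper6.VDim1
import Groth.Agent.Lib.Helper7.Reg1
import Groth.Agent.S11676
import Groth.Agent.S11671

/-! Grothendieck's connectedness theorem for quotients of complete regular local rings by few elements. -/

universe u
set_option linter.unusedSectionVars false

namespace Groth.Agent.H6.VDim

open TopologicalSpace Set IsLocalRing

theorem arith (c : WithBot ℕ∞) (d n : ℕ) (h1 : ((d : ℕ∞) : WithBot ℕ∞) ≤ c + (n : WithBot ℕ∞) + 1)
    (h2 : n + 2 ≤ d) : (1 : WithBot ℕ∞) ≤ c := by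
  induction c with
  | bot =>
    rw [WithBot.bot_add, WithBot.bot_add] at h1
    exact absurd h1 (by simp)
  | coe c =>
    induction c with
    | top => exact WithBot.coe_le_coe.mpr le_top
    | coe c =>
      have h3 : ((d : ℕ∞) : WithBot ℕ∞) ≤ (((c + n + 1 : ℕ) : ℕ∞) : WithBot ℕ∞) := by
        refine h1.trans (le_of_eq ?_)
        push_cast
        rfl
      have h4 : d ≤ c + n + 1 := by exact_mod_cast h3
      have h5 : 1 ≤ c := by omega
      exact_mod_cast h5

/-- Grothendieck's connectedness theorem, in the form needed. -/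
theorem one_le_connDim_quot (S : Type u) [CommRing S] [IsRegularLocalRing S]
    [IsAdicComplete (maximalIdeal S) S] (d : ℕ) (hd : ringKrullDim S = d) (s : Finset S)
    (hs : s.card + 2 ≤ d) (hne : Ideal.span (s : Set S) ≠ ⊤) :
    (1 : WithBot ℕ∞) ≤ LocCoh.connDim (PrimeSpectrum (S ⧸ Ideal.span (s : Set S))) := by
  haveI : IsDomain S := Groth.Agent.H7.Reg.isDomain S
  have h1 := (Groth.Agent.S11676.result S (Ideal.span (s : Set S)) hne s rfl).1
  have h2 : topologicalKrullDim (PrimeSpectrum S) ≤ LocCoh.connDim (PrimeSpectrum S) :=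
    dim_le_connDim_of_irreducible
  rw [PrimeSpectrum.topologicalKrullDim_eq_ringKrullDim, hd] at h2
  exact arith _ d s.card (h2.trans h1) hs

/-- the punctured spectrum of a local ring `R ≃ S/(s)` is connected. -/
theorem isConnected_punctured (S : Type u) [CommRing S] [IsRegularLocalRing S]
    [IsAdicComplete (maximalIdeal S) S] (d : ℕ) (hd : ringKrullDim S = d) (s : Finset S)
    (hs : s.card + 2 ≤ d) (R : Type u) [CommRing R] [IsLocalRing R]
    (e : R ≃+* S ⧸ Ideal.span (s : Set S)) :
    (1 : WithBot ℕ∞) ≤ LocCoh.connDim (PrimeSpectrum R) := by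
  have hne : Ideal.span (s : Set S) ≠ ⊤ := by
    intro h
    haveI : Subsingleton (S ⧸ Ideal.span (s : Set S)) := Ideal.Quotient.subsingleton_iff.mpr h
    haveI : Subsingleton R := e.toEquiv.subsingleton
    exact not_subsingleton R ‹_›
  have h1 := one_le_connDim_quot S d hd s hs hne
  rwa [connDim_homeomorph (PrimeSpectrum.homeomorphOfRingEquiv e)]

end Groth.Agent.H6.VDim
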