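import Mathlib
import Groth.Agent.Lib.Helper8.EssEt.AdjRoot
import Groth.Agent.Lib.Helper8.Hens.HenselianFinite

/-! Finite étale local algebras over a henselian local ring are of the form `A[X]/(g)`. -/

universe u
set_option linter.unusedSectionVars false

namespace Groth.Agent.H6.VDim

open IsLocalRing Polynomial

section AR
variable (A : Type u) [CommRing A] [HenselianLocalRing A]
  (C : Type u) [CommRing C] [IsLocalRing C] [Algebra A C] [Module.Finite A C] [Algebra.Etale A C]

theorem isLocalHom_of_finite : IsLocalHom (algebraMap A C) := by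
  haveI : Algebra.IsIntegral A C := Algebra.IsIntegral.of_finite A C
  constructor
  intro a ha
  by_contra hnu
  have h1 : a ∈ maximalIdeal A := (mem_maximalIdeal a).mpr hnu
  have h2 := Groth.Agent.H8.Hens.comap_eq_maximalIdeal_of_isMaximal (R := A) (maximalIdeal C)
  rw [← h2, Ideal.mem_comap] at h1
  exact (mem_maximalIdeal _).mp h1 ha

/-- structure of finite étale local algebras over a henselian local ring -/
theorem exists_adjoinRoot_equiv :
    ∃ g : A[X], g.Monic ∧ Irreducible (g.map (residue A)) ∧ (g.map (residue A)).Separable ∧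
      Nonempty (AdjoinRoot g ≃+* C) := by
  haveI : IsLocalHom (algebraMap A C) := isLocalHom_of_finite A C
  haveI : Algebra.FormallyUnramified A C := inferInstance
  haveI : Algebra.EssFiniteType A C := inferInstance
  -- primitive element of the residue field extension
  obtain ⟨α, hα⟩ := Field.exists_primitive_element (ResidueField A) (ResidueField C)
  have hint : IsIntegral (ResidueField A) α := Algebra.IsIntegral.isIntegral α
  have hsep : (minpoly (ResidueField A) α).Separable := Algebra.IsSeparable.isSeparable _ α
  obtain ⟨g, hg1, -, hgm⟩ := Polynomial.lifts_and_natDegree_eq_and_monic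
    ((Polynomial.mem_lifts _).mpr (Polynomial.map_surjective (residue A) residue_surjective
      (minpoly (ResidueField A) α))) (minpoly.monic hint)
  have hirr : Irreducible (g.map (residue A)) := by rw [hg1]; exact minpoly.irreducible hint
  have hsep' : (g.map (residue A)).Separable := by rw [hg1]; exact hsep
  refine ⟨g, hgm, hirr, hsep', ?_⟩
  -- the root
  haveI : HenselianLocalRing C := Groth.Agent.H8.Hens.henselianLocalRing_of_finite A C
  have h1 : aeval α g = 0 := by
    have : aeval α (g.map (algebraMap A (ResidueField A))) = aeval α g := aeval_map_algebraMap _ _ _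
    rw [← this]
    show aeval α (g.map (residue A)) = 0
    rw [hg1]; exact minpoly.aeval _ α
  have h2 : aeval α (derivative g) ≠ 0 := by
    have : aeval α ((derivative g).map (algebraMap A (ResidueField A))) = aeval α (derivative g) :=
      aeval_map_algebraMap _ _ _
    rw [← this]
    show aeval α ((derivative g).map (residue A)) ≠ 0
    rw [← derivative_map, hg1]
    exact hsep.aeval_derivative_ne_zero (minpoly.aeval _ α)
  obtain ⟨θ, ⟨hθ1, hθ2⟩, -⟩ := Groth.Agent.H8.EssEt.existsUnique_root_of_henselian (T := C) g hgm α h1 h2
  -- the map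
  let Φ : AdjoinRoot g →ₐ[A] C := AdjoinRoot.liftAlgHom g (Algebra.ofId A C) θ (by
    rw [← hθ1, aeval_def]; rfl)
  have hΦroot : Φ (AdjoinRoot.root g) = θ := AdjoinRoot.liftAlgHom_root _ _ _ _
  have hΦ : ∀ p : A[X], Φ (AdjoinRoot.mk g p) = aeval θ p := by
    intro p
    show AdjoinRoot.liftAlgHom g (Algebra.ofId A C) θ _ (AdjoinRoot.mk g p) = _
    rw [AdjoinRoot.liftAlgHom_mk]
    rfl
  haveI : Module.Finite A (AdjoinRoot g) := hgm.finite_adjoinRoot
  haveI hloc : IsLocalRing (AdjoinRoot g) := Groth.Agent.H8.EssEt.adjoinRoot_isLocalRing g hgm hirr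
  haveI : Algebra.Etale A (AdjoinRoot g) := Groth.Agent.H8.EssEt.adjoinRoot_etale g hgm hsep'
  -- surjectivity by Nakayama
  have hmC : (maximalIdeal A).map (algebraMap A C) = maximalIdeal C :=
    Algebra.FormallyUnramified.map_maximalIdeal
  have hsurj : Function.Surjective Φ := by
    suffices h : (⊤ : Submodule A C) ≤ LinearMap.range Φ.toLinearMap by
      intro c
      exact h (Submodule.mem_top : c ∈ ⊤)
    refine Submodule.le_of_le_smul_of_le_jacobson_bot (I := maximalIdeal A) Module.Finite.fg_top
      (IsLocalRing.maximalIdeal_le_jacobson _) ?_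
    intro c _
    -- `residue c` is a polynomial in `α`
    have hc : residue C c ∈ Algebra.adjoin (ResidueField A) {α} := by
      have htop : Algebra.adjoin (ResidueField A) {α} = ⊤ := by
        have := IntermediateField.adjoin_simple_toSubalgebra_of_isAlgebraic (hint.isAlgebraic)
        rw [hα, IntermediateField.top_toSubalgebra] at this
        exact this.symm
      rw [htop]; trivial
    obtain ⟨pbar, hp⟩ := (Algebra.adjoin_singleton_eq_range_aeval (ResidueField A) α ▸ hc : _)
    obtain ⟨p, rfl⟩ := Polynomial.map_surjective (residue A) residue_surjective pbar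
    have h3 : residue C (aeval θ p) = residue C c := by
      rw [← hp]
      have e1 : aeval α (p.map (algebraMap A (ResidueField A))) = aeval α p := aeval_map_algebraMap _ _ _
      show residue C (aeval θ p) = aeval α (p.map (algebraMap A (ResidueField A)))
      rw [e1, ← hθ2]
      exact (Polynomial.aeval_algHom_apply (IsScalarTower.toAlgHom A C (ResidueField C)) θ p).symm
    have h4 : c - aeval θ p ∈ maximalIdeal C := by
      rw [← residue_eq_zero_iff, map_sub, h3, sub_self]
    rw [← hmC] at h4
    have h4' : c - aeval θ p ∈ (maximalIdeal A • ⊤ : Submodule A C) := by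
      rw [Ideal.smul_top_eq_map]; exact h4
    have h5 : c = aeval θ p + (c - aeval θ p) := by ring
    rw [h5]
    refine Submodule.add_mem_sup ?_ h4'
    exact ⟨AdjoinRoot.mk g p, hΦ p⟩
  -- injectivity by flatness
  have hinj : Function.Injective Φ := by
    letI : Algebra (AdjoinRoot g) C := Φ.toRingHom.toAlgebra
    haveI : IsScalarTower A (AdjoinRoot g) C := IsScalarTower.of_algebraMap_eq (fun a => (Φ.commutes a).symm)
    haveI : Algebra.Etale (AdjoinRoot g) C := by apply Algebra.Etale.of_restrictScalars A
    haveI : Module.Finite (AdjoinRoot g) C := Module.Finite.of_restrictScalars_finite A _ _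
    haveI : HenselianLocalRing (AdjoinRoot g) :=
      Groth.Agent.H8.Hens.henselianLocalRing_of_finite A (AdjoinRoot g)
    haveI : IsLocalHom (algebraMap (AdjoinRoot g) C) := isLocalHom_of_finite (AdjoinRoot g) C
    haveI : Module.Flat (AdjoinRoot g) C := inferInstance
    haveI : Module.FaithfullyFlat (AdjoinRoot g) C := Module.FaithfullyFlat.of_flat_of_isLocalHom
    exact FaithfulSMul.algebraMap_injective (AdjoinRoot g) C
  exact ⟨(AlgEquiv.ofBijective Φ ⟨hinj, hsurj⟩).toRingEquiv⟩

end AR

end Groth.Agent.H6.VDim
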