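import Mathlib
import Groth.Agent.Lib.Helper6.VDim2
import Groth.Agent.Lib.Helper6.VDim3
import Groth.Agent.Lib.Helper6.HLVComplete
import Groth.Agent.Lib.Helper6.InertiaCompl
import Groth.Agent.Lib.Helper6.RelNN
import Groth.Agent.Lib.Helper6.GrLD5

/-! Finite étale local algebras over `S/(s)`, `S` complete regular local, are again of this form. -/

universe u
set_option linter.unusedSectionVars false

namespace Groth.Agent.H6.VDim

open IsLocalRing Polynomial

section SPrime
variable (S : Type u) [CommRing S] [IsRegularLocalRing S] [IsAdicComplete (maximalIdeal S) S]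
  (d : ℕ) (hd : ringKrullDim S = d) (g : S[X]) (hg : g.Monic)
  (hirr : Irreducible (g.map (residue S)))

include hg hirr in
theorem adjoinRoot_dim : ringKrullDim (AdjoinRoot g) = ringKrullDim S := by
  haveI : Module.Finite S (AdjoinRoot g) := hg.finite_adjoinRoot
  haveI : Module.Free S (AdjoinRoot g) := hg.free_adjoinRoot
  haveI : IsLocalRing (AdjoinRoot g) := Groth.Agent.H8.EssEt.adjoinRoot_isLocalRing g hg hirr
  refine le_antisymm (Groth.Agent.H6.GrBI.ringKrullDim_le_of_finite S (AdjoinRoot g)) ?_
  refine Groth.Agent.H6.RelNN.ringKrullDim_le_of_isIntegral_injective (algebraMap S (AdjoinRoot g))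
    (algebraMap_isIntegral_iff.mpr (Algebra.IsIntegral.of_finite S _)) ?_
  exact FaithfulSMul.algebraMap_injective S (AdjoinRoot g)

include hd hg hirr in
theorem adjoinRoot_isRegularLocalRing : IsRegularLocalRing (AdjoinRoot g) := by
  haveI : Module.Finite S (AdjoinRoot g) := hg.finite_adjoinRoot
  haveI : IsLocalRing (AdjoinRoot g) := Groth.Agent.H8.EssEt.adjoinRoot_isLocalRing g hg hirr
  haveI : IsNoetherianRing (AdjoinRoot g) := IsNoetherianRing.of_finite S _
  apply IsRegularLocalRing.of_spanFinrank_maximalIdeal_le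
  rw [← Groth.Agent.H8.EssEt.adjoinRoot_map_maximalIdeal g hg hirr, adjoinRoot_dim S g hg hirr,
    ← IsRegularLocalRing.spanFinrank_maximalIdeal]
  exact_mod_cast Ideal.spanFinrank_map_le_of_fg (algebraMap S (AdjoinRoot g))
    (maximalIdeal S).fg_of_isNoetherianRing

include hg hirr in
theorem adjoinRoot_complete [IsLocalRing (AdjoinRoot g)] :
    IsAdicComplete (maximalIdeal (AdjoinRoot g)) (AdjoinRoot g) := by
  haveI : Module.Finite S (AdjoinRoot g) := hg.finite_adjoinRoot
  refine Groth.Agent.H6.HLVComplete.isAdicComplete_of_finite S (AdjoinRoot g) ?_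
  exact (Groth.Agent.H8.EssEt.adjoinRoot_map_maximalIdeal g hg hirr).le

end SPrime

section main
variable (S : Type u) [CommRing S] [IsRegularLocalRing S] [IsAdicComplete (maximalIdeal S) S]
  (d : ℕ) (hd : ringKrullDim S = d) (s : Finset S) (hs : s.card + 2 ≤ d)
  (C : Type u) [CommRing C] [IsLocalRing C] [Algebra (S ⧸ Ideal.span (s : Set S)) C]
  [Module.Finite (S ⧸ Ideal.span (s : Set S)) C] [Algebra.Etale (S ⧸ Ideal.span (s : Set S)) C]

include hd hs in
/-- a finite étale local algebra over `S/(s)` has connectedness dimension at least one -/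
theorem one_le_connDim_etale : (1 : WithBot ℕ∞) ≤ LocCoh.connDim (PrimeSpectrum C) := by
  classical
  have hne : Ideal.span (s : Set S) ≠ ⊤ := by
    intro h
    haveI : Subsingleton (S ⧸ Ideal.span (s : Set S)) := Ideal.Quotient.subsingleton_iff.mpr h
    have h01 : (1 : C) = 0 := by
      rw [← map_one (algebraMap (S ⧸ Ideal.span (s : Set S)) C),
        Subsingleton.elim (1 : S ⧸ Ideal.span (s : Set S)) 0, map_zero]
    exact one_ne_zero h01
  haveI : Nontrivial (S ⧸ Ideal.span (s : Set S)) := Ideal.Quotient.nontrivial_iff.mpr hne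
  haveI : IsLocalRing (S ⧸ Ideal.span (s : Set S)) :=
    IsLocalRing.of_surjective' (Ideal.Quotient.mk _) Ideal.Quotient.mk_surjective
  haveI : HenselianLocalRing S := Groth.Agent.H6.InertiaCompl.henselianLocalRing_of_complete S
  haveI : HenselianLocalRing (S ⧸ Ideal.span (s : Set S)) :=
    Groth.Agent.H8.Hens.henselianLocalRing_of_finite S _
  obtain ⟨g₀, hg₀m, hirr₀, -, ⟨e₀⟩⟩ := exists_adjoinRoot_equiv (S ⧸ Ideal.span (s : Set S)) C
  obtain ⟨g, hg1, -, hgm⟩ := Polynomial.lifts_and_natDegree_eq_and_monic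
    ((Polynomial.mem_lifts _).mpr (Polynomial.map_surjective (Ideal.Quotient.mk (Ideal.span (s : Set S)))
      Ideal.Quotient.mk_surjective g₀)) hg₀m
  subst hg1
  -- irreducibility over the residue field of `S`
  haveI : IsLocalHom (Ideal.Quotient.mk (Ideal.span (s : Set S))) :=
    IsLocalHom.of_surjective _ Ideal.Quotient.mk_surjective
  have hirr : Irreducible (g.map (residue S)) := by
    let ι := IsLocalRing.ResidueField.map (Ideal.Quotient.mk (Ideal.span (s : Set S)))
    apply Polynomial.Monic.irreducible_of_irreducible_map ι _ (hgm.map _)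
    have hcomp : ι.comp (residue S) = (residue (S ⧸ Ideal.span (s : Set S))).comp
        (Ideal.Quotient.mk (Ideal.span (s : Set S))) := by
      ext x
      exact IsLocalRing.ResidueField.map_residue (Ideal.Quotient.mk (Ideal.span (s : Set S))) x
    rw [Polynomial.map_map, hcomp, ← Polynomial.map_map]
    exact hirr₀
  haveI hreg : IsRegularLocalRing (AdjoinRoot g) := adjoinRoot_isRegularLocalRing S d hd g hgm hirr
  haveI : IsAdicComplete (maximalIdeal (AdjoinRoot g)) (AdjoinRoot g) :=
    adjoinRoot_complete S g hgm hirr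
  have hd' : ringKrullDim (AdjoinRoot g) = d := (adjoinRoot_dim S g hgm hirr).trans hd
  have hs' : (s.image (AdjoinRoot.of g)).card + 2 ≤ d := le_trans (by
    have := Finset.card_image_le (s := s) (f := AdjoinRoot.of g)
    omega) hs
  have hI : (Ideal.span (s : Set S)).map (AdjoinRoot.of g) =
      Ideal.span ((s.image (AdjoinRoot.of g) : Finset (AdjoinRoot g)) : Set (AdjoinRoot g)) := by
    rw [Ideal.map_span, Finset.coe_image]
  let e' : C ≃+* AdjoinRoot g ⧸ Ideal.span
      ((s.image (AdjoinRoot.of g) : Finset (AdjoinRoot g)) : Set (AdjoinRoot g)) :=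
    e₀.symm.trans ((AdjoinRoot.quotAdjoinRootEquivQuotPolynomialQuot (Ideal.span (s : Set S)) g).symm.trans
      (Ideal.quotEquivOfEq hI))
  exact isConnected_punctured (AdjoinRoot g) d hd' _ hs' C e'

end main

end Groth.Agent.H6.VDim
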