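import Mathlib
import Groth.Agent.Lib.Helper6.VDim4

/-! Clopen subsets of punctured spectra of finite étale algebras: the henselian case. -/

universe u
set_option linter.unusedSectionVars false

namespace Groth.Agent.H6.VDim

open IsLocalRing PrimeSpectrum

/-- the part of `Spec B` not lying over the closed point of `Spec A` -/
def punct (A B : Type*) [CommRing A] [IsLocalRing A] [CommRing B] [Algebra A B] :
    Set (PrimeSpectrum B) :=
  {q | q.asIdeal.comap (algebraMap A B) ≠ maximalIdeal A}

theorem isOpen_punct (A B : Type*) [CommRing A] [IsLocalRing A] [CommRing B] [Algebra A B] :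
    IsOpen (punct A B) := by
  have : punct A B = (PrimeSpectrum.comap (algebraMap A B)) ⁻¹' ({closedPoint A}ᶜ) := by
    ext q
    simp only [punct, Set.mem_setOf_eq, Set.mem_preimage, Set.mem_compl_iff, Set.mem_singleton_iff]
    rw [not_iff_not, PrimeSpectrum.ext_iff]
    rfl
  rw [this]
  exact (isClosed_singleton_closedPoint (R := A)).isOpen_compl.preimage (PrimeSpectrum.continuous_comap _)

/-- clopen subsets of the punctured part extend uniquely -/
structure Good (A B : Type*) [CommRing A] [IsLocalRing A] [CommRing B] [Algebra A B] : Prop where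
  inj : ∀ Z : Set (PrimeSpectrum B), IsClopen Z → punct A B ⊆ Z → Z = Set.univ
  surj : ∀ W : Set (PrimeSpectrum B), W ⊆ punct A B → IsOpen W → IsOpen (punct A B \ W) →
    ∃ Z, IsClopen Z ∧ Z ∩ punct A B = W

theorem good_of_cover {T : Type*} [TopologicalSpace T] (V : Set T) {n : ℕ} (D : Fin n → Set T)
    (hD : ∀ i, IsClopen (D i)) (hcov : ⋃ i, D i = Set.univ)
    (hconn : ∀ i, IsPreconnected (D i ∩ V)) (hcl : ∀ i, D i ⊆ closure (D i ∩ V)) :
    (∀ Z : Set T, IsClopen Z → V ⊆ Z → Z = Set.univ) ∧
    (∀ W : Set T, W ⊆ V → IsOpen W → IsOpen (V \ W) → ∃ Z, IsClopen Z ∧ Z ∩ V = W) := by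
  constructor
  · intro Z hZ hVZ
    rw [Set.eq_univ_iff_forall]
    intro x
    have hx : x ∈ ⋃ i, D i := by rw [hcov]; trivial
    obtain ⟨i, hi⟩ := Set.mem_iUnion.mp hx
    have h1 : closure (D i ∩ V) ⊆ Z :=
      hZ.1.closure_subset_iff.mpr (Set.inter_subset_right.trans hVZ)
    exact h1 (hcl i hi)
  · intro W hWV hW hVW
    classical
    have key : ∀ i, D i ∩ V ⊆ W ∨ D i ∩ V ⊆ V \ W := fun i =>
      IsPreconnected.subset_or_subset hW hVW Set.disjoint_sdiff_right
        (by
          intro x hx
          by_cases hxW : x ∈ W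
          · exact Or.inl hxW
          · exact Or.inr ⟨hx.2, hxW⟩) (hconn i)
    refine ⟨⋃ i ∈ {i | D i ∩ V ⊆ W}, D i, ?_, ?_⟩
    · exact Set.Finite.isClopen_biUnion (Set.toFinite _) fun i _ => hD i
    · ext x
      constructor
      · rintro ⟨hx, hxV⟩
        obtain ⟨i, hi⟩ := Set.mem_iUnion.mp hx
        obtain ⟨hiJ, hxi⟩ := Set.mem_iUnion.mp hi
        exact hiJ ⟨hxi, hxV⟩
      · intro hxW
        refine ⟨?_, hWV hxW⟩
        have hx : x ∈ ⋃ i, D i := by rw [hcov]; trivial
        obtain ⟨i, hi⟩ := Set.mem_iUnion.mp hx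
        refine Set.mem_iUnion.mpr ⟨i, Set.mem_iUnion.mpr ⟨?_, hi⟩⟩
        rcases key i with h | h
        · exact h
        · exact absurd hxW (h ⟨hi, hWV hxW⟩).2


section hens
variable (A : Type u) [CommRing A] [HenselianLocalRing A]
  (H : ∀ (C : Type u) [CommRing C] [IsLocalRing C] [Algebra A C] [Module.Finite A C]
    [Algebra.Etale A C], (1 : WithBot ℕ∞) ≤ LocCoh.connDim (PrimeSpectrum C))
  (B : Type u) [CommRing B] [Algebra A B] [Module.Finite A B] [Algebra.Etale A B]

/-- for a local ring finite over `A`, the punctured part is the complement of the closed point -/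
theorem punct_eq_compl (C : Type u) [CommRing C] [IsLocalRing C] [Algebra A C] [Module.Finite A C] :
    punct A C = {closedPoint C}ᶜ := by
  haveI : Algebra.IsIntegral A C := Algebra.IsIntegral.of_finite A C
  ext q
  simp only [punct, Set.mem_setOf_eq, Set.mem_compl_iff, Set.mem_singleton_iff]
  rw [not_iff_not]
  constructor
  · intro h
    have hmax : q.asIdeal.IsMaximal := by
      apply Ideal.isMaximal_of_isIntegral_of_isMaximal_comap (R := A) q.asIdeal
      rw [h]; exact maximalIdeal.isMaximal A
    exact PrimeSpectrum.ext (IsLocalRing.eq_maximalIdeal hmax)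
  · rintro rfl
    exact Groth.Agent.H8.Hens.comap_eq_maximalIdeal_of_isMaximal (R := A) (maximalIdeal C)

include H in
theorem good_of_henselian : Good A B := by
  classical
  obtain ⟨n, ε, hε, hloc⟩ :=
    Groth.Agent.H8.Hens.exists_completeOrthogonalIdempotents_of_finite A B
  -- the local factors
  have hfac : ∀ i : Fin n, IsConnected ({closedPoint (B ⧸ Ideal.span {1 - ε i})}ᶜ :
      Set (PrimeSpectrum (B ⧸ Ideal.span {1 - ε i}))) := by
    intro i
    haveI := hloc i
    haveI : IsLocalization.Away (ε i) (B ⧸ Ideal.span {1 - ε i}) :=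
      IsLocalization.Away.quotient_of_isIdempotentElem (hε.idem i)
    haveI : Algebra.Etale B (B ⧸ Ideal.span {1 - ε i}) := Algebra.Etale.of_isLocalizationAway (ε i)
    haveI : Algebra.Etale A (B ⧸ Ideal.span {1 - ε i}) := Algebra.Etale.comp A B _
    exact isConnected_compl_singleton_of_connDim _ (isClosed_singleton_closedPoint _)
      (H (B ⧸ Ideal.span {1 - ε i}))
  -- the images in `Spec B`
  let c : ∀ i : Fin n, PrimeSpectrum (B ⧸ Ideal.span {1 - ε i}) → PrimeSpectrum B := fun i =>
    PrimeSpectrum.comap (Ideal.Quotient.mk (Ideal.span {1 - ε i}))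
  have hc_cont : ∀ i, Continuous (c i) := fun i => PrimeSpectrum.continuous_comap _
  have hrange : ∀ i, Set.range (c i) = (PrimeSpectrum.basicOpen (ε i) : Set (PrimeSpectrum B)) := by
    intro i
    rw [PrimeSpectrum.basicOpen_eq_zeroLocus_of_isIdempotentElem _ (hε.idem i),
      range_comap_of_surjective _ _ Ideal.Quotient.mk_surjective, Ideal.mk_ker,
      PrimeSpectrum.zeroLocus_span]
  have hpunct : ∀ i, (PrimeSpectrum.basicOpen (ε i) : Set (PrimeSpectrum B)) ∩ punct A B =
      c i '' ({closedPoint (B ⧸ Ideal.span {1 - ε i})}ᶜ) := by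
    intro i
    haveI := hloc i
    rw [← punct_eq_compl A (B ⧸ Ideal.span {1 - ε i}), ← hrange i]
    ext q
    constructor
    · rintro ⟨⟨q', rfl⟩, hq⟩
      exact ⟨q', hq, rfl⟩
    · rintro ⟨q', hq', rfl⟩
      exact ⟨⟨q', rfl⟩, hq'⟩
  have hgood := good_of_cover (punct A B) (fun i : Fin n => (PrimeSpectrum.basicOpen (ε i) : Set (PrimeSpectrum B)))
    (fun i => PrimeSpectrum.isClopen_iff.mpr ⟨ε i, hε.idem i, rfl⟩)
    (by
      rw [Set.eq_univ_iff_forall]
      intro q
      by_contra hq
      have h1 : ∀ i, ε i ∈ q.asIdeal := by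
        intro i
        by_contra hi
        exact hq (Set.mem_iUnion.mpr ⟨i, hi⟩)
      have h2 : (1 : B) ∈ q.asIdeal := by
        rw [← hε.complete]
        exact Ideal.sum_mem _ fun i _ => h1 i
      exact q.isPrime.ne_top ((Ideal.eq_top_iff_one _).mpr h2))
    (fun i => by
      rw [hpunct i]
      exact (hfac i).isPreconnected.image _ (hc_cont i).continuousOn)
    (fun i => by
      haveI := hloc i
      rw [hpunct i, ← hrange i]
      rintro _ ⟨q', rfl⟩
      by_cases hq' : q' = closedPoint _
      · obtain ⟨y, hy⟩ := (hfac i).nonempty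
        have hspec : y ⤳ q' := by
          rw [← PrimeSpectrum.le_iff_specializes, hq']
          exact IsLocalRing.le_maximalIdeal y.isPrime.ne_top
        have h3 : c i y ⤳ c i q' := hspec.map (hc_cont i)
        exact h3.mem_closed isClosed_closure (subset_closure ⟨y, hy, rfl⟩)
      · exact subset_closure ⟨q', hq', rfl⟩)
  exact ⟨hgood.1, hgood.2⟩

end hens

end Groth.Agent.H6.VDim
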