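import Mathlib
import Groth.Agent.Lib.Helper6.VDim5

/-! Clopen subsets of punctured spectra: transfer along a faithfully flat local base change with the same residue field. -/

universe u
set_option linter.unusedSectionVars false

namespace Groth.Agent.H6.VDim

open IsLocalRing PrimeSpectrum

section transfer
variable (A : Type u) [CommRing A] [IsLocalRing A] (A' : Type u) [CommRing A'] [IsLocalRing A']
  [Algebra A A']
  (hm : (maximalIdeal A).map (algebraMap A A') = maximalIdeal A')
  (hres : ∀ x : A', ∃ a : A, x - algebraMap A A' a ∈ maximalIdeal A')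
  (B : Type u) [CommRing B] [Algebra A B]
  (B' : Type u) [CommRing B'] [Algebra A' B'] [Algebra B B'] [Algebra A B'] [IsScalarTower A A' B']
  [IsScalarTower A B B'] [Module.FaithfullyFlat B B']
  (hgen : ∀ x : B', x ∈ Submodule.span A' (Set.range (algebraMap B B')))

include hm in
theorem comap_maximalIdeal' : (maximalIdeal A').comap (algebraMap A A') = maximalIdeal A := by
  apply IsLocalRing.eq_maximalIdeal
  have h1 : maximalIdeal A ≤ (maximalIdeal A').comap (algebraMap A A') := by
    rw [← Ideal.map_le_iff_le_comap, hm]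
  have h2 : (maximalIdeal A').comap (algebraMap A A') ≠ ⊤ := Ideal.comap_ne_top _ (maximalIdeal.isMaximal A').ne_top
  rw [← (maximalIdeal.isMaximal A).eq_of_le h2 h1]
  exact maximalIdeal.isMaximal A

include hm in
theorem preimage_punct :
    (PrimeSpectrum.comap (algebraMap B B')) ⁻¹' (punct A B) = punct A' B' := by
  ext q'
  simp only [punct, Set.mem_preimage, Set.mem_setOf_eq]
  rw [not_iff_not]
  have h0 : ((PrimeSpectrum.comap (algebraMap B B')) q').asIdeal.comap (algebraMap A B) =
      (q'.asIdeal.comap (algebraMap A' B')).comap (algebraMap A A') := by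
    rw [PrimeSpectrum.comap_asIdeal, Ideal.comap_comap, Ideal.comap_comap,
      ← IsScalarTower.algebraMap_eq, ← IsScalarTower.algebraMap_eq]
  rw [h0]
  constructor
  · intro h
    have h1 : maximalIdeal A' ≤ q'.asIdeal.comap (algebraMap A' B') := by
      rw [← hm, Ideal.map_le_iff_le_comap, h]
    exact ((maximalIdeal.isMaximal A').eq_of_le (Ideal.comap_ne_top _ q'.isPrime.ne_top) h1).symm
  · intro h
    rw [h]
    exact comap_maximalIdeal' A A' hm

include hres hgen in
theorem injOn_compl_punct :
    Set.InjOn (PrimeSpectrum.comap (algebraMap B B')) (punct A' B')ᶜ := by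
  have key : ∀ q₁ q₂ : PrimeSpectrum B', q₁ ∈ (punct A' B')ᶜ → q₂ ∈ (punct A' B')ᶜ →
      PrimeSpectrum.comap (algebraMap B B') q₁ = PrimeSpectrum.comap (algebraMap B B') q₂ →
      q₁.asIdeal ≤ q₂.asIdeal := by
    intro q₁ q₂ h1 h2 heq x hx
    simp only [punct, Set.mem_compl_iff, Set.mem_setOf_eq, not_not] at h1 h2
    -- claim: every `x` is congruent to the image of some `b` modulo `m' B'`
    have hcl : ∀ x : B', ∃ b : B, x - algebraMap B B' b ∈
        (maximalIdeal A').map (algebraMap A' B') := by
      intro x
      induction hgen x using Submodule.span_induction with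
      | mem y hy =>
        obtain ⟨b, rfl⟩ := hy
        exact ⟨b, by rw [sub_self]; exact Ideal.zero_mem _⟩
      | zero => exact ⟨0, by rw [map_zero, sub_self]; exact Ideal.zero_mem _⟩
      | add y z _ _ hy hz =>
        obtain ⟨b, hb⟩ := hy
        obtain ⟨c, hc⟩ := hz
        refine ⟨b + c, ?_⟩
        have : y + z - algebraMap B B' (b + c) = (y - algebraMap B B' b) + (z - algebraMap B B' c) := by
          rw [map_add]; ring
        rw [this]
        exact Ideal.add_mem _ hb hc
      | smul a' y _ hy =>
        obtain ⟨b, hb⟩ := hy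
        obtain ⟨a, ha⟩ := hres a'
        refine ⟨a • b, ?_⟩
        have : a' • y - algebraMap B B' (a • b) =
            algebraMap A' B' a' * (y - algebraMap B B' b) +
            algebraMap A' B' (a' - algebraMap A A' a) * algebraMap B B' b := by
          rw [Algebra.smul_def, Algebra.smul_def, map_mul, map_sub,
            ← IsScalarTower.algebraMap_apply A A' B', ← IsScalarTower.algebraMap_apply A B B']
          ring
        rw [this]
        exact Ideal.add_mem _ (Ideal.mul_mem_left _ _ hb)
          (Ideal.mul_mem_right _ _ (Ideal.mem_map_of_mem _ ha))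
    obtain ⟨b, hb⟩ := hcl x
    have hm1 : (maximalIdeal A').map (algebraMap A' B') ≤ q₁.asIdeal := by
      rw [Ideal.map_le_iff_le_comap, h1]
    have hm2 : (maximalIdeal A').map (algebraMap A' B') ≤ q₂.asIdeal := by
      rw [Ideal.map_le_iff_le_comap, h2]
    have hb1 : algebraMap B B' b ∈ q₁.asIdeal := by
      have := q₁.asIdeal.sub_mem hx (hm1 hb)
      rwa [sub_sub_cancel] at this
    have hb2 : algebraMap B B' b ∈ q₂.asIdeal := by
      have h3 : b ∈ (PrimeSpectrum.comap (algebraMap B B') q₁).asIdeal := hb1
      rw [heq] at h3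
      exact h3
    have := q₂.asIdeal.add_mem hb2 (hm2 hb)
    rwa [add_sub_cancel] at this
  intro q₁ h1 q₂ h2 heq
  exact PrimeSpectrum.ext (le_antisymm (key q₁ q₂ h1 h2 heq) (key q₂ q₁ h2 h1 heq.symm))

include hm hres hgen in
theorem good_of_baseChange (h : Good A' B') : Good A B := by
  have hflat : (algebraMap B B').Flat := RingHom.flat_algebraMap_iff.mpr inferInstance
  have hsurj : Function.Surjective (PrimeSpectrum.comap (algebraMap B B')) :=
    PrimeSpectrum.comap_surjective_of_faithfullyFlat
  have hq : Topology.IsQuotientMap (PrimeSpectrum.comap (algebraMap B B')) :=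
    PrimeSpectrum.isQuotientMap_of_generalizingMap hsurj hflat.generalizingMap_comap
  have hpre := preimage_punct A A' hm B B'
  have hinj := injOn_compl_punct A A' hres B B' hgen
  constructor
  · intro Z hZ hVZ
    have h1 := h.inj _ (hZ.preimage hq.continuous) (by
      rw [← hpre]; exact Set.preimage_mono hVZ)
    rw [Set.eq_univ_iff_forall]
    intro x
    obtain ⟨y, rfl⟩ := hsurj x
    have : y ∈ (PrimeSpectrum.comap (algebraMap B B')) ⁻¹' Z := by rw [h1]; trivial
    exact this
  · intro W hWV hW hVW
    obtain ⟨Z', hZ', hZ'W⟩ := h.surj ((PrimeSpectrum.comap (algebraMap B B')) ⁻¹' W)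
      (by rw [← hpre]; exact Set.preimage_mono hWV) (hW.preimage hq.continuous)
      (by
        rw [← hpre, ← Set.preimage_diff]
        exact hVW.preimage hq.continuous)
    -- `Z'` is saturated
    have hsat : (PrimeSpectrum.comap (algebraMap B B')) ⁻¹' ((PrimeSpectrum.comap (algebraMap B B')) '' Z') = Z' := by
      refine Set.Subset.antisymm ?_ (Set.subset_preimage_image _ _)
      rintro t ⟨z, hz, hzt⟩
      by_cases ht : t ∈ punct A' B'
      · have hz' : z ∈ punct A' B' := by
          rw [← hpre] at ht ⊢
          show PrimeSpectrum.comap (algebraMap B B') z ∈ punct A B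
          rw [hzt]; exact ht
        have h2 : z ∈ (PrimeSpectrum.comap (algebraMap B B')) ⁻¹' W := by
          rw [← hZ'W]; exact ⟨hz, hz'⟩
        have h3 : t ∈ (PrimeSpectrum.comap (algebraMap B B')) ⁻¹' W := by
          show PrimeSpectrum.comap (algebraMap B B') t ∈ W
          rw [← hzt]; exact h2
        rw [← hZ'W] at h3
        exact h3.1
      · have hz' : z ∈ (punct A' B')ᶜ := by
          intro hz'
          apply ht
          rw [← hpre] at hz' ⊢
          show PrimeSpectrum.comap (algebraMap B B') t ∈ punct A B
          rw [← hzt]; exact hz'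
        rw [← hinj hz' ht hzt]
        exact hz
    refine ⟨(PrimeSpectrum.comap (algebraMap B B')) '' Z', ?_, ?_⟩
    · constructor
      · rw [← hq.isClosed_preimage, hsat]; exact hZ'.1
      · rw [← hq.isOpen_preimage, hsat]; exact hZ'.2
    · ext x
      obtain ⟨y, rfl⟩ := hsurj x
      constructor
      · rintro ⟨hy1, hy2⟩
        have h4 : y ∈ Z' := by rw [← hsat]; exact hy1
        have h5 : y ∈ punct A' B' := by rw [← hpre]; exact hy2
        have : y ∈ (PrimeSpectrum.comap (algebraMap B B')) ⁻¹' W := by rw [← hZ'W]; exact ⟨h4, h5⟩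
        exact this
      · intro hyW
        have h6 : y ∈ Z' ∩ punct A' B' := by rw [hZ'W]; exact hyW
        exact ⟨⟨y, h6.1, rfl⟩, hWV hyW⟩

end transfer

end Groth.Agent.H6.VDim
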