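import Mathlib
import Groth.Agent.Lib.Helper6.VDim6
import Groth.Agent.S0543

/-! Reduction of `Good A B` to the completion of `A`. -/

universe u
set_option linter.unusedSectionVars false

namespace Groth.Agent.H6.VDim

open IsLocalRing PrimeSpectrum TensorProduct

section compl
variable (A : Type u) [CommRing A] [IsNoetherianRing A] [IsLocalRing A]
  (B : Type u) [CommRing B] [Algebra A B]

theorem hres_completion (x : AdicCompletion (maximalIdeal A) A) :
    ∃ a : A, x - algebraMap A (AdicCompletion (maximalIdeal A) A) a ∈
      maximalIdeal (AdicCompletion (maximalIdeal A) A) := by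
  obtain ⟨a, ha⟩ := Submodule.Quotient.mk_surjective _ (x.1 1)
  refine ⟨a, ?_⟩
  rw [AdicCompletion.mem_maximalIdeal_iff_eval_one_eq_zero]
  have h1 : (algebraMap A (AdicCompletion (maximalIdeal A) A) a).1 1 = Submodule.Quotient.mk a := by
    rw [AdicCompletion.algebraMap_apply]
    rfl
  have h2 : (x - algebraMap A (AdicCompletion (maximalIdeal A) A) a).1 1 =
      x.1 1 - (algebraMap A (AdicCompletion (maximalIdeal A) A) a).1 1 := rfl
  rw [h2, h1, ha, sub_self]

attribute [local instance] Algebra.TensorProduct.rightAlgebra in
theorem faithfullyFlat_right (A' : Type u) [CommRing A'] [Algebra A A'] [Module.FaithfullyFlat A A'] :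
    Module.FaithfullyFlat B (A' ⊗[A] B) := by
  let e0 := Algebra.TensorProduct.comm A A' B
  let e : (A' ⊗[A] B) ≃ₗ[B] (B ⊗[A] A') :=
    { e0.toLinearEquiv with
      map_smul' := by
        intro b x
        show e0 (b • x) = b • e0 x
        rw [Algebra.smul_def, Algebra.smul_def, map_mul]
        congr 1 }
  exact Module.FaithfullyFlat.of_linearEquiv _ _ e

attribute [local instance] Algebra.TensorProduct.rightAlgebra in
theorem good_of_completion
    (h : Good (AdicCompletion (maximalIdeal A) A) (AdicCompletion (maximalIdeal A) A ⊗[A] B)) :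
    Good A B := by
  haveI : Module.FaithfullyFlat A (AdicCompletion (maximalIdeal A) A) :=
    Module.FaithfullyFlat.of_flat_of_isLocalHom
  haveI := faithfullyFlat_right A B (AdicCompletion (maximalIdeal A) A)
  refine good_of_baseChange A (AdicCompletion (maximalIdeal A) A)
    (AdicCompletion.maximalIdeal_eq_map (R := A)).symm (hres_completion A) B
    (AdicCompletion (maximalIdeal A) A ⊗[A] B) ?_ h
  intro x
  induction x using TensorProduct.induction_on with
  | zero => exact Submodule.zero_mem _
  | tmul a b =>
    have : a ⊗ₜ[A] b = a • (algebraMap B (AdicCompletion (maximalIdeal A) A ⊗[A] B) b) := by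
      rw [Algebra.TensorProduct.right_algebraMap_apply, TensorProduct.smul_tmul', smul_eq_mul, mul_one]
    rw [this]
    exact Submodule.smul_mem _ _ (Submodule.subset_span ⟨b, rfl⟩)
  | add x y hx hy => exact Submodule.add_mem _ hx hy

end compl

end Groth.Agent.H6.VDim
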