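import Mathlib
import Groth.Agent.Lib.Helper6.VDim7

/-! `Good A B` for `A` with completion `S/(s)`, and connectedness of the punctured spectrum. -/

universe u
set_option linter.unusedSectionVars false

namespace Groth.Agent.H6.VDim

open IsLocalRing PrimeSpectrum TensorProduct

section main
variable (A : Type u) [CommRing A] [IsNoetherianRing A] [IsLocalRing A]
  (S : Type u) [CommRing S] [IsRegularLocalRing S] [IsAdicComplete (maximalIdeal S) S]
  (d : ℕ) (hd : ringKrullDim S = d) (s : Finset S) (hs : s.card + 2 ≤ d)
  (e : AdicCompletion (maximalIdeal A) A ≃+* S ⧸ Ideal.span (s : Set S))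

include hd hs e in
theorem connDim_etale_completion (C : Type u) [CommRing C] [IsLocalRing C]
    [Algebra (AdicCompletion (maximalIdeal A) A) C]
    [Module.Finite (AdicCompletion (maximalIdeal A) A) C]
    [Algebra.Etale (AdicCompletion (maximalIdeal A) A) C] :
    (1 : WithBot ℕ∞) ≤ LocCoh.connDim (PrimeSpectrum C) := by
  letI : Algebra (S ⧸ Ideal.span (s : Set S)) (AdicCompletion (maximalIdeal A) A) :=
    e.symm.toRingHom.toAlgebra
  letI : Algebra (S ⧸ Ideal.span (s : Set S)) C :=
    ((algebraMap (AdicCompletion (maximalIdeal A) A) C).comp e.symm.toRingHom).toAlgebra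
  haveI : IsScalarTower (S ⧸ Ideal.span (s : Set S)) (AdicCompletion (maximalIdeal A) A) C :=
    IsScalarTower.of_algebraMap_eq (fun _ => rfl)
  haveI : Module.Finite (S ⧸ Ideal.span (s : Set S)) (AdicCompletion (maximalIdeal A) A) :=
    Module.Finite.of_surjective (Algebra.linearMap _ _) e.symm.surjective
  haveI : Module.Finite (S ⧸ Ideal.span (s : Set S)) C :=
    Module.Finite.trans (AdicCompletion (maximalIdeal A) A) C
  let e' : (S ⧸ Ideal.span (s : Set S)) ≃ₐ[S ⧸ Ideal.span (s : Set S)]
      (AdicCompletion (maximalIdeal A) A) :=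
    { e.symm with commutes' := fun _ => rfl }
  haveI : Algebra.Etale (S ⧸ Ideal.span (s : Set S)) (AdicCompletion (maximalIdeal A) A) :=
    Algebra.Etale.of_equiv e'
  haveI : Algebra.Etale (S ⧸ Ideal.span (s : Set S)) C :=
    Algebra.Etale.comp _ (AdicCompletion (maximalIdeal A) A) C
  exact one_le_connDim_etale S d hd s hs C

include hd hs e in
theorem good_main (B : Type u) [CommRing B] [Algebra A B] [Module.Finite A B] [Algebra.Etale A B] :
    Good A B := by
  apply good_of_completion
  haveI : HenselianLocalRing (AdicCompletion (maximalIdeal A) A) :=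
    Groth.Agent.H6.InertiaCompl.henselianLocalRing_of_complete _
  refine good_of_henselian (AdicCompletion (maximalIdeal A) A) ?_
    (AdicCompletion (maximalIdeal A) A ⊗[A] B)
  intro C _ _ _ _ _
  exact connDim_etale_completion A S d hd s hs e C

include hd hs e in
theorem isConnected_punctured_main :
    IsConnected ({closedPoint A}ᶜ : Set (PrimeSpectrum A)) := by
  have h1 := isConnected_punctured S d hd s hs (AdicCompletion (maximalIdeal A) A) e
  have h2 := (Groth.Agent.H6.ComplConn.main A).1
  exact isConnected_compl_singleton_of_connDim _ (isClosed_singleton_closedPoint _) (h1.trans h2)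

end main

end Groth.Agent.H6.VDim
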