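import Mathlib
import Groth.Prelude
import Groth.Agent.Lib.Helper6.VDim8
import Groth.Agent.Lib.Helper6.FEtAff

/-! Scheme-level translation for S14269. -/

universe u
set_option linter.unusedSectionVars false

namespace Groth.Agent.H6.VDim

open IsLocalRing PrimeSpectrum TensorProduct CategoryTheory CategoryTheory.Limits AlgebraicGeometry
open Groth.Agent.H6.FEtFF

/-- topological form of `Good` -/
def TopGood {T : Type*} [TopologicalSpace T] (V : Set T) : Prop :=
  (∀ Z : Set T, IsClopen Z → V ⊆ Z → Z = Set.univ) ∧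
  (∀ W : Set T, W ⊆ V → IsOpen W → IsOpen (V \ W) → ∃ Z, IsClopen Z ∧ Z ∩ V = W)

theorem TopGood.of_homeomorph {T T' : Type*} [TopologicalSpace T] [TopologicalSpace T']
    (h : T ≃ₜ T') (V : Set T) (V' : Set T') (hV : h ⁻¹' V' = V) (hg : TopGood V') : TopGood V := by
  have hV' : h.symm ⁻¹' V = V' := by
    rw [← hV, ← Set.preimage_comp]
    have : (⇑h ∘ ⇑h.symm) = id := by ext x; simp
    rw [this, Set.preimage_id]
  constructor
  · intro Z hZ hVZ
    have h1 := hg.1 (h.symm ⁻¹' Z) (hZ.preimage h.symm.continuous) (by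
      rw [← hV']; exact Set.preimage_mono hVZ)
    rw [Set.eq_univ_iff_forall] at h1 ⊢
    intro x
    have := h1 (h x)
    simpa using this
  · intro W hWV hW hVW
    obtain ⟨Z, hZ, hZW⟩ := hg.2 (h.symm ⁻¹' W) (by rw [← hV']; exact Set.preimage_mono hWV)
      (hW.preimage h.symm.continuous) (by
        rw [← hV', ← Set.preimage_diff]; exact hVW.preimage h.symm.continuous)
    refine ⟨h ⁻¹' Z, hZ.preimage h.continuous, ?_⟩
    rw [← hV, ← Set.preimage_inter, hZW, ← Set.preimage_comp]
    have : (⇑h.symm ∘ ⇑h) = id := by ext x; simp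
    rw [this, Set.preimage_id]

theorem clopen_of_topGood {P Y : Scheme.{u}} (g : P ⟶ Y) [IsOpenImmersion g]
    (h : TopGood (Set.range g.base)) : ClopenInj g ∧ ClopenSurj g := by
  refine ⟨h.1, ?_⟩
  intro Z' hZ'
  have hemb : Topology.IsOpenEmbedding g.base := g.isOpenEmbedding
  obtain ⟨Z, hZ, hZW⟩ := h.2 (g.base '' Z') (Set.image_subset_range _ _)
    (hemb.isOpenMap _ hZ'.2) (by
      have : Set.range g.base \ g.base '' Z' = g.base '' Z'ᶜ := by
        rw [← Set.image_univ, ← Set.image_diff hemb.injective, Set.compl_eq_univ_diff]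
      rw [this]
      exact hemb.isOpenMap _ hZ'.compl.2)
  refine ⟨Z, hZ, ?_⟩
  ext x
  constructor
  · intro hx
    have : g.base x ∈ Z ∩ Set.range g.base := ⟨hx, ⟨x, rfl⟩⟩
    rw [hZW] at this
    obtain ⟨x', hx', hxx'⟩ := this
    rw [← hemb.injective hxx']
    exact hx'
  · intro hx
    have : g.base x ∈ Z ∩ Set.range g.base := by
      rw [hZW]; exact ⟨x, hx, rfl⟩
    exact this.1

section main
variable (A : Type u) [CommRing A] [IsLocalRing A]

theorem topGood_of_good (H : ∀ (B : Type u) [CommRing B] [Algebra A B] [Module.Finite A B]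
    [Algebra.Etale A B], Good A B) (Y : FEt.Cat (Spec (CommRingCat.of A))) :
    TopGood (Set.range (pullback.fst Y.hom (FEt.puncturedSpec A).ι).base) := by
  obtain ⟨B, _, _, hfin, het, e₀, he₀⟩ := Groth.Agent.H6.FEtAff.exists_affine_model A Y
  have hB := H B
  have hB' : TopGood (punct A B) := ⟨hB.inj, hB.surj⟩
  refine TopGood.of_homeomorph (Scheme.homeoOfIso e₀) _ (punct A B) ?_ hB'
  have h1 : Set.range (pullback.fst Y.hom (FEt.puncturedSpec A).ι).base =
      Y.hom.base ⁻¹' (Set.range (FEt.puncturedSpec A).ι.base) :=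
    Scheme.Pullback.range_fst _ _
  rw [h1]
  have h2 : Set.range (FEt.puncturedSpec A).ι.base = ((FEt.puncturedSpec A : (Spec (CommRingCat.of A)).Opens) : Set (Spec (CommRingCat.of A))) :=
    Scheme.Opens.range_ι _
  rw [h2]
  ext y
  simp only [Set.mem_preimage]
  rw [← he₀]
  have key : ∀ q : PrimeSpectrum B, q ∈ punct A B ↔
      PrimeSpectrum.comap (algebraMap A B) q ∈ ({closedPoint A}ᶜ : Set (PrimeSpectrum A)) := by
    intro q
    simp only [punct, Set.mem_setOf_eq, Set.mem_compl_iff, Set.mem_singleton_iff]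
    rw [not_iff_not, PrimeSpectrum.ext_iff]
    rfl
  exact key _

theorem full_faithful_of_good (H : ∀ (B : Type u) [CommRing B] [Algebra A B] [Module.Finite A B]
    [Algebra.Etale A B], Good A B) :
    (FEt.restrict (FEt.puncturedSpec A).ι).Full ∧ (FEt.restrict (FEt.puncturedSpec A).ι).Faithful :=
  full_faithful_of_clopen _ (fun Y => (clopen_of_topGood _ (topGood_of_good A H Y)).1)
    (fun Y => (clopen_of_topGood _ (topGood_of_good A H Y)).2)

end main

theorem s14269 (A : Type u) [CommRing A] [IsNoetherianRing A] [IsLocalRing A] (S : Type u) [CommRing S]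
    [IsRegularLocalRing S] [IsAdicComplete (maximalIdeal S) S] (d : ℕ) (hd : ringKrullDim S = d)
    (s : Finset S) (hs : s.card + 2 ≤ d)
    (e : AdicCompletion (maximalIdeal A) A ≃+* S ⧸ Ideal.span (s : Set S)) :
    ((FEt.restrict (FEt.puncturedSpec A).ι).Full ∧ (FEt.restrict (FEt.puncturedSpec A).ι).Faithful) ∧
      ConnectedSpace ↥(FEt.puncturedSpec A : Scheme.{u}) := by
  refine ⟨full_faithful_of_good A (fun B _ _ _ _ => good_main A S d hd s hs e B), ?_⟩
  have h := isConnected_punctured_main A S d hd s hs e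
  exact isConnected_iff_connectedSpace.mp h

end Groth.Agent.H6.VDim
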