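import Mathlib
import Groth.Agent.Lib.Helper1.FlatLocus
import Groth.Agent.Lib.Helper8.EssEt.TotFrac
import Groth.Agent.Lib.Helper6.VF2
import Groth.Agent.S0543

/-!
# Valuative criterion of flatness, part 3 (helper6): reduction to the complete local core

* `flat_localized_of_flat_baseChange`: flatness over the base of a localization of a module over an
  algebra `B` can be checked after a flat base change `B → B''`.
* `flat_localized_pushout`: the complete local core applied to a localization of a pushout.
* `main`: over a reduced Noetherian ring, a finite module over a finite type algebra is flat as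
  soon as all its base changes to discrete valuation rings are flat.
-/

set_option autoImplicit false
universe u
open TensorProduct Function IsLocalRing

namespace Groth.Agent.H6.ValFlat

section Assembly

variable {R B : Type*} [CommRing R] [CommRing B] [Algebra R B]
  {X : Type*} [AddCommGroup X] [Module B X] [Module R X] [IsScalarTower R B X]
  (B'' : Type*) [CommRing B''] [Algebra R B''] [Algebra B B''] [IsScalarTower R B B'']
  [Module.Flat B B'']

/-- an element of `B'' ⊗ 𝔞` maps into `𝔞 B''` -/
theorem lTensor_subtype_mem_map (𝔞 : Ideal B) (w : B'' ⊗[B] 𝔞) :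
    Algebra.TensorProduct.rid B B'' B'' ((𝔞.subtype.lTensor B'') w) ∈
      𝔞.map (algebraMap B B'') := by
  induction w using TensorProduct.induction_on with
  | zero => simp
  | add x y hx hy => rw [map_add, map_add]; exact Ideal.add_mem _ hx hy
  | tmul s a =>
    simp only [LinearMap.lTensor_tmul, Submodule.subtype_apply, Algebra.TensorProduct.rid_tmul]
    rw [Algebra.smul_def, mul_comm]
    exact Ideal.mul_mem_left _ _ (Ideal.mem_map_of_mem _ a.2)

/-- if `t ⊗ x = 0` in `B'' ⊗[B] N` with `B''` flat over `B`, then `t ∈ ann(x) B''` -/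
theorem mem_map_ker_of_tmul_eq_zero {N : Type*} [AddCommGroup N] [Module B N] (x : N) (t : B'')
    (h : t ⊗ₜ[B] x = 0) :
    t ∈ Ideal.map (algebraMap B B'') (LinearMap.ker (LinearMap.toSpanSingleton B N x)) := by
  set f := LinearMap.toSpanSingleton B N x with hf
  have hex : Function.Exact ((LinearMap.ker f).subtype.lTensor B'') (f.lTensor B'') :=
    Module.Flat.lTensor_exact B'' (LinearMap.exact_subtype_ker_map f)
  have h1 : (f.lTensor B'') (t ⊗ₜ[B] (1 : B)) = 0 := by
    rw [LinearMap.lTensor_tmul, hf, LinearMap.toSpanSingleton_apply, one_smul, h]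
  obtain ⟨w, hw⟩ := (hex _).mp h1
  have h2 := lTensor_subtype_mem_map B'' (LinearMap.ker f) w
  rw [hw, Algebra.TensorProduct.rid_tmul, one_smul] at h2
  exact h2

variable (q : Ideal B) [q.IsPrime] (q'' : Ideal B'') [q''.IsPrime]
  (hq : q.map (algebraMap B B'') ≤ q'')

include hq in
/-- flatness over the base can be checked after a flat base change of the algebra,
at a prime above the given prime -/
theorem flat_localized_of_flat_baseChange
    [Module.Flat R (LocalizedModule q''.primeCompl (B'' ⊗[B] X))] :
    Module.Flat R (LocalizedModule q.primeCompl X) := by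
  refine Groth.Agent.H1.FlatLocus.flat_of_forall_exists_smul q.primeCompl
    (LocalizedModule.mkLinearMap q.primeCompl X) fun I x hx => ?_
  by_contra hcon
  push Not at hcon
  -- the annihilator of `x` is contained in `q`
  have hann : LinearMap.ker (LinearMap.toSpanSingleton B (X ⊗[R] I) x) ≤ q := by
    intro s hs
    by_contra hsq
    exact hcon s hsq (by simpa [LinearMap.toSpanSingleton_apply] using hs)
  -- push `x` to `Y ⊗ I`
  let j : X →ₗ[B] B'' ⊗[B] X := TensorProduct.mk B B'' X 1
  let J := AlgebraTensorModule.rTensor R I j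
  have hx'' : I.subtype.lTensor (B'' ⊗[B] X) (J x) = 0 := by
    have hnat : ∀ y : X ⊗[R] I, I.subtype.lTensor (B'' ⊗[B] X) (J y) =
        (AlgebraTensorModule.rTensor R R j) (I.subtype.lTensor X y) := by
      intro y
      induction y using TensorProduct.induction_on with
      | zero => simp
      | add a b ha hb => simp only [map_add, ha, hb]
      | tmul a b => simp [J]
    rw [hnat, hx, map_zero]
  obtain ⟨t, ht, htx⟩ := Groth.Agent.H1.FlatLocus.exists_smul_eq_zero_of_flat
    (X' := LocalizedModule q''.primeCompl (B'' ⊗[B] X)) q''.primeCompl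
    (LocalizedModule.mkLinearMap q''.primeCompl (B'' ⊗[B] X)) I (J x) hx''
  -- transport to `B'' ⊗ (X ⊗ I)`
  have hassoc : ∀ y : X ⊗[R] I,
      AlgebraTensorModule.assoc R B B'' B'' X I (t • J y) = t ⊗ₜ[B] y := by
    intro y
    induction y using TensorProduct.induction_on with
    | zero => simp
    | add a b ha hb => simp only [map_add, smul_add, tmul_add, ha, hb]
    | tmul a b => simp [J, j, TensorProduct.smul_tmul']
  have h0 : t ⊗ₜ[B] x = 0 := by rw [← hassoc, htx, map_zero]
  have := mem_map_ker_of_tmul_eq_zero B'' x t h0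
  exact ht (hq (Ideal.map_mono hann this))

end Assembly

section Pushout

variable (A : Type u) [CommRing A]
  (B : Type u) [CommRing B] [Algebra A B]
  (M : Type u) [AddCommGroup M] [Module A M] [Module B M] [IsScalarTower A B M]
  (C : Type u) [CommRing C] [Algebra A C]

/-- flatness of base changes of `C ⊗[A] M` over `C` from those of `M` over `A` -/
theorem flat_baseChange_of_linearEquiv (Y : Type u) [AddCommGroup Y] [Module C Y]
    (e : Y ≃ₗ[C] C ⊗[A] M)
    (E : Type u) [CommRing E] [Algebra C E] [Algebra A E] [IsScalarTower A C E]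
    [Module.Flat E (E ⊗[A] M)] : Module.Flat E (E ⊗[C] Y) :=
  Module.Flat.of_linearEquiv
    (AlgebraTensorModule.congr (LinearEquiv.refl E E) e ≪≫ₗ
      AlgebraTensorModule.cancelBaseChange A C E E M)

theorem dvrFlat_of_linearEquiv (hdvr : DVRFlat A M) (Y : Type u) [AddCommGroup Y] [Module C Y]
    (e : Y ≃ₗ[C] C ⊗[A] M) : DVRFlat C Y := by
  intro R _ _ _ _
  letI : Algebra A R := RingHom.toAlgebra ((algebraMap C R).comp (algebraMap A C))
  haveI : IsScalarTower A C R := IsScalarTower.of_algebraMap_eq fun _ => rfl
  haveI := hdvr R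
  exact flat_baseChange_of_linearEquiv A M C Y e R

variable [Module.Finite B M] [IsNoetherianRing C] [IsLocalRing C]
  [IsAdicComplete (maximalIdeal C) C]
  (B'' : Type u) [CommRing B''] [IsNoetherianRing B''] [Algebra A B''] [Algebra B B'']
  [Algebra C B''] [IsScalarTower A B B''] [IsScalarTower A C B''] [Algebra.IsPushout A C B B'']
  (q'' : Ideal B'') [q''.IsPrime] (hq'' : (maximalIdeal C).map (algebraMap C B'') ≤ q'')

include hq'' in
theorem flat_localized_pushout (hdvr : DVRFlat A M)
    (E : Type u) [CommRing E] [Algebra C E] [Algebra A E] [IsScalarTower A C E]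
    (hE : Injective (algebraMap C E)) [Module.Flat E (E ⊗[A] M)] :
    Module.Flat C (LocalizedModule q''.primeCompl (B'' ⊗[B] M)) := by
  let e : B'' ⊗[B] M ≃ₗ[C] C ⊗[A] M := Algebra.IsPushout.cancelBaseChange A C B B'' M
  have hdvrY : DVRFlat C (B'' ⊗[B] M) := dvrFlat_of_linearEquiv A M C hdvr _ e
  haveI hEY : Module.Flat E (E ⊗[C] (B'' ⊗[B] M)) := flat_baseChange_of_linearEquiv A M C _ e E
  let g := LocalizedModule.mkLinearMap q''.primeCompl (B'' ⊗[B] M)
  have hdvrZ : DVRFlat C (LocalizedModule q''.primeCompl (B'' ⊗[B] M)) := by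
    intro R _ _ _ _
    haveI := hdvrY R
    exact flat_baseChange_of_isLocalizedModule (C := C) (Y := B'' ⊗[B] M)
      (Z := LocalizedModule q''.primeCompl (B'' ⊗[B] M)) q''.primeCompl g R
  haveI hEZ : Module.Flat E (E ⊗[C] (LocalizedModule q''.primeCompl (B'' ⊗[B] M))) :=
    flat_baseChange_of_isLocalizedModule (C := C) (Y := B'' ⊗[B] M)
      (Z := LocalizedModule q''.primeCompl (B'' ⊗[B] M)) q''.primeCompl g E
  haveI : IsNoetherianRing (Localization q''.primeCompl) :=
    IsLocalization.isNoetherianRing q''.primeCompl _ inferInstance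
  haveI : Module.Finite (Localization q''.primeCompl)
      (LocalizedModule q''.primeCompl (B'' ⊗[B] M)) :=
    Module.Finite.of_isLocalizedModule q''.primeCompl g
  have hrad : (maximalIdeal C).map (algebraMap C (Localization q''.primeCompl)) ≤
      Ideal.jacobson ⊥ := by
    refine le_trans ?_ (IsLocalRing.maximalIdeal_le_jacobson ⊥)
    rw [IsScalarTower.algebraMap_eq C B'' (Localization q''.primeCompl), ← Ideal.map_map,
      ← Localization.AtPrime.map_eq_maximalIdeal]
    exact Ideal.map_mono hq''
  exact core C (Localization q''.primeCompl) hrad _ hdvrZ E hE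

end Pushout

section Frac

variable (A : Type u) [CommRing A] [IsNoetherianRing A] [IsReduced A]

/-- every module over the total ring of fractions of a reduced Noetherian ring is flat -/
theorem flat_fractionRing (N : Type u) [AddCommGroup N] [Module (FractionRing A) N] :
    Module.Flat (FractionRing A) N := by
  have hmin : (minimalPrimes A).Finite := minimalPrimes.finite_of_isNoetherianRing A
  haveI : IsArtinianRing (FractionRing A) :=
    Groth.Agent.H8.EssEt.isArtinianRing_of_isFractionRing A (FractionRing A) hmin
  haveI : IsReduced (FractionRing A) := inferInstance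
  haveI : IsSemisimpleRing (FractionRing A) := IsArtinianRing.isSemisimpleRing_of_isReduced _
  haveI : Module.Projective (FractionRing A) N := Module.projective_of_isSemisimpleRing _ _
  infer_instance

attribute [local instance] Algebra.TensorProduct.rightAlgebra

theorem flat_tensor_fractionRing (M : Type u) [AddCommGroup M] [Module A M]
    (C : Type u) [CommRing C] [Algebra A C] :
    Module.Flat (C ⊗[A] FractionRing A) ((C ⊗[A] FractionRing A) ⊗[A] M) := by
  haveI : Module.Flat (FractionRing A) (FractionRing A ⊗[A] M) := flat_fractionRing A _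
  exact Module.Flat.of_linearEquiv
    (AlgebraTensorModule.cancelBaseChange A (FractionRing A) (C ⊗[A] FractionRing A)
      (C ⊗[A] FractionRing A) M).symm

end Frac

section Inst

attribute [local instance] Algebra.TensorProduct.rightAlgebra

variable (A : Type u) [CommRing A]
  (B : Type u) [CommRing B] [Algebra A B]
  (C : Type u) [CommRing C] [Algebra A C]

theorem injective_algebraMap_tensor_fractionRing [Module.Flat A C] :
    Injective (algebraMap C (C ⊗[A] FractionRing A)) := by
  have h1 : Injective (Algebra.linearMap A (FractionRing A)) :=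
    IsFractionRing.injective A (FractionRing A)
  have h2 := Module.Flat.lTensor_preserves_injective_linearMap (M := C)
    (Algebra.linearMap A (FractionRing A)) h1
  have : ⇑(algebraMap C (C ⊗[A] FractionRing A)) =
      (Algebra.linearMap A (FractionRing A)).lTensor C ∘ (TensorProduct.rid A C).symm := by
    ext c
    simp [Algebra.TensorProduct.algebraMap_apply]
  rw [this]
  exact h2.comp (LinearEquiv.injective _)

variable (q : Ideal B) [q.IsPrime] [IsLocalRing C]
  (hmC : maximalIdeal C = (q.comap (algebraMap A B)).map (algebraMap A C))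

include hmC in
theorem nontrivial_tensor_quotient [Module.Flat A C] : Nontrivial (C ⊗[A] (B ⧸ q)) := by
  set p := q.comap (algebraMap A B) with hp
  -- `C ⊗ A/p` is nontrivial
  let D := C ⧸ maximalIdeal C
  have hker : ∀ a ∈ p, (Algebra.ofId A D) a = 0 := by
    intro a ha
    change algebraMap A D a = 0
    rw [IsScalarTower.algebraMap_apply A C D, Ideal.Quotient.algebraMap_eq,
      Ideal.Quotient.eq_zero_iff_mem, hmC]
    exact Ideal.mem_map_of_mem _ ha
  let ψ : C ⊗[A] (A ⧸ p) →ₐ[A] D :=
    Algebra.TensorProduct.lift (Ideal.Quotient.mkₐ A (maximalIdeal C))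
      (Ideal.Quotient.liftₐ p (Algebra.ofId A D) hker) (fun _ _ => Commute.all _ _)
  haveI : Nontrivial (C ⊗[A] (A ⧸ p)) := RingHom.domain_nontrivial ψ.toRingHom
  let ι : (A ⧸ p) →ₐ[A] (B ⧸ q) := Ideal.quotientMapₐ q (Algebra.ofId A B) le_rfl
  have hι : Injective ι.toLinearMap := by
    change Injective (Ideal.quotientMap q (algebraMap A B) le_rfl)
    exact Ideal.quotientMap_injective
  have hinj := Module.Flat.lTensor_preserves_injective_linearMap (M := C) ι.toLinearMap hι
  refine ⟨⟨1, 0, fun h => ?_⟩⟩
  have h1 : (ι.toLinearMap.lTensor C) (1 : C ⊗[A] (A ⧸ p)) = (ι.toLinearMap.lTensor C) 0 := by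
    rw [map_zero, Algebra.TensorProduct.one_def, LinearMap.lTensor_tmul]
    simpa [Algebra.TensorProduct.one_def] using h
  exact one_ne_zero (hinj h1)

include hmC in
theorem exists_prime_over [Module.Flat A C] :
    ∃ q'' : Ideal (C ⊗[A] B), q''.IsPrime ∧ q.map (algebraMap B (C ⊗[A] B)) ≤ q'' ∧
      (maximalIdeal C).map (algebraMap C (C ⊗[A] B)) ≤ q'' := by
  haveI := nontrivial_tensor_quotient A B C q hmC
  let φ : C ⊗[A] B →ₐ[A] C ⊗[A] (B ⧸ q) :=
    Algebra.TensorProduct.map (AlgHom.id A C) (Ideal.Quotient.mkₐ A q)
  have hne : RingHom.ker φ.toRingHom ≠ ⊤ := RingHom.ker_ne_top _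
  obtain ⟨q'', hmax, hle⟩ := Ideal.exists_le_maximal _ hne
  have hq : q.map (algebraMap B (C ⊗[A] B)) ≤ q'' := by
    refine le_trans ?_ hle
    rw [Ideal.map_le_iff_le_comap]
    intro b hb
    rw [Ideal.mem_comap, RingHom.mem_ker]
    change φ (1 ⊗ₜ b) = 0
    simp [φ, Ideal.Quotient.eq_zero_iff_mem.mpr hb]
  refine ⟨q'', hmax.isPrime, hq, le_trans ?_ hq⟩
  rw [hmC, Ideal.map_map, ← IsScalarTower.algebraMap_eq,
    IsScalarTower.algebraMap_eq A B (C ⊗[A] B), ← Ideal.map_map]
  exact Ideal.map_mono Ideal.map_comap_le

end Inst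

section Main

attribute [local instance] Algebra.TensorProduct.rightAlgebra

variable (A : Type u) [CommRing A] [IsNoetherianRing A] [IsReduced A]
  (B : Type u) [CommRing B] [Algebra A B] [Algebra.FiniteType A B]
  (M : Type u) [AddCommGroup M] [Module A M] [Module B M] [IsScalarTower A B M]
  [Module.Finite B M]

theorem flat_localized_of_complete (hdvr : DVRFlat A M) (q : Ideal B) [q.IsPrime]
    (C : Type u) [CommRing C] [IsNoetherianRing C] [IsLocalRing C]
    [IsAdicComplete (maximalIdeal C) C] [Algebra A C] [Module.Flat A C]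
    (hmC : maximalIdeal C = (q.comap (algebraMap A B)).map (algebraMap A C)) :
    Module.Flat A (LocalizedModule q.primeCompl M) := by
  obtain ⟨q'', hq''prime, hq, hmq⟩ := exists_prime_over A B C q hmC
  haveI := hq''prime
  haveI : Algebra.FiniteType C (C ⊗[A] B) := inferInstance
  haveI : IsNoetherianRing (C ⊗[A] B) := Algebra.FiniteType.isNoetherianRing C (C ⊗[A] B)
  haveI : Module.Flat B (C ⊗[A] B) :=
    Module.Flat.isBaseChange A B C (C ⊗[A] B)
      (Algebra.IsPushout.out (R := A) (S := B) (R' := C) (S' := C ⊗[A] B))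
  haveI : Module.Flat (C ⊗[A] FractionRing A) ((C ⊗[A] FractionRing A) ⊗[A] M) :=
    flat_tensor_fractionRing A M C
  haveI hZ : Module.Flat C (LocalizedModule q''.primeCompl ((C ⊗[A] B) ⊗[B] M)) :=
    flat_localized_pushout A B M C (C ⊗[A] B) q'' hmq hdvr (C ⊗[A] FractionRing A)
      (injective_algebraMap_tensor_fractionRing A C)
  haveI : IsScalarTower A C (LocalizedModule q''.primeCompl ((C ⊗[A] B) ⊗[B] M)) := by
    refine IsScalarTower.of_algebraMap_smul fun a z => ?_
    induction z using LocalizedModule.induction_on with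
    | h y s =>
      rw [LocalizedModule.smul'_mk, LocalizedModule.smul'_mk, algebraMap_smul]
  haveI : Module.Flat A (LocalizedModule q''.primeCompl ((C ⊗[A] B) ⊗[B] M)) :=
    Module.Flat.trans A C _
  exact flat_localized_of_flat_baseChange (R := A) (C ⊗[A] B) q q'' hq

theorem flat_localized_at_prime (hdvr : DVRFlat A M) (q : Ideal B) [q.IsPrime] :
    Module.Flat A (LocalizedModule q.primeCompl M) := by
  set p := q.comap (algebraMap A B) with hp
  let Ap := Localization.AtPrime p
  haveI : IsNoetherianRing Ap := IsLocalization.isNoetherianRing p.primeCompl _ inferInstance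
  let C := AdicCompletion (maximalIdeal Ap) Ap
  haveI : IsNoetherianRing C := Groth.Agent.S0543.result Ap _
  haveI : IsScalarTower A Ap C := IsScalarTower.of_algebraMap_eq fun _ => rfl
  haveI : Module.Flat A Ap := IsLocalization.flat Ap p.primeCompl
  haveI : Module.Flat A C := Module.Flat.trans A Ap C
  have hmC : maximalIdeal C = p.map (algebraMap A C) := by
    rw [IsScalarTower.algebraMap_eq A Ap C, ← Ideal.map_map,
      Localization.AtPrime.map_eq_maximalIdeal]
    exact AdicCompletion.maximalIdeal_eq_map (R := Ap)
  exact flat_localized_of_complete A B M hdvr q C hmC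

end Main

section Final

/-- **Valuative criterion of flatness** over a reduced Noetherian base. -/
theorem main (A : Type u) [CommRing A] [IsNoetherianRing A] [IsReduced A]
    (B : Type u) [CommRing B] [Algebra A B] [Algebra.FiniteType A B]
    (M : Type u) [AddCommGroup M] [Module A M] [Module B M] [IsScalarTower A B M]
    [Module.Finite B M] (hdvr : DVRFlat A M) : Module.Flat A M := by
  refine Module.flat_of_isLocalized_maximal B M (fun P _ => LocalizedModule P.primeCompl M)
    (fun P _ => LocalizedModule.mkLinearMap P.primeCompl M) (fun P hP => ?_)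
  exact flat_localized_at_prime A B M hdvr P

end Final

end Groth.Agent.H6.ValFlat
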