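import Groth.Agent.Lib.Helper6.GrVerType

/-! A subring identified with the elements all of whose components in degrees not divisible by
`q` vanish carries a grading making it the `q`-th Veronese subring. -/

universe u
open DirectSum
set_option linter.unusedSectionVars false

namespace Groth.Agent.H6

namespace Ver

open Gr

section VerGrading

variable {R : Type u} [CommRing R] {R' : Type u} [CommRing R']
variable {q : ℕ} {𝒜 : ℤ → AddSubgroup R} [GradedRing 𝒜] {φ : R' →+* R}

/-- the pieces of the Veronese grading -/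
def verGr (q : ℕ) (𝒜 : ℤ → AddSubgroup R) (φ : R' →+* R) (j : ℤ) : AddSubgroup R' :=
  (𝒜 (j * q)).comap (φ : R' →+ R)

theorem mem_verGr {j : ℤ} {x : R'} : x ∈ verGr q 𝒜 φ j ↔ φ x ∈ 𝒜 (j * q) := Iff.rfl

theorem verGr_gradedMonoid : SetLike.GradedMonoid (verGr q 𝒜 φ) where
  one_mem := by
    rw [mem_verGr, map_one, zero_mul]
    exact SetLike.GradedOne.one_mem
  mul_mem := by
    intro i j x y hx hy
    rw [mem_verGr] at hx hy ⊢
    rw [map_mul, add_mul]
    exact SetLike.GradedMul.mul_mem hx hy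

variable (hq : 0 < q) (hφ : Function.Injective φ)
  (hrange : ∀ x : R, x ∈ φ.range ↔ ∀ j : ℤ, ¬ (q : ℤ) ∣ j → proj 𝒜 j x = 0)

include hrange in
theorem exists_preimage_proj (j : ℤ) (x : R') : ∃ y : R', φ y = proj 𝒜 (j * q) (φ x) := by
  have : proj 𝒜 (j * q) (φ x) ∈ φ.range := by
    rw [hrange]
    intro i hi
    have hne : j * (q : ℤ) ≠ i := by
      rintro rfl
      exact hi (dvd_mul_left _ _)
    exact proj_of_mem_ne 𝒜 (proj_mem 𝒜 _ _) hne
  obtain ⟨y, hy⟩ := this
  exact ⟨y, hy⟩

include hφ hrange in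
/-- the projections of the Veronese grading -/
noncomputable def verPr (j : ℤ) : R' →+ R' :=
  AddMonoidHom.mk' (fun x => (exists_preimage_proj hrange j x).choose) (by
    intro x y
    apply hφ
    have h1 := (exists_preimage_proj hrange j x).choose_spec
    have h2 := (exists_preimage_proj hrange j y).choose_spec
    have h3 := (exists_preimage_proj hrange j (x + y)).choose_spec
    have h4 : φ ((exists_preimage_proj hrange j x).choose + (exists_preimage_proj hrange j y).choose) =
        proj 𝒜 (j * q) (φ x) + proj 𝒜 (j * q) (φ y) := by rw [map_add, h1, h2]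
    exact h3.trans (by rw [h4, map_add, map_add]))

theorem map_verPr (j : ℤ) (x : R') : φ (verPr hφ hrange j x) = proj 𝒜 (j * q) (φ x) :=
  (exists_preimage_proj hrange j x).choose_spec

include hq in
theorem mul_q_ne {j e : ℤ} (h : j ≠ e) : j * (q : ℤ) ≠ e * q := by
  intro h2
  apply h
  have hq' : (q : ℤ) ≠ 0 := by omega
  exact mul_right_cancel₀ hq' h2

include hq hφ hrange in
theorem verGr_isInternal : DirectSum.IsInternal (verGr q 𝒜 φ) := by
  classical
  refine isInternal_of_proj (verGr q 𝒜 φ) (verPr hφ hrange) ?_ ?_ ?_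
  · intro j x hx
    apply hφ
    rw [map_verPr, proj_of_mem 𝒜 (mem_verGr.mp hx)]
  · intro j e x hx hne
    apply hφ
    rw [map_verPr, map_zero, proj_of_mem_ne 𝒜 (mem_verGr.mp hx) (mul_q_ne hq hne)]
  · intro x
    have hx : φ x ∈ φ.range := ⟨x, rfl⟩
    rw [hrange] at hx
    have hsum : x = ∑ i ∈ (DirectSum.decompose 𝒜 (φ x)).support.filter (fun i => (q : ℤ) ∣ i),
        verPr hφ hrange (i / q) x := by
      apply hφ
      rw [map_sum]
      conv_lhs => rw [← sum_proj 𝒜 (φ x)]
      rw [← Finset.sum_filter_add_sum_filter_not (DirectSum.decompose 𝒜 (φ x)).support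
        (fun i => (q : ℤ) ∣ i)]
      have h0 : ∑ i ∈ (DirectSum.decompose 𝒜 (φ x)).support.filter (fun i => ¬ (q : ℤ) ∣ i),
          proj 𝒜 i (φ x) = 0 :=
        Finset.sum_eq_zero fun i hi => hx i (Finset.mem_filter.mp hi).2
      rw [h0, add_zero]
      refine Finset.sum_congr rfl fun i hi => ?_
      rw [map_verPr, Int.ediv_mul_cancel (Finset.mem_filter.mp hi).2]
    rw [hsum]
    refine sum_mem fun j _ => ?_
    apply AddSubgroup.mem_iSup_of_mem (j / q)
    rw [mem_verGr, map_verPr]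
    exact proj_mem 𝒜 _ _

include hq hφ hrange in
/-- the Veronese grading exists -/
theorem exists_verGrading :
    ∃ (𝒜' : ℤ → AddSubgroup R') (_ : GradedRing 𝒜'), IsVerRing q 𝒜' 𝒜 φ ∧
      ∀ (j : ℤ) (x : R'), x ∈ 𝒜' j ↔ φ x ∈ 𝒜 (j * q) := by
  letI : DirectSum.Decomposition (verGr q 𝒜 φ) :=
    (verGr_isInternal hq hφ hrange).chooseDecomposition
  haveI := verGr_gradedMonoid (q := q) (𝒜 := 𝒜) (φ := φ)
  refine ⟨verGr q 𝒜 φ, { }, ⟨hq, hφ, fun j r hr => hr, fun j s hs => ?_⟩, fun j x => Iff.rfl⟩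
  have : s ∈ φ.range := by
    rw [hrange]
    intro i hi
    have hne : j * (q : ℤ) ≠ i := by
      rintro rfl
      exact hi (dvd_mul_left _ _)
    exact proj_of_mem_ne 𝒜 hs hne
  obtain ⟨r, hr⟩ := this
  exact ⟨r, by rw [mem_verGr, hr]; exact hs, hr⟩

end VerGrading

end Ver

end Groth.Agent.H6
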