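import Groth.Agent.Lib.Helper6.VerPoly1
import Groth.Agent.Lib.Helper6.SegPolyShift
import Groth.Agent.Lib.Helper2.StdGrDim

/-! The type of the Veronese subrings of a standard graded polynomial ring over a field. -/

universe u
open DirectSum
set_option linter.unusedSectionVars false
attribute [local instance] MvPolynomial.weightedGradedAlgebra

namespace Groth.Agent.H6

namespace Ver

open Gr ToAdd

section Poly

variable (k : Type u) [Field k] (s : ℕ)

theorem weight_one (e : Fin s →₀ ℕ) :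
    Finsupp.weight (fun _ : Fin s => (1 : ℤ)) e = (e.degree : ℤ) := by
  rw [Finsupp.weight_apply, Finsupp.degree_apply, Finsupp.sum]
  push_cast
  refine Finset.sum_congr rfl fun i _ => ?_
  simp

theorem coeff_proj [GradedRing (PolyGr.gr k s (fun _ : Fin s => (1 : ℤ)))] (j : ℤ)
    (p : MvPolynomial (Fin s) k) (e : Fin s →₀ ℕ) :
    MvPolynomial.coeff e (proj (PolyGr.gr k s (fun _ : Fin s => (1 : ℤ))) j p) =
      if (e.degree : ℤ) = j then MvPolynomial.coeff e p else 0 := by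
  have h1 := proj_toAdd (MvPolynomial.weightedHomogeneousSubmodule k (fun _ : Fin s => (1 : ℤ))) j p
  have h2 : proj (PolyGr.gr k s (fun _ : Fin s => (1 : ℤ))) j p =
      MvPolynomial.weightedHomogeneousComponent (fun _ : Fin s => (1 : ℤ)) j p :=
    h1.trans (MvPolynomial.weightedDecomposition.decompose'_apply k (fun _ : Fin s => (1 : ℤ)) p j)
  rw [h2, MvPolynomial.coeff_weightedHomogeneousComponent, weight_one]

theorem range_iff [GradedRing (PolyGr.gr k s (fun _ : Fin s => (1 : ℤ)))] (d : ℕ)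
    (p : MvPolynomial (Fin s) k) :
    (∀ j : ℕ, ¬ d ∣ j → MvPolynomial.homogeneousComponent j p = 0) ↔
      ∀ j : ℤ, ¬ (d : ℤ) ∣ j → proj (PolyGr.gr k s (fun _ : Fin s => (1 : ℤ))) j p = 0 := by
  constructor
  · intro h j hj
    ext e
    rw [coeff_proj, MvPolynomial.coeff_zero]
    split_ifs with he
    · have hd : ¬ d ∣ e.degree := by
        intro hdvd
        apply hj
        rw [← he]
        exact Int.natCast_dvd_natCast.mpr hdvd
      have h1 := congrArg (MvPolynomial.coeff e) (h e.degree hd)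
      rw [MvPolynomial.coeff_homogeneousComponent, if_pos rfl, MvPolynomial.coeff_zero] at h1
      exact h1
    · rfl
  · intro h j hj
    ext e
    rw [MvPolynomial.coeff_homogeneousComponent, MvPolynomial.coeff_zero]
    split_ifs with he
    · have hd : ¬ (d : ℤ) ∣ (j : ℤ) := fun hdvd => hj (Int.natCast_dvd_natCast.mp hdvd)
      have h1 := congrArg (MvPolynomial.coeff e) (h j hd)
      rw [coeff_proj, if_pos (by rw [he]), MvPolynomial.coeff_zero] at h1
      exact h1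
    · rfl

theorem constantCoeff_eq_zero_of_mem {j : ℤ} (hj : 0 < j) {p : MvPolynomial (Fin s) k}
    (hp : p ∈ PolyGr.gr k s (fun _ : Fin s => (1 : ℤ)) j) : MvPolynomial.constantCoeff p = 0 := by
  rw [MvPolynomial.constantCoeff_eq]
  by_contra hne
  have h1 := (PolyGr.mem_gr k s (fun _ : Fin s => (1 : ℤ))).mp hp hne
  rw [map_zero] at h1
  omega


/-- **the type of the Veronese subrings of a polynomial ring** -/
theorem bassNum_veronese_poly (s d : ℕ) (hs : 1 ≤ s) (hd : 1 ≤ d)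
    (R' : Type u) [CommRing R'] (φ : R' →+* MvPolynomial (Fin s) k) (hφ : Function.Injective φ)
    (hrange : ∀ p : MvPolynomial (Fin s) k, p ∈ φ.range ↔
      ∀ j : ℕ, ¬ d ∣ j → MvPolynomial.homogeneousComponent j p = 0)
    (m' : Ideal R') [hmax : m'.IsMaximal]
    (hm' : m' = Ideal.comap φ
      (RingHom.ker (MvPolynomial.constantCoeff : MvPolynomial (Fin s) k →+* k)))
    (n : ℕ) (hsn : s ≤ n) (hdn : d ∣ n) (hmin : ∀ n' : ℕ, s ≤ n' → d ∣ n' → n ≤ n') :
    GrLC.bassNum m' R' s = (Nat.choose (n - 1) (s - 1) : ℕ∞) := by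
  letI hA : GradedRing (PolyGr.gr k s (fun _ : Fin s => (1 : ℤ))) :=
    gradedRing_toAdd (Seg.stdW k s)
  have hpos := PolyGr.gr_neg k s (fun _ : Fin s => (1 : ℤ)) (fun _ => one_pos)
  have h0 := PolyGr.isField_deg0 k s (fun _ : Fin s => (1 : ℤ)) (fun _ => one_pos)
  obtain ⟨𝒜', hG', hver, hmem'⟩ := exists_verGrading (q := d)
    (𝒜 := PolyGr.gr k s (fun _ : Fin s => (1 : ℤ))) hd hφ
    (fun p => (hrange p).trans (range_iff k s d p))
  letI := hG'
  have hloc := Gr.isStarLocal_irr (PolyGr.gr k s (fun _ : Fin s => (1 : ℤ))) hpos h0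
  have hpos' := hver.neg_eq_bot hpos
  have h0' := hver.isField_deg0 h0
  have hloc' := Gr.isStarLocal_irr 𝒜' hpos' h0'
  haveI hmaxirr : (Gr.irr 𝒜').toIdeal.IsMaximal := isMaximal_of_isCoatom hpos' (Gr.irr 𝒜') hloc'.1
  have hle : (Gr.irr 𝒜').toIdeal ≤ m' := by
    rw [Gr.irr_toIdeal, Ideal.span_le]
    intro x hx
    simp only [Set.mem_iUnion, Set.mem_Ioi, SetLike.mem_coe, exists_prop] at hx
    obtain ⟨j, hj, hxj⟩ := hx
    rw [hm']
    change φ x ∈ RingHom.ker _
    rw [RingHom.mem_ker]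
    have hjd : (0 : ℤ) < j * d := by positivity
    exact constantCoeff_eq_zero_of_mem k s hjd ((hmem' j x).mp hxj)
  have heq : (Gr.irr 𝒜').toIdeal = m' := hmaxirr.eq_of_le hmax.ne_top hle
  subst heq
  let I : GrLC.StarInjRes (PolyGr.gr k s (fun _ : Fin s => (1 : ℤ)))
      (PolyGr.gr k s (fun _ : Fin s => (1 : ℤ))) :=
    Gr.starInjRes (PolyGr.gr k s (fun _ : Fin s => (1 : ℤ))) (PolyGr.gr k s (fun _ : Fin s => (1 : ℤ)))
  have hend := PolyCan.endDeg_top k s (fun _ : Fin s => (1 : ℤ)) (fun _ => one_pos)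
    (Gr.irr (PolyGr.gr k s (fun _ : Fin s => (1 : ℤ)))) hloc (Gr.irr_toIdeal _) I
  have hsum : (Finset.univ : Finset (Fin s)).sum (fun _ : Fin s => (1 : ℤ)) = (s : ℤ) := by
    simp
  rw [hsum] at hend
  -- the remainder
  have hρq : ((n : ℤ) - s) < d := by
    by_contra hge
    rw [not_lt] at hge
    have h1 : s ≤ n - d := by omega
    have h2 : d ∣ n - d := Nat.dvd_sub hdn (dvd_refl d)
    have := hmin (n - d) h1 h2
    omega
  have hρa : (d : ℤ) ∣ -(s : ℤ) - ((n : ℤ) - s) := by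
    have : -(s : ℤ) - ((n : ℤ) - s) = -(n : ℤ) := by ring
    rw [this, dvd_neg]
    exact Int.natCast_dvd_natCast.mpr hdn
  have hstd : Ideal.span (⋃ n ∈ Set.Ioi (0 : ℤ),
      ((PolyGr.gr k s (fun _ : Fin s => (1 : ℤ)) n : AddSubgroup _) : Set (MvPolynomial (Fin s) k))) =
      Ideal.span ((PolyGr.gr k s (fun _ : Fin s => (1 : ℤ)) 1 : AddSubgroup _) :
        Set (MvPolynomial (Fin s) k)) := Seg.stdW_hstd k s
  have key := type_ver hver hpos h0 (Gr.irr (PolyGr.gr k s (fun _ : Fin s => (1 : ℤ)))) hloc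
    (Gr.irr_toIdeal _) hstd s (PolyGr.ringKrullDim_eq k s) I (-(s : ℤ)) hend (Gr.irr 𝒜')
    (Gr.irr_toIdeal 𝒜') ((n : ℤ) - s) (by omega) hρq hρa
  rw [key]
  haveI := Seg.gradedSMul_self (Seg.stdW k s)
  have hfr : Module.finrank (GrLC.deg0 (PolyGr.gr k s (fun _ : Fin s => (1 : ℤ))))
      (GrLC.comp (PolyGr.gr k s (fun _ : Fin s => (1 : ℤ)))
        (PolyGr.gr k s (fun _ : Fin s => (1 : ℤ))) ((n : ℤ) - s)) =
      Module.finrank k (Seg.stdW k s ((n : ℤ) - s)) :=
    Seg.finrank_comp_self (Seg.stdW k s) (Seg.stdW_zero k s) ((n : ℤ) - s)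
  rw [hfr]
  obtain ⟨r, rfl⟩ : ∃ r, s = r + 1 := ⟨s - 1, by omega⟩
  have h2 := Groth.Agent.H2.StdGrDim.finrank_stdGr k r ((n : ℤ) - ((r + 1 : ℕ) : ℤ))
  rw [if_pos (by omega)] at h2
  have h3 : Module.finrank k (Seg.stdW k (r + 1) ((n : ℤ) - ((r + 1 : ℕ) : ℤ))) =
      Nat.choose (r + ((n : ℤ) - ((r + 1 : ℕ) : ℤ)).toNat) r := h2
  rw [h3]
  have h4 : r + ((n : ℤ) - ((r + 1 : ℕ) : ℤ)).toNat = n - 1 := by omega
  rw [h4, Nat.add_sub_cancel]

end Poly

end Ver

end Groth.Agent.H6
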