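import Mathlib
import Groth.Prelude.Def_W4c1liftfrobW2

/-! Coefficient computations in `W₂(A)` for a ring `A` of characteristic `p`. -/

universe u
open WittVector

namespace Groth.Agent.H6

namespace W2C

variable (p : ℕ) [Fact p.Prime] (A : Type u) [CommRing A] [CharP A p]

local notation "𝕎A" => WittVector p A
local notation "W₂" => TruncatedWittVector p 2 A

theorem exists_lift (x : W₂) : ∃ y : 𝕎A, WittVector.truncate 2 y = x ∧
    y.coeff 0 = x.coeff 0 ∧ y.coeff 1 = x.coeff 1 := by
  obtain ⟨y, rfl⟩ := WittVector.truncate_surjective p 2 A x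
  exact ⟨y, rfl, (WittVector.coeff_truncate y (0 : Fin 2)).symm,
    (WittVector.coeff_truncate y (1 : Fin 2)).symm⟩

theorem coeff0_trunc (y : 𝕎A) : (WittVector.truncate (p := p) 2 y).coeff 0 = y.coeff 0 :=
  WittVector.coeff_truncate y (0 : Fin 2)

theorem coeff1_trunc (y : 𝕎A) : (WittVector.truncate (p := p) 2 y).coeff 1 = y.coeff 1 :=
  WittVector.coeff_truncate y (1 : Fin 2)

theorem ext2 {x y : W₂} (h0 : x.coeff 0 = y.coeff 0) (h1 : x.coeff 1 = y.coeff 1) : x = y := by
  apply TruncatedWittVector.ext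
  intro i
  fin_cases i
  · exact h0
  · exact h1

theorem p_mul_coeff0 (x : W₂) : ((p : W₂) * x).coeff 0 = 0 := by
  obtain ⟨y, rfl, -, -⟩ := exists_lift p A x
  rw [← map_natCast (WittVector.truncate (p := p) (R := A) 2), ← map_mul, coeff0_trunc, mul_comm,
    WittVector.mul_charP_coeff_zero]

theorem p_mul_coeff1 (x : W₂) : ((p : W₂) * x).coeff 1 = x.coeff 0 ^ p := by
  obtain ⟨y, rfl, h0, -⟩ := exists_lift p A x
  rw [← map_natCast (WittVector.truncate (p := p) (R := A) 2), ← map_mul, coeff1_trunc, mul_comm,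
    WittVector.mul_charP_coeff_succ, h0]

theorem eq_verschiebung (y : 𝕎A) (h : y.coeff 0 = 0) :
    y = WittVector.verschiebung (y.shift 1) := by
  have := WittVector.eq_iterate_verschiebung (p := p) (x := y) (n := 1) (fun i hi => by
    have : i = 0 := by omega
    rw [this]; exact h)
  simpa using this

theorem add_coeff0 (x y : W₂) : (x + y).coeff 0 = x.coeff 0 + y.coeff 0 := by
  obtain ⟨x', rfl, -, -⟩ := exists_lift p A x
  obtain ⟨y', rfl, -, -⟩ := exists_lift p A y
  rw [← map_add, coeff0_trunc, coeff0_trunc, coeff0_trunc, WittVector.add_coeff_zero]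

theorem mul_coeff0 (x y : W₂) : (x * y).coeff 0 = x.coeff 0 * y.coeff 0 := by
  obtain ⟨x', rfl, -, -⟩ := exists_lift p A x
  obtain ⟨y', rfl, -, -⟩ := exists_lift p A y
  rw [← map_mul, coeff0_trunc, coeff0_trunc, coeff0_trunc, WittVector.mul_coeff_zero]

theorem add_coeff1 (x y : W₂) (hx : x.coeff 0 = 0) (hy : y.coeff 0 = 0) :
    (x + y).coeff 1 = x.coeff 1 + y.coeff 1 := by
  obtain ⟨x', rfl, hx0, hx1⟩ := exists_lift p A x
  obtain ⟨y', rfl, hy0, hy1⟩ := exists_lift p A y
  rw [hx] at hx0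
  rw [hy] at hy0
  rw [← map_add, coeff1_trunc, ← hx1, ← hy1, eq_verschiebung p A x' hx0, eq_verschiebung p A y' hy0,
    ← map_add, WittVector.verschiebung_coeff_add_one, WittVector.verschiebung_coeff_add_one,
    WittVector.verschiebung_coeff_add_one, WittVector.add_coeff_zero]

theorem mul_coeff1 (z x : W₂) (hx : x.coeff 0 = 0) :
    (z * x).coeff 1 = z.coeff 0 ^ p * x.coeff 1 := by
  obtain ⟨z', rfl, hz0, -⟩ := exists_lift p A z
  obtain ⟨x', rfl, hx0, hx1⟩ := exists_lift p A x
  rw [hx] at hx0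
  rw [← map_mul, coeff1_trunc, ← hx1, ← hz0]
  have h1 := eq_verschiebung p A x' hx0
  have h2 : z' * x' = WittVector.verschiebung (x'.shift 1 * WittVector.frobenius z') := by
    rw [WittVector.verschiebung_mul_frobenius, ← h1, mul_comm]
  rw [h2, WittVector.verschiebung_coeff_add_one, WittVector.mul_coeff_zero,
    WittVector.coeff_frobenius_charP, WittVector.shift_coeff, mul_comm]

theorem sub_coeff0 (x y : W₂) : (x - y).coeff 0 = x.coeff 0 - y.coeff 0 := by
  have := add_coeff0 p A (x - y) y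
  rw [sub_add_cancel] at this
  rw [this, add_sub_cancel_right]

theorem sub_coeff1 (x y : W₂) (hx : x.coeff 0 = 0) (hy : y.coeff 0 = 0) :
    (x - y).coeff 1 = x.coeff 1 - y.coeff 1 := by
  have h0 : (x - y).coeff 0 = 0 := by rw [sub_coeff0, hx, hy, sub_zero]
  have := add_coeff1 p A (x - y) y h0 hy
  rw [sub_add_cancel] at this
  rw [this, add_sub_cancel_right]

end W2C

end Groth.Agent.H6
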