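import Mathlib
import Groth.Prelude.Def_W4c1liftfrobW2

/-! Structure of `W₂(k)` for a perfect field `k` of characteristic `p`, and the flatness criterion
for modules over it. -/

universe u v
open WittVector TensorProduct

namespace Groth.Agent.H6

namespace W2L

set_option linter.unusedSectionVars false
variable (p : ℕ) [Fact p.Prime] (k : Type u) [Field k] [CharP k p] [PerfectRing k p]

theorem p_sq : ((p : TruncatedWittVector p 2 k)) ^ 2 = 0 := by
  have h : ((p : WittVector p k) ^ 2) ∈ RingHom.ker (WittVector.truncate (p := p) 2) := by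
    rw [WittVector.mem_ker_truncate]
    intro i hi
    exact WittVector.coeff_p_pow_eq_zero p k (by omega)
  rw [RingHom.mem_ker, map_pow, map_natCast] at h
  exact h

theorem p_mul_p : ((p : TruncatedWittVector p 2 k)) * p = 0 := by
  rw [← sq]; exact p_sq p k

theorem p_ne_zero : ((p : TruncatedWittVector p 2 k)) ≠ 0 := by
  intro h
  have h1 : (WittVector.truncate (p := p) 2 (p : WittVector p k)) = 0 := by rw [map_natCast]; exact h
  have h2 : (p : WittVector p k) ∈ RingHom.ker (WittVector.truncate (p := p) 2) := h1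
  rw [WittVector.mem_ker_truncate] at h2
  have := h2 1 (by norm_num)
  rw [WittVector.coeff_p_one] at this
  exact one_ne_zero this

/-- every element of `W₂(k)` is `0`, a unit, or `p` times a unit -/
theorem trichotomy (x : TruncatedWittVector p 2 k) :
    x = 0 ∨ IsUnit x ∨ ∃ u : TruncatedWittVector p 2 k, IsUnit u ∧ x = p * u := by
  obtain ⟨y, rfl⟩ := WittVector.truncate_surjective p 2 k x
  by_cases hy : y = 0
  · left; rw [hy, map_zero]
  obtain ⟨m, b, rfl⟩ := WittVector.exists_eq_pow_p_mul' y hy
  have hb : IsUnit (WittVector.truncate (p := p) 2 (b : WittVector p k)) := b.isUnit.map _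
  rw [map_mul, map_pow, map_natCast]
  rcases m with _ | _ | m
  · right; left; simpa using hb
  · right; right; exact ⟨_, hb, by rw [pow_one]⟩
  · left
    have : m + 1 + 1 = m + 2 := rfl
    rw [this, pow_add, p_sq, mul_zero, zero_mul]

theorem not_isUnit_p : ¬ IsUnit ((p : TruncatedWittVector p 2 k)) := by
  intro h
  have := p_mul_p p k
  have h2 := h.mul_left_cancel (a := (p : TruncatedWittVector p 2 k)) (b := p) (c := 0)
    (by rw [this, mul_zero])
  exact p_ne_zero p k h2

/-- the annihilator of `p` is `(p)` -/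
theorem exists_eq_p_mul_of_mul_p_eq_zero (a : TruncatedWittVector p 2 k)
    (ha : a * p = 0) : ∃ b, a = p * b := by
  rcases trichotomy p k a with rfl | hu | ⟨u, -, rfl⟩
  · exact ⟨0, by simp⟩
  · exfalso
    apply p_ne_zero p k
    have := hu.mul_right_cancel (a := (p : TruncatedWittVector p 2 k)) (b := a) (c := 0)
    apply hu.mul_left_cancel
    rw [ha, mul_zero]
  · exact ⟨u, rfl⟩

/-- the ideals of `W₂(k)` -/
theorem ideal_cases (I : Ideal (TruncatedWittVector p 2 k)) :
    I = ⊥ ∨ I = ⊤ ∨ I = Ideal.span {(p : TruncatedWittVector p 2 k)} := by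
  by_cases h1 : ∃ x ∈ I, IsUnit x
  · obtain ⟨x, hx, hu⟩ := h1
    right; left
    exact Ideal.eq_top_of_isUnit_mem I hx hu
  push Not at h1
  by_cases h2 : I = ⊥
  · left; exact h2
  right; right
  have hle : I ≤ Ideal.span {(p : TruncatedWittVector p 2 k)} := by
    intro x hx
    rcases trichotomy p k x with rfl | hu | ⟨u, -, rfl⟩
    · exact zero_mem _
    · exact absurd hu (h1 x hx)
    · exact Ideal.mul_mem_right _ _ (Ideal.subset_span rfl)
  refine le_antisymm hle ?_
  obtain ⟨x, hx, hx0⟩ := Submodule.exists_mem_ne_zero_of_ne_bot h2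
  rcases trichotomy p k x with rfl | hu | ⟨u, hu, rfl⟩
  · exact absurd rfl hx0
  · exact absurd hu (h1 x hx)
  · rw [Ideal.span_le, Set.singleton_subset_iff]
    obtain ⟨v, hv⟩ := hu.exists_right_inv
    have : (p : TruncatedWittVector p 2 k) = (p * u) * v := by rw [mul_assoc, hv, mul_one]
    rw [SetLike.mem_coe, this]
    exact Ideal.mul_mem_right _ _ hx

variable (M : Type v) [AddCommGroup M] [Module (TruncatedWittVector p 2 k) M]

/-- flatness criterion over `W₂(k)` -/
theorem flat_iff :
    Module.Flat (TruncatedWittVector p 2 k) M ↔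
      ∀ m : M, (p : TruncatedWittVector p 2 k) • m = 0 →
        ∃ m' : M, m = (p : TruncatedWittVector p 2 k) • m' := by
  set W := TruncatedWittVector p 2 k with hW
  set P : W := (p : W) with hP
  set I : Ideal W := Ideal.span {P} with hI
  have hPI : P ∈ I := Ideal.subset_span rfl
  constructor
  · intro hflat m hm
    have hinj := (Module.Flat.iff_rTensor_injective'.mp hflat) I
    -- the map `W → Hom(M, M/pM)`
    let pM : Submodule W M := LinearMap.range (LinearMap.lsmul W M P)
    let θ : W →ₗ[W] (M →ₗ[W] M ⧸ pM) :=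
      (LinearMap.llcomp W M M (M ⧸ pM) pM.mkQ).comp (LinearMap.lsmul W M)
    have hθ : ∀ a m, θ a m = pM.mkQ (a • m) := fun a m => rfl
    let π : W →ₗ[W] I := (LinearMap.toSpanSingleton W W P).codRestrict I (fun a => by
      change a • P ∈ I
      exact I.smul_mem a hPI)
    have hπ : ∀ a, ((π a : I) : W) = a * P := fun a => rfl
    have hπs : Function.Surjective π := by
      rintro ⟨x, hx⟩
      obtain ⟨a, rfl⟩ := Ideal.mem_span_singleton'.mp hx
      exact ⟨a, Subtype.ext rfl⟩
    have hker : LinearMap.ker π ≤ LinearMap.ker θ := by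
      intro a ha
      rw [LinearMap.mem_ker] at ha ⊢
      have ha' : a * P = 0 := by rw [← hπ, ha]; rfl
      obtain ⟨b, rfl⟩ := exists_eq_p_mul_of_mul_p_eq_zero p k a ha'
      ext m
      rw [hθ, LinearMap.zero_apply, Submodule.mkQ_apply, Submodule.Quotient.mk_eq_zero]
      exact ⟨b • m, by rw [LinearMap.lsmul_apply, mul_smul]⟩
    let ψ : I →ₗ[W] (M →ₗ[W] M ⧸ pM) :=
      ((LinearMap.ker π).liftQ θ hker).comp (π.quotKerEquivOfSurjective hπs).symm.toLinearMap
    have hψ : ∀ a, ψ (π a) = θ a := by
      intro a
      have : (π.quotKerEquivOfSurjective hπs).symm (π a) = (LinearMap.ker π).mkQ a := by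
        rw [LinearEquiv.symm_apply_eq]
        rfl
      change ((LinearMap.ker π).liftQ θ hker) ((π.quotKerEquivOfSurjective hπs).symm (π a)) = θ a
      rw [this]
      rfl
    let φ : I ⊗[W] M →ₗ[W] M ⧸ pM := TensorProduct.lift ψ
    have ht : (π 1) ⊗ₜ[W] m = (0 : I ⊗[W] M) := by
      apply hinj
      rw [map_zero, LinearMap.rTensor_tmul]
      change ((π 1 : I) : W) ⊗ₜ[W] m = 0
      rw [hπ, one_mul]
      have : P ⊗ₜ[W] m = (1 : W) ⊗ₜ[W] (P • m) := by
        rw [← TensorProduct.smul_tmul, smul_eq_mul, mul_one]
      rw [this, hm, TensorProduct.tmul_zero]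
    have h1 : φ ((π 1) ⊗ₜ[W] m) = pM.mkQ m := by
      change ψ (π 1) m = _
      rw [hψ, hθ, one_smul]
    rw [ht, map_zero] at h1
    have h2 : m ∈ pM := by
      rw [← Submodule.Quotient.mk_eq_zero]
      exact h1.symm
    obtain ⟨m', hm'⟩ := h2
    exact ⟨m', hm'.symm⟩
  · intro h
    rw [Module.Flat.iff_rTensor_injective']
    intro J
    rcases ideal_cases p k J with rfl | rfl | rfl
    · have : ∀ x : ((⊥ : Ideal W) : Type _) ⊗[W] M, x = 0 := by
        intro x
        induction x using TensorProduct.induction_on with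
        | zero => rfl
        | tmul a m =>
          have : a = 0 := Subtype.ext ((Submodule.mem_bot W).mp a.2)
          rw [this, TensorProduct.zero_tmul]
        | add x y hx hy => rw [hx, hy, add_zero]
      intro x y _
      rw [this x, this y]
    · have : ((⊤ : Ideal W).subtype) = (Submodule.topEquiv : (⊤ : Ideal W) ≃ₗ[W] W).toLinearMap :=
        rfl
      rw [this]
      exact (LinearEquiv.rTensor M (Submodule.topEquiv : (⊤ : Ideal W) ≃ₗ[W] W)).injective
    · rw [injective_iff_map_eq_zero]
      intro x hx
      let g : I := ⟨P, hPI⟩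
      have hform : ∃ m : M, x = g ⊗ₜ[W] m := by
        induction x using TensorProduct.induction_on with
        | zero => exact ⟨0, by rw [TensorProduct.tmul_zero]⟩
        | tmul a m =>
          obtain ⟨c, hc⟩ := Ideal.mem_span_singleton'.mp a.2
          refine ⟨c • m, ?_⟩
          have : a = c • g := Subtype.ext hc.symm
          rw [this, TensorProduct.smul_tmul]
        | add x y hx' hy' =>
          have hx0 : ∀ z : ↥I ⊗[W] M, ∃ m : M, z = g ⊗ₜ[W] m := by
            intro z
            induction z using TensorProduct.induction_on with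
            | zero => exact ⟨0, by rw [TensorProduct.tmul_zero]⟩
            | tmul a m =>
              obtain ⟨c, hc⟩ := Ideal.mem_span_singleton'.mp a.2
              refine ⟨c • m, ?_⟩
              have : a = c • g := Subtype.ext hc.symm
              rw [this, TensorProduct.smul_tmul]
            | add z w hz hw =>
              obtain ⟨m1, rfl⟩ := hz
              obtain ⟨m2, rfl⟩ := hw
              exact ⟨m1 + m2, by rw [TensorProduct.tmul_add]⟩
          obtain ⟨m1, h1⟩ := hx0 x
          obtain ⟨m2, h2⟩ := hx0 y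
          exact ⟨m1 + m2, by rw [h1, h2, TensorProduct.tmul_add]⟩
      obtain ⟨m, rfl⟩ := hform
      rw [LinearMap.rTensor_tmul] at hx
      change P ⊗ₜ[W] m = 0 at hx
      have h3 : P • m = 0 := by
        have := congrArg (TensorProduct.lid W M) hx
        rwa [TensorProduct.lid_tmul, map_zero] at this
      obtain ⟨m', rfl⟩ := h m h3
      rw [← TensorProduct.smul_tmul]
      have : P • g = 0 := Subtype.ext (by
        change P * P = 0
        exact p_mul_p p k)
      rw [this, TensorProduct.zero_tmul]

end W2L

end Groth.Agent.H6
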