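import Mathlib

/-! Linear systems over `A` solvable in a faithfully flat `A`-algebra are solvable in `A`. -/

set_option autoImplicit false
universe u v

namespace Groth.Agent.H6.W2Pure

open TensorProduct

/-- A finite linear system with coefficients in `A` that has a solution in a faithfully flat `A`-algebra `B`
has a solution in `A`. -/
theorem linsys {A : Type u} {B : Type v} [CommRing A] [CommRing B] [Algebra A B] [Module.FaithfullyFlat A B]
    {m r : Type} [Fintype m] [Fintype r] [DecidableEq m] [DecidableEq r]
    (T : r → m → A) (d : r → A) (b : m → B)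
    (hb : ∀ j, ∑ i, T j i • b i = algebraMap A B (d j)) :
    ∃ c : m → A, ∀ j, ∑ i, T j i * c i = d j := by
  classical
  -- the linear map `L : A^m → A^r`
  let L : (m → A) →ₗ[A] (r → A) :=
    { toFun := fun c j => ∑ i, T j i * c i
      map_add' := by
        intro c c'; funext j
        simp only [Pi.add_apply, mul_add, Finset.sum_add_distrib]
      map_smul' := by
        intro a c; funext j
        simp only [Pi.smul_apply, smul_eq_mul, RingHom.id_apply, Finset.mul_sum]
        refine Finset.sum_congr rfl fun i _ => by ring }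
  have hL : ∀ c j, L c j = ∑ i, T j i * c i := fun _ _ => rfl
  suffices h : d ∈ LinearMap.range L by
    obtain ⟨c, hc⟩ := h
    exact ⟨c, fun j => by rw [← hL, hc]⟩
  rw [← Submodule.Quotient.mk_eq_zero]
  apply Module.FaithfullyFlat.tensorProduct_mk_injective (A := A) (B := B)
  rw [map_zero, TensorProduct.mk_apply]
  -- `1 ⊗ d = ∑ b i ⊗ L (single i 1)`
  have key : (1 : B) ⊗ₜ[A] d = ∑ i, b i ⊗ₜ[A] L (Pi.single i 1) := by
    apply (TensorProduct.piScalarRight A A B r).injective
    rw [map_sum]
    funext j
    rw [TensorProduct.piScalarRight_apply, TensorProduct.piScalarRightHom_tmul, Finset.sum_apply]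
    simp only [TensorProduct.piScalarRight_apply, TensorProduct.piScalarRightHom_tmul]
    rw [Algebra.smul_def, mul_one, ← hb j]
    refine Finset.sum_congr rfl fun i _ => ?_
    rw [hL]
    congr 1
    rw [Finset.sum_eq_single i]
    · rw [Pi.single_eq_same, mul_one]
    · intro i' _ hi'
      rw [Pi.single_eq_of_ne hi', mul_zero]
    · intro h; exact absurd (Finset.mem_univ i) h
  have h2 : (1 : B) ⊗ₜ[A] (Submodule.Quotient.mk d : (r → A) ⧸ LinearMap.range L)
      = LinearMap.lTensor B (LinearMap.range L).mkQ ((1 : B) ⊗ₜ[A] d) := by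
    rw [LinearMap.lTensor_tmul]; rfl
  rw [h2, key, map_sum]
  refine Finset.sum_eq_zero fun i _ => ?_
  rw [LinearMap.lTensor_tmul, Submodule.mkQ_apply,
    (Submodule.Quotient.mk_eq_zero _).mpr (LinearMap.mem_range_self L _), tmul_zero]

end Groth.Agent.H6.W2Pure
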