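import Mathlib
import Groth.Prelude.Def_W4c1liftfrobW2
import Groth.Agent.Lib.Helper7.W2Desc

/-! A flat lifting over `W₂(k)` from a retraction of `A → I/I²`. -/

set_option autoImplicit false
universe u v

namespace Groth.Agent.H6.W2Pure

open FrobAlg Groth.Agent.H7.W2D

section lift
variable {p : ℕ} [Fact p.Prime] {k : Type u} [Field k] [CharP k p] [PerfectRing k p]
variable {A : Type v} [CommRing A] [Algebra k A]
variable {P : Type v} [CommRing P] [Algebra P A] (ιP : W2 p k →+* P)
  {m : Type} [Fintype m] (f : m → P) (c : m → A)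

/-- the ideal `{x = ∑ gᵢ fᵢ : ∑ q(gᵢ) cᵢ = 0}`. -/
noncomputable def K' : Ideal P :=
  (LinearMap.ker (Fintype.linearCombination P c)).map (Fintype.linearCombination P f)

theorem mem_K' (x : P) : x ∈ K' f c ↔ ∃ g : m → P, ∑ i, algebraMap P A (g i) * c i = 0 ∧ ∑ i, g i * f i = x := by
  unfold K'
  rw [Submodule.mem_map]
  constructor
  · rintro ⟨g, hg, rfl⟩
    refine ⟨g, ?_, ?_⟩
    · rw [LinearMap.mem_ker, Fintype.linearCombination_apply] at hg
      rw [← hg]
      exact Finset.sum_congr rfl fun i _ => (Algebra.smul_def _ _).symm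
    · rw [Fintype.linearCombination_apply]
      exact Finset.sum_congr rfl fun i _ => (smul_eq_mul _ _).symm
  · rintro ⟨g, hg, rfl⟩
    refine ⟨g, ?_, ?_⟩
    · rw [LinearMap.mem_ker, Fintype.linearCombination_apply, ← hg]
      exact Finset.sum_congr rfl fun i _ => (Algebra.smul_def _ _)
    · rw [Fintype.linearCombination_apply]
      exact Finset.sum_congr rfl fun i _ => (smul_eq_mul _ _)

variable (hsurj : Function.Surjective (algebraMap P A))
  (hcomm : (algebraMap P A).comp ιP = (algebraMap k A).comp (res p k))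
  (hf : ∀ x : P, algebraMap P A x = 0 ↔ ∃ g : m → P, ∑ i, g i * f i = x)
  (e : m → P) (he : ∑ i, e i * f i = (p : P))
  (hc : ∀ g : m → P, ∑ i, g i * f i = 0 → ∑ i, algebraMap P A (g i) * c i = 0)
  (hce : ∑ i, algebraMap P A (e i) * c i = 1)

include hf in
theorem K'_le_ker : ∀ x ∈ K' f c, algebraMap P A x = 0 := by
  intro x hx
  obtain ⟨g, -, hg⟩ := (mem_K' f c x).mp hx
  exact (hf x).mpr ⟨g, hg⟩

/-- the reduction map -/
noncomputable def πA : P ⧸ K' f c →+* A :=
  Ideal.Quotient.lift (K' f c) (algebraMap P A) (K'_le_ker f c hf)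

include hc in
theorem theta_wd (g g' : m → P) (h : ∑ i, g i * f i = ∑ i, g' i * f i) :
    ∑ i, algebraMap P A (g i) * c i = ∑ i, algebraMap P A (g' i) * c i := by
  have := hc (fun i => g i - g' i) (by
    simp only [sub_mul, Finset.sum_sub_distrib, h, sub_self])
  simp only [map_sub, sub_mul, Finset.sum_sub_distrib] at this
  exact sub_eq_zero.mp this

include hsurj hf he hc hce in
theorem ker_le_span (x : P) (hx : algebraMap P A x = 0) :
    ∃ h : P, x - (p : P) * h ∈ K' f c := by
  obtain ⟨g, hg⟩ := (hf x).mp hx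
  obtain ⟨h, hh⟩ := hsurj (∑ i, algebraMap P A (g i) * c i)
  refine ⟨h, (mem_K' f c _).mpr ⟨fun i => g i - h * e i, ?_, ?_⟩⟩
  · simp only [map_sub, map_mul, sub_mul, Finset.sum_sub_distrib, mul_assoc]
    rw [← Finset.mul_sum, hce, mul_one, hh, sub_self]
  · simp only [sub_mul, Finset.sum_sub_distrib, mul_assoc]
    rw [← Finset.mul_sum, he, hg, mul_comm]

include hf he hc hce in
theorem flat_aux (x : P) (hx : (p : P) * x ∈ K' f c) : algebraMap P A x = 0 := by
  obtain ⟨g, hg0, hg⟩ := (mem_K' f c _).mp hx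
  have h1 : ∑ i, g i * f i = ∑ i, (x * e i) * f i := by
    rw [hg]
    simp only [mul_assoc]
    rw [← Finset.mul_sum, he, mul_comm]
  have h2 := theta_wd f c hc g (fun i => x * e i) h1
  rw [hg0] at h2
  simp only [map_mul, mul_assoc] at h2
  rw [← Finset.mul_sum, hce, mul_one] at h2
  exact h2.symm

include hsurj hcomm hf he hc hce in
theorem isLift_quot :
    IsLift p k A (P ⧸ K' f c) ((Ideal.Quotient.mk (K' f c)).comp ιP) (πA f c hf) := by
  have hιp : ((Ideal.Quotient.mk (K' f c)).comp ιP) (p : W2 p k) = (p : P ⧸ K' f c) := map_natCast _ _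
  have hpA : (p : A) = 0 := by
    rw [← map_natCast (algebraMap k A), CharP.cast_eq_zero, map_zero]
  have hker : ∀ x : P ⧸ K' f c, πA f c hf x = 0 → ∃ y, x = (p : P ⧸ K' f c) * y := by
    intro x hx
    obtain ⟨x, rfl⟩ := Ideal.Quotient.mk_surjective x
    have hx' : algebraMap P A x = 0 := hx
    obtain ⟨h, hh⟩ := ker_le_span f c hsurj hf e he hc hce x hx'
    refine ⟨Ideal.Quotient.mk _ h, ?_⟩
    rw [← map_natCast (Ideal.Quotient.mk (K' f c)), ← map_mul]
    exact Ideal.Quotient.eq.mpr hh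
  refine ⟨?_, ?_, ?_, ?_⟩
  · rw [flat_iff_ringHom]
    intro x hx
    apply hker
    obtain ⟨x, rfl⟩ := Ideal.Quotient.mk_surjective x
    have h1 : (p : P) * x ∈ K' f c := by
      rw [← Ideal.Quotient.eq_zero_iff_mem, map_mul, map_natCast]; exact hx
    exact flat_aux f c hf e he hc hce x h1
  · intro a
    obtain ⟨x, rfl⟩ := hsurj a
    exact ⟨Ideal.Quotient.mk _ x, rfl⟩
  · rw [ker_res, Ideal.map_span, Set.image_singleton, hιp]
    apply le_antisymm
    · intro x hx
      obtain ⟨y, rfl⟩ := hker x hx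
      exact Ideal.mul_mem_right _ _ (Ideal.subset_span rfl)
    · rw [Ideal.span_le, Set.singleton_subset_iff]
      show πA f c hf (p : P ⧸ K' f c) = 0
      rw [map_natCast, hpA]
  · ext w
    show algebraMap P A (ιP w) = algebraMap k A (FrobAlg.res p k w)
    have := congrArg (fun φ => φ w) hcomm
    simpa using this

end lift

end Groth.Agent.H6.W2Pure
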