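import Mathlib
import Groth.Prelude.Def_W4c1liftfrobW2
import Groth.Agent.Lib.Helper6.W2Pure1
import Groth.Agent.Lib.Helper6.W2Pure2

/-! Descent of `W₂(k)`-liftability along a faithfully flat map, for algebras essentially of finite type. -/

set_option autoImplicit false
universe u v

namespace Groth.Agent.H6.W2Pure

open FrobAlg Groth.Agent.H7.W2D MvPolynomial

section noeth
variable (p : ℕ) [Fact p.Prime] (k : Type u) [Field k] [CharP k p] [PerfectRing k p]

instance isNoetherianRing_W2 : IsNoetherianRing (W2 p k) := by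
  rw [isNoetherianRing_iff_ideal_fg]
  intro I
  rcases Groth.Agent.H6.W2L.ideal_cases p k I with h | h | h
  · rw [h]; exact Submodule.fg_bot
  · rw [h]; exact ⟨{1}, by simp⟩
  · rw [h]; exact ⟨{(p : W2 p k)}, by simp⟩

theorem res_surjective : Function.Surjective (FrobAlg.res p k) := by
  intro a
  refine ⟨TruncatedWittVector.mk p ![a, 0], ?_⟩
  rw [FrobAlg.res_apply, TruncatedWittVector.coeff_mk]
  rfl

end noeth

section pres
variable (p : ℕ) [Fact p.Prime] (k : Type u) [Field k] [CharP k p] [PerfectRing k p]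
variable (A : Type u) [CommRing A] [Algebra k A] (s : Finset A)

/-- the polynomial ring over `W₂(k)` on the finite set `s`, mapping to `A` -/
noncomputable def q₀ : MvPolynomial s (W2 p k) →+* A :=
  eval₂Hom ((algebraMap k A).comp (FrobAlg.res p k)) (fun i => (i : A))

/-- the elements of the polynomial ring which become units in `A` -/
noncomputable def M₀ : Submonoid (MvPolynomial s (W2 p k)) := (IsUnit.submonoid A).comap (q₀ p k A s)

/-- a Noetherian `W₂(k)`-algebra surjecting onto `A` -/
abbrev PP : Type u := Localization (M₀ p k A s)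

theorem isUnit_q₀ (y : M₀ p k A s) : IsUnit (q₀ p k A s y) := y.2

/-- the map `P → A` -/
noncomputable def q : PP p k A s →+* A :=
  IsLocalization.lift (M := M₀ p k A s) (g := q₀ p k A s) (isUnit_q₀ p k A s)

theorem adjoin_le_range (x : A) (hx : x ∈ Algebra.adjoin k (s : Set A)) : ∃ y, q₀ p k A s y = x := by
  induction hx using Algebra.adjoin_induction with
  | mem x hx => exact ⟨X ⟨x, hx⟩, by simp [q₀]⟩
  | algebraMap r =>
    obtain ⟨w, rfl⟩ := res_surjective p k r
    exact ⟨C w, by simp [q₀]⟩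
  | add x y _ _ hx hy =>
    obtain ⟨x', rfl⟩ := hx
    obtain ⟨y', rfl⟩ := hy
    exact ⟨x' + y', map_add _ _ _⟩
  | mul x y _ _ hx hy =>
    obtain ⟨x', rfl⟩ := hx
    obtain ⟨y', rfl⟩ := hy
    exact ⟨x' * y', map_mul _ _ _⟩

theorem q_surjective
    (hs : ∀ a : A, ∃ t ∈ Algebra.adjoin k (s : Set A), IsUnit t ∧ a * t ∈ Algebra.adjoin k (s : Set A)) :
    Function.Surjective (q p k A s) := by
  intro a
  obtain ⟨t, ht, htu, hat⟩ := hs a
  obtain ⟨u, rfl⟩ := adjoin_le_range p k A s t ht
  obtain ⟨x, hx⟩ := adjoin_le_range p k A s _ hat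
  refine ⟨IsLocalization.mk' _ x (⟨u, htu⟩ : M₀ p k A s), ?_⟩
  unfold q
  rw [IsLocalization.lift_mk'_spec, hx, mul_comm]

theorem q_algebraMap (x : MvPolynomial s (W2 p k)) :
    q p k A s (algebraMap _ (PP p k A s) x) = q₀ p k A s x := by
  unfold q
  exact IsLocalization.lift_eq _ _

/-- the structure map `W₂(k) → P` -/
noncomputable def ιP : W2 p k →+* PP p k A s := (algebraMap (MvPolynomial s (W2 p k)) (PP p k A s)).comp C

theorem q_comp_ιP : (q p k A s).comp (ιP p k A s) = (algebraMap k A).comp (FrobAlg.res p k) := by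
  refine RingHom.ext fun w => ?_
  rw [RingHom.comp_apply, RingHom.comp_apply]
  unfold ιP
  rw [RingHom.comp_apply, q_algebraMap]
  unfold q₀
  rw [coe_eval₂Hom, eval₂_C]
  rfl

theorem isNoetherianRing_poly : IsNoetherianRing (MvPolynomial s (W2 p k)) :=
  MvPolynomial.isNoetherianRing

theorem isNoetherianRing_loc (M : Submonoid (MvPolynomial s (W2 p k))) : IsNoetherianRing (Localization M) :=
  IsLocalization.isNoetherianRing M (Localization M) (isNoetherianRing_poly p k A s)

theorem isNoetherianRing_PP : IsNoetherianRing (PP p k A s) :=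
  isNoetherianRing_loc p k A s _

end pres

section lift
variable {p : ℕ} [Fact p.Prime] {k : Type u} [Field k] [CharP k p] [PerfectRing k p]
variable {A B : Type u} [CommRing A] [CommRing B] [Algebra k A] [Algebra A B] [Algebra k B] [IsScalarTower k A B]
variable {B' : Type u} [CommRing B'] {ιB : W2 p k →+* B'} {πB : B' →+* B} (hB : IsLift p k B B' ιB πB)
variable (s : Finset A)

include hB in
theorem isUnit_of_pi (u : B') (hu : IsUnit (πB u)) : IsUnit u := by
  obtain ⟨v, hv⟩ := hu.exists_right_inv
  obtain ⟨v, rfl⟩ := hB.surj v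
  have h0 : πB (u * v - 1) = 0 := by rw [map_sub, map_mul, hv, map_one, sub_self]
  obtain ⟨n, hn⟩ := (mem_ker_iff hB _).mp h0
  have hnn : (u * v - 1) * (u * v - 1) = 0 := by
    rw [hn]
    calc (p : B') * n * ((p : B') * n) = ((p : B') * p) * (n * n) := by ring
      _ = 0 := by rw [p_mul_p hB, zero_mul]
  refine isUnit_iff_exists_inv.mpr ⟨v * (1 - (u * v - 1)), ?_⟩
  have : u * (v * (1 - (u * v - 1))) = 1 - (u * v - 1) * (u * v - 1) := by ring
  rw [this, hnn, sub_zero]

/-- lifts of the generators -/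
noncomputable def sLift (i : s) : B' := (hB.surj (algebraMap A B (i : A))).choose

theorem pi_sLift (i : s) : πB (sLift hB s i) = algebraMap A B (i : A) :=
  (hB.surj (algebraMap A B (i : A))).choose_spec

/-- the map from the polynomial ring to `B'` -/
noncomputable def ψ₀ : MvPolynomial s (W2 p k) →+* B' := eval₂Hom ιB (sLift hB s)

theorem pi_ψ₀ : πB.comp (ψ₀ hB s) = (algebraMap A B).comp (q₀ p k A s) := by
  apply MvPolynomial.ringHom_ext
  · intro w
    have := congrArg (fun φ => φ w) hB.comm
    simp only [RingHom.comp_apply] at this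
    simp [ψ₀, q₀, this, ← IsScalarTower.algebraMap_apply]
  · intro i
    simp [ψ₀, q₀, pi_sLift]

theorem isUnit_ψ₀ (y : M₀ p k A s) : IsUnit (ψ₀ hB s y) := by
  apply isUnit_of_pi hB
  have := congrArg (fun φ => φ (y : MvPolynomial s (W2 p k))) (pi_ψ₀ hB s)
  simp only [RingHom.comp_apply] at this
  rw [this]
  exact (isUnit_q₀ p k A s y).map _

/-- the map `P → B'` -/
noncomputable def ψ : PP p k A s →+* B' :=
  IsLocalization.lift (M := M₀ p k A s) (g := ψ₀ hB s) (isUnit_ψ₀ hB s)

theorem pi_ψ : πB.comp (ψ hB s) = (algebraMap A B).comp (q p k A s) := by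
  apply IsLocalization.ringHom_ext (M₀ p k A s)
  ext x
  · simp only [RingHom.comp_apply]
    unfold ψ q
    rw [IsLocalization.lift_eq, IsLocalization.lift_eq]
    exact congrArg (fun φ => φ (C x)) (pi_ψ₀ hB s)
  · simp only [RingHom.comp_apply]
    unfold ψ q
    rw [IsLocalization.lift_eq, IsLocalization.lift_eq]
    exact congrArg (fun φ => φ (X x)) (pi_ψ₀ hB s)

theorem pi_ψ_apply (x : PP p k A s) : πB (ψ hB s x) = algebraMap A B (q p k A s x) :=
  congrArg (fun φ => φ x) (pi_ψ hB s)

end lift

end Groth.Agent.H6.W2Pure
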