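import Mathlib
import Groth.Prelude.Def_W4c1liftfrobW2
import Groth.Agent.Lib.Helper6.W2Pure3

/-! Descent of `W₂(k)`-liftability along a faithfully flat map, for algebras essentially of finite type. -/

set_option autoImplicit false
universe u v

namespace Groth.Agent.H6.W2Pure

open FrobAlg Groth.Agent.H7.W2D MvPolynomial

section main
variable {p : ℕ} [Fact p.Prime] {k : Type u} [Field k] [CharP k p] [PerfectRing k p]
variable {A B : Type u} [CommRing A] [CommRing B] [Algebra k A] [Algebra A B] [Algebra k B] [IsScalarTower k A B]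
variable {B' : Type u} [CommRing B'] {ιB : W2 p k →+* B'} {πB : B' →+* B} (hB : IsLift p k B B' ιB πB)

include hB in
/-- abstract form: `P` Noetherian with compatible maps to `A` and `B'`. -/
theorem liftable_of_presentation [Module.FaithfullyFlat A B]
    {P : Type u} [CommRing P] [IsNoetherianRing P] (ιP : W2 p k →+* P) (q : P →+* A) (ψ : P →+* B')
    (hq : Function.Surjective q) (hcomm : q.comp ιP = (algebraMap k A).comp (res p k))
    (hψ : ∀ x, πB (ψ x) = algebraMap A B (q x)) :
    FrobAlg.IsW2Liftable p k A := by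
  classical
  letI : Algebra P A := q.toAlgebra
  have hqa : ∀ x : P, algebraMap P A x = q x := fun _ => rfl
  have hpA : (p : A) = 0 := by
    rw [← map_natCast (algebraMap k A), CharP.cast_eq_zero, map_zero]
  -- generators of the kernel
  obtain ⟨n, f, hfspan⟩ := (Submodule.fg_iff_exists_fin_generating_family).mp
    ((isNoetherianRing_iff_ideal_fg P).mp inferInstance (RingHom.ker q))
  have hf : ∀ x : P, algebraMap P A x = 0 ↔ ∃ g : Fin n → P, ∑ i, g i * f i = x := by
    intro x
    rw [hqa, ← RingHom.mem_ker, ← hfspan, Submodule.mem_span_range_iff_exists_fun]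
    rfl
  -- relations
  obtain ⟨r, R, hR⟩ := (Submodule.fg_iff_exists_fin_generating_family).mp
    (IsNoetherian.noetherian (LinearMap.ker (Fintype.linearCombination P f)))
  have hRrel : ∀ j, ∑ i, R j i * f i = 0 := by
    intro j
    have : R j ∈ LinearMap.ker (Fintype.linearCombination P f) := by
      rw [← hR]; exact Submodule.subset_span ⟨j, rfl⟩
    rw [LinearMap.mem_ker, Fintype.linearCombination_apply] at this
    exact this
  -- `p` as a combination
  obtain ⟨e, he⟩ := (hf (p : P)).mp (by rw [map_natCast, hpA])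
  -- the elements `y i`
  have hy : ∀ i, ∃ y : B', ψ (f i) = (p : B') * y := by
    intro i
    apply (mem_ker_iff hB _).mp
    rw [hψ, ← hqa, (hf _).mpr ⟨fun j => if j = i then 1 else 0, by simp⟩, map_zero]
  choose y hy using hy
  -- key: `∑ g i * f i = z` implies `π (∑ ψ (g i) * y i - y₀) = 0` when `ψ z = p * y₀`
  have key : ∀ (g : Fin n → P) (y₀ : B'), ψ (∑ i, g i * f i) = (p : B') * y₀ →
      ∑ i, q (g i) • πB (y i) = πB y₀ := by
    intro g y₀ h
    have h1 : (p : B') * (∑ i, ψ (g i) * y i - y₀) = 0 := by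
      rw [mul_sub, ← h, map_sum, Finset.mul_sum, sub_eq_zero]
      refine Finset.sum_congr rfl fun i _ => ?_
      rw [map_mul, hy i]; ring
    have h2 := pi_eq_zero_of_p_mul hB _ h1
    rw [map_sub, map_sum, sub_eq_zero] at h2
    rw [← h2]
    refine Finset.sum_congr rfl fun i _ => ?_
    rw [map_mul, hψ, Algebra.smul_def]
  -- the linear system
  let T : (Fin r ⊕ Unit) → Fin n → A := fun j i => Sum.elim (fun j => q (R j i)) (fun _ => q (e i)) j
  let d : (Fin r ⊕ Unit) → A := Sum.elim (fun _ => 0) (fun _ => 1)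
  have hb : ∀ j, ∑ i, T j i • πB (y i) = algebraMap A B (d j) := by
    rintro (j | j)
    · show ∑ i, q (R j i) • πB (y i) = algebraMap A B 0
      rw [map_zero, key (R j) 0 (by rw [hRrel, map_zero, mul_zero]), map_zero]
    · show ∑ i, q (e i) • πB (y i) = algebraMap A B 1
      rw [map_one, key e 1 (by rw [he, map_natCast, mul_one]), map_one]
  obtain ⟨c, hc⟩ := linsys T d (fun i => πB (y i)) hb
  have hc1 : ∀ j, ∑ i, q (R j i) * c i = 0 := fun j => hc (Sum.inl j)
  have hce : ∑ i, algebraMap P A (e i) * c i = 1 := hc (Sum.inr ())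
  have hcrel : ∀ g : Fin n → P, ∑ i, g i * f i = 0 → ∑ i, algebraMap P A (g i) * c i = 0 := by
    intro g hg
    have hg' : g ∈ Submodule.span P (Set.range R) := by
      rw [hR, LinearMap.mem_ker, Fintype.linearCombination_apply]
      exact hg
    obtain ⟨h, rfl⟩ := (Submodule.mem_span_range_iff_exists_fun P).mp hg'
    simp only [Finset.sum_apply, Pi.smul_apply, smul_eq_mul, map_sum, map_mul, hqa, Finset.sum_mul]
    rw [Finset.sum_comm]
    refine Finset.sum_eq_zero fun j _ => ?_
    simp only [mul_assoc]
    rw [← Finset.mul_sum, hc1, mul_zero]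
  exact ⟨P ⧸ K' f c, inferInstance, _, _,
    isLift_quot ιP f c hq hcomm hf e he hcrel hce⟩

/-- Descent of `W₂(k)`-liftability along a faithfully flat map `A → B`, `A` essentially of finite type over `k`. -/
theorem liftable_of_faithfullyFlat [Algebra.EssFiniteType k A] [Module.FaithfullyFlat A B]
    (hB' : FrobAlg.IsW2Liftable p k B) : FrobAlg.IsW2Liftable p k A := by
  obtain ⟨B', _, ιB, πB, hB⟩ := hB'
  obtain ⟨s, hs⟩ := (Algebra.essFiniteType_iff (R := k) (S := A)).mp inferInstance
  haveI := isNoetherianRing_PP p k A s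
  exact liftable_of_presentation hB (ιP p k A s) (q p k A s) (ψ hB s) (q_surjective p k A s hs)
    (q_comp_ιP p k A s) (pi_ψ_apply hB s)

end main

end Groth.Agent.H6.W2Pure
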