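import Mathlib

set_option autoImplicit false

open Ideal

namespace Groth.Agent.H6.WCh2

variable {T : Type*} [CommRing T]

/-- Abstract generation statement. -/
theorem pow_eq_span (X Y pp c₁ w₆ w₃ : T) (v : ℕ) (hv : 1 ≤ v)
    (h1 : pp = w₆ * (Y ^ 2 + c₁ * pp ^ v * (X * Y) - X ^ 3))
    (h3 : X ^ 2 = w₃ * (c₁ * pp ^ v * Y))
    (hjac : Ideal.span {X, Y} ≤ Ideal.jacobson (⊥ : Ideal T)) (i : ℕ) (hi : 1 ≤ i) :
    (Ideal.span {pp, X, Y}) ^ i = Ideal.span {Y ^ i, X * Y ^ (i - 1)} := by
  set P : Ideal T := Ideal.span {X, Y} with hP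
  have hXP : X ∈ P := Ideal.subset_span (by simp)
  have hYP : Y ∈ P := Ideal.subset_span (by simp)
  have hpp2 : pp ∈ P ^ 2 := by
    rw [h1]
    apply Ideal.mul_mem_left
    have hY2 : Y ^ 2 ∈ P ^ 2 := Ideal.pow_mem_pow hYP 2
    have hXY : X * Y ∈ P ^ 2 := by rw [pow_two]; exact Ideal.mul_mem_mul hXP hYP
    have hX3 : X ^ 3 ∈ P ^ 2 := by
      have : X ^ 3 = X * X ^ 2 := by ring
      rw [this]
      exact Ideal.mul_mem_left _ _ (Ideal.pow_mem_pow hXP 2)
    exact Ideal.sub_mem _ (Ideal.add_mem _ hY2 (Ideal.mul_mem_left _ _ hXY)) hX3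
  have hppP : pp ∈ P := Ideal.pow_le_self (by norm_num) hpp2
  have hM : Ideal.span {pp, X, Y} = P := by
    apply le_antisymm
    · rw [Ideal.span_le]
      rintro z (rfl | rfl | rfl)
      exacts [hppP, hXP, hYP]
    · apply Ideal.span_mono
      intro z hz
      exact Set.mem_insert_of_mem _ hz
  have hX2 : X ^ 2 ∈ P ^ 3 := by
    rw [h3]
    apply Ideal.mul_mem_left
    obtain ⟨k, rfl⟩ := Nat.exists_eq_add_of_le hv
    have : c₁ * pp ^ (1 + k) * Y = (c₁ * pp ^ k) * (pp * Y) := by ring
    rw [this]
    apply Ideal.mul_mem_left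
    have : P ^ 3 = P ^ 2 * P := by rw [pow_succ]
    rw [this]
    exact Ideal.mul_mem_mul hpp2 hYP
  -- the key inclusion
  have hkey : ∀ j : ℕ, 1 ≤ j → P ^ j ≤ Ideal.span {Y ^ j, X * Y ^ (j - 1)} ⊔ P ^ (j + 1) := by
    intro j hj
    induction j, hj using Nat.le_induction with
    | base =>
      apply le_sup_of_le_left
      rw [pow_one, hP, Ideal.span_le]
      rintro z (rfl | rfl)
      · exact Ideal.subset_span (by simp)
      · exact Ideal.subset_span (by simp)
    | succ j hj ih =>
      have hstep : P ^ (j + 1) = P ^ j * P := pow_succ _ _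
      rw [hstep]
      refine (Ideal.mul_mono_left ih).trans ?_
      rw [Ideal.sup_mul]
      apply sup_le
      · rw [hP, Ideal.span_pair_mul_span_pair, Ideal.span_le]
        rintro z (rfl | rfl | rfl | rfl)
        · -- Y^j * X
          apply Ideal.mem_sup_left
          apply Ideal.subset_span
          right
          simp only [Nat.add_sub_cancel, Set.mem_singleton_iff]
          ring
        · -- Y^j * Y
          apply Ideal.mem_sup_left
          apply Ideal.subset_span
          left
          ring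
        · -- X * Y^(j-1) * X
          apply Ideal.mem_sup_right
          have : X * Y ^ (j - 1) * X = X ^ 2 * Y ^ (j - 1) := by ring
          rw [this]
          have h2 : P ^ (j + 1 + 1) = P ^ 3 * P ^ (j - 1) := by
            rw [← pow_add]; congr 1; omega
          rw [← hP, h2]
          exact Ideal.mul_mem_mul hX2 (Ideal.pow_mem_pow hYP _)
        · -- X * Y^(j-1) * Y
          apply Ideal.mem_sup_left
          apply Ideal.subset_span
          right
          simp only [Nat.add_sub_cancel, Set.mem_singleton_iff]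
          obtain ⟨k, rfl⟩ := Nat.exists_eq_add_of_le hj
          simp only [Nat.add_sub_cancel_left]
          ring
      · apply le_sup_of_le_right
        rw [← pow_succ]
  rw [hM]
  apply le_antisymm
  · have hfg : (P ^ i).FG := by
      apply Ideal.FG.pow
      rw [hP]
      exact Submodule.fg_span (Set.toFinite {X, Y})
    refine Submodule.le_of_le_smul_of_le_jacobson_bot (I := P) hfg hjac ?_
    refine (hkey i hi).trans ?_
    apply sup_le_sup_left
    rw [pow_succ, mul_comm]
    exact le_of_eq rfl
  · rw [Ideal.span_le]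
    rintro z (rfl | rfl)
    · exact Ideal.pow_mem_pow hYP i
    · obtain ⟨k, rfl⟩ := Nat.exists_eq_add_of_le hi
      simp only [Nat.add_sub_cancel_left]
      rw [add_comm, pow_succ, mul_comm (P ^ k)]
      exact Ideal.mul_mem_mul hXP (Ideal.pow_mem_pow hYP k)

end Groth.Agent.H6.WCh2
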