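import Mathlib
import Groth.Agent.Lib.Helper6.WCh2A

set_option autoImplicit false
universe u

open Ideal

namespace Groth.Agent.H6.WCh2

/-- The variables of a power series ring lie in the Jacobson radical. -/
theorem X_mem_jacobson {σ R : Type*} [CommRing R] (s : σ) :
    (MvPowerSeries.X s : MvPowerSeries σ R) ∈ Ideal.jacobson (⊥ : Ideal (MvPowerSeries σ R)) := by
  rw [Ideal.mem_jacobson_bot]
  intro z
  rw [MvPowerSeries.isUnit_iff_constantCoeff]
  simp

theorem map_mem_jacobson {A B : Type*} [CommRing A] [CommRing B] (f : A →+* B)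
    (hf : Function.Surjective f) {a : A} (ha : a ∈ Ideal.jacobson (⊥ : Ideal A)) :
    f a ∈ Ideal.jacobson (⊥ : Ideal B) := by
  rw [Ideal.mem_jacobson_bot] at ha ⊢
  intro z
  obtain ⟨z', rfl⟩ := hf z
  have := (ha z').map f
  simpa using this

theorem isUnit_three {R : Type*} [CommRing R] [IsLocalRing R] {v : ℕ} (hv : 1 ≤ v)
    (h2 : (2 : R) ∈ IsLocalRing.maximalIdeal R ^ v) : IsUnit (3 : R) := by
  have h2m : (2 : R) ∈ IsLocalRing.maximalIdeal R := Ideal.pow_le_self (by omega) h2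
  by_contra h3
  have h3m : (3 : R) ∈ IsLocalRing.maximalIdeal R := (IsLocalRing.mem_maximalIdeal _).mpr h3
  have h1 : (1 : R) ∈ IsLocalRing.maximalIdeal R := by
    have : (1 : R) = 3 - 2 := by norm_num
    rw [this]
    exact Ideal.sub_mem _ h3m h2m
  exact (IsLocalRing.maximalIdeal.isMaximal R).ne_top ((Ideal.eq_top_iff_one _).mpr h1)

/-- The two relations used in the generation lemma, for any ring hom killing the first and the
third generator. -/
theorem rels {R S T : Type*} [CommRing R] [CommRing S] [Algebra R S] [CommRing T]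
    (q : S →+* T) (ϖ a₁ a₆ w₃ : R) (v : ℕ) (u₁ u₆ : Rˣ) (ha₁ : a₁ = u₁ * ϖ ^ v)
    (ha₆ : a₆ = u₆ * ϖ) (hw₃ : w₃ * 3 = 1) (x y : S)
    (hf : q (y ^ 2 + a₁ • (x * y) - x ^ 3 - algebraMap R S a₆) = 0)
    (hg₂ : q (3 * x ^ 2 - a₁ • y) = 0) :
    q (algebraMap R S ϖ) = q (algebraMap R S (↑u₆⁻¹ : R)) *
      (q y ^ 2 + q (algebraMap R S (u₁ : R)) * q (algebraMap R S ϖ) ^ v * (q x * q y) - q x ^ 3) ∧
    q x ^ 2 = q (algebraMap R S w₃) *
      (q (algebraMap R S (u₁ : R)) * q (algebraMap R S ϖ) ^ v * q y) := by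
  set c : R →+* T := q.comp (algebraMap R S) with hc
  have hsm : ∀ (r : R) (z : S), q (r • z) = c r * q z := by
    intro r z
    rw [Algebra.smul_def, map_mul]; rfl
  have e2 : c a₁ = c (u₁ : R) * q (algebraMap R S ϖ) ^ v := by
    rw [ha₁, map_mul, map_pow]; rfl
  constructor
  · have e1 : q y ^ 2 + c a₁ * (q x * q y) - q x ^ 3 - c a₆ = 0 := by
      rw [← hf]
      simp only [map_sub, map_add, map_pow, map_mul, hsm]
      rfl
    have e3 : c a₆ = c (u₆ : R) * q (algebraMap R S ϖ) := by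
      rw [ha₆, map_mul]; rfl
    have e4 : c (↑u₆⁻¹ : R) * c (u₆ : R) = 1 := by
      rw [← map_mul, Units.inv_mul, map_one]
    show _ = c (↑u₆⁻¹ : R) * (q y ^ 2 + c (u₁ : R) * q (algebraMap R S ϖ) ^ v * (q x * q y) - q x ^ 3)
    rw [← e2]
    have e5 : q y ^ 2 + c a₁ * (q x * q y) - q x ^ 3 = c a₆ := by
      linear_combination e1
    rw [e5, e3, ← mul_assoc, e4, one_mul]
  · have e1 : 3 * q x ^ 2 - c a₁ * q y = 0 := by
      rw [← hg₂]
      simp only [map_sub, map_pow, map_mul, hsm, map_ofNat]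
    have e4 : c w₃ * 3 = 1 := by
      have : (3 : T) = c 3 := by rw [map_ofNat]
      rw [this, ← map_mul, hw₃, map_one]
    show _ = c w₃ * (c (u₁ : R) * q (algebraMap R S ϖ) ^ v * q y)
    rw [← e2]
    linear_combination (c w₃) * e1 - (q x ^ 2) * e4

theorem part1 (R : Type u) [CommRing R] [IsDomain R] [IsDiscreteValuationRing R]
    (ϖ a₁ a₆ : R) (v : ℕ) (hv : 1 ≤ v) (u₁ u₆ : Rˣ) (ha₁ : a₁ = u₁ * ϖ ^ v) (ha₆ : a₆ = u₆ * ϖ)
    (h2 : (2 : R) ∈ IsLocalRing.maximalIdeal R ^ v)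
    (x y : MvPowerSeries (Fin 2) R) (hx : x = MvPowerSeries.X 0) (hy : y = MvPowerSeries.X 1)
    (I M : Ideal (MvPowerSeries (Fin 2) R))
    (hI : I = Ideal.span {y ^ 2 + a₁ • (x * y) - x ^ 3 - algebraMap R (MvPowerSeries (Fin 2) R) a₆,
      2 * y + a₁ • x, 3 * x ^ 2 - a₁ • y})
    (hM : M = Ideal.span {algebraMap R (MvPowerSeries (Fin 2) R) ϖ, x, y}) (i : ℕ) (hi : 1 ≤ i) :
    M ^ i ⊔ I = Ideal.span {y ^ i, x * y ^ (i - 1)} ⊔ I := by
  let q : MvPowerSeries (Fin 2) R →+* MvPowerSeries (Fin 2) R ⧸ I := Ideal.Quotient.mk I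
  have hq : Function.Surjective q := Ideal.Quotient.mk_surjective
  have hker : RingHom.ker q = I := Ideal.mk_ker
  rw [← hker, ← Ideal.map_eq_iff_sup_ker_eq_of_surjective q hq, Ideal.map_pow, hM, Ideal.map_span,
    Ideal.map_span]
  obtain ⟨w₃, hw₃⟩ := (isUnit_three hv h2).exists_left_inv
  -- relations
  have hf : q (y ^ 2 + a₁ • (x * y) - x ^ 3 - algebraMap R (MvPowerSeries (Fin 2) R) a₆) = 0 := by
    rw [Ideal.Quotient.eq_zero_iff_mem, hI]
    exact Ideal.subset_span (by simp)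
  have hg₂ : q (3 * x ^ 2 - a₁ • y) = 0 := by
    rw [Ideal.Quotient.eq_zero_iff_mem, hI]
    exact Ideal.subset_span (by simp)
  obtain ⟨h1, h3⟩ := rels q ϖ a₁ a₆ w₃ v u₁ u₆ ha₁ ha₆ hw₃ x y hf hg₂
  have hjac : Ideal.span {q x, q y} ≤
      Ideal.jacobson (⊥ : Ideal (MvPowerSeries (Fin 2) R ⧸ I)) := by
    rw [Ideal.span_le]
    rintro z (rfl | rfl)
    · rw [hx]; exact map_mem_jacobson q hq (X_mem_jacobson 0)
    · rw [hy]; exact map_mem_jacobson q hq (X_mem_jacobson 1)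
  have := pow_eq_span (q x) (q y) (q (algebraMap R (MvPowerSeries (Fin 2) R) ϖ)) _ _ _ v hv
    h1 h3 hjac i hi
  have himg1 : (q '' {algebraMap R (MvPowerSeries (Fin 2) R) ϖ, x, y} :
      Set (MvPowerSeries (Fin 2) R ⧸ I)) =
      {q (algebraMap R (MvPowerSeries (Fin 2) R) ϖ), q x, q y} := by
    simp [Set.image_insert_eq]
  have himg2 : (q '' {y ^ i, x * y ^ (i - 1)} : Set (MvPowerSeries (Fin 2) R ⧸ I)) =
      {q y ^ i, q x * q y ^ (i - 1)} := by
    simp [Set.image_insert_eq]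
  rw [himg1, himg2]
  exact this

end Groth.Agent.H6.WCh2
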