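import Mathlib
import Groth.Agent.Lib.Helper6.WCh2B

set_option autoImplicit false
universe u

open MvPowerSeries Filter

namespace Groth.Agent.H6.WCh2

/-- Evaluation of a power series (finitely many variables) at nilpotent elements. -/
theorem exists_eval {σ : Type*} [Finite σ] {R T : Type*} [CommRing R] [CommRing T] [Algebra R T]
    (a : σ → T) (ha : ∀ s, IsNilpotent (a s)) :
    ∃ ψ : MvPowerSeries σ R →ₐ[R] T, ∀ s, ψ (X s) = a s := by
  letI : UniformSpace R := ⊥
  letI : UniformSpace T := ⊥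
  haveI : DiscreteTopology R := ⟨rfl⟩
  haveI : DiscreteTopology T := ⟨rfl⟩
  haveI : IsUniformAddGroup R := inferInstance
  haveI : IsUniformAddGroup T := inferInstance
  haveI : IsTopologicalRing T := inferInstance
  haveI : IsLinearTopology T T := inferInstance
  haveI : CompleteSpace T := inferInstance
  haveI : ContinuousSMul R T := ⟨continuous_of_discreteTopology⟩
  have hev : HasEval a := by
    refine ⟨fun s => ?_, ?_⟩
    · obtain ⟨n, hn⟩ := ha s
      unfold IsTopologicallyNilpotent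
      apply tendsto_atTop_of_eventually_const (i₀ := n)
      intro i hi
      obtain ⟨k, rfl⟩ := Nat.exists_eq_add_of_le hi
      rw [pow_add, hn, zero_mul]
    · rw [Filter.cofinite_eq_bot]
      exact tendsto_bot
  refine ⟨MvPowerSeries.aeval hev, fun s => ?_⟩
  rw [← AlgHom.coe_toRingHom]
  show (MvPowerSeries.aeval hev) (X s) = a s
  have := MvPowerSeries.coe_aeval (R := R) hev
  rw [this]
  exact eval₂_X _ _ _

open Polynomial in
/-- The ideal of polynomials whose constant coefficient lies in `I₁` and whose linear coefficient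
lies in `I₀`, for `I₁ ≤ I₀`. -/
def coeffIdeal {A : Type*} [CommRing A] (I₁ I₀ : Ideal A) (h : I₁ ≤ I₀) : Ideal A[X] where
  carrier := {p | p.coeff 0 ∈ I₁ ∧ p.coeff 1 ∈ I₀}
  add_mem' := by
    rintro p q ⟨hp0, hp1⟩ ⟨hq0, hq1⟩
    exact ⟨by rw [Polynomial.coeff_add]; exact I₁.add_mem hp0 hq0,
      by rw [Polynomial.coeff_add]; exact I₀.add_mem hp1 hq1⟩
  zero_mem' := ⟨by simp, by simp⟩
  smul_mem' := by
    rintro c p ⟨hp0, hp1⟩
    refine ⟨?_, ?_⟩
    · rw [smul_eq_mul, Polynomial.mul_coeff_zero]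
      exact I₁.mul_mem_left _ hp0
    · rw [smul_eq_mul, Polynomial.mul_coeff_one]
      exact I₀.add_mem (I₀.mul_mem_left _ hp1) (I₀.mul_mem_left _ (h hp0))

open Polynomial in
theorem mem_coeffIdeal {A : Type*} [CommRing A] (I₁ I₀ : Ideal A) (h : I₁ ≤ I₀) (p : A[X]) :
    p ∈ coeffIdeal I₁ I₀ h ↔ p.coeff 0 ∈ I₁ ∧ p.coeff 1 ∈ I₀ := Iff.rfl

end Groth.Agent.H6.WCh2
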