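import Mathlib
import Groth.Agent.Lib.Helper6.WCh2C

set_option autoImplicit false
universe u

open Polynomial

namespace Groth.Agent.H6.WCh2

theorem coeff_normal_form {A : Type*} [CommRing A] (α β : A) (r : A[X]) :
    (C α + C β * X + X ^ 2 * r).coeff 0 = α ∧ (C α + C β * X + X ^ 2 * r).coeff 1 = β := by
  constructor
  · simp
  · simp [Polynomial.coeff_X_pow_mul', Polynomial.coeff_C]

theorem mem_jacobson_of_isNilpotent {A : Type*} [CommRing A] {a : A} (ha : IsNilpotent a) :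
    a ∈ Ideal.jacobson (⊥ : Ideal A) := by
  have h1 : a ∈ (⊥ : Ideal A).radical := by
    obtain ⟨n, hn⟩ := ha
    exact ⟨n, by rw [hn]; exact Ideal.zero_mem _⟩
  exact Ideal.radical_le_jacobson h1

set_option maxHeartbeats 1000000 in
theorem part2 (R : Type u) [CommRing R] [IsDomain R] [IsDiscreteValuationRing R]
    (R' : Type u) [CommRing R'] [IsDomain R'] [Algebra R R'] (Y : R') (hY0 : Y ≠ 0)
    (hYu : ¬ IsUnit Y) (ϖ a₁ a₆ : R) (hY2 : Y ^ 2 = algebraMap R R' a₆)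
    (hϖ : Irreducible ϖ) (v : ℕ) (hv : 1 ≤ v) (u₁ u₆ : Rˣ) (ha₁ : a₁ = u₁ * ϖ ^ v)
    (ha₆ : a₆ = u₆ * ϖ) (h2 : (2 : R) ∈ IsLocalRing.maximalIdeal R ^ v)
    (x y : MvPowerSeries (Fin 2) R) (hx : x = MvPowerSeries.X 0) (hy : y = MvPowerSeries.X 1)
    (I M : Ideal (MvPowerSeries (Fin 2) R))
    (hI : I = Ideal.span {y ^ 2 + a₁ • (x * y) - x ^ 3 - algebraMap R (MvPowerSeries (Fin 2) R) a₆,
      2 * y + a₁ • x, 3 * x ^ 2 - a₁ • y})
    (hM : M = Ideal.span {algebraMap R (MvPowerSeries (Fin 2) R) ϖ, x, y}) (a b : R)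
    (hab : a • y ^ (2 * v) + b • (x * y ^ (2 * v - 1)) ∈ M ^ (2 * v + 1) ⊔ I) :
    a ∈ IsLocalRing.maximalIdeal R ∧ b ∈ IsLocalRing.maximalIdeal R := by
  classical
  have hϖY : algebraMap R R' ϖ = algebraMap R R' ↑u₆⁻¹ * Y ^ 2 := by
    rw [hY2, ha₆, ← map_mul, ← mul_assoc, Units.inv_mul, one_mul]
  obtain ⟨c2, hc2⟩ : ∃ c2 : R, (2 : R) = c2 * ϖ ^ v := by
    rw [hϖ.maximalIdeal_eq, Ideal.span_singleton_pow, Ideal.mem_span_singleton'] at h2
    obtain ⟨c, hc⟩ := h2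
    exact ⟨c, hc.symm⟩
  obtain ⟨w₃, hw₃⟩ := (isUnit_three hv h2).exists_left_inv
  have hI10 : Ideal.span {Y ^ (2 * v + 1)} ≤ Ideal.span {Y ^ (2 * v)} := by
    rw [Ideal.span_singleton_le_span_singleton]
    exact ⟨Y, by ring⟩
  set J : Ideal R'[X] := coeffIdeal (Ideal.span {Y ^ (2 * v + 1)}) (Ideal.span {Y ^ (2 * v)}) hI10
    with hJ
  have hmk0 : ∀ (α β : R') (r : R'[X]), α ∈ Ideal.span {Y ^ (2 * v + 1)} →
      β ∈ Ideal.span {Y ^ (2 * v)} →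
      Ideal.Quotient.mk J (C α + C β * X + X ^ 2 * r) = 0 := by
    intro α β r hα hβ
    rw [Ideal.Quotient.eq_zero_iff_mem, hJ, mem_coeffIdeal, (coeff_normal_form α β r).1,
      (coeff_normal_form α β r).2]
    exact ⟨hα, hβ⟩
  have hmk1 : ∀ (α β : R') (r : R'[X]), Ideal.Quotient.mk J (C α + C β * X + X ^ 2 * r) = 0 →
      α ∈ Ideal.span {Y ^ (2 * v + 1)} ∧ β ∈ Ideal.span {Y ^ (2 * v)} := by
    intro α β r h
    rw [Ideal.Quotient.eq_zero_iff_mem, hJ, mem_coeffIdeal, (coeff_normal_form α β r).1,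
      (coeff_normal_form α β r).2] at h
    exact h
  set Xb : R'[X] ⧸ J := Ideal.Quotient.mk J X with hXbdef
  set Yb : R'[X] ⧸ J := Ideal.Quotient.mk J (C Y) with hYbdef
  have halg : ∀ r : R, algebraMap R (R'[X] ⧸ J) r = Ideal.Quotient.mk J (C (algebraMap R R' r)) :=
    fun r => rfl
  -- E1
  have hE1 : Yb ^ 2 = algebraMap R (R'[X] ⧸ J) a₆ := by
    rw [halg, ← hY2, hYbdef, ← map_pow, ← C_pow]
  -- E2
  have hE2 : Xb ^ 2 = 0 := by
    have := hmk0 0 0 1 (Ideal.zero_mem _) (Ideal.zero_mem _)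
    rw [hXbdef, ← map_pow]
    convert this using 2
    simp
  -- E3
  have hpv : algebraMap R R' ϖ ^ v = algebraMap R R' ↑u₆⁻¹ ^ v * Y ^ (2 * v) := by
    rw [hϖY, mul_pow, ← pow_mul]
  have hE3x : algebraMap R (R'[X] ⧸ J) ϖ ^ v * Xb = 0 := by
    have := hmk0 0 (algebraMap R R' ϖ ^ v) 0 (Ideal.zero_mem _)
      (by rw [hpv]; exact Ideal.mul_mem_left _ _ (Ideal.subset_span rfl))
    rw [halg, hXbdef, ← map_pow, ← map_mul]
    convert this using 2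
    simp
  have hE3y : algebraMap R (R'[X] ⧸ J) ϖ ^ v * Yb = 0 := by
    have := hmk0 (algebraMap R R' ϖ ^ v * Y) 0 0
      (by rw [hpv, mul_assoc, ← pow_succ]; exact Ideal.mul_mem_left _ _ (Ideal.subset_span rfl))
      (Ideal.zero_mem _)
    rw [halg, hYbdef, ← map_pow, ← map_mul]
    convert this using 2
    simp
  have ha₁b : algebraMap R (R'[X] ⧸ J) a₁ =
      algebraMap R (R'[X] ⧸ J) u₁ * algebraMap R (R'[X] ⧸ J) ϖ ^ v := by
    rw [ha₁, map_mul, map_pow]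
  have ha₁x : algebraMap R (R'[X] ⧸ J) a₁ * Xb = 0 := by rw [ha₁b, mul_assoc, hE3x, mul_zero]
  have ha₁y : algebraMap R (R'[X] ⧸ J) a₁ * Yb = 0 := by rw [ha₁b, mul_assoc, hE3y, mul_zero]
  have h2y : (2 : R'[X] ⧸ J) * Yb = 0 := by
    have : (2 : R'[X] ⧸ J) = algebraMap R (R'[X] ⧸ J) 2 := by rw [map_ofNat]
    rw [this, hc2, map_mul, map_pow, mul_assoc, hE3y, mul_zero]
  have hY2v : Yb ^ (2 * v) = algebraMap R (R'[X] ⧸ J) u₆ ^ v * algebraMap R (R'[X] ⧸ J) ϖ ^ v := by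
    rw [pow_mul, hE1, ha₆, map_mul, mul_pow]
  have hXY : Xb * Yb ^ (2 * v) = 0 := by
    rw [hY2v, mul_comm, mul_assoc, hE3x, mul_zero]
  have hYY : Yb ^ (2 * v + 1) = 0 := by
    rw [pow_succ, hY2v, mul_assoc, hE3y, mul_zero]
  -- the evaluation map
  obtain ⟨ψ, hψ⟩ := exists_eval (R := R) (T := R'[X] ⧸ J) ![Xb, Yb] (by
    intro s
    fin_cases s
    · exact ⟨2, hE2⟩
    · exact ⟨2 * v + 1, hYY⟩)
  have hψx : ψ x = Xb := by rw [hx]; exact hψ 0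
  have hψy : ψ y = Yb := by rw [hy]; exact hψ 1
  have hsm : ∀ (r : R) (z : MvPowerSeries (Fin 2) R),
      ψ (r • z) = algebraMap R (R'[X] ⧸ J) r * ψ z := by
    intro r z
    rw [Algebra.smul_def, map_mul, AlgHom.commutes]
  have hψf : ψ (y ^ 2 + a₁ • (x * y) - x ^ 3 -
      algebraMap R (MvPowerSeries (Fin 2) R) a₆) = 0 := by
    rw [map_sub, map_sub, map_add, hsm, map_pow, map_pow, map_mul, hψx, hψy, AlgHom.commutes,
      ← mul_assoc, ha₁x, zero_mul, hE1]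
    have : Xb ^ 3 = Xb ^ 2 * Xb := by ring
    rw [this, hE2]
    ring
  have hψg₁ : ψ (2 * y + a₁ • x) = 0 := by
    rw [map_add, hsm, map_mul, hψx, hψy, map_ofNat, h2y, ha₁x, add_zero]
  have hψg₂ : ψ (3 * x ^ 2 - a₁ • y) = 0 := by
    rw [map_sub, hsm, map_mul, map_pow, hψx, hψy, hE2, ha₁y, mul_zero, sub_zero]
  have hIker : I ≤ RingHom.ker (ψ : MvPowerSeries (Fin 2) R →+* R'[X] ⧸ J) := by
    rw [hI, Ideal.span_le]
    rintro z (rfl | rfl | rfl)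
    · exact hψf
    · exact hψg₁
    · exact hψg₂
  obtain ⟨h1, h3⟩ := rels (ψ : MvPowerSeries (Fin 2) R →+* R'[X] ⧸ J) ϖ a₁ a₆ w₃ v u₁ u₆ ha₁ ha₆
    hw₃ x y hψf hψg₂
  have hjac : Ideal.span {(ψ : MvPowerSeries (Fin 2) R →+* R'[X] ⧸ J) x,
      (ψ : MvPowerSeries (Fin 2) R →+* R'[X] ⧸ J) y} ≤
      Ideal.jacobson (⊥ : Ideal (R'[X] ⧸ J)) := by
    rw [Ideal.span_le]
    rintro z (rfl | rfl)
    · exact mem_jacobson_of_isNilpotent ⟨2, by rw [RingHom.coe_coe, hψx]; exact hE2⟩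
    · exact mem_jacobson_of_isNilpotent ⟨2 * v + 1, by rw [RingHom.coe_coe, hψy]; exact hYY⟩
  have hpow := pow_eq_span _ _ _ _ _ _ v hv h1 h3 hjac (2 * v + 1) (by omega)
  have hMker : M ^ (2 * v + 1) ≤ RingHom.ker (ψ : MvPowerSeries (Fin 2) R →+* R'[X] ⧸ J) := by
    intro z hz
    rw [RingHom.mem_ker]
    have hz' : (ψ : MvPowerSeries (Fin 2) R →+* R'[X] ⧸ J) z ∈
        Ideal.map (ψ : MvPowerSeries (Fin 2) R →+* R'[X] ⧸ J) (M ^ (2 * v + 1)) :=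
      Ideal.mem_map_of_mem _ hz
    have himg : ((ψ : MvPowerSeries (Fin 2) R →+* R'[X] ⧸ J) ''
        {algebraMap R (MvPowerSeries (Fin 2) R) ϖ, x, y} : Set (R'[X] ⧸ J)) =
        {(ψ : MvPowerSeries (Fin 2) R →+* R'[X] ⧸ J) (algebraMap R (MvPowerSeries (Fin 2) R) ϖ),
          (ψ : MvPowerSeries (Fin 2) R →+* R'[X] ⧸ J) x,
          (ψ : MvPowerSeries (Fin 2) R →+* R'[X] ⧸ J) y} := by
      simp [Set.image_insert_eq]
    rw [Ideal.map_pow, hM, Ideal.map_span, himg, hpow] at hz'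
    have hbot : Ideal.span {(ψ : MvPowerSeries (Fin 2) R →+* R'[X] ⧸ J) y ^ (2 * v + 1),
        (ψ : MvPowerSeries (Fin 2) R →+* R'[X] ⧸ J) x *
          (ψ : MvPowerSeries (Fin 2) R →+* R'[X] ⧸ J) y ^ (2 * v + 1 - 1)} ≤
        (⊥ : Ideal (R'[X] ⧸ J)) := by
      rw [Ideal.span_le]
      rintro t (rfl | rfl)
      · rw [RingHom.coe_coe, hψy, hYY]; exact Ideal.zero_mem _
      · rw [RingHom.coe_coe, hψx, hψy, Nat.add_sub_cancel, hXY]
        exact Ideal.zero_mem _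
    exact (Ideal.mem_bot.mp (hbot hz'))
  have hker : ψ (a • y ^ (2 * v) + b • (x * y ^ (2 * v - 1))) = 0 :=
    (sup_le hMker hIker) hab
  rw [map_add, hsm, hsm, map_pow, map_mul, map_pow, hψx, hψy, halg, halg] at hker
  have hform : Ideal.Quotient.mk J (C (algebraMap R R' a)) * Yb ^ (2 * v) +
      Ideal.Quotient.mk J (C (algebraMap R R' b)) * (Xb * Yb ^ (2 * v - 1)) =
      Ideal.Quotient.mk J (C (algebraMap R R' a * Y ^ (2 * v)) +
        C (algebraMap R R' b * Y ^ (2 * v - 1)) * X + X ^ 2 * 0) := by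
    rw [hXbdef, hYbdef]
    simp only [← map_pow, ← map_mul, ← map_add, ← C_pow, ← C_mul]
    congr 1
    simp only [C_mul, C_pow]
    ring
  rw [hform] at hker
  obtain ⟨hα, hβ⟩ := hmk1 _ _ _ hker
  have hfin : ∀ (t : R) (k : ℕ), algebraMap R R' t * Y ^ k ∈ Ideal.span {Y ^ (k + 1)} →
      t ∈ IsLocalRing.maximalIdeal R := by
    intro t k ht
    rw [Ideal.mem_span_singleton'] at ht
    obtain ⟨z, hz⟩ := ht
    have h1 : algebraMap R R' t = z * Y := by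
      have hk : Y ^ k ≠ 0 := pow_ne_zero _ hY0
      apply mul_right_cancel₀ hk
      rw [← hz]; ring
    rw [IsLocalRing.mem_maximalIdeal]
    intro htu
    have : IsUnit (z * Y) := h1 ▸ htu.map (algebraMap R R')
    exact hYu (isUnit_of_mul_isUnit_right this)
  refine ⟨hfin a (2 * v) hα, hfin b (2 * v - 1) ?_⟩
  have : 2 * v - 1 + 1 = 2 * v := by omega
  rw [this]
  exact hβ

end Groth.Agent.H6.WCh2
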