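import Mathlib
import Groth.Agent.Lib.Helper6.WCh2D
import Groth.Agent.Lib.Helper7.DVRRoot4

set_option autoImplicit false
universe u

open Polynomial

namespace Groth.Agent.H6.WCh2

theorem main (R : Type u) [CommRing R] [IsDomain R] [IsDiscreteValuationRing R]
    (ϖ a₁ a₆ : R) (hϖ : Irreducible ϖ) (v : ℕ) (hv : 1 ≤ v) (u₁ u₆ : Rˣ) (ha₁ : a₁ = u₁ * ϖ ^ v) (ha₆ : a₆ = u₆ * ϖ)
    (h2 : (2 : R) ∈ IsLocalRing.maximalIdeal R ^ v)
    (x y : MvPowerSeries (Fin 2) R) (hx : x = MvPowerSeries.X 0) (hy : y = MvPowerSeries.X 1)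
    (I M : Ideal (MvPowerSeries (Fin 2) R))
    (hI : I = Ideal.span {y ^ 2 + a₁ • (x * y) - x ^ 3 - algebraMap R (MvPowerSeries (Fin 2) R) a₆,
      2 * y + a₁ • x, 3 * x ^ 2 - a₁ • y})
    (hM : M = Ideal.span {algebraMap R (MvPowerSeries (Fin 2) R) ϖ, x, y}) :
    M ^ (2 * v) ⊔ I = Ideal.span {y ^ (2 * v), x * y ^ (2 * v - 1)} ⊔ I ∧
      ∀ a b : R, a • y ^ (2 * v) + b • (x * y ^ (2 * v - 1)) ∈ M ^ (2 * v + 1) ⊔ I →
        a ∈ IsLocalRing.maximalIdeal R ∧ b ∈ IsLocalRing.maximalIdeal R := by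
  refine ⟨part1 R ϖ a₁ a₆ v hv u₁ u₆ ha₁ ha₆ h2 x y hx hy I M hI hM (2 * v) (by omega), ?_⟩
  intro a b hab
  have ha₆irr : Irreducible a₆ := by
    rw [ha₆]
    exact (irreducible_units_mul u₆).mpr hϖ
  obtain ⟨-, hdom, hdvr, -, hmax, -⟩ := Groth.Agent.H7.DVRRoot.main R a₆ ha₆irr 2 (by norm_num)
  haveI := hdom
  haveI := hdvr
  have hmonic : (X ^ 2 - C a₆ : R[X]).Monic := monic_X_pow_sub_C a₆ (by norm_num)
  have hY2 : (AdjoinRoot.root (X ^ 2 - C a₆ : R[X])) ^ 2 =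
      algebraMap R (AdjoinRoot (X ^ 2 - C a₆ : R[X])) a₆ := by
    have := AdjoinRoot.eval₂_root (X ^ 2 - C a₆ : R[X])
    rw [eval₂_sub, eval₂_pow, eval₂_X, eval₂_C, sub_eq_zero] at this
    exact this
  have ha₆m : algebraMap R (AdjoinRoot (X ^ 2 - C a₆ : R[X])) a₆ ∈
      IsLocalRing.maximalIdeal (AdjoinRoot (X ^ 2 - C a₆ : R[X])) := by
    have h1 : algebraMap R (AdjoinRoot (X ^ 2 - C a₆ : R[X])) a₆ ∈
        (IsLocalRing.maximalIdeal R).map (algebraMap R (AdjoinRoot (X ^ 2 - C a₆ : R[X]))) :=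
      Ideal.mem_map_of_mem _ ((IsLocalRing.mem_maximalIdeal _).mpr ha₆irr.not_isUnit)
    rw [hmax] at h1
    exact Ideal.pow_le_self (by norm_num) h1
  have hYu : ¬ IsUnit (AdjoinRoot.root (X ^ 2 - C a₆ : R[X])) := by
    intro hu
    have : IsUnit ((AdjoinRoot.root (X ^ 2 - C a₆ : R[X])) ^ 2) := hu.pow 2
    rw [hY2] at this
    exact (IsLocalRing.mem_maximalIdeal _).mp ha₆m this
  have hY0 : AdjoinRoot.root (X ^ 2 - C a₆ : R[X]) ≠ 0 := by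
    intro h0
    have : algebraMap R (AdjoinRoot (X ^ 2 - C a₆ : R[X])) a₆ = 0 := by
      rw [← hY2, h0]; ring
    have hinj : Function.Injective (algebraMap R (AdjoinRoot (X ^ 2 - C a₆ : R[X]))) :=
      AdjoinRoot.of.injective_of_degree_ne_zero (by
        rw [degree_X_pow_sub_C (by norm_num) a₆]
        norm_num)
    exact ha₆irr.ne_zero (hinj (by rw [this, map_zero]))
  exact part2 R (AdjoinRoot (X ^ 2 - C a₆ : R[X])) (AdjoinRoot.root _) hY0 hYu ϖ a₁ a₆ hY2 hϖ v hv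
    u₁ u₆ ha₁ ha₆ h2 x y hx hy I M hI hM a b hab

end Groth.Agent.H6.WCh2
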