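import Groth.Agent.Lib.Helper7.GrSect.Main
import Groth.Agent.Lib.Helper2.GorTransfer
import Groth.Agent.Lib.Helper6.GorBass
import Groth.Agent.Lib.Helper6.SocBasic
import Groth.Agent.Lib.Helper6.GorGlobal
import Groth.Prelude.Def_W4c6gradedringsgwSect

universe u
open CategoryTheory
set_option linter.unusedSectionVars false

namespace Groth.Agent.H6

namespace WSG

section Frob

variable {k : Type u} [Field k] {A : Type u} [CommRing A] [Algebra k A] [Module.Finite k A]

/-- a finite-dimensional commutative algebra with a nondegenerate "trace" is self-injective -/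
theorem injective_of_frobenius (lam : A →ₗ[k] k)
    (hlam : ∀ a : A, a ≠ 0 → ∃ b : A, lam (a * b) ≠ 0) : Module.Injective A A := by
  -- the comparison with the dual
  let Φ : A →ₗ[k] Module.Dual k A :=
    { toFun := fun a => lam ∘ₗ (LinearMap.mulLeft k a)
      map_add' := fun a b => by
        ext x
        simp [add_mul]
      map_smul' := fun c a => by
        ext x
        simp }
  have hΦ : ∀ a x, Φ a x = lam (a * x) := fun a x => rfl
  have hinj : Function.Injective Φ := by
    rw [← LinearMap.ker_eq_bot, LinearMap.ker_eq_bot']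
    intro a ha
    by_contra hne
    obtain ⟨b, hb⟩ := hlam a hne
    apply hb
    rw [← hΦ, ha, LinearMap.zero_apply]
  have hsurj : Function.Surjective Φ :=
    (LinearMap.injective_iff_surjective_of_finrank_eq_finrank
      (Subspace.dual_finrank_eq (K := k) (V := A)).symm).mp hinj
  apply Module.Baer.injective
  intro J g
  -- the functional on `J`
  let ℓ : ↥(J.restrictScalars k) →ₗ[k] k :=
    { toFun := fun x => lam (g ⟨x.1, x.2⟩)
      map_add' := fun x y => by
        have : (⟨(x + y).1, (x + y).2⟩ : J) = ⟨x.1, x.2⟩ + ⟨y.1, y.2⟩ := rfl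
        rw [this, map_add, map_add]
      map_smul' := fun c x => by
        have : (⟨(c • x).1, (c • x).2⟩ : J) = (algebraMap k A c) • ⟨x.1, x.2⟩ := by
          apply Subtype.ext
          change c • x.1 = algebraMap k A c • x.1
          rw [algebraMap_smul]
        rw [this, map_smul, smul_eq_mul, ← Algebra.smul_def, map_smul]
        rfl }
  obtain ⟨ℓ', hℓ'⟩ := LinearMap.exists_extend ℓ
  obtain ⟨a, ha⟩ := hsurj ℓ'
  refine ⟨LinearMap.mulLeft A a, fun x hx => ?_⟩
  rw [LinearMap.mulLeft_apply]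
  by_contra hne
  have hne' : a * x - g ⟨x, hx⟩ ≠ 0 := sub_ne_zero.mpr hne
  obtain ⟨b, hb⟩ := hlam _ hne'
  apply hb
  rw [sub_mul, map_sub, sub_eq_zero]
  have h1 : g ⟨x, hx⟩ * b = g ⟨b * x, J.mul_mem_left b hx⟩ := by
    have : (⟨b * x, J.mul_mem_left b hx⟩ : J) = b • ⟨x, hx⟩ := rfl
    rw [this, map_smul, smul_eq_mul, mul_comm]
  rw [h1]
  have h2 : lam (g ⟨b * x, J.mul_mem_left b hx⟩) = ℓ ⟨b * x, J.mul_mem_left b hx⟩ := rfl
  rw [h2, ← hℓ', LinearMap.comp_apply, ← ha, hΦ]
  congr 1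
  change a * x * b = a * (b * x)
  ring

theorem gorenstein_of_injective {A : Type u} [CommRing A] [IsNoetherianRing A]
    (h : Module.Injective A A) : LocCoh.IsGorensteinRing A := by
  haveI : Injective (ModuleCat.of A A) := Module.injective_object_of_injective_module A A
  have h1 : HasInjectiveDimensionLT (ModuleCat.of A A) 1 :=
    injective_iff_hasInjectiveDimensionLT_one.mp inferInstance
  exact (Bass.finite_injdim_self_iff.mp ⟨1, h1⟩).1

end Frob

section Desc

variable {k : Type u} [Field k] {B : Type u} [CommRing B] [Algebra k B] (I : Ideal B)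

/-- descent of a functional to the quotient -/
noncomputable def descend (lam : B →ₗ[k] k) (h : ∀ f ∈ I, lam f = 0) : (B ⧸ I) →ₗ[k] k :=
  ((I.restrictScalars k).liftQ lam (fun f hf => h f hf)) ∘ₗ
    (Submodule.Quotient.restrictScalarsEquiv k I).symm.toLinearMap

theorem descend_mk (lam : B →ₗ[k] k) (h : ∀ f ∈ I, lam f = 0) (f : B) :
    descend I lam h (Ideal.Quotient.mk I f) = lam f := by
  unfold descend
  rw [LinearMap.comp_apply]
  have : (Submodule.Quotient.restrictScalarsEquiv k I).symm.toLinearMap (Ideal.Quotient.mk I f) =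
      Submodule.Quotient.mk f := rfl
  rw [this]
  exact Submodule.liftQ_apply _ _ _

end Desc

section Dep

variable {R : Type u} [CommRing R] (p : Ideal R) [hp : p.IsPrime]
  (X : Type u) [AddCommGroup X] [Module R X]

/-- two elements of the socle are dependent if the socle of the localisation is simple -/
theorem exists_dep (hlen : Module.length (Localization.AtPrime p) (Soc.soc p X) = 1)
    (x' x'' : X) (hx' : ∀ a ∈ p, a • x' = 0) (hx'' : ∀ a ∈ p, a • x'' = 0) :
    ∃ a' a'' : R, (a' ∉ p ∨ a'' ∉ p) ∧ a' • x' + a'' • x'' = 0 := by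
  haveI hsimple : IsSimpleModule (Localization.AtPrime p) (Soc.soc p X) :=
    Module.length_eq_one_iff.mp hlen
  have hv' : LocalizedModule.mk x' (1 : p.primeCompl) ∈ Soc.soc p X := by
    rw [Soc.mk_mem_soc_iff]
    intro a ha
    exact ⟨1, by rw [hx' a ha, smul_zero]⟩
  have hv'' : LocalizedModule.mk x'' (1 : p.primeCompl) ∈ Soc.soc p X := by
    rw [Soc.mk_mem_soc_iff]
    intro a ha
    exact ⟨1, by rw [hx'' a ha, smul_zero]⟩
  by_cases h0 : LocalizedModule.mk x' (1 : p.primeCompl) = 0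
  · rw [← LocalizedModule.zero_mk (1 : p.primeCompl), LocalizedModule.mk_eq] at h0
    obtain ⟨t, ht⟩ := h0
    simp only [one_smul, smul_zero] at ht
    refine ⟨(t : R), 0, Or.inl t.2, ?_⟩
    rw [zero_smul, add_zero]
    exact ht
  · have hne : (⟨_, hv'⟩ : Soc.soc p X) ≠ 0 := fun h => h0 (congrArg Subtype.val h)
    obtain ⟨c, hc⟩ := IsSimpleModule.toSpanSingleton_surjective (Localization.AtPrime p) hne
      ⟨_, hv''⟩
    rw [LinearMap.toSpanSingleton_apply] at hc
    have hc' : c • LocalizedModule.mk x' (1 : p.primeCompl) =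
        LocalizedModule.mk x'' (1 : p.primeCompl) := congrArg Subtype.val hc
    clear hc
    induction c using Localization.induction_on with | H y => ?_
    obtain ⟨a, s⟩ := y
    rw [LocalizedModule.mk_smul_mk, LocalizedModule.mk_eq] at hc'
    obtain ⟨t, ht⟩ := hc'
    rw [one_smul, mul_one] at ht
    refine ⟨(t : R) * a, -((t : R) * (s : R)), Or.inr ?_, ?_⟩
    · intro hmem
      rw [neg_mem_iff] at hmem
      exact (t * s).2 hmem
    · rw [neg_smul, ← sub_eq_add_neg, sub_eq_zero, mul_smul, mul_smul]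
      exact ht

end Dep

section Basic

variable {k : Type u} [Field k] {H : AddSubmonoid ℕ}

local notation "B" => AddMonoidAlgebra k H

variable {e : ℕ} (he : e ∈ H)

/-- the monomial `s^e` -/
noncomputable def uu : B := AddMonoidAlgebra.single (⟨e, he⟩ : H) (1 : k)

theorem mem_span_of_forall (f : B)
    (hf : ∀ h ∈ f.coeff.support, ∃ h' : H, (h : ℕ) = e + h') : f ∈ Ideal.span {uu (k := k) he} := by
  rw [← AddMonoidAlgebra.sum_coeff_single f]
  unfold Finsupp.sum
  refine Ideal.sum_mem _ fun h hh => ?_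
  obtain ⟨h', hh'⟩ := hf h hh
  have : AddMonoidAlgebra.single h (f.coeff h) =
      uu (k := k) he * AddMonoidAlgebra.single h' (f.coeff h) := by
    unfold uu
    rw [AddMonoidAlgebra.single_mul_single, one_mul]
    congr 1
    exact Subtype.ext hh'
  rw [this]
  exact Ideal.mul_mem_right _ _ (Ideal.subset_span rfl)

theorem forall_of_mem_span (f : B) (hf : f ∈ Ideal.span {uu (k := k) he}) :
    ∀ h ∈ f.coeff.support, ∃ h' : H, (h : ℕ) = e + h' := by
  obtain ⟨g, rfl⟩ := Ideal.mem_span_singleton'.mp hf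
  intro h hh
  by_contra hcon
  rw [Finsupp.mem_support_iff] at hh
  apply hh
  rw [mul_comm]
  unfold uu
  apply AddMonoidAlgebra.coeff_single_mul_of_forall_add_ne
  intro d hd
  apply hcon
  exact ⟨d, by rw [← hd]; rfl⟩

theorem single_mem_span {h : H} (r : k) (hh : ∃ h' : H, (h : ℕ) = e + h') :
    AddMonoidAlgebra.single h r ∈ Ideal.span {uu (k := k) he} := by
  apply mem_span_of_forall
  intro h₁ hh₁
  rw [AddMonoidAlgebra.coeff_single] at hh₁
  have := Finsupp.support_single_subset hh₁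
  rw [Finset.mem_singleton] at this
  rw [this]
  exact hh

variable (c : ℕ) (hc : ∀ n, c ≤ n → n ∈ H)

include hc in
theorem finite_quot : Module.Finite k (B ⧸ Ideal.span {uu (k := k) he}) := by
  classical
  let S : Finset (B ⧸ Ideal.span {uu (k := k) he}) :=
    (Finset.range (c + e)).image (fun n => if hn : n ∈ H then
      Ideal.Quotient.mk _ (AddMonoidAlgebra.single (⟨n, hn⟩ : H) (1 : k)) else 0)
  refine ⟨⟨S, ?_⟩⟩
  rw [eq_top_iff]
  rintro a -
  obtain ⟨f, rfl⟩ := Ideal.Quotient.mk_surjective a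
  rw [← AddMonoidAlgebra.sum_coeff_single f]
  unfold Finsupp.sum
  rw [map_sum]
  refine Submodule.sum_mem _ fun h _ => ?_
  by_cases hlt : (h : ℕ) < c + e
  · have h1 : AddMonoidAlgebra.single h (f.coeff h) =
        (f.coeff h) • AddMonoidAlgebra.single h (1 : k) := by
      rw [AddMonoidAlgebra.smul_single, smul_eq_mul, mul_one]
    rw [h1]
    have h2 : Ideal.Quotient.mk (Ideal.span {uu (k := k) he})
        ((f.coeff h) • AddMonoidAlgebra.single h (1 : k)) =
        (f.coeff h) • Ideal.Quotient.mk (Ideal.span {uu (k := k) he})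
          (AddMonoidAlgebra.single h (1 : k)) := rfl
    rw [h2]
    apply Submodule.smul_mem
    apply Submodule.subset_span
    rw [Finset.mem_coe, Finset.mem_image]
    refine ⟨(h : ℕ), Finset.mem_range.mpr hlt, ?_⟩
    rw [dif_pos h.2]
  · have : AddMonoidAlgebra.single h (f.coeff h) ∈ Ideal.span {uu (k := k) he} := by
      apply single_mem_span
      have h1 : c ≤ (h : ℕ) - e := by omega
      exact ⟨⟨(h : ℕ) - e, hc _ h1⟩, by change (h : ℕ) = e + ((h : ℕ) - e); omega⟩
    rw [Ideal.Quotient.eq_zero_iff_mem.mpr this]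
    exact zero_mem _

/-- membership of an integer in a set of naturals -/
def inZ (H : AddSubmonoid ℕ) (n : ℤ) : Prop := ∃ h ∈ (H : Set ℕ), (h : ℤ) = n

theorem inZ_natCast {n : ℕ} : inZ H (n : ℤ) ↔ n ∈ H := by
  constructor
  · rintro ⟨h, hh, heq⟩
    have : h = n := by exact_mod_cast heq
    rw [← this]
    exact hh
  · intro hn
    exact ⟨n, hn, rfl⟩

theorem not_inZ_of_neg {n : ℤ} (hn : n < 0) : ¬ inZ H n := by
  rintro ⟨h, -, heq⟩
  omega

/-! ### the augmentation -/

/-- the augmentation `k[H] → k` -/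
noncomputable def eps : B →ₐ[k] k :=
  (Polynomial.aeval (0 : k)).comp (Groth.Agent.H7.GrSect.iota (k := k) H)

theorem eps_single (h : H) (r : k) :
    eps (k := k) (H := H) (AddMonoidAlgebra.single h r) = if (h : ℕ) = 0 then r else 0 := by
  unfold eps
  rw [AlgHom.comp_apply, Groth.Agent.H7.GrSect.iota_single, Polynomial.aeval_monomial]
  by_cases h0 : (h : ℕ) = 0
  · rw [if_pos h0, h0, pow_zero, mul_one]
    rfl
  · rw [if_neg h0, zero_pow h0, mul_zero]

theorem eps_apply (f : B) : eps (k := k) (H := H) f = f.coeff 0 := by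
  classical
  conv_lhs => rw [← AddMonoidAlgebra.sum_coeff_single f]
  unfold Finsupp.sum
  rw [map_sum]
  simp_rw [eps_single]
  by_cases h0 : (0 : H) ∈ f.coeff.support
  · rw [Finset.sum_eq_single_of_mem (0 : H) h0]
    · rw [if_pos (by rfl)]
    · intro b _ hb
      rw [if_neg]
      intro hb0
      exact hb (Subtype.ext hb0)
  · rw [Finsupp.notMem_support_iff.mp h0]
    apply Finset.sum_eq_zero
    intro b hb
    rw [if_neg]
    intro hb0
    apply h0
    have : b = 0 := Subtype.ext hb0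
    rwa [this] at hb

variable (he0 : e ≠ 0)

include he0 in
theorem eps_uu : eps (k := k) (H := H) (uu he) = 0 := by
  unfold uu
  rw [eps_single, if_neg he0]

/-- the augmentation of the quotient -/
noncomputable def epsQ : (B ⧸ Ideal.span {uu (k := k) he}) →+* k :=
  Ideal.Quotient.lift _ (eps (k := k) (H := H)).toRingHom (by
    intro f hf
    obtain ⟨g, rfl⟩ := Ideal.mem_span_singleton'.mp hf
    change eps (k := k) (H := H) (g * uu he) = 0
    rw [map_mul, eps_uu he he0, mul_zero])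

theorem epsQ_mk (f : B) : epsQ he he0 (Ideal.Quotient.mk _ f) = f.coeff 0 := by
  unfold epsQ
  rw [Ideal.Quotient.lift_mk]
  exact eps_apply f

/-- the augmentation ideal of the quotient -/
noncomputable def qq : Ideal (B ⧸ Ideal.span {uu (k := k) he}) := RingHom.ker (epsQ he he0)

instance qq_isPrime : (qq (k := k) he he0).IsPrime := RingHom.ker_isPrime _

theorem mk_mem_qq (f : B) : Ideal.Quotient.mk _ f ∈ qq (k := k) he he0 ↔ f.coeff 0 = 0 := by
  unfold qq
  rw [RingHom.mem_ker, epsQ_mk]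

theorem qq_isMaximal : (qq (k := k) he he0).IsMaximal := by
  apply RingHom.ker_isMaximal_of_surjective
  intro c
  refine ⟨Ideal.Quotient.mk _ (AddMonoidAlgebra.single 0 c), ?_⟩
  rw [epsQ_mk, AddMonoidAlgebra.coeff_single, Finsupp.single_eq_same]

theorem mk_single_pow (h : H) (r : k) :
    (Ideal.Quotient.mk (Ideal.span {uu (k := k) he}) (AddMonoidAlgebra.single h r)) ^ e =
      if (h : ℕ) = 0 then Ideal.Quotient.mk _ (AddMonoidAlgebra.single h r) ^ e else 0 := by
  by_cases h0 : (h : ℕ) = 0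
  · rw [if_pos h0]
  · rw [if_neg h0, ← map_pow, AddMonoidAlgebra.single_pow, Ideal.Quotient.eq_zero_iff_mem]
    apply single_mem_span
    have h1 : 1 ≤ (h : ℕ) := Nat.one_le_iff_ne_zero.mpr h0
    refine ⟨((h : ℕ) - 1) • (⟨e, he⟩ : H), ?_⟩
    change e * (h : ℕ) = e + ((h : ℕ) - 1) * e
    obtain ⟨m, hm⟩ : ∃ m, (h : ℕ) = m + 1 := ⟨(h : ℕ) - 1, by omega⟩
    rw [hm]
    simp only [Nat.add_sub_cancel]
    ring

include he0 in
theorem qq_le_prime (p : Ideal (B ⧸ Ideal.span {uu (k := k) he})) [hp : p.IsPrime] :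
    qq (k := k) he he0 ≤ p := by
  intro a ha
  obtain ⟨f, rfl⟩ := Ideal.Quotient.mk_surjective a
  rw [mk_mem_qq] at ha
  rw [← AddMonoidAlgebra.sum_coeff_single f]
  unfold Finsupp.sum
  rw [map_sum]
  refine Ideal.sum_mem _ fun h _ => ?_
  by_cases h0 : (h : ℕ) = 0
  · have : h = 0 := Subtype.ext h0
    rw [this, ha, AddMonoidAlgebra.single_zero, map_zero]
    exact zero_mem _
  · apply hp.mem_of_pow_mem e
    rw [mk_single_pow, if_neg h0]
    exact zero_mem _

include he0 in
theorem eq_qq_of_prime (p : Ideal (B ⧸ Ideal.span {uu (k := k) he})) [hp : p.IsPrime] :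
    p = qq (k := k) he he0 :=
  ((qq_isMaximal he he0).eq_of_le hp.ne_top (qq_le_prime he he0 p)).symm

theorem height_qq : (qq (k := k) he he0).height = 0 := by
  rw [Ideal.height_eq_zero_iff]
  refine ⟨⟨inferInstance, bot_le⟩, ?_⟩
  rintro p ⟨hp, -⟩ -
  haveI := hp
  exact qq_le_prime he he0 p

/-! ### the socle of the quotient -/

/-- `v` is in the Apéry set of `e` -/
def IsAp (e : ℕ) (v : H) : Prop := ¬ ∃ h' : H, (v : ℕ) = e + h'

/-- `v + h` is not in the Apéry set of `e`, for all nonzero `h` -/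
def IsTop (e : ℕ) (v : H) : Prop := ∀ h : H, (h : ℕ) ≠ 0 → ∃ h' : H, (v : ℕ) + h = e + h'

theorem smul_mono_eq_zero {v : H} (hv : IsTop e v)
    (a : B ⧸ Ideal.span {uu (k := k) he}) (ha : a ∈ qq (k := k) he he0) :
    a • Ideal.Quotient.mk (Ideal.span {uu (k := k) he}) (AddMonoidAlgebra.single v (1 : k)) = 0 := by
  obtain ⟨f, rfl⟩ := Ideal.Quotient.mk_surjective a
  rw [mk_mem_qq] at ha
  rw [smul_eq_mul, ← map_mul, Ideal.Quotient.eq_zero_iff_mem]
  rw [show f * AddMonoidAlgebra.single v (1 : k) =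
    (f.coeff.sum AddMonoidAlgebra.single) * AddMonoidAlgebra.single v (1 : k) by
      rw [AddMonoidAlgebra.sum_coeff_single]]
  unfold Finsupp.sum
  rw [Finset.sum_mul]
  refine Ideal.sum_mem _ fun h _ => ?_
  rw [AddMonoidAlgebra.single_mul_single, mul_one]
  by_cases h0 : (h : ℕ) = 0
  · have : h = 0 := Subtype.ext h0
    rw [this, ha, AddMonoidAlgebra.single_zero]
    exact zero_mem _
  · apply single_mem_span
    obtain ⟨h', hh'⟩ := hv h h0
    refine ⟨h', ?_⟩
    change (h : ℕ) + (v : ℕ) = e + h'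
    omega

theorem coeff_zero_of_mem_span {v₁ v₂ : H} (hne : v₁ ≠ v₂) (h1 : IsAp e v₁)
    (h2 : IsTop e v₂) (f₁ f₂ : B)
    (hmem : f₁ * AddMonoidAlgebra.single v₁ (1 : k) + f₂ * AddMonoidAlgebra.single v₂ (1 : k) ∈
      Ideal.span {uu (k := k) he}) : f₁.coeff 0 = 0 := by
  by_contra hne0
  have hc : (f₁ * AddMonoidAlgebra.single v₁ (1 : k) +
      f₂ * AddMonoidAlgebra.single v₂ (1 : k)).coeff v₁ = f₁.coeff 0 := by
    rw [AddMonoidAlgebra.coeff_add, Finsupp.add_apply]
    have e1 : (f₁ * AddMonoidAlgebra.single v₁ (1 : k)).coeff v₁ = f₁.coeff 0 := by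
      have := AddMonoidAlgebra.coeff_mul_single_add f₁ (1 : k) v₁ 0
      rwa [zero_add, mul_one] at this
    have e2 : (f₂ * AddMonoidAlgebra.single v₂ (1 : k)).coeff v₁ = 0 := by
      apply AddMonoidAlgebra.coeff_mul_single_of_forall_add_ne
      intro d hd
      by_cases hd0 : (d : ℕ) = 0
      · apply hne
        rw [← hd]
        have : d = 0 := Subtype.ext hd0
        rw [this, zero_add]
      · obtain ⟨h', hh'⟩ := h2 d hd0
        apply h1
        refine ⟨h', ?_⟩
        rw [← hd]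
        change (d : ℕ) + (v₂ : ℕ) = e + h'
        omega
    rw [e1, e2, add_zero]
  have hsup : v₁ ∈ (f₁ * AddMonoidAlgebra.single v₁ (1 : k) +
      f₂ * AddMonoidAlgebra.single v₂ (1 : k)).coeff.support := by
    rw [Finsupp.mem_support_iff, hc]
    exact hne0
  exact h1 (forall_of_mem_span he _ hmem v₁ hsup)

include hc he0 in
theorem symmetric_of_gorenstein
    [hG : LocCoh.IsGorensteinRing (B ⧸ Ideal.span {uu (k := k) he})] :
    W4c6gradedringsgw.IsSymmetric (H : Set ℕ) := by
  classical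
  -- the socle is simple
  have hlen : Module.length (Localization.AtPrime (qq (k := k) he he0))
      (Soc.soc (qq (k := k) he he0) (B ⧸ Ideal.span {uu (k := k) he})) = 1 := by
    rw [← Soc.bassNum_zero_eq, GorBass.bassNum_self (qq (k := k) he he0) 0 (by
      rw [height_qq]; rfl) 0, if_pos rfl]
  -- the conductor
  have hex : ∃ c₀ : ℕ, ∀ n, c₀ ≤ n → n ∈ H := ⟨c, hc⟩
  set c₀ := Nat.find hex with hc₀
  have hc₀1 : ∀ n, c₀ ≤ n → n ∈ H := Nat.find_spec hex
  let F : ℤ := (c₀ : ℤ) - 1
  have hF1 : ¬ inZ H F := by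
    rintro ⟨h, hh, heq⟩
    have hpos : 1 ≤ c₀ := by
      by_contra hcon
      have : c₀ = 0 := by omega
      change (h : ℤ) = (c₀ : ℤ) - 1 at heq
      omega
    have hh' : h = c₀ - 1 := by
      change (h : ℤ) = (c₀ : ℤ) - 1 at heq
      omega
    have hmin := Nat.find_min hex (m := c₀ - 1) (by omega)
    apply hmin
    intro n hn
    rcases Nat.eq_or_lt_of_le hn with h1 | h1
    · rw [← h1, ← hh']
      exact hh
    · exact hc₀1 n (by omega)
  have hF2 : ∀ n : ℤ, F < n → inZ H n := by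
    intro n hn
    have h0 : (0 : ℤ) ≤ n := by
      change (c₀ : ℤ) - 1 < n at hn
      omega
    refine ⟨n.toNat, hc₀1 _ ?_, Int.toNat_of_nonneg h0⟩
    change (c₀ : ℤ) - 1 < n at hn
    omega
  refine ⟨F, fun n => ?_⟩
  change inZ H n ↔ ¬ inZ H (F - n)
  constructor
  · rintro ⟨h₁, hh₁, rfl⟩ ⟨h₂, hh₂, heq₂⟩
    apply hF1
    refine ⟨h₁ + h₂, H.add_mem hh₁ hh₂, ?_⟩
    push_cast
    omega
  · intro hcon
    by_contra hn
    -- `n` is a gap and so is `F - n`
    have hn0 : 0 ≤ n := by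
      by_contra hneg
      apply hcon
      apply hF2
      omega
    obtain ⟨n₀, rfl⟩ : ∃ n₀ : ℕ, n = (n₀ : ℤ) := ⟨n.toNat, (Int.toNat_of_nonneg hn0).symm⟩
    have hn₀ : n₀ ∉ H := fun h => hn (inZ_natCast.mpr h)
    have hexj : ∃ j : ℕ, n₀ + j * e ∈ H := by
      refine ⟨c, hc _ ?_⟩
      have : c * 1 ≤ c * e := Nat.mul_le_mul_left c (Nat.one_le_iff_ne_zero.mpr he0)
      omega
    set j := Nat.find hexj with hj
    have hj1 : n₀ + j * e ∈ H := Nat.find_spec hexj
    have hj0 : j ≠ 0 := by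
      intro h0
      rw [h0, zero_mul, add_zero] at hj1
      exact hn₀ hj1
    have hj2 : n₀ + (j - 1) * e ∉ H := Nat.find_min hexj (m := j - 1) (by omega)
    let w : H := ⟨n₀ + j * e, hj1⟩
    have hwAp : IsAp e w := by
      rintro ⟨h', hh'⟩
      apply hj2
      have : n₀ + (j - 1) * e = (h' : ℕ) := by
        change n₀ + j * e = e + (h' : ℕ) at hh'
        obtain ⟨m, hm⟩ : ∃ m, j = m + 1 := ⟨j - 1, by omega⟩
        rw [hm] at hh' ⊢
        simp only [Nat.add_sub_cancel]
        rw [add_mul, one_mul] at hh'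
        omega
      rw [this]
      exact h'.2
    have hAp_lt : ∀ v : H, IsAp e v → (v : ℕ) < c + e := by
      intro v hv
      by_contra hge
      apply hv
      exact ⟨⟨(v : ℕ) - e, hc _ (by omega)⟩, by change (v : ℕ) = e + ((v : ℕ) - e); omega⟩
    -- a maximal element of the Apéry set above `w`
    let T : Finset ℕ := (Finset.range (c + e)).filter
      (fun v => ∃ hv : v ∈ H, IsAp e (⟨v, hv⟩ : H) ∧ ∃ h : H, v = (w : ℕ) + h)
    have hTne : T.Nonempty := by
      refine ⟨(w : ℕ), ?_⟩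
      rw [Finset.mem_filter, Finset.mem_range]
      exact ⟨hAp_lt w hwAp, w.2, hwAp, 0, by simp⟩
    obtain ⟨hw'r, hw'H, hw'Ap, h₀, hh₀⟩ : T.max' hTne < c + e ∧ ∃ hv : T.max' hTne ∈ H,
        IsAp e (⟨T.max' hTne, hv⟩ : H) ∧ ∃ h : H, T.max' hTne = (w : ℕ) + h := by
      have := Finset.max'_mem T hTne
      rw [Finset.mem_filter, Finset.mem_range] at this
      exact this
    set w'n := T.max' hTne with hw'n
    let w' : H := ⟨w'n, hw'H⟩
    have hw'top : IsTop e w' := by
      intro h hh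
      by_contra hcon'
      have hmem : (w' : ℕ) + h ∈ T := by
        rw [Finset.mem_filter, Finset.mem_range]
        have hH : (w' : ℕ) + h ∈ H := H.add_mem w'.2 h.2
        have hap : IsAp e (⟨(w' : ℕ) + h, hH⟩ : H) := hcon'
        refine ⟨hAp_lt _ hap, hH, hap, h₀ + h, ?_⟩
        change w'n + (h : ℕ) = (w : ℕ) + ((h₀ : ℕ) + (h : ℕ))
        omega
      have := Finset.le_max' T _ hmem
      change w'n + (h : ℕ) ≤ w'n at this
      omega
    -- the top of the Apéry set
    have hFe : inZ H (F + e) := hF2 _ (by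
      have : 1 ≤ e := Nat.one_le_iff_ne_zero.mpr he0
      omega)
    obtain ⟨Fe, hFeH, hFeeq⟩ := hFe
    let v : H := ⟨Fe, hFeH⟩
    have hvAp : IsAp e v := by
      rintro ⟨h', hh'⟩
      apply hF1
      refine ⟨(h' : ℕ), h'.2, ?_⟩
      change Fe = e + (h' : ℕ) at hh'
      omega
    have hvtop : IsTop e v := by
      intro h hh
      have : inZ H (F + (h : ℕ)) := hF2 _ (by
        have : 1 ≤ (h : ℕ) := Nat.one_le_iff_ne_zero.mpr hh
        omega)
      obtain ⟨h', hh'H, hh'eq⟩ := this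
      refine ⟨⟨h', hh'H⟩, ?_⟩
      change Fe + (h : ℕ) = e + h'
      omega
    by_cases hvw : w' = v
    · -- then `F - n ∈ H`
      apply hcon
      have hj' : 1 ≤ j := Nat.one_le_iff_ne_zero.mpr hj0
      refine ⟨(j - 1) * e + (h₀ : ℕ), H.add_mem ?_ h₀.2, ?_⟩
      · have := H.nsmul_mem he (j - 1)
        rwa [smul_eq_mul] at this
      · have h1 : w'n = Fe := congrArg Subtype.val hvw
        change w'n = n₀ + j * e + (h₀ : ℕ) at hh₀
        obtain ⟨m, hm⟩ : ∃ m, j = m + 1 := ⟨j - 1, by omega⟩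
        rw [hm] at hh₀ ⊢
        simp only [Nat.add_sub_cancel]
        rw [add_mul, one_mul] at hh₀
        push_cast
        have h2 : ((w'n : ℕ) : ℤ) = (n₀ : ℤ) + ((m : ℤ) * (e : ℤ) + (e : ℤ)) + ((h₀ : ℕ) : ℤ) := by
          exact_mod_cast hh₀
        rw [h1] at h2
        omega
    · obtain ⟨a', a'', hor, hsum⟩ := exists_dep (qq (k := k) he he0)
        (B ⧸ Ideal.span {uu (k := k) he}) hlen
        (Ideal.Quotient.mk _ (AddMonoidAlgebra.single w' (1 : k)))
        (Ideal.Quotient.mk _ (AddMonoidAlgebra.single v (1 : k)))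
        (fun a ha => smul_mono_eq_zero he he0 hw'top a ha)
        (fun a ha => smul_mono_eq_zero he he0 hvtop a ha)
      obtain ⟨f', rfl⟩ := Ideal.Quotient.mk_surjective a'
      obtain ⟨f'', rfl⟩ := Ideal.Quotient.mk_surjective a''
      rw [smul_eq_mul, smul_eq_mul, ← map_mul, ← map_mul, ← map_add,
        Ideal.Quotient.eq_zero_iff_mem] at hsum
      have h1 := coeff_zero_of_mem_span he hvw hw'Ap hvtop f' f'' hsum
      rw [add_comm] at hsum
      have h2 := coeff_zero_of_mem_span he (Ne.symm hvw) hvAp hw'top f'' f' hsum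
      rcases hor with h | h
      · exact h ((mk_mem_qq he he0 f').mpr h1)
      · exact h ((mk_mem_qq he he0 f'').mpr h2)

include hc he0 in
theorem gorenstein_of_symmetric [IsNoetherianRing B]
    (hs : W4c6gradedringsgw.IsSymmetric (H : Set ℕ)) :
    LocCoh.IsGorensteinRing (B ⧸ Ideal.span {uu (k := k) he}) := by
  obtain ⟨d, hd⟩ := hs
  have hd' : ∀ n : ℤ, inZ H n ↔ ¬ inZ H (d - n) := hd
  -- `d + e ∈ H`
  have hD : inZ H (d + e) := by
    have h1 := hd' (-(e : ℤ))
    have h2 : ¬ inZ H (-(e : ℤ)) := not_inZ_of_neg (by omega)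
    rw [h1, not_not] at h2
    have : d - -(e : ℤ) = d + e := by ring
    rwa [this] at h2
  obtain ⟨D, hDH, hDeq⟩ := hD
  have hdn : ¬ inZ H d := by
    have h1 := (hd' 0).mp ⟨0, H.zero_mem, rfl⟩
    rwa [sub_zero] at h1
  haveI : Module.Finite k (B ⧸ Ideal.span {uu (k := k) he}) := finite_quot he c hc
  let lamB : B →ₗ[k] k :=
    { toFun := fun f => f.coeff (⟨D, hDH⟩ : H)
      map_add' := fun _ _ => rfl
      map_smul' := fun _ _ => rfl }
  have h1 : ∀ f ∈ Ideal.span {uu (k := k) he}, lamB f = 0 := by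
    intro f hf
    by_contra hne
    have hsup : (⟨D, hDH⟩ : H) ∈ f.coeff.support := Finsupp.mem_support_iff.mpr hne
    obtain ⟨h', hh'⟩ := forall_of_mem_span he f hf _ hsup
    apply hdn
    refine ⟨(h' : ℕ), h'.2, ?_⟩
    change (D : ℕ) = e + (h' : ℕ) at hh'
    have : ((D : ℕ) : ℤ) = (e : ℤ) + ((h' : ℕ) : ℤ) := by exact_mod_cast hh'
    omega
  apply gorenstein_of_injective
  apply injective_of_frobenius (descend _ lamB h1)
  intro a ha
  obtain ⟨f, rfl⟩ := Ideal.Quotient.mk_surjective a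
  have hf : f ∉ Ideal.span {uu (k := k) he} := fun h => ha (Ideal.Quotient.eq_zero_iff_mem.mpr h)
  have hex : ∃ w ∈ f.coeff.support, ¬ ∃ h' : H, (w : ℕ) = e + h' := by
    by_contra hcon
    push Not at hcon
    exact hf (mem_span_of_forall he f hcon)
  obtain ⟨w, hw, hwe⟩ := hex
  have hw1 : ¬ inZ H ((w : ℕ) - (e : ℤ)) := by
    rintro ⟨h', hh', heq⟩
    apply hwe
    refine ⟨⟨h', hh'⟩, ?_⟩
    change (w : ℕ) = e + h'
    omega
  have hw2 : inZ H (d - ((w : ℕ) - (e : ℤ))) := by
    by_contra hcon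
    exact hw1 ((hd' _).mpr hcon)
  obtain ⟨w', hw'H, hw'eq⟩ := hw2
  refine ⟨Ideal.Quotient.mk _ (AddMonoidAlgebra.single (⟨w', hw'H⟩ : H) (1 : k)), ?_⟩
  rw [← map_mul, descend_mk]
  change (f * AddMonoidAlgebra.single (⟨w', hw'H⟩ : H) (1 : k)).coeff (⟨D, hDH⟩ : H) ≠ 0
  have hDw : (⟨D, hDH⟩ : H) = w + ⟨w', hw'H⟩ := by
    apply Subtype.ext
    change D = (w : ℕ) + w'
    omega
  rw [hDw, AddMonoidAlgebra.coeff_mul_single_add, mul_one]
  exact Finsupp.mem_support_iff.mp hw

end Basic

end WSG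

end Groth.Agent.H6
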