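import Groth.Agent.Lib.Helper7.GrSect.Low
import Groth.Agent.Lib.Helper6.GrDim
import Groth.Agent.Lib.Helper2.GorCore
import Groth.Agent.Lib.Helper2.GorTransfer

universe u
open CategoryTheory
set_option linter.unusedSectionVars false

namespace Groth.Agent.H6

namespace WSG

open FunFld W4c6gradedringsgw Polynomial Groth.Agent.H7.GrSect

section Grading

variable {k K : Type u} [Field k] [Field K] [Algebra k K] (hK : IsFunctionField k K)
  (P : Place k K)

/-- the degree-`n` piece of the section ring -/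
def piece (n : ℤ) : AddSubgroup (RP P) where
  carrier := {p | ∀ m : ℕ, (m : ℤ) ≠ n → (p : K[X]).coeff m = 0}
  zero_mem' := fun m _ => by
    rw [ZeroMemClass.coe_zero, coeff_zero]
  add_mem' := fun {p q} hp hq m hm => by
    rw [AddMemClass.coe_add, coeff_add, hp m hm, hq m hm, add_zero]
  neg_mem' := fun {p} hp m hm => by
    rw [NegMemClass.coe_neg, coeff_neg, hp m hm, neg_zero]

theorem mem_piece {n : ℤ} {p : RP P} :
    p ∈ piece P n ↔ ∀ m : ℕ, (m : ℤ) ≠ n → (p : K[X]).coeff m = 0 := Iff.rfl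

theorem piece_neg {n : ℤ} (hn : n < 0) : piece P n = ⊥ := by
  rw [eq_bot_iff]
  intro p hp
  rw [AddSubgroup.mem_bot]
  apply Subtype.ext
  ext m
  rw [ZeroMemClass.coe_zero, coeff_zero]
  exact hp m (by omega)

theorem mono_mem_piece (n : ℕ) (f : K) : mono P n f ∈ piece P (n : ℤ) := by
  intro m hm
  by_cases hf : f ∈ L (Finsupp.single P (n : ℤ) : Divisor k K)
  · rw [coe_mono P hf, coeff_monomial, if_neg]
    intro h
    apply hm
    rw [h]
  · unfold mono
    rw [dif_neg hf]
    rfl

/-- the component maps -/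
noncomputable def cmp (n : ℤ) : RP P →+ RP P where
  toFun p := if 0 ≤ n then mono P n.toNat ((p : K[X]).coeff n.toNat) else 0
  map_zero' := by
    by_cases hn : 0 ≤ n
    · rw [if_pos hn]
      apply Subtype.ext
      rw [ZeroMemClass.coe_zero, coeff_zero, coe_mono P (zero_mem _), monomial_zero_right]
    · rw [if_neg hn]
  map_add' p q := by
    by_cases hn : 0 ≤ n
    · rw [if_pos hn, if_pos hn, if_pos hn]
      apply Subtype.ext
      rw [AddMemClass.coe_add, AddMemClass.coe_add, coeff_add,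
        coe_mono P (add_mem (coeff_mem P p _) (coeff_mem P q _)),
        coe_mono P (coeff_mem P p _), coe_mono P (coeff_mem P q _), map_add]
    · rw [if_neg hn, if_neg hn, if_neg hn, add_zero]

theorem coe_cmp_nat (n : ℕ) (p : RP P) :
    ((cmp P (n : ℤ) p : RP P) : K[X]) = monomial n ((p : K[X]).coeff n) := by
  unfold cmp
  change ((if (0 : ℤ) ≤ n then mono P (n : ℤ).toNat ((p : K[X]).coeff (n : ℤ).toNat) else 0 : RP P) :
    K[X]) = _
  rw [if_pos (by omega), Int.toNat_natCast, coe_mono P (coeff_mem P p n)]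

theorem cmp_neg {n : ℤ} (hn : n < 0) (p : RP P) : cmp P n p = 0 := by
  unfold cmp
  change (if 0 ≤ n then _ else 0 : RP P) = 0
  rw [if_neg (by omega)]

theorem cmp_mem (n : ℤ) (p : RP P) : cmp P n p ∈ piece P n := by
  by_cases hn : 0 ≤ n
  · obtain ⟨n₀, rfl⟩ : ∃ n₀ : ℕ, n = (n₀ : ℤ) := ⟨n.toNat, (Int.toNat_of_nonneg hn).symm⟩
    intro m hm
    rw [coe_cmp_nat, coeff_monomial, if_neg]
    intro h
    apply hm
    rw [h]
  · rw [cmp_neg P (by omega)]
    exact zero_mem _

theorem cmp_same {n : ℤ} {p : RP P} (hp : p ∈ piece P n) : cmp P n p = p := by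
  by_cases hn : 0 ≤ n
  · obtain ⟨n₀, rfl⟩ : ∃ n₀ : ℕ, n = (n₀ : ℤ) := ⟨n.toNat, (Int.toNat_of_nonneg hn).symm⟩
    apply Subtype.ext
    rw [coe_cmp_nat]
    ext m
    rw [coeff_monomial]
    by_cases hm : n₀ = m
    · rw [if_pos hm, hm]
    · rw [if_neg hm, hp m (by intro h; apply hm; exact_mod_cast h.symm)]
  · rw [piece_neg P (by omega), AddSubgroup.mem_bot] at hp
    rw [hp, map_zero]

theorem cmp_ne {g h : ℤ} {p : RP P} (hp : p ∈ piece P g) (hgh : g ≠ h) : cmp P h p = 0 := by
  by_cases hn : 0 ≤ h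
  · obtain ⟨n₀, rfl⟩ : ∃ n₀ : ℕ, h = (n₀ : ℤ) := ⟨h.toNat, (Int.toNat_of_nonneg hn).symm⟩
    apply Subtype.ext
    rw [coe_cmp_nat, hp n₀ (Ne.symm hgh), monomial_zero_right]
    rfl
  · exact cmp_neg P (by omega) p

theorem eq_sum_cmp (p : RP P) :
    p = ∑ n ∈ (p : K[X]).support, cmp P (n : ℤ) p := by
  apply Subtype.ext
  rw [AddSubmonoidClass.coe_finsetSum]
  conv_lhs => rw [(p : K[X]).as_sum_support]
  refine Finset.sum_congr rfl fun n _ => ?_
  rw [coe_cmp_nat]

theorem piece_isInternal : DirectSum.IsInternal (piece P) := by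
  classical
  refine Gr.isInternal_of_proj (piece P) (cmp P) (fun g x hx => cmp_same P hx)
    (fun g h x hx hgh => cmp_ne P hx hgh) ?_
  intro p
  rw [eq_sum_cmp P p]
  refine sum_mem fun n _ => ?_
  exact AddSubgroup.mem_iSup_of_mem (n : ℤ) (cmp_mem P _ _)

noncomputable instance pieceDecomposition : DirectSum.Decomposition (piece P) :=
  (piece_isInternal P).chooseDecomposition

theorem one_mem_piece : (1 : RP P) ∈ piece P 0 := by
  intro m hm
  rw [OneMemClass.coe_one, coeff_one, if_neg]
  intro h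
  apply hm
  rw [h]
  rfl

theorem mul_mem_piece {i j : ℤ} {p q : RP P} (hp : p ∈ piece P i) (hq : q ∈ piece P j) :
    p * q ∈ piece P (i + j) := by
  intro m hm
  rw [MulMemClass.coe_mul, coeff_mul]
  apply Finset.sum_eq_zero
  intro x hx
  replace hx := Finset.HasAntidiagonal.mem_antidiagonal.mp hx
  by_cases h1 : (x.1 : ℤ) = i
  · have h2 : (x.2 : ℤ) ≠ j := by
      intro h2
      apply hm
      rw [← hx, ← h1, ← h2]
      push_cast
      rfl
    rw [hq x.2 h2, mul_zero]
  · rw [hp x.1 h1, zero_mul]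

noncomputable instance pieceGradedRing : GradedRing (piece P) where
  one_mem := one_mem_piece P
  mul_mem := fun _ _ _ _ hp hq => mul_mem_piece P hp hq

end Grading

section Irrel

variable {k K : Type u} [Field k] [Field K] [Algebra k K] (hK : IsFunctionField k K)
  (P : Place k K) (hP : P.deg = 1) (π : K) (hπ : P.1 π = WithZero.exp (-1 : ℤ))

theorem Rplus_eq_span :
    Rplus P = Ideal.span (⋃ n ∈ Set.Ioi (0 : ℤ), (piece P n : Set (RP P))) := by
  apply le_antisymm
  · intro p hp
    rw [mem_Rplus_iff] at hp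
    rw [eq_sum_cmp P p]
    refine Ideal.sum_mem _ fun n hn => ?_
    apply Ideal.subset_span
    simp only [Set.mem_iUnion, Set.mem_Ioi, SetLike.mem_coe]
    refine ⟨(n : ℤ), ?_, cmp_mem P _ _⟩
    have : n ≠ 0 := by
      rintro rfl
      exact (mem_support_iff.1 hn) hp
    omega
  · rw [Ideal.span_le]
    intro p hp
    simp only [Set.mem_iUnion, Set.mem_Ioi, SetLike.mem_coe] at hp
    obtain ⟨n, hn, hpn⟩ := hp
    rw [SetLike.mem_coe, mem_Rplus_iff]
    exact hpn 0 (by push_cast; omega)

theorem Rplus_isHomogeneous : (Rplus P).IsHomogeneous (piece P) := by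
  rw [Rplus_eq_span]
  apply Ideal.homogeneous_span
  intro p hp
  simp only [Set.mem_iUnion, Set.mem_Ioi, SetLike.mem_coe] at hp
  obtain ⟨n, -, hpn⟩ := hp
  exact ⟨n, hpn⟩

include hK in
/-- degree-zero elements are constants -/
theorem exists_const_of_mem_piece_zero {p : RP P} (hp : p ∈ piece P 0) :
    ∃ c : k, p = algebraMap k (RP P) c := by
  have h0 := coeff_mem P p 0
  rw [Nat.cast_zero, Finsupp.single_zero, L_zero hK] at h0
  obtain ⟨c, hc⟩ := Submodule.mem_one.mp h0
  refine ⟨c, ?_⟩
  apply Subtype.ext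
  rw [Subalgebra.coe_algebraMap, Polynomial.algebraMap_apply]
  ext m
  rw [coeff_C]
  by_cases hm : m = 0
  · rw [if_pos hm, hm, ← hc]
  · rw [if_neg hm]
    exact hp m (by exact_mod_cast hm)

theorem algebraMap_mem_piece_zero (c : k) : algebraMap k (RP P) c ∈ piece P 0 := by
  intro m hm
  rw [Subalgebra.coe_algebraMap, Polynomial.algebraMap_apply, coeff_C, if_neg]
  intro h
  apply hm
  rw [h]
  rfl

include hK in
theorem isField_deg0 : IsField (GrLC.deg0 (piece P)) := by
  refine ⟨⟨0, 1, fun h => ?_⟩, fun x y => mul_comm x y, fun {x} hx => ?_⟩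
  · have : ((0 : GrLC.deg0 (piece P)) : RP P) = ((1 : GrLC.deg0 (piece P)) : RP P) :=
      congrArg Subtype.val h
    exact zero_ne_one this
  · obtain ⟨c, hc⟩ := exists_const_of_mem_piece_zero hK P x.2
    have hc0 : c ≠ 0 := by
      rintro rfl
      apply hx
      apply Subtype.ext
      rw [hc, map_zero]
      rfl
    refine ⟨⟨algebraMap k (RP P) c⁻¹, algebraMap_mem_piece_zero P _⟩, ?_⟩
    apply Subtype.ext
    change (x : RP P) * algebraMap k (RP P) c⁻¹ = 1
    rw [hc, ← map_mul, mul_inv_cancel₀ hc0, map_one]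

include hK hP hπ in
/-- homogeneous generators of the irrelevant ideal -/
theorem nonempty_posGens : Nonempty (Gr.PosGens (piece P) (Rplus P)) := by
  classical
  have hex : ∀ x ∈ gens hK P, ∃ n : ℤ, 0 < n ∧ x ∈ piece P n := by
    rintro x (rfl | ⟨h, hh, rfl⟩)
    · exact ⟨1, by norm_num, mono_mem_piece P 1 1⟩
    · refine ⟨(h : ℤ), ?_, mono_mem_piece P h _⟩
      have := hh.2.1
      omega
  refine ⟨⟨(gens_finite hK P hP).toFinset,
    fun x => if h : ∃ n : ℤ, 0 < n ∧ x ∈ piece P n then h.choose else 0, ?_, ?_⟩⟩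
  · intro x hx
    rw [Set.Finite.mem_toFinset] at hx
    rw [dif_pos (hex x hx)]
    exact (hex x hx).choose_spec
  · rw [Set.Finite.coe_toFinset, span_gens hK P hP π hπ]

end Irrel

section FiniteType

variable {R : Type u} [CommRing R] (𝒜 : ℤ → AddSubgroup R) [GradedRing 𝒜]

open Gr in
/-- a positively graded ring whose irrelevant ideal is finitely generated is of finite type over
its degree-zero part -/
theorem finiteType_of_posGens (hpos : ∀ n : ℤ, n < 0 → 𝒜 n = ⊥)
    (m : Ideal R) (hmsp : m = Ideal.span (⋃ n ∈ Set.Ioi (0 : ℤ), (𝒜 n : Set R)))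
    (G : Gr.PosGens 𝒜 m) : Algebra.FiniteType (GrLC.deg0 𝒜) R := by
  classical
  refine ⟨⟨G.T, ?_⟩⟩
  have ha : ∀ n : ℤ, 0 < n → ∀ y ∈ 𝒜 n, y ∈ m := by
    intro n hn y hy
    rw [hmsp]
    refine Ideal.subset_span ?_
    simp only [Set.mem_iUnion, Set.mem_Ioi, SetLike.mem_coe]
    exact ⟨n, hn, hy⟩
  have key : ∀ N : ℕ, ∀ n : ℤ, n ≤ N → ∀ y ∈ 𝒜 n,
      y ∈ Algebra.adjoin (GrLC.deg0 𝒜) (G.T : Set R) := by
    intro N
    induction N with
    | zero =>
      intro n hn y hy
      rcases lt_or_eq_of_le hn with h | h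
      · have : 𝒜 n = ⊥ := hpos n (by exact_mod_cast h)
        rw [this, AddSubgroup.mem_bot] at hy
        rw [hy]; exact Subalgebra.zero_mem _
      · have h0 : n = 0 := by exact_mod_cast h
        subst h0
        exact Subalgebra.algebraMap_mem _ (⟨y, hy⟩ : GrLC.deg0 𝒜)
    | succ N ih =>
      intro n hn y hy
      by_cases hle : n ≤ N
      · exact ih n hle y hy
      · have hnpos : 0 < n := by
          have : (N : ℤ) < n := not_le.mp hle
          omega
        obtain ⟨c, hc, rfl⟩ := G.exists_decomp ha hnpos hy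
        refine Subalgebra.sum_mem _ fun x hx => ?_
        refine Subalgebra.mul_mem _ ?_ (Algebra.subset_adjoin hx)
        refine ih (n - G.d x) ?_ (c x) (hc x)
        have := (G.hd x hx).1
        push_cast at hn
        omega
  rw [eq_top_iff]
  intro y _
  rw [← sum_proj 𝒜 y]
  refine Subalgebra.sum_mem _ fun g _ => ?_
  exact key g.toNat g (Int.self_le_toNat g) _ (proj_mem 𝒜 g y)

end FiniteType

section Noeth

variable {k K : Type u} [Field k] [Field K] [Algebra k K] (hK : IsFunctionField k K)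
  (P : Place k K) (hP : P.deg = 1) (π : K) (hπ : P.1 π = WithZero.exp (-1 : ℤ))

include hK hP hπ in
theorem isNoetherianRing_RP : IsNoetherianRing (RP P) := by
  obtain ⟨G⟩ := nonempty_posGens hK P hP π hπ
  haveI := finiteType_of_posGens (piece P) (fun n hn => piece_neg P hn) (Rplus P)
    (Rplus_eq_span P) G
  letI : Field (GrLC.deg0 (piece P)) := (isField_deg0 hK P).toField
  exact Algebra.FiniteType.isNoetherianRing (GrLC.deg0 (piece P)) (RP P)

instance Rplus_isPrime : (Rplus P).IsPrime := RingHom.ker_isPrime _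

include hK in
/-- the graded-local principle for the Gorenstein property of the section ring -/
theorem gorenstein_of_local [IsNoetherianRing (RP P)]
    (hG : LocCoh.IsGorensteinLocalRing (Localization.AtPrime (Rplus P))) :
    LocCoh.IsGorensteinRing (RP P) := by
  refine { isGorensteinLocalRing_localization := fun p hp => ?_ }
  haveI hc : (Ideal.homogeneousCore (piece P) p).toIdeal.IsPrime := hp.homogeneousCore
  have hle : (Ideal.homogeneousCore (piece P) p).toIdeal ≤ Rplus P :=
    Gr.le_irrelevant (piece P) (fun n hn => piece_neg P hn) (isField_deg0 hK P) (Rplus P)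
      (Rplus_eq_span P) _ (Ideal.homogeneousCore (piece P) p).isHomogeneous hc.ne_top
  haveI := Groth.Agent.H2.GorTransfer.gor_generization
    (Ideal.homogeneousCore (piece P) p).toIdeal (Rplus P) hle
  exact Groth.Agent.H2.GorCore.gor_of_gor_core (piece P) p this

end Noeth

end WSG

end Groth.Agent.H6
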