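import Groth.Agent.Lib.Helper6.WSG1
import Groth.Agent.Lib.Helper6.WSG2

universe u
open CategoryTheory
set_option linter.unusedSectionVars false

namespace Groth.Agent.H6

namespace WSG

open FunFld W4c6gradedringsgw Polynomial Groth.Agent.H7.GrSect

section Transport

theorem gorLocal_congr {A : Type u} [CommRing A] (p q : Ideal A) [hp : p.IsPrime] [hq : q.IsPrime]
    (h : p = q) (hG : LocCoh.IsGorensteinLocalRing (Localization.AtPrime q)) :
    LocCoh.IsGorensteinLocalRing (Localization.AtPrime p) := by
  subst h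
  exact hG

theorem gorLocal_of_ringEquiv_comap {A A' : Type u} [CommRing A] [CommRing A'] (e : A ≃+* A')
    (q : Ideal A) [hq : q.IsPrime] (q' : Ideal A') [hq' : q'.IsPrime]
    (h : q = q'.comap (e : A →+* A'))
    (hG : LocCoh.IsGorensteinLocalRing (Localization.AtPrime q)) :
    LocCoh.IsGorensteinLocalRing (Localization.AtPrime q') := by
  have H : Submonoid.map e.toMonoidHom q.primeCompl = q'.primeCompl := by
    ext x
    constructor
    · rintro ⟨y, hy, rfl⟩
      intro hx
      apply hy
      rw [h]
      exact hx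
    · intro hx
      refine ⟨e.symm x, ?_, e.apply_symm_apply x⟩
      intro hmem
      rw [h] at hmem
      apply hx
      have : e (e.symm x) ∈ q' := hmem
      rwa [e.apply_symm_apply] at this
  exact Groth.Agent.H2.GorTransfer.gorLocal_of_ringEquiv
    (IsLocalization.ringEquivOfRingEquiv (Localization.AtPrime q) (Localization.AtPrime q') e H)

theorem gorLocal_ringEquiv_iff {A A' : Type u} [CommRing A] [CommRing A'] (e : A ≃+* A')
    (q : Ideal A) [hq : q.IsPrime] (q' : Ideal A') [hq' : q'.IsPrime]
    (h : q = q'.comap (e : A →+* A')) :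
    LocCoh.IsGorensteinLocalRing (Localization.AtPrime q) ↔
      LocCoh.IsGorensteinLocalRing (Localization.AtPrime q') := by
  constructor
  · exact gorLocal_of_ringEquiv_comap e q q' h
  · refine gorLocal_of_ringEquiv_comap e.symm q' q ?_
    ext x
    rw [h, Ideal.mem_comap, Ideal.mem_comap]
    change x ∈ q' ↔ e (e.symm x) ∈ q'
    rw [e.apply_symm_apply]

end Transport

section SemiRing

variable {k : Type u} [Field k] {H : AddSubmonoid ℕ}

local notation "B" => AddMonoidAlgebra k H

/-- the augmentation ideal of `k[H]` -/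
noncomputable def pp : Ideal B := RingHom.ker (eps (k := k) (H := H)).toRingHom

instance pp_isPrime : (pp (k := k) (H := H)).IsPrime := RingHom.ker_isPrime _

theorem mem_pp (f : B) : f ∈ pp (k := k) (H := H) ↔ f.coeff 0 = 0 := by
  unfold pp
  rw [RingHom.mem_ker]
  change eps (k := k) (H := H) f = 0 ↔ _
  rw [eps_apply]

instance : IsDomain B :=
  Function.Injective.isDomain (Groth.Agent.H7.GrSect.iota (k := k) H).toRingHom
    (Groth.Agent.H7.GrSect.iota_injective H)

variable {e : ℕ} (he : e ∈ H) (he0 : e ≠ 0) (c : ℕ) (hc : ∀ n, c ≤ n → n ∈ H)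

include he he0 hc in
/-- **Kunz's theorem**: the local ring of a numerical semigroup ring at the origin is Gorenstein
if and only if the semigroup is symmetric -/
theorem gorLocal_iff_symmetric [IsNoetherianRing B] :
    LocCoh.IsGorensteinLocalRing (Localization.AtPrime (pp (k := k) (H := H))) ↔
      W4c6gradedringsgw.IsSymmetric (H : Set ℕ) := by
  have hu0 : uu (k := k) he ≠ 0 := by
    unfold uu
    rw [Ne, AddMonoidAlgebra.single_eq_zero]
    exact one_ne_zero
  have hreg : IsSMulRegular B (uu (k := k) he) := by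
    intro a b hab
    exact mul_left_cancel₀ hu0 hab
  have humem : uu (k := k) he ∈ pp (k := k) (H := H) := by
    rw [mem_pp]
    unfold uu
    rw [AddMonoidAlgebra.coeff_single, Finsupp.single_eq_of_ne]
    intro h
    apply he0
    exact (congrArg Subtype.val h).symm
  have hker : RingHom.ker (Ideal.Quotient.mk (Ideal.span {uu (k := k) he})) ≤
      pp (k := k) (H := H) := by
    rw [Ideal.mk_ker, Ideal.span_le, Set.singleton_subset_iff]
    exact humem
  haveI hqprime : ((pp (k := k) (H := H)).map
      (Ideal.Quotient.mk (Ideal.span {uu (k := k) he}))).IsPrime :=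
    Ideal.map_isPrime_of_surjective Ideal.Quotient.mk_surjective hker
  have hqq := eq_qq_of_prime he he0 ((pp (k := k) (H := H)).map
      (Ideal.Quotient.mk (Ideal.span {uu (k := k) he})))
  rw [Groth.Agent.H2.GorTransfer.gor_quot_iff (uu (k := k) he) hreg (pp (k := k) (H := H)) humem
    _ rfl]
  constructor
  · intro hG
    haveI : LocCoh.IsGorensteinRing (B ⧸ Ideal.span {uu (k := k) he}) :=
      { isGorensteinLocalRing_localization := fun p hp =>
          gorLocal_congr p _ ((eq_qq_of_prime he he0 p).trans hqq.symm) hG }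
    exact symmetric_of_gorenstein (k := k) he c hc he0
  · intro hs
    haveI := gorenstein_of_symmetric (k := k) he c hc he0 hs
    exact LocCoh.IsGorensteinRing.isGorensteinLocalRing_localization _

end SemiRing


section Abstract

variable {R B : Type u} [CommRing R] [IsNoetherianRing R] [IsDomain R] [CommRing B]

/-- passing to the quotient by a nonzero element and transporting along an isomorphism -/
theorem gorLocal_iff_of_quot (m : Ideal R) [hm : m.IsPrime] (t : R) (ht0 : t ≠ 0) (htm : t ∈ m)
    (φ : R →+* B) (hφ : Function.Surjective φ) (hker : RingHom.ker φ = Ideal.span {t})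
    (q' : Ideal B) [hq' : q'.IsPrime] (hq : ∀ p : R, p ∈ m ↔ φ p ∈ q') :
    LocCoh.IsGorensteinLocalRing (Localization.AtPrime m) ↔
      LocCoh.IsGorensteinLocalRing (Localization.AtPrime q') := by
  have hreg : IsSMulRegular R t := by
    intro a b hab
    exact mul_left_cancel₀ ht0 hab
  obtain ⟨ebar, hebar⟩ : ∃ ebar : (R ⧸ Ideal.span {t}) ≃+* B,
      ∀ p : R, ebar (Ideal.Quotient.mk _ p) = φ p :=
    ⟨(Ideal.quotEquivOfEq hker.symm).trans (RingHom.quotientKerEquivOfSurjective hφ),
      fun p => rfl⟩
  have hle : Ideal.span {t} ≤ m := by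
    rw [Ideal.span_le, Set.singleton_subset_iff]
    exact htm
  have hkermk : RingHom.ker (Ideal.Quotient.mk (Ideal.span {t})) ≤ m := by
    rw [Ideal.mk_ker]
    exact hle
  haveI hqprime : (m.map (Ideal.Quotient.mk (Ideal.span {t}))).IsPrime :=
    Ideal.map_isPrime_of_surjective Ideal.Quotient.mk_surjective hkermk
  have hq2 : m.map (Ideal.Quotient.mk (Ideal.span {t})) =
      q'.comap (ebar : (R ⧸ Ideal.span {t}) →+* B) := by
    ext x
    obtain ⟨p, rfl⟩ := Ideal.Quotient.mk_surjective x
    rw [Ideal.mem_quotient_iff_mem hle, Ideal.mem_comap]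
    change _ ↔ ebar (Ideal.Quotient.mk _ p) ∈ _
    rw [hebar, hq]
  rw [← gorLocal_ringEquiv_iff ebar _ _ hq2,
    ← Groth.Agent.H2.GorTransfer.gor_quot_iff t hreg m htm _ rfl]

end Abstract

section Chain

variable {k K : Type u} [Field k] [Field K] [Algebra k K] (hK : IsFunctionField k K)
  (P : Place k K) (hP : P.deg = 1) (π : K) (hπ : P.1 π = WithZero.exp (-1 : ℤ))
  (hg : 1 ≤ genus k K)

include hK hP in
theorem mem_semi_of_ge (n : ℕ) (hn : 2 * genus k K ≤ n) : n ∈ semi hK P := by
  classical
  rw [mem_semi]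
  intro hgap
  have hn1 : 1 ≤ n := by
    rcases Nat.eq_zero_or_pos n with h | h
    · subst h
      exact absurd hgap (by simpa using not_isGap_zero hK P)
    · exact h
  obtain ⟨m, rfl⟩ : ∃ m, n = m + 1 := ⟨n - 1, by omega⟩
  have h1 := gapCount_eq_genus hK P hP (N := m) (by push_cast; omega)
  have h2 := gapCount_eq_genus hK P hP (N := m + 1) (by push_cast; omega)
  rw [gapCount_succ, if_pos hgap, h1] at h2
  omega

include hK hP hπ in
theorem coeff_phi_zero (p : RP P) :
    (phi hK P hP π hπ p).coeff 0 = 0 ↔ (p : K[X]).coeff 0 = 0 := by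
  rw [← eps_apply]
  unfold eps
  rw [AlgHom.comp_apply, iota_phi, ← Polynomial.coeff_zero_eq_aeval_zero, coeff_psi,
    lam_eq_zero_iff_mem P hP π hπ (coeff_mem P p 0)]
  have : ((0 : ℕ) : ℤ) - 1 = -1 := by norm_num
  rw [this, L_single_neg_one hK P hP, Submodule.mem_bot]

include hK hP hπ hg in
/-- the section ring of a point on a curve of positive genus is Gorenstein if and only if the
Weierstrass semigroup is symmetric -/
theorem gorenstein_iff_symmetric :
    LocCoh.IsGorensteinRing (RP P) ↔ W4c6gradedringsgw.IsSymmetric (poleOrders P) := by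
  haveI hN : IsNoetherianRing (RP P) := isNoetherianRing_RP hK P hP π hπ
  -- the element `t = T`
  have h1L : (1 : K) ∈ L (Finsupp.single P ((1 : ℕ) : ℤ) : Divisor k K) := one_mem_L_single hK P 1
  obtain ⟨t, htdef⟩ : ∃ t : RP P, t = mono P 1 1 := ⟨_, rfl⟩
  have ht : (t : K[X]) = C (1 : K) * X := by
    rw [htdef, coe_mono P h1L, monomial_one_one_eq_X, C_1, one_mul]
  have ht0 : t ≠ 0 := by
    intro h
    have h' : (t : K[X]) = ((0 : RP P) : K[X]) := congrArg Subtype.val h
    rw [ht, C_1, one_mul, ZeroMemClass.coe_zero] at h'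
    exact X_ne_zero h'
  have htmem : t ∈ Rplus P := by
    rw [htdef]
    exact mono_mem_Rplus P one_ne_zero 1
  have hker : RingHom.ker (phi hK P hP π hπ).toRingHom = Ideal.span {t} :=
    (ker_phi hK P hP π hπ).trans (ker_psi hK P hP π hπ hg t 1 one_ne_zero ht)
  have hsurj : Function.Surjective (phi hK P hP π hπ).toRingHom := phi_surjective hK P hP π hπ
  haveI : IsNoetherianRing (AddMonoidAlgebra k (semi hK P)) :=
    isNoetherianRing_of_surjective (RP P) _ (phi hK P hP π hπ).toRingHom hsurj
  obtain ⟨e, he, he0⟩ := exists_pos_mem_semi hK P hP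
  have hkunz := gorLocal_iff_symmetric (k := k) he he0 (2 * genus k K)
    (fun n hn => mem_semi_of_ge hK P hP n hn)
  have hchain := gorLocal_iff_of_quot (Rplus P) t ht0 htmem (phi hK P hP π hπ).toRingHom hsurj hker
    (pp (k := k) (H := semi hK P)) (fun p => by
      rw [mem_pp, mem_Rplus_iff]
      exact (coeff_phi_zero hK P hP π hπ p).symm)
  rw [poleOrders_eq hK P hP, ← hkunz, ← hchain]
  constructor
  · intro hG
    exact hG.isGorensteinLocalRing_localization _
  · intro hG
    exact gorenstein_of_local hK P hG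

end Chain

end WSG

end Groth.Agent.H6
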