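import Mathlib
import Groth.Agent.Lib.Helper1.CDivKit5
set_option autoImplicit false
set_option linter.unusedSectionVars false
universe u
open CategoryTheory AlgebraicGeometry
namespace Groth.Agent.H6.WUFD

variable (A : Type u) [CommRing A] [IsDomain A]

/-- in a UFD, a prime of height one is principal -/
theorem exists_gen [UniqueFactorizationMonoid A] (P : Ideal A) [P.IsPrime] (hP : P.height = 1) :
    ∃ π : A, π ≠ 0 ∧ P = Ideal.span {π} := by
  have hne : P ≠ ⊥ := Ideal.ne_bot_of_height_eq_one hP
  obtain ⟨π, hπP, hπ⟩ := Ideal.IsPrime.exists_mem_prime_of_ne_bot ‹P.IsPrime› hne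
  refine ⟨π, hπ.ne_zero, ?_⟩
  have hle : Ideal.span {π} ≤ P := by
    rw [Ideal.span_singleton_le_iff_mem]; exact hπP
  by_contra hcon
  have hlt : Ideal.span {π} < P := lt_of_le_of_ne hle (Ne.symm hcon)
  have _ : (Ideal.span {π}).IsPrime := (Ideal.span_singleton_prime hπ.ne_zero).mpr hπ
  have h1 := Ideal.height_add_one_le_of_lt_of_isPrime hlt
  rw [hP] at h1
  have h2 : (Ideal.span {π}).height = 0 := by
    have h3 : (Ideal.span {π}).height + 1 ≤ 0 + 1 := by simpa using h1
    exact le_antisymm ((ENat.add_le_add_iff_right ENat.one_ne_top).mp h3) zero_le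
  rw [Ideal.height_eq_zero_iff_eq_bot, Ideal.span_singleton_eq_bot] at h2
  exact hπ.ne_zero h2

end Groth.Agent.H6.WUFD

namespace Groth.Agent.H6.WUFD

open AlgebraicGeometry.StructureSheaf

variable (R : CommRingCat.{u}) [IsDomain R] [IsNoetherianRing R]

/-- compatibility of the algebra structures -/
theorem algebraMap_eq (x : Spec R) (a : R) :
    algebraMap R (Spec R).functionField a =
      algebraMap ((Spec R).presheaf.stalk x) (Spec R).functionField (toStalk R x a) := by
  have h := toStalk_stalkSpecializes (R := R)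
    ((genericPoint_spec (Spec R)).specializes (Set.mem_univ x))
  exact (congr($h a)).symm

theorem algebraMap_ne_zero {a : R} (ha0 : a ≠ 0) : algebraMap R (Spec R).functionField a ≠ 0 := by
  rw [Ne, map_eq_zero_iff _ (IsFractionRing.injective _ _)]
  exact ha0

theorem ord_of_notMem (x : Spec R) (a : R) (ha : a ∉ x.asIdeal) :
    Scheme.ord (algebraMap R (Spec R).functionField a) x = 0 := by
  by_cases hx : Order.coheight x = 1
  · have ha0 : a ≠ 0 := fun h => ha (h ▸ zero_mem _)
    rw [Scheme.ord_eq_iff hx (algebraMap_ne_zero R ha0), algebraMap_eq R x a]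
    have _ : Ring.KrullDimLE 1 ((Spec R).presheaf.stalk x) :=
      krullDimLE_of_coheight_le hx.le
    have _ : x.asIdeal.IsPrime := x.isPrime
    let _ : Algebra ↑R ↑((Spec R).presheaf.stalk x) := StructureSheaf.stalkAlgebra (↑R) x
    have _ : IsLocalization.AtPrime (↑((Spec R).presheaf.stalk x)) x.asIdeal :=
      StructureSheaf.IsLocalization.to_stalk R x
    have hu : IsUnit (toStalk R x a) :=
      (IsLocalization.AtPrime.isUnit_to_map_iff
        ((Spec R).presheaf.stalk x) x.asIdeal a).mpr ha
    exact Ring.ordFrac_of_isUnit hu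
  · exact Scheme.ord_eq_zero_of_coheight_neq_one hx _

end Groth.Agent.H6.WUFD

namespace Groth.Agent.H6.WUFD

open AlgebraicGeometry.StructureSheaf

variable (R : CommRingCat.{u}) [IsDomain R] [IsNoetherianRing R]

theorem isNormalScheme_spec [IsIntegrallyClosed R] : Pi1.IsNormalScheme (Spec R) := by
  intro x
  refine ⟨inferInstance, ?_⟩
  have _ : x.asIdeal.IsPrime := x.isPrime
  let _ : Algebra ↑R ↑((Spec R).presheaf.stalk x) := StructureSheaf.stalkAlgebra (↑R) x
  have _ : IsLocalization.AtPrime (↑((Spec R).presheaf.stalk x)) x.asIdeal :=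
    StructureSheaf.IsLocalization.to_stalk R x
  exact isIntegrallyClosed_of_isLocalization _ x.asIdeal.primeCompl
    (Ideal.primeCompl_le_nonZeroDivisors _)

theorem ord_of_span [IsIntegrallyClosed R] (x : Spec R) (hx : Order.coheight x = 1) (a : R)
    (ha : x.asIdeal = Ideal.span {a}) :
    Scheme.ord (algebraMap R (Spec R).functionField a) x = 1 := by
  have ha0 : a ≠ 0 := by
    rintro rfl
    have h1 : x.asIdeal.height = 1 := by
      rw [idealHeight_eq_coheight, hx]
    rw [ha] at h1
    exact Ideal.ne_bot_of_height_eq_one h1 (by simp)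
  rw [Scheme.ord_eq_iff hx (algebraMap_ne_zero R ha0), algebraMap_eq R x a]
  have _ : Ring.KrullDimLE 1 ((Spec R).presheaf.stalk x) := krullDimLE_of_coheight_le hx.le
  have _ : x.asIdeal.IsPrime := x.isPrime
  let _ : Algebra ↑R ↑((Spec R).presheaf.stalk x) := StructureSheaf.stalkAlgebra (↑R) x
  have _ : IsLocalization.AtPrime (↑((Spec R).presheaf.stalk x)) x.asIdeal :=
    StructureSheaf.IsLocalization.to_stalk R x
  have hdvr : IsDiscreteValuationRing ((Spec R).presheaf.stalk x) :=
    Groth.Agent.H1.CDivKit.isDVR_stalk (isNormalScheme_spec R) x hx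
  let ax : ↑((Spec R).presheaf.stalk x) := algebraMap ↑R ↑((Spec R).presheaf.stalk x) a
  have hirr : Irreducible ax := by
    rw [IsDiscreteValuationRing.irreducible_iff_uniformizer]
    have h1 := IsLocalization.AtPrime.map_eq_maximalIdeal x.asIdeal ((Spec R).presheaf.stalk x)
    rw [← h1, ha, Ideal.map_span, Set.image_singleton]
  have h2 := Ring.ordFrac_irreducible (K := (Spec R).functionField) hirr
  exact h2

end Groth.Agent.H6.WUFD

namespace Groth.Agent.H6.WUFD

variable (R : CommRingCat.{u}) [IsDomain R] [IsNoetherianRing R]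

theorem ord_one' (x : Spec R) : Scheme.ord (1 : (Spec R).functionField) x = 0 := by
  have h := Scheme.ord_mul (X := Spec R) (x := x) (f := 1) (g := 1) one_ne_zero one_ne_zero
  rw [mul_one] at h
  omega

/-- the order at `x` as a group homomorphism on the units of the function field -/
noncomputable def ordUnits (x : Spec R) : ((Spec R).functionField)ˣ →* Multiplicative ℤ where
  toFun u := Multiplicative.ofAdd (Scheme.ord (u : (Spec R).functionField) x)
  map_one' := by rw [Units.val_one, ord_one']; rfl
  map_mul' u v := by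
    rw [Units.val_mul, Scheme.ord_mul u.ne_zero v.ne_zero]; rfl

theorem main [UniqueFactorizationMonoid R] (D : Spec R → ℤ)
    (hD : ∀ x, Order.coheight x ≠ 1 → D x = 0) (hfin : {x | D x ≠ 0}.Finite) :
    ∃ f : (Spec R).functionField, f ≠ 0 ∧
      ∀ x : Spec R, Order.coheight x = 1 → Scheme.ord f x = D x := by
  classical
  have _ : IsIntegrallyClosed R := inferInstance
  have hgen : ∀ y : Spec R, ∃ π : R, π ≠ 0 ∧ (Order.coheight y = 1 → y.asIdeal = Ideal.span {π}) := by
    intro y
    by_cases hy : Order.coheight y = 1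
    · have _ : y.asIdeal.IsPrime := y.isPrime
      have h1 : y.asIdeal.height = 1 := by rw [idealHeight_eq_coheight, hy]
      obtain ⟨π, hπ0, hπ⟩ := exists_gen R y.asIdeal h1
      exact ⟨π, hπ0, fun _ => hπ⟩
    · exact ⟨1, one_ne_zero, fun h => absurd h hy⟩
  choose π hπ0 hπ using hgen
  let u : Spec R → ((Spec R).functionField)ˣ := fun y =>
    Units.mk0 (algebraMap R (Spec R).functionField (π y)) (algebraMap_ne_zero R (hπ0 y))
  let S := hfin.toFinset
  let F : ((Spec R).functionField)ˣ := ∏ y ∈ S, (u y) ^ (D y)
  refine ⟨F, F.ne_zero, ?_⟩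
  intro x hx
  have key : ∀ y ∈ S, ordUnits R x (u y) = if y = x then Multiplicative.ofAdd 1 else 1 := by
    intro y hyS
    have hy1 : Order.coheight y = 1 := by
      by_contra hcon
      have := hD y hcon
      rw [Set.Finite.mem_toFinset] at hyS
      exact hyS this
    change Multiplicative.ofAdd (Scheme.ord (algebraMap R (Spec R).functionField (π y)) x) = _
    split_ifs with hyx
    · subst hyx
      rw [ord_of_span R y hy1 (π y) (hπ y hy1)]
    · rw [ord_of_notMem R x (π y)]
      · rfl
      · intro hmem
        have _ : y.asIdeal.IsPrime := y.isPrime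
        have _ : x.asIdeal.IsPrime := x.isPrime
        have hle : y.asIdeal ≤ x.asIdeal := by
          rw [hπ y hy1, Ideal.span_singleton_le_iff_mem]; exact hmem
        have hhx : x.asIdeal.height = 1 := by rw [idealHeight_eq_coheight, hx]
        have hhy : y.asIdeal.height = 1 := by rw [idealHeight_eq_coheight, hy1]
        have heq : y.asIdeal = x.asIdeal := by
          by_contra hne
          have hlt : y.asIdeal < x.asIdeal := lt_of_le_of_ne hle hne
          have h1 := Ideal.height_add_one_le_of_lt_of_isPrime hlt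
          rw [hhx, hhy] at h1
          exact absurd h1 (by decide)
        exact hyx (PrimeSpectrum.ext heq)
  have h2 : ordUnits R x F = Multiplicative.ofAdd (D x) := by
    change ordUnits R x (∏ y ∈ S, (u y) ^ (D y)) = _
    rw [map_prod]
    simp_rw [map_zpow]
    by_cases hxS : x ∈ S
    · rw [Finset.prod_eq_single x]
      · rw [key x hxS, if_pos rfl, ← ofAdd_zsmul, smul_eq_mul, mul_one]
      · intro y hyS hyx
        rw [key y hyS, if_neg hyx, one_zpow]
      · intro h; exact absurd hxS h
    · rw [Finset.prod_eq_one]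
      · have : D x = 0 := by
          by_contra hcon
          exact hxS ((Set.Finite.mem_toFinset hfin).mpr hcon)
        rw [this]; rfl
      · intro y hyS
        have hyx : y ≠ x := fun h => hxS (h ▸ hyS)
        rw [key y hyS, if_neg hyx, one_zpow]
  exact Multiplicative.ofAdd.injective h2

end Groth.Agent.H6.WUFD
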