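import Mathlib
import Groth.Agent.Lib.Helper6.DirCont2

/-! Eilenberg–Watts: a right exact linear endofunctor of `ModuleCat R` commuting with directed colimits is
`T(R) ⊗ -` (objectwise). -/

set_option autoImplicit false
set_option linter.unusedSectionVars false

universe u
open CategoryTheory CategoryTheory.Limits DirectSum TensorProduct

namespace Groth.Agent.H6

namespace Watts

open DirCont

variable {R : Type u} [CommRing R] (T : ModuleCat.{u} R ⥤ ModuleCat.{u} R) [T.Additive]
  (hlin : ∀ (r : R) (M : ModuleCat.{u} R) (x : T.obj M), (T.map (r • 𝟙 M)).hom x = r • x)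

/-- `r ↦ r m` -/
def ρ {M : ModuleCat.{u} R} (m : M) : ModuleCat.of R R ⟶ M :=
  ModuleCat.ofHom (LinearMap.toSpanSingleton R M m)

lemma ρ_add {M : ModuleCat.{u} R} (m m' : M) : ρ (m + m') = ρ m + ρ m' := by
  ext; simp [ρ]

lemma ρ_smul {M : ModuleCat.{u} R} (r : R) (m : M) : ρ (r • m) = ρ m ≫ (r • 𝟙 M) := by
  ext; simp [ρ]

lemma ρ_comp {M N : ModuleCat.{u} R} (g : M ⟶ N) (m : M) : ρ m ≫ g = ρ (g.hom m) := by
  ext; simp [ρ]

include hlin in
lemma map_ρ_smul {M : ModuleCat.{u} R} (r : R) (m : M) (t : T.obj (ModuleCat.of R R)) :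
    (T.map (ρ (r • m))).hom t = r • (T.map (ρ m)).hom t := by
  rw [ρ_smul, T.map_comp]
  exact hlin r M _

/-- the comparison map `T(R) ⊗ M → T(M)` -/
noncomputable def τ (M : ModuleCat.{u} R) : T.obj (ModuleCat.of R R) ⊗[R] M →ₗ[R] T.obj M :=
  TensorProduct.lift (LinearMap.mk₂ R (fun t m => (T.map (ρ m)).hom t)
    (fun t t' m => map_add _ t t')
    (fun r t m => map_smul _ r t)
    (fun t m m' => by
      change (T.map (ρ (m + m'))).hom t = _
      rw [ρ_add, T.map_add]; rfl)
    (fun r t m => map_ρ_smul T hlin r m t))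

lemma τ_tmul (M : ModuleCat.{u} R) (t : T.obj (ModuleCat.of R R)) (m : M) :
    τ T hlin M (t ⊗ₜ m) = (T.map (ρ m)).hom t := rfl

lemma τ_nat {M N : ModuleCat.{u} R} (g : M ⟶ N) (z : T.obj (ModuleCat.of R R) ⊗[R] M) :
    (T.map g).hom (τ T hlin M z) = τ T hlin N (LinearMap.lTensor _ g.hom z) := by
  induction z using TensorProduct.induction_on with
  | zero => simp
  | tmul t m =>
    rw [τ_tmul, LinearMap.lTensor_tmul, τ_tmul, ← ρ_comp, T.map_comp]
    rfl
  | add x y hx hy => rw [map_add, map_add, map_add, hx, hy, map_add]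

/-- `τ_R` is the canonical isomorphism `T(R) ⊗ R ≅ T(R)` -/
lemma τ_R_eq : τ T hlin (ModuleCat.of R R) = (TensorProduct.rid R (T.obj (ModuleCat.of R R))).toLinearMap := by
  apply TensorProduct.ext'
  intro t (r : R)
  rw [τ_tmul]
  have h1 : (ρ r : ModuleCat.of R R ⟶ ModuleCat.of R R) = r • 𝟙 _ := by
    ext; simp [ρ]
  rw [h1, hlin]
  rfl

lemma τ_R_injective : Function.Injective (τ T hlin (ModuleCat.of R R)) := by
  rw [τ_R_eq]
  exact (TensorProduct.rid R _).injective

section Free

variable (K : Type u) [DecidableEq K]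

/-- the free module on `K` -/
abbrev freeMod : ModuleCat.{u} R := ModuleCat.of R (⨁ _ : K, R)

lemma τ_free_injective : Function.Injective (τ T hlin (freeMod (R := R) K)) := by
  rw [injective_iff_map_eq_zero]
  intro z hz
  -- all components vanish
  have hcomp : ∀ k : K, LinearMap.lTensor (T.obj (ModuleCat.of R R))
      (DirectSum.component R K (fun _ => R) k) z = 0 := by
    intro k
    apply τ_R_injective T hlin
    have h := τ_nat T hlin
      (ModuleCat.ofHom (DirectSum.component R K (fun _ => R) k) : freeMod K ⟶ ModuleCat.of R R) z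
    rw [hz, map_zero] at h
    rw [map_zero]
    exact h.symm
  apply (TensorProduct.directSumRight R R (T.obj (ModuleCat.of R R)) (fun _ : K => R)).injective
  rw [map_zero]
  apply DirectSum.ext_component R
  intro k
  rw [map_zero]
  have key : ∀ w : T.obj (ModuleCat.of R R) ⊗[R] (⨁ _ : K, R),
      DirectSum.component R K _ k
        (TensorProduct.directSumRight R R (T.obj (ModuleCat.of R R)) (fun _ : K => R) w) =
      LinearMap.lTensor (T.obj (ModuleCat.of R R)) (DirectSum.component R K (fun _ => R) k) w := by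
    intro w
    induction w using TensorProduct.induction_on with
    | zero => simp
    | tmul t n =>
      rw [LinearMap.lTensor_tmul]
      exact TensorProduct.directSumRight_tmul (R := R) (S := R) (M₂ := fun _ : K => R) t n k
    | add x y hx hy => rw [map_add, map_add, map_add, hx, hy]
  rw [key, hcomp]

end Free

section Main

open scoped Classical

variable (hDC : DC T) [PreservesFiniteColimits T]

/-- canonical free cover -/
noncomputable def cover (M : ModuleCat.{u} R) : freeMod (R := R) M ⟶ M :=
  ModuleCat.ofHom (DirectSum.toModule R M M (fun m => LinearMap.toSpanSingleton R M m))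

lemma lof_cover (M : ModuleCat.{u} R) (m : M) :
    (ModuleCat.ofHom (DirectSum.lof R M (fun _ => R) m) : ModuleCat.of R R ⟶ freeMod (R := R) M) ≫
      cover M = ρ m := by
  ext
  simp [cover, ρ]

lemma cover_surjective (M : ModuleCat.{u} R) : Function.Surjective (cover M).hom := by
  intro m
  refine ⟨DirectSum.lof R M (fun _ => R) m 1, ?_⟩
  have h := congrArg (fun ψ => ψ.hom (1 : R)) (lof_cover M m)
  simp only [ρ] at h
  rw [show (cover M).hom (DirectSum.lof R M (fun _ => R) m 1) = _ from h]
  simp

lemma map_surjective {M N : ModuleCat.{u} R} (g : M ⟶ N) (hg : Function.Surjective g.hom) :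
    Function.Surjective (T.map g).hom := by
  have : Epi g := (ModuleCat.epi_iff_surjective g).2 hg
  have : T.PreservesEpimorphisms := preservesEpimorphisms_of_preservesColimitsOfShape T
  exact (ModuleCat.epi_iff_surjective _).1 (inferInstance : Epi (T.map g))

include hDC in
lemma τ_surjective (M : ModuleCat.{u} R) : Function.Surjective (τ T hlin M) := by
  intro x
  obtain ⟨x', rfl⟩ := map_surjective T (cover M) (cover_surjective M) x
  obtain ⟨s, y, hy⟩ := exists_sum_of_dc (fun _ : M => ModuleCat.of R R) hDC x'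
  refine ⟨∑ m ∈ s, y m ⊗ₜ m, ?_⟩
  rw [map_sum, hy, map_sum]
  apply Finset.sum_congr rfl
  intro m _
  rw [τ_tmul, ← lof_cover, T.map_comp]
  rfl

include hDC in
lemma τ_injective (M : ModuleCat.{u} R) : Function.Injective (τ T hlin M) := by
  rw [injective_iff_map_eq_zero]
  intro z hz
  -- the short exact sequence `0 → K → F → M → 0`
  let π := cover M
  let Kmod : ModuleCat.{u} R := ModuleCat.of R (LinearMap.ker π.hom)
  let j : Kmod ⟶ freeMod (R := R) M := ModuleCat.ofHom (LinearMap.ker π.hom).subtype
  have hjπ : j ≫ π = 0 := by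
    ext x
    exact x.2
  let S : ShortComplex (ModuleCat.{u} R) := ShortComplex.mk j π hjπ
  have hS : S.ShortExact := by
    refine ModuleCat.shortComplex_shortExact S ?_ (Submodule.injective_subtype _) (cover_surjective M)
    intro y
    constructor
    · intro hy; exact ⟨⟨y, hy⟩, rfl⟩
    · rintro ⟨w, rfl⟩; exact w.2
  have hex : (S.map T).Exact :=
    ((Functor.preservesFiniteColimits_iff_forall_exact_map_and_epi T).1 inferInstance S hS).1
  rw [ShortComplex.moduleCat_exact_iff] at hex
  obtain ⟨z', rfl⟩ := LinearMap.lTensor_surjective (T.obj (ModuleCat.of R R)) (cover_surjective M) z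
  have h1 : (T.map π).hom (τ T hlin _ z') = 0 := by
    rw [τ_nat]; exact hz
  obtain ⟨w, hw⟩ := hex (τ T hlin _ z') h1
  obtain ⟨w', rfl⟩ := τ_surjective T hlin hDC Kmod w
  have hw2 : (T.map j).hom (τ T hlin Kmod w') = τ T hlin _ z' := hw
  rw [τ_nat] at hw2
  have h3 : LinearMap.lTensor _ j.hom w' = z' := τ_free_injective T hlin M hw2
  rw [← h3, ← LinearMap.comp_apply, ← LinearMap.lTensor_comp]
  have h4 : π.hom ∘ₗ j.hom = 0 := by
    have := congrArg ModuleCat.Hom.hom hjπ
    exact this
  rw [h4, LinearMap.lTensor_zero]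
  rfl

include hDC hlin in
/-- **Eilenberg–Watts** (objectwise). -/
theorem nonempty_equiv (M : ModuleCat.{u} R) :
    Nonempty (T.obj M ≃ₗ[R] T.obj (ModuleCat.of R R) ⊗[R] M) :=
  ⟨(LinearEquiv.ofBijective (τ T hlin M) ⟨τ_injective T hlin hDC M, τ_surjective T hlin hDC M⟩).symm⟩

end Main

end Watts

end Groth.Agent.H6
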