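import Mathlib
import Groth.Agent.Lib.Helper2.RedQuot1

/-!
# `n`-th roots up to units descend along flat local weakly unramified maps of normal domains

Let `A → B` be a flat local homomorphism of Noetherian normal local domains such that over every
height-one prime `p` of `A` there is a prime `q` of `B` with `p B_q = q B_q`.  If `f = w hⁿ` in `B`
with `w` a unit, then `f = u gⁿ` in `A` with `u` a unit.

The proof is elementary: the contraction `I = hB ∩ A` satisfies `I = (f : I^(n-1))`
(tested at height-one primes, using normality of `A`), flatness gives `I B = h B`,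
and `B` local gives a generator of `h B` coming from `A`.
-/

universe u

open IsLocalRing

namespace Groth.Agent.H6.WeakUnram

open Groth.Agent.H2

section Flat

/-- colon ideals with respect to finitely many elements commute with flat base change
(elementwise form, via the equational criterion of flatness) -/
theorem mem_map_of_forall_dvd {A B : Type u} [CommRing A] [CommRing B] [Algebra A B]
    [Module.Flat A B] {ι : Type u} [Fintype ι] (f : A) (c : ι → A) (I : Ideal A)
    (hI : ∀ x : A, (∀ i, f ∣ c i * x) → x ∈ I) (h : B)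
    (hh : ∀ i, algebraMap A B f ∣ algebraMap A B (c i) * h) :
    h ∈ I.map (algebraMap A B) := by
  classical
  choose β hβ using hh
  obtain ⟨g, hg⟩ : ∃ g : (ι → A) →ₗ[A] A × (ι → A),
      ∀ i, g (Pi.basisFun A ι i) = (c i, -(f • Pi.basisFun A ι i)) :=
    ⟨(Pi.basisFun A ι).constr A fun i => (c i, -(f • Pi.basisFun A ι i)),
      fun i => (Pi.basisFun A ι).constr_basis A _ i⟩
  obtain ⟨χ, hχ1, hχ2⟩ : ∃ χ : A × (ι → A) →ₗ[A] B, χ (1, 0) = h ∧
      ∀ (a : A) (i : ι), χ (a, -(f • Pi.basisFun A ι i)) = a • h - f • β i := by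
    refine ⟨LinearMap.coprod (LinearMap.toSpanSingleton A B h) ((Pi.basisFun A ι).constr A β),
      ?_, fun a i => ?_⟩
    · simp only [LinearMap.coprod_apply, LinearMap.toSpanSingleton_apply, map_zero, one_smul,
        add_zero]
    · simp only [LinearMap.coprod_apply, LinearMap.toSpanSingleton_apply, map_neg, map_smul,
        Module.Basis.constr_basis, sub_eq_add_neg]
  have hχg : χ ∘ₗ g = 0 := (Pi.basisFun A ι).ext fun i => by
    rw [LinearMap.comp_apply, hg, hχ2, LinearMap.zero_apply, Algebra.smul_def, Algebra.smul_def,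
      hβ i, sub_self]
  obtain ⟨k, a, y, hya, haf⟩ := Module.Flat.exists_factorization_of_comp_eq_zero_of_free hχg
  have key : ∀ i, c i • a (1, 0) = f • a (0, Pi.basisFun A ι i) := fun i => by
    have h1 : a (g (Pi.basisFun A ι i)) = 0 := by
      have := LinearMap.congr_fun haf (Pi.basisFun A ι i)
      rwa [LinearMap.comp_apply, LinearMap.zero_apply] at this
    have h2 : ((c i, -(f • Pi.basisFun A ι i)) : A × (ι → A)) =
        c i • ((1 : A), (0 : ι → A)) - f • ((0 : A), Pi.basisFun A ι i) := by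
      refine Prod.ext ?_ ?_ <;> simp
    rw [hg, h2, map_sub, map_smul, map_smul, sub_eq_zero] at h1
    exact h1
  have h3 : a (1, 0) = ∑ l, (a (1, 0)) l • Finsupp.single l (1 : A) := by
    simp only [Finsupp.smul_single_one]
    exact (Finsupp.univ_sum_single _).symm
  have h4 : h = ∑ l, (a (1, 0)) l • y (Finsupp.single l (1 : A)) := by
    calc h = χ (1, 0) := hχ1.symm
      _ = y (a (1, 0)) := by rw [hya, LinearMap.comp_apply]
      _ = y (∑ l, (a (1, 0)) l • Finsupp.single l (1 : A)) := by rw [← h3]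
      _ = _ := by rw [map_sum]; simp only [map_smul]
  rw [h4]
  refine Ideal.sum_mem _ fun l _ => ?_
  rw [Algebra.smul_def]
  refine Ideal.mul_mem_right _ _ (Ideal.mem_map_of_mem _ (hI _ fun i => ?_))
  have := DFunLike.congr_fun (key i) l
  rw [Finsupp.smul_apply, Finsupp.smul_apply, smul_eq_mul, smul_eq_mul] at this
  exact ⟨_, this⟩

end Flat

section Fact

theorem mem_span_of_mul_eq {R S : Type*} [CommRing R] [CommRing S] [Algebra R S] {π a s r : R}
    (h : s * a = π * r) (hs : IsUnit (algebraMap R S s)) :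
    algebraMap R S a ∈ Ideal.span {algebraMap R S π} := by
  rw [Ideal.mem_span_singleton']
  refine ⟨algebraMap R S r * ↑hs.unit⁻¹, ?_⟩
  have h3 : algebraMap R S s * algebraMap R S a = algebraMap R S π * algebraMap R S r := by
    rw [← map_mul, ← map_mul, h]
  calc algebraMap R S r * ↑hs.unit⁻¹ * algebraMap R S π
      = ↑hs.unit⁻¹ * (algebraMap R S π * algebraMap R S r) := by ring
    _ = ↑hs.unit⁻¹ * (algebraMap R S s * algebraMap R S a) := by rw [h3]
    _ = (↑hs.unit⁻¹ * algebraMap R S s) * algebraMap R S a := by ring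
    _ = algebraMap R S a := by rw [IsUnit.val_inv_mul, one_mul]

theorem maxIdeal_eq_span {R : Type u} [CommRing R] (P : Ideal R) [P.IsPrime] {π : R}
    (hπP : π ∈ P) (hdvd : ∀ a ∈ P, ∃ s, s ∉ P ∧ π ∣ s * a) :
    maximalIdeal (Localization.AtPrime P) =
      Ideal.span {algebraMap R (Localization.AtPrime P) π} := by
  apply le_antisymm
  · rw [← Localization.AtPrime.map_eq_maximalIdeal, Ideal.map_le_iff_le_comap]
    intro a ha
    rw [Ideal.mem_comap]
    obtain ⟨s, hs, r, hr⟩ := hdvd a ha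
    exact mem_span_of_mul_eq hr
      (IsLocalization.map_units (Localization.AtPrime P) (⟨s, hs⟩ : P.primeCompl))
  · rw [Ideal.span_singleton_le_iff_mem]
    exact (IsLocalization.AtPrime.to_map_mem_maximal_iff (Localization.AtPrime P) P π).mpr hπP

variable {R : Type u} [CommRing R] [IsDomain R]

/-- if the maximal ideal of `R_P` is generated by `π`, every nonzero element of `R` is, up to
factors outside `P`, a power of `π` -/
theorem exists_factor [IsNoetherianRing R] (P : Ideal R) [P.IsPrime] (π : R) (hπ0 : π ≠ 0)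
    (hπ : maximalIdeal (Localization.AtPrime P) =
      Ideal.span {algebraMap R (Localization.AtPrime P) π})
    (x : R) (hx : x ≠ 0) : ∃ (k : ℕ) (s t : R), s ∉ P ∧ t ∉ P ∧ s * x = t * π ^ k := by
  have hle : P.primeCompl ≤ nonZeroDivisors R := Ideal.primeCompl_le_nonZeroDivisors P
  have hinj : Function.Injective (algebraMap R (Localization.AtPrime P)) :=
    IsLocalization.injective _ hle
  haveI : IsDomain (Localization.AtPrime P) := IsLocalization.isDomain_localization hle
  haveI : IsNoetherianRing (Localization.AtPrime P) :=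
    IsLocalization.isNoetherianRing P.primeCompl _ inferInstance
  have hnf : ¬ IsField (Localization.AtPrime P) := by
    rw [IsLocalRing.isField_iff_maximalIdeal_eq, hπ, Ideal.span_singleton_eq_bot]
    intro h0
    exact hπ0 (hinj (h0.trans (map_zero _).symm))
  have hprin : (maximalIdeal (Localization.AtPrime P)).IsPrincipal := ⟨⟨_, hπ⟩⟩
  haveI : IsDiscreteValuationRing (Localization.AtPrime P) :=
    ((IsDiscreteValuationRing.TFAE (Localization.AtPrime P) hnf).out 0 4).mpr hprin
  have hirr : Irreducible (algebraMap R (Localization.AtPrime P) π) :=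
    (IsDiscreteValuationRing.irreducible_iff_uniformizer _).mpr hπ
  have hx' : algebraMap R (Localization.AtPrime P) x ≠ 0 := fun h0 =>
    hx (hinj (h0.trans (map_zero _).symm))
  obtain ⟨k, v, hv⟩ := IsDiscreteValuationRing.eq_unit_mul_pow_irreducible hx' hirr
  obtain ⟨t, s, hts⟩ := IsLocalization.exists_mk'_eq P.primeCompl (v : Localization.AtPrime P)
  have htP : t ∉ P := by
    have h1 : IsUnit (IsLocalization.mk' (Localization.AtPrime P) t s) := by
      rw [hts]; exact v.isUnit
    exact (IsLocalization.AtPrime.isUnit_mk'_iff (Localization.AtPrime P) P t s).mp h1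
  refine ⟨k, s, t, s.2, htP, hinj ?_⟩
  rw [map_mul, map_mul, map_pow, hv, ← hts, ← mul_assoc,
    mul_comm (algebraMap R (Localization.AtPrime P) (s : R)), IsLocalization.mk'_spec]

theorem not_lt_of_factor (P : Ideal R) [hP : P.IsPrime] {π : R} (hπP : π ∈ P) (hπ0 : π ≠ 0)
    {x : R} {k k' : ℕ} {s t s' t' : R} (ht : t ∉ P) (hs' : s' ∉ P)
    (h1 : s * x = t * π ^ k) (h2 : s' * x = t' * π ^ k') : ¬ k < k' := by
  intro hlt
  obtain ⟨d, rfl⟩ := Nat.exists_eq_add_of_lt hlt
  have h3 : π ^ k * (s' * t) = π ^ k * (s * t' * π ^ (d + 1)) := by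
    calc π ^ k * (s' * t) = s' * (t * π ^ k) := by ring
      _ = s' * (s * x) := by rw [h1]
      _ = s * (s' * x) := by ring
      _ = s * (t' * π ^ (k + d + 1)) := by rw [h2]
      _ = π ^ k * (s * t' * π ^ (d + 1)) := by ring
  have h4 := mul_left_cancel₀ (pow_ne_zero k hπ0) h3
  have h5 : s' * t ∈ P := by
    rw [h4]
    exact Ideal.mul_mem_left _ _ (Ideal.pow_mem_of_mem _ hπP _ (Nat.succ_pos d))
  exact (hP.mem_or_mem h5).elim hs' ht

theorem factor_unique (P : Ideal R) [hP : P.IsPrime] {π : R} (hπP : π ∈ P) (hπ0 : π ≠ 0)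
    {x : R} {k k' : ℕ} {s t s' t' : R} (hs : s ∉ P) (ht : t ∉ P) (hs' : s' ∉ P) (ht' : t' ∉ P)
    (h1 : s * x = t * π ^ k) (h2 : s' * x = t' * π ^ k') : k = k' :=
  le_antisymm (not_lt.mp (not_lt_of_factor P hπP hπ0 ht' hs h2 h1))
    (not_lt.mp (not_lt_of_factor P hπP hπ0 ht hs' h1 h2))

end Fact

section Main

variable {A B : Type u} [CommRing A] [IsDomain A] [IsNoetherianRing A] [IsIntegrallyClosed A]
  [CommRing B] [IsDomain B] [IsNoetherianRing B] [Algebra A B]

/-- local structure at a height-one prime: an `n`-th power in `A` that agrees with `f` up to a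
factor outside `p` -/
theorem exists_pow_eq_mul (hinjAB : Function.Injective (algebraMap A B))
    {f : A} {h : B} {n : ℕ} (hn : 0 < n) {w : Bˣ} (hf0 : f ≠ 0)
    (hf : algebraMap A B f = (w : B) * h ^ n)
    (p : Ideal A) [hp : p.IsPrime] (hph : p.height = 1)
    (hram : ∃ (q : Ideal B) (_ : q.IsPrime), q.height = 1 ∧ q.comap (algebraMap A B) = p ∧
        Ideal.map (algebraMap B (Localization.AtPrime q)) (Ideal.map (algebraMap A B) p) =
          IsLocalRing.maximalIdeal (Localization.AtPrime q)) :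
    ∃ b s : A, s ∉ p ∧ b ^ n = s * f := by
  obtain ⟨m, rfl⟩ : ∃ m, n = m + 1 := ⟨n - 1, by omega⟩
  by_cases hfp : f ∈ p
  swap
  · exact ⟨f, f ^ m, fun hmem => hfp (hp.mem_of_pow_mem m hmem), pow_succ f m⟩
  have hp0 : p ≠ ⊥ := fun h0 => hf0 (by rw [h0] at hfp; exact hfp)
  obtain ⟨π, hπp, hπsq⟩ := RedQuot.exists_mem_not_mem_sq hp hp0
  have hdvd : ∀ a ∈ p, ∃ s, s ∉ p ∧ π ∣ s * a := fun a ha =>
    RedQuot.exists_dvd_of_mem hp hph hπp hπsq ha
  have hπ0 : π ≠ 0 := fun h0 => hπsq (h0 ▸ RedQuot.zero_mem_sq hp)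
  have hπA := maxIdeal_eq_span p hπp hdvd
  obtain ⟨k, s, t, hs, ht, hst⟩ := exists_factor p π hπ0 hπA f hf0
  obtain ⟨q, hq, -, hqp, hmap⟩ := hram
  haveI := hq
  have hmemq : ∀ a : A, algebraMap A B a ∈ q ↔ a ∈ p := fun a => by
    rw [← hqp, Ideal.mem_comap]
  have hπ'q : algebraMap A B π ∈ q := (hmemq π).mpr hπp
  have hπ'0 : algebraMap A B π ≠ 0 := fun h0 => hπ0 (hinjAB (h0.trans (map_zero _).symm))
  have hπB : maximalIdeal (Localization.AtPrime q) =
      Ideal.span {algebraMap B (Localization.AtPrime q) (algebraMap A B π)} := by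
    apply le_antisymm
    · rw [← hmap, Ideal.map_le_iff_le_comap, Ideal.map_le_iff_le_comap]
      intro a ha
      rw [Ideal.mem_comap, Ideal.mem_comap]
      obtain ⟨s₁, hs₁, r, hr⟩ := hdvd a ha
      have hs₁q : algebraMap A B s₁ ∈ q.primeCompl := fun hmem => hs₁ ((hmemq s₁).mp hmem)
      exact mem_span_of_mul_eq (s := algebraMap A B s₁) (r := algebraMap A B r)
        (by rw [← map_mul, ← map_mul, hr])
        (IsLocalization.map_units (Localization.AtPrime q) ⟨algebraMap A B s₁, hs₁q⟩)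
    · rw [Ideal.span_singleton_le_iff_mem]
      exact (IsLocalization.AtPrime.to_map_mem_maximal_iff (Localization.AtPrime q) q _).mpr hπ'q
  have hh0 : h ≠ 0 := by
    intro h0
    apply hf0
    apply hinjAB
    rw [hf, h0, zero_pow (Nat.succ_ne_zero m), mul_zero, map_zero]
  obtain ⟨j, s', t', hs', ht', hst'⟩ := exists_factor q (algebraMap A B π) hπ'0 hπB h hh0
  have e1 : algebraMap A B s * algebraMap A B f = algebraMap A B t * (algebraMap A B π) ^ k := by
    rw [← map_mul, hst, map_mul, map_pow]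
  have e2 : s' ^ (m + 1) * algebraMap A B f =
      ((w : B) * t' ^ (m + 1)) * (algebraMap A B π) ^ (j * (m + 1)) := by
    rw [hf, pow_mul]
    calc s' ^ (m + 1) * (↑w * h ^ (m + 1)) = ↑w * (s' * h) ^ (m + 1) := by ring
      _ = ↑w * (t' * algebraMap A B π ^ j) ^ (m + 1) := by rw [hst']
      _ = ↑w * t' ^ (m + 1) * (algebraMap A B π ^ j) ^ (m + 1) := by ring
  have hsq : algebraMap A B s ∉ q := fun hmem => hs ((hmemq s).mp hmem)
  have htq : algebraMap A B t ∉ q := fun hmem => ht ((hmemq t).mp hmem)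
  have hs'n : s' ^ (m + 1) ∉ q := fun hmem => hs' (hq.mem_of_pow_mem _ hmem)
  have hwt : (w : B) * t' ^ (m + 1) ∉ q := fun hmem => (hq.mem_or_mem hmem).elim
    (fun hw => hq.ne_top (Ideal.eq_top_of_isUnit_mem _ hw w.isUnit))
    (fun ht'' => ht' (hq.mem_of_pow_mem _ ht''))
  have hk : k = j * (m + 1) := factor_unique q hπ'q hπ'0 hsq htq hs'n hwt e1 e2
  refine ⟨t * π ^ j, t ^ m * s, ?_, ?_⟩
  · intro hmem
    exact (hp.mem_or_mem hmem).elim (fun h1 => ht (hp.mem_of_pow_mem _ h1)) hs
  · calc (t * π ^ j) ^ (m + 1) = t ^ m * (t * π ^ (j * (m + 1))) := by ring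
      _ = t ^ m * (s * f) := by rw [← hk, hst]
      _ = t ^ m * s * f := by ring

omit [CommRing B] [IsDomain B] [IsNoetherianRing B] [Algebra A B] in
theorem dvd_pow_of_colon {f : A} (hf0 : f ≠ 0) {n : ℕ} (hn : 0 < n)
    (hloc : ∀ p : Ideal A, p.IsPrime → p.height = 1 → ∃ b s : A, s ∉ p ∧ b ^ n = s * f)
    (a : A) (ha : ∀ b : A, f ∣ b ^ n → f ∣ a * b ^ (n - 1)) : f ∣ a ^ n := by
  obtain ⟨m, rfl⟩ : ∃ m, n = m + 1 := ⟨n - 1, by omega⟩
  simp only [Nat.add_sub_cancel] at ha
  apply RedQuot.dvd_of_forall_height_one hf0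
  intro p hp hph
  obtain ⟨b, s, hs, hb⟩ := hloc p hp hph
  obtain ⟨c, hc⟩ := ha b ⟨s, by rw [hb, mul_comm]⟩
  refine ⟨s ^ m, fun hmem => hs (hp.mem_of_pow_mem m hmem), c ^ (m + 1), ?_⟩
  have h1 : f ^ m * (s ^ m * a ^ (m + 1)) = f ^ m * (f * c ^ (m + 1)) := by
    calc f ^ m * (s ^ m * a ^ (m + 1)) = a ^ (m + 1) * (s * f) ^ m := by ring
      _ = a ^ (m + 1) * (b ^ (m + 1)) ^ m := by rw [hb]
      _ = (a * b ^ m) ^ (m + 1) := by ring
      _ = (f * c) ^ (m + 1) := by rw [hc]
      _ = f ^ m * (f * c ^ (m + 1)) := by ring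
  exact mul_left_cancel₀ (pow_ne_zero m hf0) h1

/-- **S7125** -/
theorem main (A B : Type u) [CommRing A] [IsDomain A]
    [IsNoetherianRing A] [IsLocalRing A] [IsIntegrallyClosed A] [CommRing B] [IsDomain B]
    [IsNoetherianRing B]
    [IsLocalRing B] [IsIntegrallyClosed B] [Algebra A B] [IsLocalHom (algebraMap A B)]
    [Module.Flat A B]
    (f : A) (h : B) (n : ℕ) (hn : 1 < n) (w : Bˣ) (hf : algebraMap A B f = (w : B) * h ^ n)
    (hram : ∀ (p : Ideal A) [p.IsPrime], p.height = 1 →
      ∃ (q : Ideal B) (_ : q.IsPrime), q.height = 1 ∧ q.comap (algebraMap A B) = p ∧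
        Ideal.map (algebraMap B (Localization.AtPrime q)) (Ideal.map (algebraMap A B) p) =
          IsLocalRing.maximalIdeal (Localization.AtPrime q)) :
    ∃ (g : A) (u : Aˣ), f = (u : A) * g ^ n := by
  have hn0 : 0 < n := by omega
  by_cases hf0 : f = 0
  · exact ⟨0, 1, by rw [hf0, zero_pow hn0.ne', mul_zero]⟩
  haveI : Module.FaithfullyFlat A B := Module.FaithfullyFlat.of_flat_of_isLocalHom
  have hdesc : ∀ x y : A, algebraMap A B x ∣ algebraMap A B y → x ∣ y := fun x y hxy => by
    have h1 : y ∈ ((Ideal.span {x}).map (algebraMap A B)).comap (algebraMap A B) := by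
      rw [Ideal.mem_comap, Ideal.map_span, Set.image_singleton]
      exact Ideal.mem_span_singleton.mpr hxy
    rw [Ideal.comap_map_eq_self_of_faithfullyFlat] at h1
    exact Ideal.mem_span_singleton.mp h1
  have hinjAB : Function.Injective (algebraMap A B) :=
    (injective_iff_map_eq_zero _).mpr fun x hx =>
      zero_dvd_iff.mp (hdesc 0 x (by rw [map_zero, hx]))
  have hh0 : h ≠ 0 := by
    intro h0
    apply hf0
    apply hinjAB
    rw [hf, h0, zero_pow hn0.ne', mul_zero, map_zero]
  obtain ⟨I, hmemI⟩ : ∃ I : Ideal A, ∀ a, a ∈ I ↔ h ∣ algebraMap A B a :=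
    ⟨Ideal.comap (algebraMap A B) (Ideal.span {h}), fun a => by
      rw [Ideal.mem_comap, Ideal.mem_span_singleton]⟩
  have hImap : I.map (algebraMap A B) ≤ Ideal.span {h} :=
    Ideal.map_le_iff_le_comap.mpr fun a ha => by
      rw [Ideal.mem_comap, Ideal.mem_span_singleton]
      exact (hmemI a).mp ha
  have hI_of_dvd : ∀ a : A, f ∣ a ^ n → a ∈ I := fun a ha => by
    rw [hmemI]
    have h1 : algebraMap A B f ∣ algebraMap A B a ^ n := by
      rw [← map_pow]
      exact map_dvd (algebraMap A B) ha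
    rw [hf] at h1
    have h2 : h ^ n ∣ algebraMap A B a ^ n := (Dvd.intro_left _ rfl).trans h1
    exact (IsIntegrallyClosed.pow_dvd_pow_iff hn0.ne').mp h2
  have hloc : ∀ p : Ideal A, p.IsPrime → p.height = 1 → ∃ b s : A, s ∉ p ∧ b ^ n = s * f :=
    fun p hp hph => by
      haveI := hp
      exact exists_pow_eq_mul hinjAB hn0 hf0 hf p hph (hram p hph)
  obtain ⟨T, hT⟩ := IsNoetherian.noetherian (I ^ (n - 1))
  have hcolon : ∀ x : A, (∀ i : T, f ∣ (i : A) * x) → x ∈ I := fun x hx => by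
    apply hI_of_dvd
    apply dvd_pow_of_colon hf0 hn0 hloc
    intro b hb
    have hbI : b ^ (n - 1) ∈ I ^ (n - 1) := Ideal.pow_mem_pow (hI_of_dvd b hb) _
    have hle : I ^ (n - 1) ≤ Submodule.comap (LinearMap.mulRight A x) (Ideal.span {f}) := by
      rw [← hT, Submodule.span_le]
      intro c hc
      rw [SetLike.mem_coe, Submodule.mem_comap, LinearMap.mulRight_apply,
        Ideal.mem_span_singleton]
      exact hx ⟨c, hc⟩
    have := hle hbI
    rw [Submodule.mem_comap, LinearMap.mulRight_apply, Ideal.mem_span_singleton] at this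
    rwa [mul_comm] at this
  have hhT : ∀ i : T, algebraMap A B f ∣ algebraMap A B (i : A) * h := fun i => by
    have hi : (i : A) ∈ I ^ (n - 1) := by
      rw [← hT]
      exact Submodule.subset_span i.2
    have h1 : algebraMap A B (i : A) ∈ Ideal.span {h ^ (n - 1)} := by
      rw [← Ideal.span_singleton_pow]
      have h2 : (I ^ (n - 1)).map (algebraMap A B) ≤ Ideal.span {h} ^ (n - 1) := by
        rw [Ideal.map_pow]
        exact Ideal.pow_right_mono hImap _
      exact h2 (Ideal.mem_map_of_mem _ hi)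
    obtain ⟨z, hz⟩ := Ideal.mem_span_singleton.mp h1
    rw [hf, hz]
    refine ⟨↑w⁻¹ * z, ?_⟩
    calc h ^ (n - 1) * z * h = (h ^ (n - 1) * h) * z := by ring
      _ = h ^ n * z := by rw [pow_sub_one_mul hn0.ne']
      _ = ↑w * h ^ n * (↑w⁻¹ * z) := by
        rw [show (↑w : B) * h ^ n * (↑w⁻¹ * z) = (↑w * ↑w⁻¹) * (h ^ n * z) by ring,
          Units.mul_inv, one_mul]
  have hmem : h ∈ I.map (algebraMap A B) :=
    mem_map_of_forall_dvd f (fun i : T => (i : A)) I hcolon h hhT
  obtain ⟨g, hgI, c, hc⟩ : ∃ g ∈ I, ∃ c : Bˣ, algebraMap A B g = h * c := by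
    by_contra hcon
    push Not at hcon
    have hle : I.map (algebraMap A B) ≤ Ideal.span {h} * maximalIdeal B := by
      rw [Ideal.map_le_iff_le_comap]
      intro a ha
      obtain ⟨z, hz⟩ := (hmemI a).mp ha
      rw [Ideal.mem_comap, hz]
      refine Ideal.mul_mem_mul (Ideal.mem_span_singleton_self h) ?_
      rw [mem_maximalIdeal, mem_nonunits_iff]
      intro hu
      exact hcon a ha hu.unit (by rw [hu.unit_spec]; exact hz)
    obtain ⟨m, hm, hhm⟩ := Ideal.mem_span_singleton_mul.mp (hle hmem)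
    have h1 : h * (1 - m) = 0 := by rw [mul_sub, mul_one, hhm, sub_self]
    rcases mul_eq_zero.mp h1 with h2 | h2
    · exact hh0 h2
    · have : IsUnit (1 - m) :=
        IsLocalRing.isUnit_one_sub_self_of_mem_nonunits m ((mem_maximalIdeal m).mp hm)
      rw [h2] at this
      exact not_isUnit_zero this
  have e1 : algebraMap A B (g ^ n) = algebraMap A B f * (↑w⁻¹ * (c : B) ^ n) := by
    rw [map_pow, hc, hf, mul_pow]
    rw [show (↑w : B) * h ^ n * (↑w⁻¹ * (c : B) ^ n) = (↑w * ↑w⁻¹) * (h ^ n * (c : B) ^ n) by ring,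
      Units.mul_inv, one_mul]
  have e2 : algebraMap A B f = algebraMap A B (g ^ n) * (↑w * (↑c⁻¹ : B) ^ n) := by
    rw [map_pow, hc, hf, mul_pow]
    rw [show h ^ n * (c : B) ^ n * (↑w * (↑c⁻¹ : B) ^ n) =
      ↑w * h ^ n * (((c : B) * ↑c⁻¹) ^ n) by ring, Units.mul_inv, one_pow, mul_one]
  have d1 : f ∣ g ^ n := hdesc _ _ ⟨_, e1⟩
  have d2 : g ^ n ∣ f := hdesc _ _ ⟨_, e2⟩
  obtain ⟨u, hu⟩ := associated_of_dvd_dvd d2 d1
  exact ⟨g, u, by rw [← hu, mul_comm]⟩

end Main

end Groth.Agent.H6.WeakUnram
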