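import Mathlib.RingTheory.Polynomial.Wronskian
import Mathlib.Algebra.Polynomial.RingDivision
import Mathlib.Algebra.Polynomial.Roots
import Mathlib.Algebra.CharP.Basic
import Mathlib.Algebra.Polynomial.FieldDivision
import Mathlib.Tactic.LinearCombination
import Mathlib.Tactic.FieldSimp

/-!
# Ramification index from the order of vanishing of the Wronskian (helper6)
-/

open Polynomial

namespace Groth.Agent.H6.WR

variable {k : Type*} [Field k]

theorem wronskian_comb (F G : k[X]) (α β γ δ : k) :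
    wronskian (α • F + β • G) (γ • F + δ • G) = (α * δ - β * γ) • wronskian F G := by
  simp only [wronskian, map_add, derivative_smul]
  simp only [smul_eq_C_mul, map_sub, map_mul]
  ring

/-- Core computation: if `s₀(a) ≠ 0`, `s₁(a) = 0`, and the Wronskian `W(s₀, s₁) ≠ 0` vanishes to
order `< p` at `a` (or `p = 0`), then `ord_a s₁ = ord_a W + 1` and `p ∤ ord_a s₁`. -/
theorem rootMultiplicity_of_wronskian (p : ℕ) [CharP k p] (s₀ s₁ : k[X]) (a : k)
    (h0 : s₀.eval a ≠ 0) (h1 : s₁.eval a = 0)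
    (hW : wronskian s₀ s₁ ≠ 0)
    (hp : p = 0 ∨ (wronskian s₀ s₁).rootMultiplicity a < p) :
    s₁.rootMultiplicity a = (wronskian s₀ s₁).rootMultiplicity a + 1 ∧
      ¬ p ∣ s₁.rootMultiplicity a := by
  have hs1 : s₁ ≠ 0 := by rintro rfl; exact hW (wronskian_zero_right _)
  obtain ⟨u, hu, hnd⟩ := exists_eq_pow_rootMultiplicity_mul_and_not_dvd s₁ hs1 a
  set m := s₁.rootMultiplicity a with hm
  have hm1 : 1 ≤ m := by
    rw [hm, Nat.succ_le_iff, rootMultiplicity_pos hs1]; exact h1
  have hua : u.eval a ≠ 0 := by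
    intro h; exact hnd (dvd_iff_isRoot.mpr h)
  obtain ⟨n, hn⟩ : ∃ n, m = n + 1 := ⟨m - 1, by omega⟩
  -- the factorisation of the Wronskian
  set H : k[X] := s₀ * (C ((n + 1 : ℕ) : k) * u + (X - C a) * derivative u)
      - derivative s₀ * ((X - C a) * u) with hH
  have hfac : wronskian s₀ s₁ = (X - C a) ^ n * H := by
    rw [wronskian, hu, hn, hH, derivative_mul, derivative_X_sub_C_pow]
    simp only [Nat.add_sub_cancel, pow_succ]
    ring
  have hHa : H.eval a = ((n + 1 : ℕ) : k) * (s₀.eval a * u.eval a) := by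
    rw [hH]
    simp only [eval_sub, eval_mul, eval_add, eval_C, eval_X, sub_self, zero_mul, mul_zero,
      add_zero, sub_zero]
    ring
  have hH0 : H ≠ 0 := by
    rintro h; rw [h, mul_zero] at hfac; exact hW hfac
  have hrm : (wronskian s₀ s₁).rootMultiplicity a = n + H.rootMultiplicity a := by
    rw [hfac, rootMultiplicity_mul (by rw [← hfac]; exact hW), rootMultiplicity_X_sub_C_pow]
  by_cases hcast : ((n + 1 : ℕ) : k) = 0
  · exfalso
    have hdvd : p ∣ n + 1 := (CharP.cast_eq_zero_iff k p (n + 1)).mp hcast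
    have hroot : 1 ≤ H.rootMultiplicity a := by
      rw [Nat.succ_le_iff, rootMultiplicity_pos hH0, IsRoot, hHa, hcast, zero_mul]
    rcases hp with hp | hp
    · subst hp
      simp at hdvd
    · have : p ≤ n + 1 := Nat.le_of_dvd (Nat.succ_pos n) hdvd
      omega
  · have hHroot : H.rootMultiplicity a = 0 := by
      apply rootMultiplicity_eq_zero
      rw [IsRoot, hHa]
      exact mul_ne_zero hcast (mul_ne_zero h0 hua)
    refine ⟨by omega, ?_⟩
    rw [hn]
    intro hdvd
    exact hcast ((CharP.cast_eq_zero_iff k p (n + 1)).mpr hdvd)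

end Groth.Agent.H6.WR

namespace Groth.Agent.H6.WR

variable {k : Type*} [Field k]

theorem rootMultiplicity_smul' (c : k) (hc : c ≠ 0) (q : k[X]) (a : k) :
    (c • q).rootMultiplicity a = q.rootMultiplicity a := by
  by_cases hq : q = 0
  · subst hq; simp
  rw [smul_eq_C_mul, rootMultiplicity_mul (mul_ne_zero (C_ne_zero.mpr hc) hq), rootMultiplicity_C,
    zero_add]

/-- The ramification statement for the pencil spanned by `F, G`. -/
theorem ram_of_wronskian (p : ℕ) [CharP k p] (F G : k[X])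
    (hbpf : ∀ a : k, ∃ s ∈ Submodule.span k ({F, G} : Set k[X]), s.eval a ≠ 0)
    (hW : wronskian F G ≠ 0) (a : k) (e : ℕ)
    (he : (wronskian F G).rootMultiplicity a + 1 = e) (hp : p = 0 ∨ e - 1 < p) :
    ((∃ s ∈ Submodule.span k ({F, G} : Set k[X]), s ≠ 0 ∧ e ≤ rootMultiplicity a s) ∧
      ∀ s ∈ Submodule.span k ({F, G} : Set k[X]), s ≠ 0 → rootMultiplicity a s ≤ e) ∧ ¬ p ∣ e := by
  obtain ⟨s₀, hs₀V, hs₀a⟩ := hbpf a
  obtain ⟨α, β, rfl⟩ := Submodule.mem_span_pair.mp hs₀V
  set s₁ : k[X] := (G.eval a) • F + (-(F.eval a)) • G with hs₁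
  have hs₁V : s₁ ∈ Submodule.span k ({F, G} : Set k[X]) :=
    Submodule.mem_span_pair.mpr ⟨_, _, rfl⟩
  have hs₁a : s₁.eval a = 0 := by
    rw [hs₁]; simp only [eval_add, eval_smul, smul_eq_mul]; ring
  have hs₀a' : α * F.eval a + β * G.eval a ≠ 0 := by
    simpa only [eval_add, eval_smul, smul_eq_mul] using hs₀a
  have hc : α * (-(F.eval a)) - β * G.eval a ≠ 0 := by
    intro h; apply hs₀a'; linear_combination -h
  have hWW : wronskian (α • F + β • G) s₁ =
      (α * (-(F.eval a)) - β * G.eval a) • wronskian F G := wronskian_comb F G _ _ _ _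
  have hW' : wronskian (α • F + β • G) s₁ ≠ 0 := by
    rw [hWW]; exact smul_ne_zero hc hW
  have hrm : (wronskian (α • F + β • G) s₁).rootMultiplicity a =
      (wronskian F G).rootMultiplicity a := by
    rw [hWW, rootMultiplicity_smul' _ hc]
  obtain ⟨hm, hpm⟩ := rootMultiplicity_of_wronskian p (α • F + β • G) s₁ a hs₀a hs₁a hW'
    (by rw [hrm]; rcases hp with hp | hp; exact Or.inl hp; exact Or.inr (by omega))
  rw [hrm, he] at hm
  rw [hm] at hpm
  have hs₁0 : s₁ ≠ 0 := by rintro h; rw [h, wronskian_zero_right] at hW'; exact hW' rfl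
  refine ⟨⟨⟨s₁, hs₁V, hs₁0, hm.ge⟩, ?_⟩, hpm⟩
  intro s hs hs0
  obtain ⟨x, y, rfl⟩ := Submodule.mem_span_pair.mp hs
  by_cases hsa : (x • F + y • G).eval a = 0
  · have hsa' : x * F.eval a + y * G.eval a = 0 := by
      simpa only [eval_add, eval_smul, smul_eq_mul] using hsa
    obtain ⟨c, hcx, hcy⟩ : ∃ c : k, x = c * G.eval a ∧ y = c * (-(F.eval a)) := by
      by_cases hF : F.eval a = 0
      · have hG : G.eval a ≠ 0 := by
          intro hG; apply hs₀a'; rw [hF, hG]; ring
        rw [hF, mul_zero, zero_add] at hsa'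
        have hy : y = 0 := by
          rcases mul_eq_zero.mp hsa' with h | h
          · exact h
          · exact absurd h hG
        exact ⟨x / G.eval a, by field_simp, by rw [hy, hF]; ring⟩
      · refine ⟨-y / F.eval a, ?_, by field_simp⟩
        field_simp
        linear_combination hsa'
    have hsc : x • F + y • G = c • s₁ := by
      rw [hs₁, hcx, hcy, smul_add, smul_smul, smul_smul]
    have hc0 : c ≠ 0 := by
      rintro rfl; apply hs0; rw [hsc, zero_smul]
    rw [hsc, rootMultiplicity_smul' _ hc0, hm]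
  · rw [rootMultiplicity_eq_zero hsa]; exact Nat.zero_le _

end Groth.Agent.H6.WR
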