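import Mathlib
import Groth.Prelude
import Groth.Agent.Lib.Helper6.ZN14
import Groth.Agent.Lib.Helper6.S2ExtPunct
import Groth.Agent.Lib.Helper6.S2ExtDepthGeo

set_option autoImplicit false
universe u v
open CategoryTheory CategoryTheory.Limits AlgebraicGeometry TopologicalSpace

set_option linter.unusedSectionVars false
set_option linter.unusedSimpArgs false
set_option linter.style.haveILetI false
namespace Groth.Agent.H6.ZN

variable {X : Scheme.{u}} [IsLocallyNoetherian X] (U : X.Opens)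
  (hU : ∀ x : X, x ∉ U → (2 : ℕ∞) ≤ LocCoh.depth (X.presheaf.stalk x) (X.presheaf.stalk x))

include hU in
/-- a regular pair on the sections of the cover, inside the ideal of the complement; version
exporting the covering property. -/
theorem exists_pair' {W : Scheme.{u}} (w : W ⟶ (U : Scheme.{u})) [IsFinite w] [Flat w]
    (O : X.Opens) (hO : IsAffineOpen O) :
    ∃ (T : Finset ↥(U ⊓ O)) (f : ↥(U ⊓ O) → Γ(X, O)), (∀ x, X.basicOpen (f x) ≤ U ⊓ O) ∧
      (∀ y ∈ U ⊓ O, ∃ i : T, y ∈ X.basicOpen (f i.1)) ∧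
      ∃ x ∈ Ideal.span (Set.range fun i : T => f i.1),
        ∃ y ∈ Ideal.span (Set.range fun i : T => f i.1),
          IsSMulRegular Γ(W, (w ≫ U.ι) ⁻¹ᵁ O) (((w ≫ U.ι).app O).hom x) ∧
            ∀ b b' : Γ(W, (w ≫ U.ι) ⁻¹ᵁ O),
              ((w ≫ U.ι).app O).hom y * b = ((w ≫ U.ι).app O).hom x * b' →
                ∃ c, b = ((w ≫ U.ι).app O).hom x * c := by
  have hfin := S2ExtGeo.app_finite U hU w O hO
  obtain ⟨g, hg⟩ : ∃ g : W ⟶ X, g = w ≫ U.ι := ⟨_, rfl⟩
  rw [← hg] at hfin ⊢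
  haveI : QuasiCompact g := hg ▸ inferInstance
  haveI : IsNoetherianRing Γ(X, O) := IsLocallyNoetherian.component_noetherian ⟨O, hO⟩
  have hgU : ∀ y : W, g y ∈ U := by
    intro y
    rw [hg]
    exact (w y).2
  obtain ⟨T, f, hfV, hcovT⟩ := S2ExtGeo.exists_cover U O hO
  have hΩc : IsCompact ((g ⁻¹ᵁ O : W.Opens) : Set W) := g.isCompact_preimage hO.isCompact
  have hcov : g ⁻¹ᵁ O ≤ ⨆ i : T, W.basicOpen ((g.app O).hom (f i.1)) := by
    intro y hy
    have hyV : g y ∈ U ⊓ O := ⟨hgU y, hy⟩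
    obtain ⟨i, hi⟩ := hcovT _ hyV
    rw [Opens.mem_iSup]
    refine ⟨i, ?_⟩
    have : y ∈ g ⁻¹ᵁ X.basicOpen (f i.1) := hi
    rwa [Scheme.preimage_basicOpen] at this
  refine ⟨T, f, hfV, hcovT, S2ExtDepthAlg.exists_pair_ringHom (g.app O).hom hfin
    (fun i : T => f i.1) ?_ ?_⟩
  · intro b hb
    refine W.IsSheaf.section_ext fun y hy => ?_
    obtain ⟨i, hmem⟩ := Opens.mem_iSup.mp (hcov hy)
    have hle : W.basicOpen ((g.app O).hom (f i.1)) ≤ g ⁻¹ᵁ O := W.basicOpen_le _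
    refine ⟨_, hle, hmem, ?_⟩
    rw [map_zero]
    obtain ⟨n, hn⟩ := hb i
    have hunit : IsUnit ((W.presheaf.map (homOfLE hle).op).hom ((g.app O).hom (f i.1))) :=
      RingedSpace.isUnit_res_basicOpen _ _
    have h1 := congrArg (W.presheaf.map (homOfLE hle).op).hom hn
    rw [map_mul, map_pow, map_zero] at h1
    exact (hunit.pow n).mul_right_eq_zero.mp h1
  · intro b hb
    exact S2ExtDepthGeo.glue_basicOpen (g ⁻¹ᵁ O) hΩc (fun i : T => (g.app O).hom (f i.1)) hcov b hb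

omit [IsLocallyNoetherian X] in
/-- Lemma H: the localization of the sections of a finite étale cover of `U` at a function whose
basic open lies in `U` is étale over the base ring. -/
theorem exists_localization_etale [QuasiCompact U.ι] {W : Scheme.{u}} (w : W ⟶ (U : Scheme.{u})) [IsFinite w] [Etale w]
    (O : X.Opens) (hO : IsAffineOpen O) (a : Γ(X, O)) (ha : X.basicOpen a ≤ U) :
    ∃ (B' : Type u) (_ : CommRing B') (ρ : Γ(W, (w ≫ U.ι) ⁻¹ᵁ O) →+* B'),
      @IsLocalization.Away Γ(W, (w ≫ U.ι) ⁻¹ᵁ O) _ (((w ≫ U.ι).app O).hom a) B' _ ρ.toAlgebra ∧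
      (ρ.comp ((w ≫ U.ι).app O).hom).Etale := by
  have hΩc : IsCompact (((w ≫ U.ι) ⁻¹ᵁ O : W.Opens) : Set W) :=
    (w ≫ U.ι).isCompact_preimage hO.isCompact
  have hΩqs : IsQuasiSeparated (((w ≫ U.ι) ⁻¹ᵁ O : W.Opens) : Set W) :=
    (w ≫ U.ι).isQuasiSeparated_preimage hO.isQuasiSeparated
  have hD : IsAffineOpen (X.basicOpen a) := hO.basicOpen _
  have hE : W.basicOpen (((w ≫ U.ι).app O).hom a) ≤ (w ≫ U.ι) ⁻¹ᵁ X.basicOpen a :=
    le_of_eq (Scheme.preimage_basicOpen _ _).symm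
  refine ⟨Γ(W, W.basicOpen (((w ≫ U.ι).app O).hom a)), inferInstance,
    (W.presheaf.map (homOfLE (W.basicOpen_le _)).op).hom, ?_, ?_⟩
  · exact isLocalization_basicOpen_of_qcqs hΩc hΩqs _
  · have hcomm : ((w ≫ U.ι).appLE (X.basicOpen a)
          (W.basicOpen (((w ≫ U.ι).app O).hom a)) hE).hom.comp
        (X.presheaf.map (homOfLE (X.basicOpen_le a)).op).hom =
        (W.presheaf.map (homOfLE (W.basicOpen_le (((w ≫ U.ι).app O).hom a))).op).hom.comp
          ((w ≫ U.ι).app O).hom := by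
      rw [← CommRingCat.hom_comp, ← CommRingCat.hom_comp]
      congr 1
      rw [Scheme.Hom.map_appLE]
      rfl
    have het1 : ((w ≫ U.ι).appLE (X.basicOpen a)
          (W.basicOpen (((w ≫ U.ι).app O).hom a)) hE).hom.Etale := by
      have key := S2ExtPunct.app_etale_of_le U w _ hD ha
      rw [Scheme.Hom.app_eq_appLE] at key
      exact (Scheme.Hom.appLE_congr (w ≫ U.ι) le_rfl rfl
        (Scheme.preimage_basicOpen (w ≫ U.ι) a) (fun φ => φ.hom.Etale)).mp key
    have het2 : (X.presheaf.map (homOfLE (X.basicOpen_le a)).op).hom.Etale := by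
      have hloc := hO.isLocalization_basicOpen a
      exact @Algebra.Etale.of_isLocalizationAway _ _ _ _ _ a hloc
    have hfinal := RingHom.Etale.stableUnderComposition _ _ het2 het1
    rw [hcomm] at hfinal
    exact hfinal


/-- sections of a finite étale cover of `U` over affine opens of `X` are finite étale, when the
local rings of `X` outside `U` are regular of dimension at least two. -/
theorem app_finite_etale_of_regular
    (hreg : ∀ x : X, x ∉ U → IsRegularLocalRing (X.presheaf.stalk x) ∧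
      (2 : WithBot ℕ∞) ≤ ringKrullDim (X.presheaf.stalk x))
    {W : Scheme.{u}} (w : W ⟶ (U : Scheme.{u})) [IsFinite w] [Etale w]
    (O : X.Opens) (hO : IsAffineOpen O) :
    ((w ≫ U.ι).app O).hom.Finite ∧ ((w ≫ U.ι).app O).hom.Etale := by
  have hU : ∀ x : X, x ∉ U →
      (2 : ℕ∞) ≤ LocCoh.depth (X.presheaf.stalk x) (X.presheaf.stalk x) := by
    intro x hx
    haveI := (hreg x hx).1
    haveI : IsDomain (X.presheaf.stalk x) := Groth.Agent.H7.Reg.isDomain _
    haveI : IsIntegrallyClosed (X.presheaf.stalk x) := Groth.Agent.H1.Reg.isIntegrallyClosed _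
    exact Groth.Agent.H2.PicCodim2.two_le_depth_of_normal _ (hreg x hx).2
  have hfin := S2ExtGeo.app_finite U hU w O hO
  refine ⟨hfin, ?_⟩
  obtain ⟨T, f, hfV, hcovT, x, hx, y, hy, hxreg, hpair⟩ := exists_pair' U hU w O hO
  haveI : IsNoetherianRing Γ(X, O) := IsLocallyNoetherian.component_noetherian ⟨O, hO⟩
  letI := ((w ≫ U.ι).app O).hom.toAlgebra
  haveI : Module.Finite Γ(X, O) Γ(W, (w ≫ U.ι) ⁻¹ᵁ O) := hfin
  show Algebra.Etale Γ(X, O) Γ(W, (w ≫ U.ι) ⁻¹ᵁ O)
  have hpair' : RegPair Γ(W, (w ≫ U.ι) ⁻¹ᵁ O) x y := ⟨fun b b' hbb => hxreg hbb,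
    fun b c hbc => by
      obtain ⟨c', hc'⟩ := hpair b c hbc
      exact ⟨c', hc'⟩⟩
  refine etale_of_regular_of_depth (Ideal.span (Set.range fun i : T => f i.1)) ?_ ?_ x y hx hy
    hpair'
  · intro p hp hIp
    let yy : PrimeSpectrum Γ(X, O) := ⟨p, hp⟩
    have hz : hO.fromSpec yy ∈ O := (hO.isoSpec.inv _).2
    letI := TopCat.Presheaf.algebra_section_stalk X.presheaf ⟨hO.fromSpec yy, hz⟩
    haveI hloc : IsLocalization.AtPrime (X.presheaf.stalk (hO.fromSpec yy)) p :=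
      hO.isLocalization_stalk' yy hz
    have hzU : hO.fromSpec yy ∉ U := by
      intro hzU
      obtain ⟨i, hi⟩ := hcovT _ ⟨hzU, hz⟩
      exact Hartogs2.not_mem_of_fromSpec_mem_basicOpen hO p (f i.1) hi
        (hIp (Ideal.subset_span ⟨i, rfl⟩))
    exact ⟨X.presheaf.stalk (hO.fromSpec yy), inferInstance, inferInstance, hloc,
      (hreg _ hzU).1, (hreg _ hzU).2⟩
  · intro q hq hIq
    obtain ⟨i, hi⟩ : ∃ i : T, f i.1 ∉ q.comap (algebraMap Γ(X, O) Γ(W, (w ≫ U.ι) ⁻¹ᵁ O)) := by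
      by_contra hcon
      push Not at hcon
      exact hIq (Ideal.span_le.mpr (by
        rintro _ ⟨i, rfl⟩
        exact hcon i))
    obtain ⟨B', _, ρ, hρ, het⟩ := exists_localization_etale U w O hO (f i.1)
      ((hfV i.1).trans inf_le_left)
    haveI : Algebra.Etale Γ(X, O) (Localization.Away
        (algebraMap Γ(X, O) Γ(W, (w ≫ U.ι) ⁻¹ᵁ O) (f i.1))) :=
      etale_away_of_isLocalization (f i.1) ρ hρ het
    haveI : Algebra.FinitePresentation Γ(X, O) Γ(W, (w ≫ U.ι) ⁻¹ᵁ O) :=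
      Algebra.FinitePresentation.of_finiteType.mp inferInstance
    have h2 := (Algebra.basicOpen_subset_etaleLocus_iff_etale (R := Γ(X, O))
      (A := Γ(W, (w ≫ U.ι) ⁻¹ᵁ O))
      (f := algebraMap Γ(X, O) Γ(W, (w ≫ U.ι) ⁻¹ᵁ O) (f i.1))).mpr inferInstance
    exact h2 (show (⟨q, hq⟩ : PrimeSpectrum Γ(W, (w ≫ U.ι) ⁻¹ᵁ O)) ∈
      PrimeSpectrum.basicOpen _ from hi)

end Groth.Agent.H6.ZN
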