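import Mathlib
import Groth.Prelude
import Groth.Agent.Lib.Helper6.ZN15
import Groth.Agent.Lib.Helper6.PurePairMain
import Groth.Agent.Lib.Helper1.FEtDepth2

set_option autoImplicit false
universe u v
open CategoryTheory CategoryTheory.Limits AlgebraicGeometry TopologicalSpace

set_option linter.unusedSectionVars false
set_option linter.unusedSimpArgs false
set_option linter.style.haveILetI false
namespace Groth.Agent.H6.ZN

/-- **S0005** (T5_purity): Zariski–Nagata purity, global form. -/
theorem s0005 (X : Scheme.{u}) [IsNoetherian X]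
    (hreg : ∀ x : X, IsRegularLocalRing (X.presheaf.stalk x)) (U : X.Opens)
    (hU : ∀ x : X, x ∉ U → (2 : WithBot ℕ∞) ≤ ringKrullDim (X.presheaf.stalk x)) :
    (FEt.restrict U.ι).IsEquivalence := by
  have hdepth : ∀ x : X, x ∉ U →
      (2 : ℕ∞) ≤ LocCoh.depth (X.presheaf.stalk x) (X.presheaf.stalk x) := by
    intro x hx
    haveI := hreg x
    haveI : IsDomain (X.presheaf.stalk x) := Groth.Agent.H7.Reg.isDomain _
    haveI : IsIntegrallyClosed (X.presheaf.stalk x) := Groth.Agent.H1.Reg.isIntegrallyClosed _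
    exact Groth.Agent.H2.PicCodim2.two_le_depth_of_normal _ (hU x hx)
  have hdense : Dense (U : Set X) := PurePairMain.dense_of_depth U hdepth
  obtain ⟨hfull, hfaith⟩ := Groth.Agent.H1.FEtDepth2.s0259 U hdense hdepth
  haveI := hfull
  haveI := hfaith
  haveI : (FEt.restrict U.ι).EssSurj := by
    refine ⟨fun V => ?_⟩
    haveI : IsFinite V.hom := V.prop.1
    haveI : Etale V.hom := V.prop.2
    obtain ⟨Y, π, hπf, hπe, e, he⟩ := PurePairMain.exists_extension U.ι V.hom
      (fun O' hO' => app_finite_etale_of_regular U (fun x hx => ⟨hreg x, hU x hx⟩) V.hom O' hO')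
    exact ⟨MorphismProperty.Over.mk ⊤ π ⟨hπf, hπe⟩, ⟨MorphismProperty.Over.isoMk e he⟩⟩
  exact { }

end Groth.Agent.H6.ZN
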