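import Mathlib
set_option autoImplicit false
universe u

namespace Groth.Agent.H6.ZetaCoeff
open Finset MvPolynomial

variable {K : Type u} [Field K] [Fintype K]

local notation "q" => Fintype.card K

lemma sum_pow_all (j : ℕ) : ∑ a : K, a ^ j = if j ≠ 0 ∧ (q - 1) ∣ j then (-1 : K) else 0 := by
  classical
  by_cases hj : j = 0
  · subst hj
    simp [FiniteField.cast_card_eq_zero]
  · let φ : Kˣ ↪ K := ⟨fun x ↦ x, Units.val_injective⟩
    have : univ.map φ = univ \ {0} := by
      ext x
      simp only [φ, mem_map, mem_univ, Function.Embedding.coeFn_mk, true_and, mem_sdiff,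
        mem_singleton]
      constructor
      · rintro ⟨u, rfl⟩; exact u.ne_zero
      · intro hx; exact ⟨Units.mk0 x hx, rfl⟩
    have h1 : ∑ x : K, x ^ j = ∑ x : Kˣ, (x ^ j : K) := by
      calc ∑ x : K, x ^ j = ∑ x ∈ univ \ {(0 : K)}, x ^ j := by
            rw [← sum_sdiff ({0} : Finset K).subset_univ, sum_singleton, zero_pow hj, add_zero]
        _ = ∑ x : Kˣ, (x ^ j : K) := by simp [φ, ← this, univ.sum_map φ]
    rw [h1, FiniteField.sum_pow_units K j]
    simp [hj]

lemma sum_monomial {σ : Type*} [Fintype σ] [DecidableEq σ] (d : σ → ℕ) :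
    ∑ x : σ → K, ∏ i, x i ^ d i = ∏ i, ∑ a : K, a ^ d i := by
  rw [Finset.prod_univ_sum, Fintype.piFinset_univ]


/-- the sum of the values of a homogeneous polynomial of degree `(q-1) * card σ`. -/
lemma sum_eval_homogeneous {σ : Type*} [Fintype σ] [DecidableEq σ] (g : MvPolynomial σ K)
    (hg : g.IsHomogeneous ((q - 1) * Fintype.card σ)) :
    ∑ x : σ → K, eval x g =
      coeff (Finsupp.equivFunOnFinite.symm fun _ : σ => q - 1) g * (-1) ^ Fintype.card σ := by
  classical
  have hq : 0 < q - 1 := by rw [← Fintype.card_units, Fintype.card_pos_iff]; exact ⟨1⟩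
  set d₀ : σ →₀ ℕ := Finsupp.equivFunOnFinite.symm fun _ : σ => q - 1 with hd₀
  calc ∑ x : σ → K, eval x g = ∑ x : σ → K, ∑ d ∈ g.support, g.coeff d * ∏ i, x i ^ d i := by
        simp only [eval_eq']
    _ = ∑ d ∈ g.support, ∑ x : σ → K, g.coeff d * ∏ i, x i ^ d i := sum_comm
    _ = ∑ d ∈ g.support, g.coeff d * ∏ i, ∑ a : K, a ^ d i := by
        refine sum_congr rfl fun d _ => ?_
        rw [← mul_sum, sum_monomial]
    _ = g.coeff d₀ * ∏ i, ∑ a : K, a ^ d₀ i := by
        have key : ∀ d ∈ g.support, d ≠ d₀ → g.coeff d * ∏ i, ∑ a : K, a ^ d i = 0 := by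
          intro d hd hne
          have hdeg : d.degree = (q - 1) * Fintype.card σ := by
            have := hg (mem_support_iff.mp hd)
            rw [Finsupp.degree_eq_weight_one]
            exact this
          -- some factor vanishes
          have hex : ∃ i, ¬ (d i ≠ 0 ∧ (q - 1) ∣ d i) := by
            by_contra hcon
            push Not at hcon
            have hge : ∀ i, q - 1 ≤ d i := fun i =>
              Nat.le_of_dvd (Nat.pos_of_ne_zero (hcon i).1) (hcon i).2
            have hsum : ∑ i, d i = ∑ _i : σ, (q - 1) := by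
              rw [sum_const, card_univ, smul_eq_mul, mul_comm, ← hdeg, Finsupp.degree_eq_sum]
            have heq : ∀ i ∈ (univ : Finset σ), d i = q - 1 := by
              have := (Finset.sum_eq_sum_iff_of_le (s := univ) (f := fun _ => q - 1) (g := fun i => d i)
                (fun i _ => hge i)).mp hsum.symm
              intro i hi
              exact (this i hi).symm
            apply hne
            ext i
            rw [heq i (mem_univ i)]
            rfl
          obtain ⟨i, hi⟩ := hex
          rw [prod_eq_zero (mem_univ i), mul_zero]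
          rw [sum_pow_all, if_neg hi]
        by_cases h0 : d₀ ∈ g.support
        · exact sum_eq_single_of_mem d₀ h0 key
        · rw [notMem_support_iff.mp h0, zero_mul]
          refine sum_eq_zero fun d hd => ?_
          exact key d hd (fun h => h0 (h ▸ hd))
    _ = g.coeff d₀ * (-1) ^ Fintype.card σ := by
        congr 1
        have : ∀ i, ∑ a : K, a ^ d₀ i = -1 := by
          intro i
          rw [sum_pow_all, if_pos]
          exact ⟨hq.ne', dvd_refl _⟩
        simp only [this, prod_const, card_univ]


/-- the number of zeros, in `K`. -/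
lemma card_zeros_cast {σ : Type*} [Fintype σ] [DecidableEq σ] [Nonempty σ] (f : MvPolynomial σ K) :
    ((Nat.card {a : σ → K // eval a f = 0} : ℕ) : K) = - ∑ x : σ → K, eval x (f ^ (q - 1)) := by
  classical
  have hq : 0 < q - 1 := by rw [← Fintype.card_units, Fintype.card_pos_iff]; exact ⟨1⟩
  have h1 : ∀ x : σ → K, (if eval x f = 0 then (1 : K) else 0) = 1 - eval x (f ^ (q - 1)) := by
    intro x
    rw [map_pow]
    split_ifs with h
    · rw [h, zero_pow hq.ne', sub_zero]
    · rw [FiniteField.pow_card_sub_one_eq_one _ h, sub_self]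
  rw [Nat.card_eq_fintype_card, Fintype.card_subtype, Finset.card_filter, Nat.cast_sum]
  simp only [Nat.cast_ite, Nat.cast_one, Nat.cast_zero]
  rw [Finset.sum_congr rfl fun x _ => h1 x, Finset.sum_sub_distrib]
  have : ∑ _x : σ → K, (1 : K) = 0 := by
    rw [Finset.sum_const, Finset.card_univ, Fintype.card_fun, nsmul_eq_mul, mul_one, Nat.cast_pow,
      FiniteField.cast_card_eq_zero, zero_pow Fintype.card_ne_zero]
  rw [this, zero_sub]


theorem main {k : Type u} [Field k] [Finite k] (p : ℕ)
    [CharP k p] (n : ℕ) (f : MvPolynomial (Fin (n + 1)) k)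
    (hf : f.IsHomogeneous (n + 1)) :
    p ∣ Nat.card {a : Fin (n + 1) → k // MvPolynomial.eval a f = 0} ↔
      MvPolynomial.coeff (Finsupp.equivFunOnFinite.symm fun _ : Fin (n + 1) => Nat.card k - 1)
        (f ^ (Nat.card k - 1)) = 0 := by
  classical
  haveI : Fintype k := Fintype.ofFinite k
  rw [← CharP.cast_eq_zero_iff k p, card_zeros_cast, Nat.card_eq_fintype_card]
  have hg : (f ^ (Fintype.card k - 1)).IsHomogeneous ((Fintype.card k - 1) * Fintype.card (Fin (n + 1))) := by
    have := hf.pow (Fintype.card k - 1)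
    rw [Fintype.card_fin, mul_comm]
    exact this
  rw [sum_eval_homogeneous _ hg, neg_eq_zero, mul_eq_zero]
  constructor
  · rintro (h | h)
    · exact h
    · exact absurd h (pow_ne_zero _ (neg_ne_zero.mpr one_ne_zero))
  · intro h; exact Or.inl h

end Groth.Agent.H6.ZetaCoeff
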