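import Mathlib
set_option autoImplicit false
universe u

namespace Groth.Agent.H6.ZetaCoeff2
open Finset MvPolynomial

variable {K : Type u} [Field K] {σ : Type*} [Fintype σ]

/-- constant exponent vector -/
noncomputable abbrev cst (a : ℕ) : σ →₀ ℕ := Finsupp.equivFunOnFinite.symm fun _ : σ => a

lemma cst_apply (a : ℕ) (i : σ) : (cst a : σ →₀ ℕ) i = a := rfl

lemma coeff_pow_char (p : ℕ) [hp : Fact p.Prime] [CharP K p] (G : MvPolynomial σ K) (t : ℕ) :
    coeff (cst (p * t)) (G ^ p) = (coeff (cst t) G) ^ p := by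
  have : (cst (p * t) : σ →₀ ℕ) = p • cst t := by
    ext i; simp [cst_apply]
  rw [← map_frobenius_expand p, coeff_map, this, coeff_expand_smul p hp.out.ne_zero]
  rfl

lemma coeff_pow_char_of_not_dvd (p : ℕ) [hp : Fact p.Prime] [CharP K p] (G : MvPolynomial σ K)
    (m : σ →₀ ℕ) (i : σ) (h : ¬ p ∣ m i) : coeff m (G ^ p) = 0 := by
  rw [← map_frobenius_expand p, coeff_map, coeff_expand_of_not_dvd (p := p) (φ := G) h, map_zero]

lemma step (p : ℕ) [hp : Fact p.Prime] [CharP K p] (h : MvPolynomial σ K)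
    (hh : h.IsHomogeneous (Fintype.card σ * (p - 1))) (G : MvPolynomial σ K) (t : ℕ) :
    coeff (cst (p - 1 + p * t)) (h * G ^ p) = coeff (cst (p - 1)) h * (coeff (cst t) G) ^ p := by
  classical
  have hp1 : 1 ≤ p := hp.out.one_le
  rw [coeff_mul]
  have hmem : ((cst (p - 1) : σ →₀ ℕ), (cst (p * t) : σ →₀ ℕ)) ∈ antidiagonal (cst (p - 1 + p * t) : σ →₀ ℕ) := by
    rw [HasAntidiagonal.mem_antidiagonal]
    ext i; simp [cst_apply]
  rw [sum_eq_single_of_mem _ hmem, coeff_pow_char]
  rintro ⟨a, b⟩ hab hne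
  rw [HasAntidiagonal.mem_antidiagonal] at hab
  change a + b = _ at hab
  show coeff a h * coeff b (G ^ p) = 0
  by_contra hcon
  obtain ⟨ha, hb⟩ := mul_ne_zero_iff.mp hcon
  -- p ∣ b i
  have hbi : ∀ i, p ∣ b i := by
    intro i
    by_contra hnd
    exact hb (coeff_pow_char_of_not_dvd p G b i hnd)
  have habi : ∀ i, a i + b i = p - 1 + p * t := by
    intro i
    have := DFunLike.congr_fun hab i
    simpa [cst_apply] using this
  have hai : ∀ i, p - 1 ≤ a i := by
    intro i
    obtain ⟨c, hc⟩ := hbi i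
    have h1 := habi i
    rw [hc] at h1
    -- a i = p - 1 + p (t - c), with t ≥ c
    by_contra hlt
    push Not at hlt
    -- a i < p - 1, so a i + p c = p - 1 + p t; mod p: a i ≡ p - 1
    have h2 : (a i + p * c) % p = (p - 1 + p * t) % p := by rw [h1]
    rw [Nat.add_mul_mod_self_left, Nat.add_mul_mod_self_left, Nat.mod_eq_of_lt (by omega),
      Nat.mod_eq_of_lt (by omega)] at h2
    omega
  have hdeg : a.degree = Fintype.card σ * (p - 1) := by
    have := hh ha
    rw [Finsupp.degree_eq_weight_one]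
    exact this
  have hsum : ∑ i, a i = ∑ _i : σ, (p - 1) := by
    rw [sum_const, card_univ, smul_eq_mul, ← hdeg, Finsupp.degree_eq_sum]
  have heq : ∀ i, a i = p - 1 := by
    have := (Finset.sum_eq_sum_iff_of_le (s := univ) (f := fun _ => p - 1) (g := fun i => a i)
      (fun i _ => hai i)).mp hsum.symm
    intro i
    exact (this i (mem_univ i)).symm
  apply hne
  have ha' : a = cst (p - 1) := by ext i; rw [heq i]; rfl
  have hb' : b = cst (p * t) := by
    ext i
    have := habi i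
    rw [heq i] at this
    rw [cst_apply]; omega
  rw [ha', hb']

/-- `Q e = 1 + p + ... + p^(e-1)` -/
def Q (p : ℕ) : ℕ → ℕ
  | 0 => 0
  | e + 1 => 1 + p * Q p e

lemma Q_spec (p : ℕ) (hp : 1 ≤ p) (e : ℕ) : (p - 1) * Q p e + 1 = p ^ e := by
  induction e with
  | zero => simp [Q]
  | succ e ih =>
    rw [Q, pow_succ, ← ih]
    obtain ⟨r, rfl⟩ : ∃ r, p = r + 1 := ⟨p - 1, by omega⟩
    simp only [Nat.add_sub_cancel]
    ring

lemma coeff_pow_Q (p : ℕ) [hp : Fact p.Prime] [CharP K p] (h : MvPolynomial σ K)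
    (hh : h.IsHomogeneous (Fintype.card σ * (p - 1))) (e : ℕ) :
    coeff (cst (p ^ e - 1)) (h ^ Q p e) = (coeff (cst (p - 1)) h) ^ Q p e := by
  induction e with
  | zero =>
    have : (cst (p ^ 0 - 1) : σ →₀ ℕ) = 0 := by ext i; simp [cst_apply]
    rw [this]
    simp [Q]
  | succ e ih =>
    have hp1 : 1 ≤ p := hp.out.one_le
    have hpe : 1 ≤ p ^ e := Nat.one_le_pow _ _ (by omega)
    have h1 : p ^ (e + 1) - 1 = p - 1 + p * (p ^ e - 1) := by
      rw [pow_succ, Nat.mul_sub, mul_one, mul_comm]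
      have : p ≤ p * p ^ e := Nat.le_mul_of_pos_right _ (by omega)
      omega
    have h2 : h ^ Q p (e + 1) = h * (h ^ Q p e) ^ p := by
      rw [Q, pow_add, pow_one, mul_comm p, pow_mul]
    rw [h1, h2, step p h hh, ih, Q, pow_add, pow_one, mul_comm p, pow_mul]


theorem main {k : Type u} [Field k] [Finite k]
    (p : ℕ) [CharP k p] (n : ℕ) (f : MvPolynomial (Fin (n + 1)) k)
    (hf : f.IsHomogeneous (n + 1)) :
    MvPolynomial.coeff (Finsupp.equivFunOnFinite.symm fun _ : Fin (n + 1) => Nat.card k - 1)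
        (f ^ (Nat.card k - 1)) ≠ 0 ↔
      MvPolynomial.coeff (Finsupp.equivFunOnFinite.symm fun _ : Fin (n + 1) => p - 1)
        (f ^ (p - 1)) ≠ 0 := by
  classical
  have : Fintype k := Fintype.ofFinite k
  have hpp : p.Prime := by
    rcases CharP.char_is_prime_or_zero k p with h | h
    · exact h
    · subst h
      have : CharZero k := CharP.charP_to_charZero k
      exact (not_finite k).elim
  have : Fact p.Prime := ⟨hpp⟩
  obtain ⟨e, _, he⟩ := FiniteField.card k p
  have hcard : Nat.card k = p ^ (e : ℕ) := by rw [Nat.card_eq_fintype_card, he]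
  have hp1 : 1 ≤ p := hpp.one_le
  set h := f ^ (p - 1) with hh
  have hhom : h.IsHomogeneous (Fintype.card (Fin (n + 1)) * (p - 1)) := by
    rw [Fintype.card_fin]; exact hf.pow (p - 1)
  have hQ := Q_spec p hp1 e
  have hfq : f ^ (Nat.card k - 1) = h ^ Q p e := by
    rw [hh, ← pow_mul, hcard, ← hQ, Nat.add_sub_cancel]
  have hQ0 : Q p e ≠ 0 := by
    intro h0
    rw [h0, mul_zero, zero_add] at hQ
    have : 1 < p ^ (e : ℕ) := Nat.one_lt_pow e.pos.ne' hpp.one_lt
    omega
  rw [hfq, hcard]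
  have := coeff_pow_Q (K := k) (σ := Fin (n + 1)) p h hhom e
  rw [this]
  exact pow_ne_zero_iff hQ0

end Groth.Agent.H6.ZetaCoeff2
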