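import Mathlib
import Groth.Prelude.Def_W4c1zetahwZeta

/-! Formal manipulations with the zeta function `exp(∑ N_m t^m / m)` via logarithmic
derivatives of power series over `ℚ`. -/

universe u
open PowerSeries

namespace Groth.Agent.H6

namespace ZF

/-- logarithmic derivative -/
noncomputable def dlog (f : ℚ⟦X⟧) : ℚ⟦X⟧ := d⁄dX ℚ f * f⁻¹

theorem dlog_one : dlog 1 = 0 := by
  simp [dlog]

theorem dlog_mul {f g : ℚ⟦X⟧} (hf : constantCoeff f ≠ 0) (hg : constantCoeff g ≠ 0) :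
    dlog (f * g) = dlog f + dlog g := by
  unfold dlog
  rw [Derivation.leibniz, PowerSeries.mul_inv_rev, smul_eq_mul, smul_eq_mul]
  have h1 := PowerSeries.mul_inv_cancel f hf
  have h2 := PowerSeries.mul_inv_cancel g hg
  calc (f * d⁄dX ℚ g + g * d⁄dX ℚ f) * (g⁻¹ * f⁻¹)
      = d⁄dX ℚ g * g⁻¹ * (f * f⁻¹) + d⁄dX ℚ f * f⁻¹ * (g * g⁻¹) := by ring
    _ = d⁄dX ℚ f * f⁻¹ + d⁄dX ℚ g * g⁻¹ := by rw [h1, h2]; ring

theorem constantCoeff_pow_ne_zero {f : ℚ⟦X⟧} (hf : constantCoeff f ≠ 0) (n : ℕ) :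
    constantCoeff (f ^ n) ≠ 0 := by
  rw [map_pow]; exact pow_ne_zero n hf

theorem dlog_pow {f : ℚ⟦X⟧} (hf : constantCoeff f ≠ 0) (n : ℕ) :
    dlog (f ^ n) = n • dlog f := by
  induction n with
  | zero => simp [dlog_one]
  | succ n ih =>
    rw [pow_succ, dlog_mul (constantCoeff_pow_ne_zero hf n) hf, ih, succ_nsmul]

theorem constantCoeff_prod_ne_zero {ι : Type*} (s : Finset ι) (f : ι → ℚ⟦X⟧)
    (hf : ∀ i ∈ s, constantCoeff (f i) ≠ 0) : constantCoeff (∏ i ∈ s, f i) ≠ 0 := by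
  rw [map_prod]
  exact Finset.prod_ne_zero_iff.mpr hf

theorem dlog_prod {ι : Type*} (s : Finset ι) (f : ι → ℚ⟦X⟧)
    (hf : ∀ i ∈ s, constantCoeff (f i) ≠ 0) :
    dlog (∏ i ∈ s, f i) = ∑ i ∈ s, dlog (f i) := by
  classical
  induction s using Finset.induction_on with
  | empty => simp [dlog_one]
  | insert a s ha ih =>
    rw [Finset.prod_insert ha, Finset.sum_insert ha,
      dlog_mul (hf a (Finset.mem_insert_self a s))
        (constantCoeff_prod_ne_zero s f fun i hi => hf i (Finset.mem_insert_of_mem hi)),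
      ih fun i hi => hf i (Finset.mem_insert_of_mem hi)]

theorem derivative_eq_dlog_mul {f : ℚ⟦X⟧} (hf : constantCoeff f ≠ 0) :
    d⁄dX ℚ f = dlog f * f := by
  unfold dlog
  rw [mul_assoc, PowerSeries.inv_mul_cancel f hf, mul_one]

/-- two series with the same nonzero constant coefficient and the same logarithmic derivative
are equal -/
theorem eq_of_dlog_eq {f g : ℚ⟦X⟧} (hf : constantCoeff f ≠ 0) (hg : constantCoeff g ≠ 0)
    (h0 : constantCoeff f = constantCoeff g) (h : dlog f = dlog g) : f = g := by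
  have hd : d⁄dX ℚ (f * g⁻¹) = d⁄dX ℚ (1 : ℚ⟦X⟧) := by
    rw [Derivation.leibniz, PowerSeries.derivative_inv', smul_eq_mul, smul_eq_mul,
      derivative_eq_dlog_mul hf, derivative_eq_dlog_mul hg, h]
    have h2 := PowerSeries.mul_inv_cancel g hg
    calc f * (-g⁻¹ ^ 2 * (dlog g * g)) + g⁻¹ * (dlog g * f)
        = dlog g * f * g⁻¹ * (1 - g * g⁻¹) := by ring
      _ = d⁄dX ℚ (1 : ℚ⟦X⟧) := by rw [h2]; simp
  have hc : constantCoeff (f * g⁻¹) = constantCoeff (1 : ℚ⟦X⟧) := by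
    rw [map_mul, PowerSeries.constantCoeff_inv, h0, map_one, mul_inv_cancel₀ hg]
  have h1 : f * g⁻¹ = 1 := PowerSeries.derivative.ext hd hc
  calc f = f * (g⁻¹ * g) := by rw [PowerSeries.inv_mul_cancel g hg, mul_one]
    _ = (f * g⁻¹) * g := by ring
    _ = g := by rw [h1, one_mul]

/-- if the logarithmic derivative vanishes to order `n`, the series is constant to order `n+1` -/
theorem coeff_eq_zero_of_dlog {f : ℚ⟦X⟧} (hf : constantCoeff f ≠ 0) (n : ℕ)
    (h : ∀ m < n, coeff m (dlog f) = 0) (m : ℕ) (hm1 : 1 ≤ m) (hm : m ≤ n) : coeff m f = 0 := by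
  obtain ⟨m, rfl⟩ : ∃ m', m = m' + 1 := ⟨m - 1, by omega⟩
  have h1 : coeff m (d⁄dX ℚ f) = 0 := by
    rw [derivative_eq_dlog_mul hf, coeff_mul]
    apply Finset.sum_eq_zero
    rintro ⟨i, j⟩ hij
    have hij' : i + j = m := Finset.HasAntidiagonal.mem_antidiagonal.mp hij
    rw [h i (by omega), zero_mul]
  rw [coeff_derivative] at h1
  have : ((m : ℚ) + 1) ≠ 0 := by positivity
  exact (mul_eq_zero.mp h1).resolve_right this

/-! ### The geometric series -/

theorem one_sub_CX_mul (c : ℚ) : (1 - C c * X) * (mk fun m => c ^ m : ℚ⟦X⟧) = 1 := by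
  ext m
  rw [sub_mul, one_mul, map_sub, mul_assoc, coeff_C_mul, coeff_mk, coeff_one]
  rcases m with _ | m
  · simp
  · rw [coeff_succ_X_mul, coeff_mk]
    simp [pow_succ']

theorem constantCoeff_one_sub_CX (c : ℚ) : constantCoeff (1 - C c * X : ℚ⟦X⟧) = 1 := by
  simp

theorem inv_one_sub_CX (c : ℚ) : (1 - C c * X : ℚ⟦X⟧)⁻¹ = mk fun m => c ^ m := by
  have h := one_sub_CX_mul c
  have hc : constantCoeff (1 - C c * X : ℚ⟦X⟧) ≠ 0 := by rw [constantCoeff_one_sub_CX]; exact one_ne_zero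
  calc (1 - C c * X : ℚ⟦X⟧)⁻¹ = (1 - C c * X : ℚ⟦X⟧)⁻¹ * ((1 - C c * X) * mk fun m => c ^ m) := by
        rw [h, mul_one]
    _ = ((1 - C c * X : ℚ⟦X⟧)⁻¹ * (1 - C c * X)) * mk fun m => c ^ m := by ring
    _ = _ := by rw [PowerSeries.inv_mul_cancel _ hc, one_mul]

theorem coeff_dlog_one_sub_CX (c : ℚ) (m : ℕ) :
    coeff m (dlog (1 - C c * X)) = -c ^ (m + 1) := by
  unfold dlog
  rw [inv_one_sub_CX]
  have : d⁄dX ℚ (1 - C c * X : ℚ⟦X⟧) = -C c := by
    rw [map_sub, Derivation.leibniz]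
    simp
  rw [this, neg_mul, map_neg, coeff_C_mul, coeff_mk, pow_succ']

theorem one_sub_X_pow_mul (r : ℕ) (hr : 1 ≤ r) :
    (1 - X ^ r) * (mk fun m => if r ∣ m then (1 : ℚ) else 0 : ℚ⟦X⟧) = 1 := by
  ext m
  rw [sub_mul, one_mul, map_sub, coeff_X_pow_mul', coeff_mk, coeff_one]
  by_cases hm : r ≤ m
  · rw [if_pos hm, coeff_mk]
    have h1 : r ∣ m - r ↔ r ∣ m := by
      conv_rhs => rw [← Nat.sub_add_cancel hm]
      exact (Nat.dvd_add_self_right).symm
    have h2 : m ≠ 0 := by omega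
    simp only [h1, h2, if_false, sub_self]
  · rw [if_neg hm]
    by_cases h0 : m = 0
    · subst h0; simp
    · have : ¬ r ∣ m := fun h => hm (Nat.le_of_dvd (by omega) h)
      simp [this, h0]

theorem constantCoeff_one_sub_X_pow (r : ℕ) (hr : 1 ≤ r) :
    constantCoeff (1 - X ^ r : ℚ⟦X⟧) = 1 := by
  rw [map_sub, map_one, map_pow, constantCoeff_X, zero_pow (by omega), sub_zero]

theorem inv_one_sub_X_pow (r : ℕ) (hr : 1 ≤ r) :
    (1 - X ^ r : ℚ⟦X⟧)⁻¹ = mk fun m => if r ∣ m then (1 : ℚ) else 0 := by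
  have h := one_sub_X_pow_mul r hr
  have hc : constantCoeff (1 - X ^ r : ℚ⟦X⟧) ≠ 0 := by
    rw [constantCoeff_one_sub_X_pow r hr]; exact one_ne_zero
  calc (1 - X ^ r : ℚ⟦X⟧)⁻¹
      = (1 - X ^ r : ℚ⟦X⟧)⁻¹ * ((1 - X ^ r) * mk fun m => if r ∣ m then (1 : ℚ) else 0) := by
        rw [h, mul_one]
    _ = ((1 - X ^ r : ℚ⟦X⟧)⁻¹ * (1 - X ^ r)) * mk fun m => if r ∣ m then (1 : ℚ) else 0 := by ring
    _ = _ := by rw [PowerSeries.inv_mul_cancel _ hc, one_mul]

theorem coeff_dlog_one_sub_X_pow (r : ℕ) (hr : 1 ≤ r) (m : ℕ) :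
    coeff m (dlog (1 - X ^ r)) = if r ∣ m + 1 then -(r : ℚ) else 0 := by
  unfold dlog
  rw [inv_one_sub_X_pow r hr]
  have : d⁄dX ℚ (1 - X ^ r : ℚ⟦X⟧) = -(C (r : ℚ) * X ^ (r - 1)) := by
    rw [map_sub, PowerSeries.derivative_pow]
    simp
  rw [this, neg_mul, map_neg, mul_assoc, coeff_C_mul, coeff_X_pow_mul', coeff_mk]
  by_cases h : r ∣ m + 1
  · have h1 : r - 1 ≤ m := by
      have := Nat.le_of_dvd (by omega) h
      omega
    have h2 : r ∣ m - (r - 1) := by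
      have : m - (r - 1) = m + 1 - r := by omega
      rw [this]
      exact Nat.dvd_sub h (dvd_refl r)
    simp [h, h1, h2]
  · have h2 : ¬ (r - 1 ≤ m ∧ r ∣ m - (r - 1)) := by
      rintro ⟨h1, h3⟩
      apply h
      have : m + 1 = (m - (r - 1)) + r := by omega
      rw [this]
      exact Dvd.dvd.add h3 (dvd_refl r)
    rw [if_neg h]
    by_cases h1 : r - 1 ≤ m
    · have h3 : ¬ r ∣ m - (r - 1) := fun h3 => h2 ⟨h1, h3⟩
      simp [h1, h3]
    · simp [h1]

/-! ### The zeta function -/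

section Zeta

open CategoryTheory AlgebraicGeometry

variable {k : Type u} [Field k] {X : Scheme.{u}} (f : X ⟶ Spec (CommRingCat.of k))

theorem constantCoeff_logZeta : constantCoeff (Zeta.logZeta f) = 0 := by
  unfold Zeta.logZeta
  rw [← coeff_zero_eq_constantCoeff_apply, coeff_mk]
  simp

theorem hasSubst_logZeta : HasSubst (Zeta.logZeta f) :=
  HasSubst.of_constantCoeff_zero' (constantCoeff_logZeta f)

theorem constantCoeff_zetaFun : constantCoeff (Zeta.zetaFun f) = 1 := by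
  unfold Zeta.zetaFun
  have h := PowerSeries.constantCoeff_subst (hasSubst_logZeta f) (PowerSeries.exp ℚ)
  have h' : constantCoeff (subst (Zeta.logZeta f) (PowerSeries.exp ℚ)) =
      finsum (fun d ↦ coeff d (PowerSeries.exp ℚ) • constantCoeff ((Zeta.logZeta f) ^ d)) := h
  rw [h', finsum_eq_single _ 0]
  · simp
  · intro d hd
    rw [map_pow, constantCoeff_logZeta, zero_pow hd, smul_zero]

theorem derivative_zetaFun :
    d⁄dX ℚ (Zeta.zetaFun f) = Zeta.zetaFun f * d⁄dX ℚ (Zeta.logZeta f) := by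
  unfold Zeta.zetaFun
  rw [PowerSeries.derivative_subst (hasSubst_logZeta f), PowerSeries.derivative_exp]

theorem dlog_zetaFun : dlog (Zeta.zetaFun f) = d⁄dX ℚ (Zeta.logZeta f) := by
  unfold dlog
  rw [derivative_zetaFun]
  have hc : constantCoeff (Zeta.zetaFun f) ≠ 0 := by
    rw [constantCoeff_zetaFun]; exact one_ne_zero
  calc Zeta.zetaFun f * d⁄dX ℚ (Zeta.logZeta f) * (Zeta.zetaFun f)⁻¹
      = d⁄dX ℚ (Zeta.logZeta f) * (Zeta.zetaFun f * (Zeta.zetaFun f)⁻¹) := by ring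
    _ = _ := by rw [PowerSeries.mul_inv_cancel _ hc, mul_one]

theorem coeff_dlog_zetaFun (m : ℕ) :
    coeff m (dlog (Zeta.zetaFun f)) = (Zeta.nPts f (m + 1) : ℚ) := by
  rw [dlog_zetaFun, coeff_derivative]
  unfold Zeta.logZeta
  rw [coeff_mk]
  have : ((m + 1 : ℕ) : ℚ) ≠ 0 := by positivity
  push_cast at this ⊢
  field_simp

end Zeta

end ZF

end Groth.Agent.H6
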